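import Cfsg.Agent.Blk.Regular
import Cfsg.Agent.Char.Galois

/-!
The elementary criterion for generalised characters, proved locally at each modular ideal: a
class function whose restrictions to all subgroups `⟨x⟩ ⊔ P` (`P` a `q`-group centralised by the
`q`-regular element `x`) are generalised characters is a generalised character.
-/

set_option autoImplicit false
set_option linter.style.haveILetI false
set_option linter.unusedSectionVars false

namespace CfsgLib.Blk

open Cfsg CfsgLib.Char MonoidAlgebra Finset Polynomial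
open scoped ComplexConjugate

universe u

variable {G : Type u} [Group G] [Finite G] {M : Ideal AlgInt} [M.IsPrime] {p : ℕ}

/-- The local combinations of characters. -/
def locChar (M : Ideal AlgInt) [M.IsPrime] (G : Type u) [Group G] : AddSubmonoid (G → ℂ) :=
  AddSubmonoid.closure {F | ∃ r ∈ locRing M, ∃ χ : G → ℂ, IsCharacter G χ ∧ F = r • χ}

theorem smul_char_mem_locChar {r : ℂ} (hr : r ∈ locRing M) {χ : G → ℂ} (hχ : IsCharacter G χ) :
    r • χ ∈ locChar M G :=
  AddSubmonoid.subset_closure ⟨r, hr, χ, hχ, rfl⟩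

theorem char_mem_locChar {χ : G → ℂ} (hχ : IsCharacter G χ) : χ ∈ locChar M G := by
  simpa using smul_char_mem_locChar (M := M) (one_mem (locRing M)) hχ

theorem gen_mem_locChar {θ : G → ℂ} (hθ : IsGeneralizedCharacter G θ) : θ ∈ locChar M G := by
  obtain ⟨χ, ψ, hχ, hψ, rfl⟩ := hθ
  rw [sub_eq_add_neg, ← neg_one_smul ℂ ψ]
  exact add_mem (char_mem_locChar hχ) (smul_char_mem_locChar (neg_mem (one_mem _)) hψ)

theorem smul_mem_locChar {r : ℂ} (hr : r ∈ locRing M) {F : G → ℂ} (hF : F ∈ locChar M G) :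
    r • F ∈ locChar M G := by
  induction hF using AddSubmonoid.closure_induction with
  | mem F hF =>
    obtain ⟨s, hs, χ, hχ, rfl⟩ := hF
    rw [smul_smul]
    exact smul_char_mem_locChar (mul_mem hr hs) hχ
  | zero => simp
  | add F F' _ _ h h' => rw [smul_add]; exact add_mem h h'

theorem mul_mem_locChar {F F' : G → ℂ} (hF : F ∈ locChar M G) (hF' : F' ∈ locChar M G) :
    F * F' ∈ locChar M G := by
  induction hF using AddSubmonoid.closure_induction with
  | mem F hF =>
    obtain ⟨r, hr, χ, hχ, rfl⟩ := hF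
    induction hF' using AddSubmonoid.closure_induction with
    | mem F' hF' =>
      obtain ⟨s, hs, ψ, hψ, rfl⟩ := hF'
      rw [smul_mul_smul_comm]
      exact smul_char_mem_locChar (mul_mem hr hs) (isCharacter_mul hχ hψ)
    | zero => simp
    | add F F' _ _ h h' => rw [mul_add]; exact add_mem h h'
  | zero => simp
  | add F F' _ _ h h' => rw [add_mul]; exact add_mem h h'

theorem pow_mem_locChar {F : G → ℂ} (hF : F ∈ locChar M G) (k : ℕ) : F ^ k ∈ locChar M G := by
  induction k with
  | zero => rw [pow_zero]; exact char_mem_locChar (isCharacter_of_isIrr isIrr_one)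
  | succ k ih => rw [pow_succ]; exact mul_mem_locChar ih hF

theorem restrict_mem_locChar (H : Subgroup G) {F : G → ℂ} (hF : F ∈ locChar M G) :
    (fun h : H => F h) ∈ locChar M H := by
  induction hF using AddSubmonoid.closure_induction with
  | mem F hF =>
    obtain ⟨r, hr, χ, hχ, rfl⟩ := hF
    exact smul_char_mem_locChar hr (isCharacter_restrict H hχ)
  | zero => exact zero_mem _
  | add F F' _ _ h h' => exact add_mem h h'

theorem locChar_classFun {F : G → ℂ} (hF : F ∈ locChar M G) : IsClassFunction G F := by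
  induction hF using AddSubmonoid.closure_induction with
  | mem F hF =>
    obtain ⟨r, hr, χ, hχ, rfl⟩ := hF
    intro g h
    simp [classFun_of_char hχ g h]
  | zero => intro g h; rfl
  | add F F' _ _ h h' => intro g k; simp [h g k, h' g k]

theorem locChar_apply_mem {F : G → ℂ} (hF : F ∈ locChar M G) (g : G) : F g ∈ locRing M := by
  induction hF using AddSubmonoid.closure_induction with
  | mem F hF =>
    obtain ⟨r, hr, χ, hχ, rfl⟩ := hF
    exact mul_mem hr (integral_mem (char_isIntegral hχ g))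
  | zero => exact zero_mem _
  | add F F' _ _ h h' => exact add_mem h h'

/-- The average of a character over the cosets of a normal subgroup. -/
theorem avg_irr_mem (P : Subgroup G) [P.Normal] [Fintype P] (ξ : IrrCharacter G) (x : G) :
    (Nat.card P : ℂ)⁻¹ * ∑ u : P, (ξ : G → ℂ) (x * (u : G)) ∈ locRing M := by
  classical
  haveI := Fintype.ofFinite G
  let a : MonoidAlgebra (locRing M) G := ∑ u : P, single (u : G) 1
  have ha : IsClassCoeff a := by
    intro g h
    simp only [a, MonoidAlgebra.coeff_sum, Finset.sum_apply', MonoidAlgebra.coeff_single,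
      Finsupp.single_apply]
    have hn : P.Normal := inferInstance
    let e : P ≃ P :=
      { toFun := fun u : P => (⟨h * u * h⁻¹, hn.conj_mem _ u.2 h⟩ : P)
        invFun := fun u : P => ⟨h⁻¹ * u * h, by simpa using hn.conj_mem _ u.2 h⁻¹⟩
        left_inv := fun u => Subtype.ext (by simp [mul_assoc])
        right_inv := fun u => Subtype.ext (by simp [mul_assoc]) }
    refine (Eq.symm (Fintype.sum_equiv e _ _ fun u => ?_))
    refine if_congr ?_ rfl rfl
    exact (MulAut.conj h).injective.eq_iff.symm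
  have ha2 : a * a = (Nat.card P : locRing M) • a := by
    simp only [a, Finset.sum_mul, Finset.mul_sum, single_mul_single, mul_one]
    refine (Finset.sum_congr rfl (g := fun _ : P => ∑ u : P, single (u : G)
      (1 : locRing M)) fun v _ => Fintype.sum_equiv (Equiv.mulRight v) _ _ fun u => rfl).trans ?_
    rw [Finset.sum_const, Finset.card_univ, Fintype.card_eq_nat_card, Nat.cast_smul_eq_nsmul]
  have h1 : omega (ξ : G → ℂ) a * (omega (ξ : G → ℂ) a - (Nat.card P : ℂ)) = 0 := by
    rw [mul_sub, ← omega_mul ξ.2 ha, ha2, omega_smul]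
    push_cast
    ring
  have h2 := omega_mul ξ.2 ha (single x (1 : locRing M))
  simp only [a, Finset.sum_mul, omega_sum, single_mul_single, mul_one, omega_single,
    OneMemClass.coe_one, one_mul, mul_div_assoc'] at h2
  simp only [← Finset.sum_div] at h2
  rw [div_left_inj' (irr_one_ne_zero ξ.2)] at h2
  simp only [← Finset.sum_mul, ← Finset.sum_div] at h2
  simp only [classFun_mul_comm (classFun_of_irr ξ.2) ((_ : P) : G)] at h2
  have h3 : ∀ w : ℂ, w * (w - (Nat.card P : ℂ)) = 0 →
      (Nat.card P : ℂ)⁻¹ * (w * (ξ : G → ℂ) x) ∈ locRing M := by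
    intro w hw
    rcases mul_eq_zero.1 hw with h | h
    · simp [h]
    · rw [sub_eq_zero.1 h, ← mul_assoc, inv_mul_cancel₀ (natCard_ne_zero P), one_mul]
      exact irr_mem ξ _
  rw [h2]
  refine h3 _ ?_
  simpa [a, omega_sum, omega_single, ← Finset.sum_div] using h1

theorem avg_mem (P : Subgroup G) [P.Normal] [Fintype P] {F : G → ℂ} (hF : F ∈ locChar M G)
    (x : G) : (Nat.card P : ℂ)⁻¹ * ∑ u : P, F (x * (u : G)) ∈ locRing M := by
  induction hF using AddSubmonoid.closure_induction with
  | mem F hF =>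
    obtain ⟨r, hr, χ, hχ, rfl⟩ := hF
    obtain ⟨l, rfl⟩ := exists_list_irr hχ
    have e : ∀ l : List (IrrCharacter G), (Nat.card P : ℂ)⁻¹ *
        ∑ u : P, (l.map Subtype.val).sum (x * (u : G)) ∈ locRing M := by
      intro l
      induction l with
      | nil => simp
      | cons ξ l ih =>
        simp only [List.map_cons, List.sum_cons, Pi.add_apply, Finset.sum_add_distrib, mul_add]
        exact add_mem (avg_irr_mem P ξ x) ih
    simp only [Pi.smul_apply, smul_eq_mul, ← Finset.mul_sum]
    rw [mul_left_comm]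
    exact mul_mem hr (e l)
  | zero => simp
  | add F F' _ _ h h' =>
    simp only [Pi.add_apply, Finset.sum_add_distrib, mul_add]
    exact add_mem h h'

/-- An embedding of the algebraic numbers acts on the `N`-th roots of unity by a power. -/
theorem exists_pow_of_algHom {N : ℕ} (hN : N ≠ 0) (φ : QBar →ₐ[ℚ] ℂ) :
    ∃ m : ℕ, m.Coprime N ∧ ∀ (H : Type u) [Group H] [Finite H], Nat.card H ∣ N →
      ∀ χ : H → ℂ, ∀ hχ : IsCharacter H χ, ∀ h : H,
        φ ⟨χ h, mem_qbar_of_integral (char_isIntegral hχ h)⟩ = χ (h ^ m) := by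
  set z := Complex.exp (2 * Real.pi * Complex.I / N) with hzdef
  have hz : IsPrimitiveRoot z N := Complex.isPrimitiveRoot_exp N hN
  let z' : QBar := ⟨z, mem_qbar_of_integral (isIntegral_root hN hz.pow_eq_one)⟩
  have hz' : IsPrimitiveRoot z' N :=
    IsPrimitiveRoot.of_map_of_injective (f := QBar.val) hz QBar.val.injective
  have himg : IsPrimitiveRoot (φ z') N := hz'.map_of_injective φ.injective
  haveI : NeZero N := ⟨hN⟩
  obtain ⟨m, -, hm⟩ := hz.eq_pow_of_pow_eq_one himg.pow_eq_one
  have hcop : m.Coprime N := (hz.pow_iff_coprime (Nat.pos_of_ne_zero hN) m).mp (hm ▸ himg)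
  refine ⟨m, hcop, fun H _ _ hdvd χ hχ h => ?_⟩
  obtain ⟨n, ρ, rfl⟩ := hχ
  obtain ⟨ζ, hζ, hpow, hg, -⟩ := exists_roots ρ h
  have hζN : ∀ i, ζ i ^ N = 1 := fun i => by
    obtain ⟨c, hc⟩ := (orderOf_dvd_natCard h).trans hdvd
    rw [hc, pow_mul, hζ, one_pow]
  have hζφ : ∀ i, φ ⟨ζ i, mem_qbar_of_integral (isIntegral_root hN (hζN i))⟩ = ζ i ^ m := by
    intro i
    obtain ⟨j, -, hj⟩ := hz.eq_pow_of_pow_eq_one (hζN i)
    have : (⟨ζ i, mem_qbar_of_integral (isIntegral_root hN (hζN i))⟩ : QBar) = z' ^ j :=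
      Subtype.ext (by simp [z', hj])
    rw [this, map_pow, ← hm, ← hj, ← pow_mul, ← pow_mul, mul_comm]
  have hsum : (⟨ρ.character h, mem_qbar_of_integral (char_isIntegral ⟨n, ρ, rfl⟩ h)⟩ : QBar) =
      ∑ i, ⟨ζ i, mem_qbar_of_integral (isIntegral_root hN (hζN i))⟩ :=
    Subtype.ext (by simp [hg])
  rw [hsum, map_sum, hpow m]
  exact Finset.sum_congr rfl fun i _ => hζφ i

variable [Fact p.Prime]

/-- A character value is congruent to the value at the `p'`-part. -/
theorem red_char_eq (hM : IsPModular p M) {χ : G → ℂ} (hχ : IsCharacter G χ) {g x y : G}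
    (hg : x * y = g) (hxy : Commute x y) (hx : ∃ k : ℕ, orderOf x = p ^ k) :
    red M (χ g) = red M (χ y) := by
  obtain ⟨k, hk⟩ := hx
  haveI := charP_res (M := M) hM
  have key : ∀ a : G, red M (χ (a ^ p ^ k)) = red M (χ a) ^ p ^ k := by
    intro a
    obtain ⟨n, ρ, rfl⟩ := hχ
    obtain ⟨ζ, hζ, hpow, ha, -⟩ := exists_roots ρ a
    have hi : ∀ i, ζ i ∈ locRing M := fun i =>
      integral_mem (isIntegral_root (orderOf_pos a).ne' (hζ i))
    rw [hpow, ha, red_sum _ _ fun i _ => pow_mem (hi i) _, red_sum _ _ fun i _ => hi i,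
      sum_pow_char_pow]
    refine Finset.sum_congr rfl fun i _ => ?_
    rw [red_of_mem (pow_mem (hi i) _), red_of_mem (hi i), ← map_pow]
    rfl
  have h1 : g ^ p ^ k = y ^ p ^ k := by
    rw [← hg, hxy.mul_pow, ← hk, pow_orderOf_eq_one, one_mul]
  exact iterateFrobenius_inj (Res M) p k (by
    simp only [iterateFrobenius_def]
    rw [← key, ← key, h1])

/-- The restrictions that are required by the criterion. -/
def IsCriterionFun (p : ℕ) (M : Ideal AlgInt) [M.IsPrime] (f : G → ℂ) : Prop :=
  IsClassFunction G f ∧ ∀ (x : G) (P : Subgroup G), ¬ p ∣ orderOf x → IsPGroup p P →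
    P ≤ Subgroup.centralizer ({x} : Set G) → ∀ F ∈ locChar M G,
      ∀ [Fintype P], (Nat.card P : ℂ)⁻¹ * ∑ u : P, f (x * (u : G)) * F (x * (u : G)) ∈ locRing M

theorem isCriterionFun_of_gen {f : G → ℂ} (hf : IsClassFunction G f)
    (h : ∀ (x : G) (P : Subgroup G), ¬ p ∣ orderOf x → IsPGroup p P →
      P ≤ Subgroup.centralizer ({x} : Set G) →
      IsGeneralizedCharacter ↥(Subgroup.zpowers x ⊔ P) (fun e => f e)) :
    IsCriterionFun p M f := by
  refine ⟨hf, fun x P hx hP hPC F hF _ => ?_⟩
  classical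
  set E := Subgroup.zpowers x ⊔ P with hE
  have hxE : x ∈ E := Subgroup.mem_sup_left (Subgroup.mem_zpowers x)
  have hPE : P ≤ E := le_sup_right
  have hnorm : E ≤ Subgroup.normalizer (P : Set G) := by
    refine sup_le (Subgroup.zpowers_le.2 ?_) Subgroup.le_normalizer
    rw [Subgroup.mem_normalizer_iff]
    intro y
    constructor
    · intro hy
      have := Subgroup.mem_centralizer_singleton_iff.1 (hPC hy)
      rwa [← this, mul_inv_cancel_right]
    · intro hy
      have h1 := Subgroup.mem_centralizer_singleton_iff.1 (hPC hy)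
      have h2 : x * y * x⁻¹ = y := by
        calc x * y * x⁻¹ = x⁻¹ * (x * (x * y * x⁻¹)) := by group
          _ = x⁻¹ * (x * y * x⁻¹ * x) := by rw [h1]
          _ = y := by group
      rwa [h2] at hy
  haveI : (P.subgroupOf E).Normal := by
    refine ⟨fun n hn g => ?_⟩
    exact (Subgroup.mem_normalizer_iff.1 (hnorm g.2) _).1 hn
  haveI : Fintype (P.subgroupOf E) := Fintype.ofFinite _
  have h1 := avg_mem (M := M) (P.subgroupOf E)
    (mul_mem_locChar (gen_mem_locChar (h x P hx hP hPC)) (restrict_mem_locChar E hF)) ⟨x, hxE⟩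
  rw [Nat.card_congr (Subgroup.subgroupOfEquivOfLe hPE).toEquiv] at h1
  convert h1 using 2
  exact (Fintype.sum_equiv (Subgroup.subgroupOfEquivOfLe hPE).toEquiv _ _ fun u => rfl).symm

/-- Local integrality of the coefficients of a criterion function. -/
theorem criterion_inner_mem (hM : IsPModular p M) [Fintype G] {f : G → ℂ}
    (hf : IsCriterionFun p M f) (χ : IrrCharacter G) :
    classInner f (χ : G → ℂ) ∈ locRing M := by
  classical
  have hp : p.Prime := Fact.out
  let reg : Finset (ConjClasses G) := Finset.univ.filter fun C => ¬ p ∣ orderOf C.out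
  have hchoice := fun C : reg => exists_comb_regular_sylow hM (Finset.mem_filter.1 C.2).2
  choose P c m hP hm hcdef hc using hchoice
  let Ψ : G → ℂ := ∑ C : reg, ((m C : ℂ))⁻¹ •
    ∑ ψ : IrrCharacter G, ((c C ψ : locRing M) : ℂ) • (ψ : G → ℂ)
  have hΨ : Ψ ∈ locChar M G := sum_mem fun C _ => smul_mem_locChar (natCast_inv_mem hM (hm C))
    (sum_mem fun ψ _ => smul_char_mem_locChar (c C ψ).2 (isCharacter_of_isIrr ψ.2))
  have hΨ1 : ∀ g : G, red M (Ψ g) = 1 := by
    intro g
    obtain ⟨a, y, hay, hcom, hord, hy⟩ := exists_isPPart hp g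
    have hy' : ¬ p ∣ orderOf (ConjClasses.mk y).out := by
      refine (regular_conj_iff ?_).1 hy
      exact ConjClasses.mk_eq_mk_iff_isConj.1 (Quotient.out_eq (ConjClasses.mk y)).symm
    have hcongr : red M (Ψ g) = red M (Ψ y) := by
      have : ∀ (F : G → ℂ), F ∈ locChar M G → red M (F g) = red M (F y) := by
        intro F hF
        induction hF using AddSubmonoid.closure_induction with
        | mem F hF =>
          obtain ⟨r, hr, θ, hθ, rfl⟩ := hF
          simp only [Pi.smul_apply, smul_eq_mul]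
          rw [red_mul hr (integral_mem (char_isIntegral hθ g)),
            red_mul hr (integral_mem (char_isIntegral hθ y)), red_char_eq hM hθ hay hcom hord]
        | zero => rfl
        | add F F' hF hF' h h' =>
          simp only [Pi.add_apply]
          rw [red_add (locChar_apply_mem hF g) (locChar_apply_mem hF' g),
            red_add (locChar_apply_mem hF y) (locChar_apply_mem hF' y), h, h']
      exact this Ψ hΨ
    rw [hcongr]
    have h1 : Ψ y = 1 := by
      simp only [Ψ, Finset.sum_apply, Pi.smul_apply, smul_eq_mul]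
      rw [Finset.sum_eq_single ⟨ConjClasses.mk y, Finset.mem_filter.2 ⟨Finset.mem_univ _, hy'⟩⟩]
      · rw [hc _ y hy, if_pos, inv_mul_cancel₀
          (Nat.cast_ne_zero.2 fun h0 => hm _ (h0 ▸ dvd_zero p))]
        exact ConjClasses.mk_eq_mk_iff_isConj.1 (Quotient.out_eq (ConjClasses.mk y)).symm
      · intro C _ hC
        rw [hc C y hy, if_neg, mul_zero]
        intro hconj
        exact hC (Subtype.ext ((ConjClasses.mk_eq_mk_iff_isConj.2 hconj).trans
          (Quotient.out_eq C.1)).symm)
      · simp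
    rw [h1, red_one]
  -- the functions that can be paired with `f * Ψ`
  let S : (G → ℂ) → Prop := fun F => ∀ k : ℕ, ∀ θ : IrrCharacter G,
    classInner (f * Ψ ^ (k + 1) * F) (θ : G → ℂ) ∈ locRing M
  have havg : ∀ (F : G → ℂ), F ∈ locChar M G → ∀ θ : IrrCharacter G,
      classInner (f * Ψ * F) (θ : G → ℂ) ∈ locRing M := by
    intro F hF θ
    set Φ : G → ℂ := fun g => f g * (F g * conj ((θ : G → ℂ) g))
    have hθc : (fun g => conj ((θ : G → ℂ) g)) ∈ locChar M G :=
      char_mem_locChar (isCharacter_conj (isCharacter_of_isIrr θ.2))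
    have hFθ : (F * fun g => conj ((θ : G → ℂ) g)) ∈ locChar M G := mul_mem_locChar hF hθc
    have hΦ : IsClassFunction G Φ := fun a b => by
      have h2 : F (b * a * b⁻¹) * conj ((θ : G → ℂ) (b * a * b⁻¹)) =
          F a * conj ((θ : G → ℂ) a) := locChar_classFun hFθ a b
      simp only [Φ]
      rw [hf.1 a b, h2]
    have hinv : ∀ y : G, ∑ ψ : IrrCharacter G,
        ((Nat.card G : ℂ)⁻¹ * ∑ g : G, Φ g * (ψ : G → ℂ) g) * conj ((ψ : G → ℂ) y) = Φ y := by
      intro y
      have hc' : IsClassFunction G (fun g => conj (Φ g)) := fun a b =>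
        congrArg conj (hΦ a b)
      have h2 := congrArg conj (congrFun (classFun_eq_sum hc') y)
      simp only [Complex.conj_conj, Finset.sum_apply, Pi.smul_apply, smul_eq_mul, map_sum,
        map_mul] at h2
      rw [h2]
      refine Finset.sum_congr rfl fun ψ _ => ?_
      rw [classInner_def]
      simp only [map_mul, map_sum, Complex.conj_conj, map_inv₀, Complex.conj_natCast]
    have e : classInner (f * Ψ * F) (θ : G → ℂ) = ∑ C : reg, ((m C : ℂ))⁻¹ *
        ((Nat.card (P C) : ℂ)⁻¹ * ∑ᶠ u : P C, Φ (C.1.out * (u : G))) := by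
      calc classInner (f * Ψ * F) (θ : G → ℂ)
          = ∑ C : reg, ((m C : ℂ))⁻¹ * ∑ ψ : IrrCharacter G, ((c C ψ : locRing M) : ℂ) *
              ((Nat.card G : ℂ)⁻¹ * ∑ g : G, Φ g * (ψ : G → ℂ) g) := by
            simp only [classInner_def, Ψ, Φ, Pi.mul_apply, Finset.sum_apply, Pi.smul_apply,
              smul_eq_mul, Finset.mul_sum, Finset.sum_mul]
            rw [Finset.sum_comm]
            refine Finset.sum_congr rfl fun C _ => ?_
            rw [Finset.sum_comm]
            exact Finset.sum_congr rfl fun ψ _ => Finset.sum_congr rfl fun g _ => by ring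
        _ = _ := by
            refine Finset.sum_congr rfl fun C _ => ?_
            simp only [hcdef, finsum_eq_sum_of_fintype, mul_assoc, Finset.sum_mul]
            rw [← Finset.mul_sum]
            congr 2
            rw [Finset.sum_comm]
            refine Finset.sum_congr rfl fun u _ => ?_
            rw [← hinv]
            exact Finset.sum_congr rfl fun ψ _ => by ring
    rw [e]
    refine sum_mem fun C _ => mul_mem (natCast_inv_mem hM (hm C)) ?_
    haveI : Fintype (P C) := Fintype.ofFinite _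
    rw [finsum_eq_sum_of_fintype]
    exact hf.2 _ _ (Finset.mem_filter.1 C.2).2 (hP C).isPGroup (hP C).le _ hFθ
  have hS1 : S 1 := fun k θ => by
    rw [mul_one, pow_succ', ← mul_assoc]
    exact havg _ (pow_mem_locChar hΨ k) θ
  -- invert `Ψ`
  have hunit : ∀ g, (Ψ g)⁻¹ ∈ locRing M := by
    intro g
    have hnot : ¬ MemLocalIdeal M (Ψ g) := fun h => by
      have := (red_eq_zero_iff (locChar_apply_mem hΨ g)).2 h
      rw [hΨ1 g] at this
      exact one_ne_zero this
    obtain ⟨v, hv⟩ := ((isUnit_loc_iff ⟨_, locChar_apply_mem hΨ g⟩).2 hnot).exists_left_inv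
    have hv' : (v : ℂ) * Ψ g = 1 := congrArg Subtype.val hv
    rw [← eq_inv_of_mul_eq_one_left hv']
    exact v.2
  have hfin : ∀ s : Finset ℂ, (∀ v ∈ s, v⁻¹ ∈ locRing M ∧ v ≠ 0) →
      ∃ F : G → ℂ, S F ∧ ∀ g, Ψ g ∈ s → Ψ g * F g = 1 := by
    intro s
    induction s using Finset.induction with
    | empty => exact fun _ => ⟨0, fun k θ => by simp [classInner_zero_left], by simp⟩
    | insert v s _ ih =>
      intro hs
      obtain ⟨F, hF, hFs⟩ := ih fun w hw => hs w (Finset.mem_insert_of_mem hw)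
      obtain ⟨hv, hv0⟩ := hs v (Finset.mem_insert_self v s)
      refine ⟨v⁻¹ • (1 : G → ℂ) + F - v⁻¹ • (Ψ * F), fun k θ => ?_, fun g hg => ?_⟩
      · simp only [mul_sub, mul_add, mul_smul_comm, classInner_sub_left, classInner_add_left,
          classInner_smul_left]
        refine sub_mem (add_mem (mul_mem hv (hS1 k θ)) (hF k θ)) (mul_mem hv ?_)
        rw [← mul_assoc, mul_assoc f, ← pow_succ]
        exact hF (k + 1) θ
      · simp only [Pi.sub_apply, Pi.add_apply, Pi.smul_apply, Pi.one_apply, Pi.mul_apply,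
          smul_eq_mul, mul_one]
        rcases Finset.mem_insert.1 hg with h | h
        · rw [h]
          field_simp
          ring
        · rw [← mul_assoc (v⁻¹), mul_sub, mul_add, hFs g h]
          linear_combination (v⁻¹ * Ψ g) * (hFs g h).symm
  have hne : ∀ g, Ψ g ≠ 0 := fun g h => by
    have := hΨ1 g
    rw [h, red_zero] at this
    exact zero_ne_one this
  obtain ⟨F, hF, hFs⟩ := hfin (Finset.univ.image Ψ) (fun v hv => by
    obtain ⟨g, -, rfl⟩ := Finset.mem_image.1 hv
    exact ⟨hunit g, hne g⟩)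
  have e : f = f * Ψ ^ (0 + 1) * F := by
    funext g
    simp only [zero_add, pow_one, Pi.mul_apply]
    rw [mul_assoc, hFs g (Finset.mem_image_of_mem _ (Finset.mem_univ g)), mul_one]
  rw [e]
  exact hF 0 χ

theorem exists_isPModular {q : ℕ} (hq : q.Prime) : ∃ M : Ideal AlgInt, IsPModular q M := by
  have hu : ¬ IsUnit (q : AlgInt) := by
    intro h
    obtain ⟨v, hv⟩ := h.exists_left_inv
    have hv' : (v : ℂ) * (q : ℂ) = 1 := by simpa using congrArg (Subtype.val) hv
    obtain ⟨n, hn⟩ := exists_int_of_isIntegral_rat v.2 ((q : ℚ)⁻¹)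
      (by push_cast; exact eq_inv_of_mul_eq_one_left hv')
    rw [hn] at hv'
    have h1 : (n * q : ℤ) = 1 := by exact_mod_cast hv'
    exact hq.ne_one (Nat.dvd_one.1 (Int.natCast_dvd_natCast.1 ⟨n, by rw [mul_comm, h1]; rfl⟩))
  obtain ⟨M, hM, hqM⟩ := exists_max_ideal_of_mem_nonunits (show (q : AlgInt) ∈ nonunits _ from hu)
  exact ⟨M, hq, hM, hqM⟩

/-- The elementary criterion for generalised characters. -/
theorem isGeneralized_of_criterion [Fintype G] {f : G → ℂ} (hf : IsClassFunction G f)
    (hval : ∀ g, IsIntegral ℤ (f g))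
    (hgal : ∀ (φ : QBar →ₐ[ℚ] ℂ) (m : ℕ), m.Coprime (Nat.card G) →
      (∀ (H : Type u) [Group H] [Finite H], Nat.card H ∣ Nat.card G →
        ∀ χ : H → ℂ, ∀ hχ : IsCharacter H χ, ∀ h : H,
          φ ⟨χ h, mem_qbar_of_integral (char_isIntegral hχ h)⟩ = χ (h ^ m)) →
      ∀ g, φ ⟨f g, mem_qbar_of_integral (hval g)⟩ = f (g ^ m))
    (hloc : ∀ q : ℕ, q.Prime → ∀ M : Ideal AlgInt, ∀ [M.IsPrime], IsPModular q M →
      IsCriterionFun q M f) :
    IsGeneralizedCharacter G f := by
  classical
  refine isGeneralized_iff.2 ⟨hf, fun χ => ?_⟩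
  set s := ∑ g : G, f g * conj ((χ : G → ℂ) g) with hs
  have hs' : classInner f (χ : G → ℂ) = (Nat.card G : ℂ)⁻¹ * s := classInner_def _ _
  have hcχ := isCharacter_conj (isCharacter_of_isIrr χ.2)
  have hint : ∀ g, IsIntegral ℤ (f g * conj ((χ : G → ℂ) g)) := fun g =>
    (hval g).mul (char_isIntegral hcχ g)
  have hsint : IsIntegral ℤ s := IsIntegral.sum _ fun g _ => hint g
  have hrat : ∃ n : ℤ, s = n := by
    refine int_of_fixed hsint fun φ => ?_
    obtain ⟨m, hm, hφ⟩ := exists_pow_of_algHom.{u} (N := Nat.card G) Nat.card_pos.ne' φ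
    have h1 : (⟨s, mem_qbar_of_integral hsint⟩ : QBar) = ∑ g : G,
        ⟨f g, mem_qbar_of_integral (hval g)⟩ *
          ⟨conj ((χ : G → ℂ) g), mem_qbar_of_integral (char_isIntegral hcχ g)⟩ :=
      Subtype.ext (by simp [s])
    rw [h1, map_sum]
    simp only [map_mul]
    rw [hs]
    refine Fintype.sum_bijective _ (pow_coprime_bijective hm) _ _ fun g => ?_
    rw [hgal φ m hm hφ g, hφ G dvd_rfl _ hcχ g]
  obtain ⟨n, hn⟩ := hrat
  have hd : (Nat.card G : ℤ) ∣ n := by
    refine Int.natCast_dvd.2 (Nat.dvd_iff_prime_pow_dvd_dvd _ _ |>.2 fun q a hq ha => ?_)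
    refine Int.natCast_dvd.1 ?_
    push_cast
    obtain ⟨M, hM⟩ := exists_isPModular hq
    haveI := CfsgLib.Blk.IsPModular.isPrime hM
    haveI : Fact q.Prime := ⟨hq⟩
    have h1 := criterion_inner_mem hM (hloc q hq M hM) χ
    rw [hs', hn] at h1
    induction a with
    | zero => simp
    | succ a ih =>
      obtain ⟨n', hn'⟩ := ih (dvd_trans (pow_dvd_pow q (Nat.le_succ a)) ha)
      obtain ⟨d, hd⟩ := ha
      rw [hn', pow_succ]
      refine mul_dvd_mul_left _ ((intCast_memLocalIdeal_iff hM n').1 ?_)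
      have hG := natCard_ne_zero G
      have e : (n' : ℂ) = (d : ℂ) * ((Nat.card G : ℂ)⁻¹ * (n : ℂ)) * (q : ℂ) := by
        rw [hn', hd] at *
        push_cast at hG ⊢
        have hq0 : (q : ℂ) ≠ 0 := Nat.cast_ne_zero.2 hq.ne_zero
        have hd0 : (d : ℂ) ≠ 0 := right_ne_zero_of_mul hG
        rw [pow_succ]
        field_simp
      rw [e]
      refine memLocalIdeal_mul_left (mul_mem (natCast_mem _ d) h1) ?_
      exact (natCast_memLocalIdeal_iff hM q).2 dvd_rfl
  obtain ⟨k, hk⟩ := hd
  refine ⟨k, ?_⟩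
  rw [hs', hn, hk]
  push_cast
  rw [← mul_assoc, inv_mul_cancel₀ (natCard_ne_zero G), one_mul]

/-- The elementary criterion, in terms of the restrictions to elementary subgroups. -/
theorem isGeneralized_of_restrict [Fintype G] {f : G → ℂ} (hf : IsClassFunction G f)
    (h : ∀ r : ℕ, r.Prime → ∀ (x : G) (P : Subgroup G), ¬ r ∣ orderOf x → IsPGroup r P →
      P ≤ Subgroup.centralizer ({x} : Set G) →
      IsGeneralizedCharacter ↥(Subgroup.zpowers x ⊔ P) (fun e => f e)) :
    IsGeneralizedCharacter G f := by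
  haveI : Fact (Nat.Prime 2) := ⟨Nat.prime_two⟩
  have hE : ∀ g : G, ∃ E : Subgroup G, g ∈ E ∧
      IsGeneralizedCharacter ↥E (fun e => f e) := by
    intro g
    obtain ⟨a, y, hay, hcom, hord, hy⟩ := exists_isPPart Nat.prime_two g
    refine ⟨_, ?_, h 2 Nat.prime_two y (Subgroup.zpowers a) hy (isPGroup_zpowers hord)
      (Subgroup.zpowers_le.2 (Subgroup.mem_centralizer_singleton_iff.2 hcom.eq))⟩
    rw [← hay]
    exact mul_mem (Subgroup.mem_sup_right (Subgroup.mem_zpowers a))
      (Subgroup.mem_sup_left (Subgroup.mem_zpowers y))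
  have hval : ∀ g, IsIntegral ℤ (f g) := by
    intro g
    obtain ⟨E, hg, χ, ψ, hχ, hψ, he⟩ := hE g
    have := congrFun he ⟨g, hg⟩
    simp only [Pi.sub_apply] at this
    rw [this]
    exact (char_isIntegral hχ _).sub (char_isIntegral hψ _)
  refine isGeneralized_of_criterion hf hval (fun φ m hm hφ g => ?_) fun q hq M _ hM => by
    haveI : Fact q.Prime := ⟨hq⟩
    exact isCriterionFun_of_gen hf (h q hq)
  obtain ⟨E, hg, χ, ψ, hχ, hψ, he⟩ := hE g
  have h1 := congrFun he ⟨g, hg⟩
  have h2 := congrFun he (⟨g, hg⟩ ^ m)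
  simp only [Pi.sub_apply, SubmonoidClass.coe_pow] at h1 h2
  have e : (⟨f g, mem_qbar_of_integral (hval g)⟩ : QBar) =
      ⟨χ ⟨g, hg⟩, mem_qbar_of_integral (char_isIntegral hχ _)⟩ -
        ⟨ψ ⟨g, hg⟩, mem_qbar_of_integral (char_isIntegral hψ _)⟩ := Subtype.ext h1
  rw [e, map_sub, hφ E (Subgroup.card_subgroup_dvd_card E) χ hχ,
    hφ E (Subgroup.card_subgroup_dvd_card E) ψ hψ, h2]

end CfsgLib.Blk
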