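import Cfsg.Agent.Blk.RegInd

/-!
The defect of a block: the order of a defect group, characters of height zero, the integers
`p^d/|G| ∑ χ(x) conj ψ(x)` over the regular elements, and the bounds they give for `k(B)`.
-/

set_option autoImplicit false
set_option linter.style.haveILetI false
set_option linter.unusedSectionVars false

namespace CfsgLib.Blk

open Cfsg CfsgLib.Char MonoidAlgebra Finset
open scoped ComplexConjugate

universe u

variable {G : Type u} [Group G] [Finite G] {M : Ideal AlgInt} [M.IsPrime] {p : ℕ} [Fact p.Prime]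

/-- The exponent of `p` in the order of `G`. -/
noncomputable abbrev pExp (p : ℕ) (G : Type u) [Group G] : ℕ := (Nat.card G).factorization p

/-- The exponent of `p` in the degree of a character. -/
noncomputable abbrev degExp (p : ℕ) (χ : G → ℂ) : ℕ := (charDegree χ).factorization p

theorem exists_card_eq : ∃ m : ℕ, Nat.card G = p ^ pExp p G * m ∧ ¬ p ∣ m :=
  ⟨_, (Nat.ordProj_mul_ordCompl_eq_self _ p).symm,
    Nat.not_dvd_ordCompl (Fact.out : p.Prime) Nat.card_pos.ne'⟩

theorem exists_deg_eq {χ : G → ℂ} (hχ : IsIrrCharacter G χ) :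
    ∃ n : ℕ, χ 1 = ((p ^ degExp p χ : ℕ) : ℂ) * (n : ℂ) ∧ ¬ p ∣ n :=
  ⟨_, by rw [← Nat.cast_mul, Nat.ordProj_mul_ordCompl_eq_self, irr_one_eq hχ],
    Nat.not_dvd_ordCompl (Fact.out : p.Prime) (charDegree_pos hχ).ne'⟩

theorem degExp_le {χ : G → ℂ} (hχ : IsIrrCharacter G χ) : degExp p χ ≤ pExp p G := by
  haveI := Fintype.ofFinite G
  exact (Nat.factorization_le_iff_dvd (charDegree_pos hχ).ne' Nat.card_pos.ne').2
    (degree_dvd_card hχ) p

theorem natCast_ne_zero_of_not_dvd {n : ℕ} (hn : ¬ p ∣ n) : (n : ℂ) ≠ 0 :=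
  Nat.cast_ne_zero.2 fun h => hn (h ▸ dvd_zero p)

theorem prime_cast_ne_zero : (p : ℂ) ≠ 0 := Nat.cast_ne_zero.2 (Fact.out : p.Prime).ne_zero

theorem pow_mul_memLocalIdeal (hM : IsPModular p M) {i : ℕ} (hi : 0 < i) {r : ℂ}
    (hr : r ∈ locRing M) : MemLocalIdeal M ((p : ℂ) ^ i * r) := by
  obtain ⟨j, rfl⟩ := Nat.exists_eq_succ_of_ne_zero hi.ne'
  rw [pow_succ', mul_assoc]
  exact memLocalIdeal_mul_right ((natCast_memLocalIdeal_iff hM p).2 dvd_rfl)
    (mul_mem (pow_mem (natCast_mem _ p) _) hr)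

/-- A unit times `p^j` is not `p^i` times a local integer for `j < i`. -/
theorem memLocalIdeal_of_pow_eq (hM : IsPModular p M) {i j : ℕ} (hij : j < i) {u r : ℂ}
    (hr : r ∈ locRing M) (he : (p : ℂ) ^ j * u = (p : ℂ) ^ i * r) : MemLocalIdeal M u := by
  obtain ⟨t, rfl⟩ := Nat.exists_eq_add_of_lt hij
  rw [add_assoc, pow_add, mul_assoc] at he
  rw [mul_left_cancel₀ (pow_ne_zero _ prime_cast_ne_zero) he]
  exact pow_mul_memLocalIdeal hM (Nat.succ_pos t) hr

/-- An integer which is `p^j` times a local integer is divisible by `p^j`. -/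
theorem pow_dvd_of_eq (hM : IsPModular p M) {j : ℕ} {n : ℤ} {r : ℂ} (hr : r ∈ locRing M)
    (he : (n : ℂ) = (p : ℂ) ^ j * r) : (p : ℤ) ^ j ∣ n := by
  induction j generalizing n r with
  | zero => simp
  | succ j ih =>
    obtain ⟨k, rfl⟩ := ih (mul_mem (natCast_mem _ p) hr) (by rw [he, pow_succ]; ring)
    refine mul_dvd_mul_left _ ((intCast_memLocalIdeal_iff hM k).1 ?_)
    have h0 := pow_ne_zero j (prime_cast_ne_zero (p := p))
    push_cast at he
    rw [pow_succ, mul_assoc] at he
    rw [mul_left_cancel₀ h0 he]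
    simpa using pow_mul_memLocalIdeal hM one_pos hr

theorem avg_regular_mem {f : G → ℂ} (hf : f ∈ locChar M G) {x : G}
    {P : Subgroup G} (hP : IsPGroup p P) (hPx : P ≤ Subgroup.centralizer ({x} : Set G))
    (hvan : ∀ u ∈ P, u ≠ 1 → f (x * u) = 0) :
    (Nat.card P : ℂ)⁻¹ * f x ∈ locRing M := by
  classical
  set E := Subgroup.zpowers x ⊔ P
  have hPE : P ≤ E := le_sup_right
  have hxE : x ∈ E := Subgroup.mem_sup_left (Subgroup.mem_zpowers x)
  have hnorm : E ≤ Subgroup.normalizer (P : Set G) := by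
    refine sup_le (Subgroup.zpowers_le.2 ?_) Subgroup.le_normalizer
    rw [Subgroup.mem_normalizer_iff]
    intro y
    have key : ∀ w ∈ P, x * w * x⁻¹ = w := fun w hw => by
      rw [← Subgroup.mem_centralizer_singleton_iff.1 (hPx hw), mul_inv_cancel_right]
    refine ⟨fun hy => by rwa [key y hy], fun hy => ?_⟩
    have h2 := key _ hy
    have h3 : x * (x * y * x⁻¹) * x⁻¹ = x * y * x⁻¹ := h2
    rw [mul_left_inj, mul_right_inj] at h3
    rwa [h3] at hy
  haveI : (P.subgroupOf E).Normal :=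
    ⟨fun n hn g => (Subgroup.mem_normalizer_iff.1 (hnorm g.2) _).1 hn⟩
  haveI : Fintype (P.subgroupOf E) := Fintype.ofFinite _
  have h := avg_mem (P.subgroupOf E) (restrict_mem_locChar E hf) ⟨x, hxE⟩
  rw [Nat.card_congr (Subgroup.subgroupOfEquivOfLe hPE).toEquiv,
    Finset.sum_eq_single (1 : P.subgroupOf E)] at h
  · simpa using h
  · intro u _ hu
    refine hvan _ u.2 fun hc => hu (Subtype.ext (Subtype.ext hc))
  · simp

section block

variable {B : Set (IrrCharacter G)}

/-- The degree-weighted sum over a block vanishes on singular elements. -/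
theorem blockCoeff_eq_zero_of_singular (hM : IsPModular p M) (hB : IsPBlock M B) {v : G}
    (hv : p ∣ orderOf v) : blockCoeff B v = 0 := by
  have hp : p.Prime := Fact.out
  obtain ⟨v₁, hv₁⟩ := exists_isPPart hp v
  have h1 : ¬ p ∣ orderOf (1 : G) := by simpa using hp.ne_one
  rw [blockCoeff, block_orth hM hB (isPPart_one_of_regular h1) hv₁
    (fun hc => (isPPart_eq_one_iff hp hv₁).1 (isConj_one_right.1 hc) hv), mul_zero]

theorem isDefectClass_regular (hM : IsPModular p M) (hB : IsPBlock M B) {g : G}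
    (hg : IsDefectClass M B g) : ¬ p ∣ orderOf g := fun h =>
  hg.2.1 (by rw [blockCoeff_eq_zero_of_singular hM hB h]; exact memLocalIdeal_zero)

theorem defectGroup_le_pExp {D : Subgroup G} (hD : IsDefectGroup p M B D) :
    ∃ d, Nat.card D = p ^ d ∧ d ≤ pExp p G := by
  obtain ⟨d, hd⟩ := IsPGroup.iff_card.1 (IsDefectGroup.isPGroup hD)
  exact ⟨d, hd, ((Fact.out : p.Prime).pow_dvd_iff_le_factorization Nat.card_pos.ne').1
    (hd ▸ Subgroup.card_subgroup_dvd_card D)⟩

theorem index_centralizer_eq {D : Subgroup G} {g : G} {d : ℕ}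
    (hs : IsSylowIn p D (Subgroup.centralizer ({g} : Set G))) (hd : Nat.card D = p ^ d) :
    ∃ m : ℕ, ¬ p ∣ m ∧
      (Subgroup.centralizer ({g} : Set G)).index = p ^ (pExp p G - d) * m := by
  have hp : p.Prime := Fact.out
  set C := Subgroup.centralizer ({g} : Set G)
  have hCd : (Nat.card C).factorization p = d := by
    refine (Nat.pow_right_injective hp.two_le ?_)
    change p ^ (Nat.card C).factorization p = p ^ d
    rw [← hd, hs.card]
  have hid : C.index.factorization p = pExp p G - d := by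
    have h := congrArg (fun n => n.factorization p) C.card_mul_index
    simp only [Nat.factorization_mul Nat.card_pos.ne' Subgroup.FiniteIndex.index_ne_zero,
      Finsupp.add_apply, hCd] at h
    change _ = pExp p G at h
    omega
  exact ⟨_, Nat.not_dvd_ordCompl hp Subgroup.FiniteIndex.index_ne_zero,
    by rw [← hid, Nat.ordProj_mul_ordCompl_eq_self]⟩

/-- The degree of a character of the block is divisible by `p^(a-d)`. -/
theorem sub_le_degExp (hM : IsPModular p M) {D : Subgroup G} (hD : IsDefectGroup p M B D) {d : ℕ}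
    (hd : Nat.card D = p ^ d) {χ : IrrCharacter G} (hχ : χ ∈ B) :
    pExp p G - d ≤ degExp p (χ : G → ℂ) := by
  obtain ⟨g, hg, hs⟩ := isDefectGroup_iff.1 hD
  obtain ⟨m, hm, hidx⟩ := index_centralizer_eq hs hd
  obtain ⟨n, hn, hnp⟩ := exists_deg_eq (p := p) χ.2
  by_contra! hlt
  refine hg.2.2 χ hχ ?_
  obtain ⟨t, ht⟩ := Nat.exists_eq_add_of_lt hlt
  have h1 : centralChar (χ : G → ℂ) g =
      (p : ℂ) ^ (t + 1) * ((m : ℂ) * ((n : ℂ)⁻¹ * (χ : G → ℂ) g)) := by
    rw [centralChar, hidx, hn, ht]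
    have h0 := natCast_ne_zero_of_not_dvd hnp
    have h0' := prime_cast_ne_zero (p := p)
    push_cast
    rw [pow_add, pow_add]
    field_simp
    ring
  rw [h1]
  exact pow_mul_memLocalIdeal hM (Nat.succ_pos t)
    (mul_mem (natCast_mem _ m) (mul_mem (natCast_inv_mem hM hnp) (irr_mem χ g)))

theorem exists_degExp_eq (hM : IsPModular p M) (hB : IsPBlock M B) {D : Subgroup G}
    (hD : IsDefectGroup p M B D) {d : ℕ} (hd : Nat.card D = p ^ d) :
    ∃ χ ∈ B, degExp p (χ : G → ℂ) = pExp p G - d := by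
  classical
  haveI := Fintype.ofFinite G
  have hp : p.Prime := Fact.out
  obtain ⟨g, hg, hs⟩ := isDefectGroup_iff.1 hD
  by_contra! hno
  set k := pExp p G - d + 1
  have hk : ∀ χ ∈ B, k ≤ degExp p (χ : G → ℂ) := fun χ hχ => by
    have h1 := sub_le_degExp hM hD hd hχ
    have h2 := hno χ hχ
    omega
  obtain ⟨m, hm, hmp⟩ := exists_card_eq (p := p) (G := G)
  let f : G → ℂ := fun x => (Nat.card G : ℂ) * blockCoeff B x / (p : ℂ) ^ k
  have hf : f ∈ locChar M G := by
    have e : f = ∑ χ : IrrCharacter G, if χ ∈ B then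
        ((charDegree (χ : G → ℂ) / p ^ k : ℕ) : ℂ) •
          (fun x => conj ((χ : G → ℂ) x)) else 0 := by
      funext x
      simp only [f, blockCoeff, finsum_mem_eq_sum_ite, Finset.sum_apply]
      rw [← mul_assoc, mul_inv_cancel₀ (natCard_ne_zero G), one_mul, Finset.sum_div]
      refine Finset.sum_congr rfl fun χ _ => ?_
      split_ifs with h
      · rw [Pi.smul_apply, smul_eq_mul, irr_one_eq χ.2, Nat.cast_div
          ((hp.pow_dvd_iff_le_factorization (charDegree_pos χ.2).ne').2 (hk χ h))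
          (by exact_mod_cast pow_ne_zero k hp.ne_zero)]
        push_cast
        ring
      · simp
    rw [e]
    refine sum_mem fun χ _ => ?_
    split_ifs
    · exact smul_char_mem_locChar (natCast_mem _ _)
        (isCharacter_conj (isCharacter_of_isIrr χ.2))
    · exact zero_mem _
  have hv := avg_regular_mem (p := p) hf (x := g) hs.isPGroup hs.le (by
    intro u hu hu1
    have hord : ∃ i : ℕ, orderOf u = p ^ i := by
      obtain ⟨i, hi⟩ := IsPGroup.iff_orderOf.1 hs.isPGroup ⟨u, hu⟩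
      exact ⟨i, by rwa [← Subgroup.orderOf_mk u hu]⟩
    have hgu : Commute u g := Subgroup.mem_centralizer_singleton_iff.1 (hs.le hu)
    have hsing : p ∣ orderOf (g * u) := by
      by_contra hreg
      refine hu1 ((isPPart_eq_one_iff hp ?_).2 hreg)
      rw [← hgu.eq]
      exact isPPart_mul hord (isDefectClass_regular hM hB hg) hgu
    simp [f, blockCoeff_eq_zero_of_singular hM hB hsing])
  refine hg.2.1 ((memLocalIdeal_natCast_mul_iff hM hmp _).1
    (memLocalIdeal_of_pow_eq hM (i := d + k) (j := pExp p G) (by omega) hv ?_))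
  rw [hd]
  simp only [f, hm]
  have h0' := prime_cast_ne_zero (p := p)
  push_cast
  rw [pow_add]
  field_simp

theorem sInf_degExp (hM : IsPModular p M) (hB : IsPBlock M B) {D : Subgroup G}
    (hD : IsDefectGroup p M B D) {d : ℕ} (hd : Nat.card D = p ^ d) :
    sInf ((fun χ : IrrCharacter G => (charDegree (χ : G → ℂ)).factorization p) '' B) =
      pExp p G - d := by
  obtain ⟨χ, hχ, he⟩ := exists_degExp_eq hM hB hD hd
  refine le_antisymm (he ▸ Nat.sInf_le ⟨χ, hχ, rfl⟩) ?_
  refine le_csInf ⟨_, χ, hχ, rfl⟩ ?_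
  rintro _ ⟨ψ, hψ, rfl⟩
  exact sub_le_degExp hM hD hd hψ

/-- The order of a defect group is `p` to the defect. -/
theorem card_defectGroup (hM : IsPModular p M) (hB : IsPBlock M B) {D : Subgroup G}
    (hD : IsDefectGroup p M B D) : Nat.card D = p ^ blockDefect p B := by
  obtain ⟨d, hd, hle⟩ := defectGroup_le_pExp hD
  rw [hd, blockDefect, sInf_degExp hM hB hD hd]
  congr 1
  change d = pExp p G - (pExp p G - d)
  omega

theorem blockDefect_le (hM : IsPModular p M) (B : Set (IrrCharacter G)) :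
    blockDefect p B ≤ pExp p G := Nat.sub_le _ _

theorem degExp_eq_height_add (hM : IsPModular p M) (hB : IsPBlock M B) {χ : IrrCharacter G}
    (hχ : χ ∈ B) :
    degExp p (χ : G → ℂ) = pExp p G - blockDefect p B + blockHeight p B (χ : G → ℂ) := by
  obtain ⟨D, hD⟩ := exists_isDefectGroup hM hB
  have hd := card_defectGroup hM hB hD
  have h1 := sub_le_degExp hM hD hd hχ
  rw [blockHeight, sInf_degExp hM hB hD hd]
  change _ = _ + (degExp p (χ : G → ℂ) - _)
  omega

theorem exists_height_zero (hM : IsPModular p M) (hB : IsPBlock M B) :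
    ∃ χ ∈ B, blockHeight p B (χ : G → ℂ) = 0 := by
  obtain ⟨D, hD⟩ := exists_isDefectGroup hM hB
  obtain ⟨χ, hχ, he⟩ := exists_degExp_eq hM hB hD (card_defectGroup hM hB hD)
  refine ⟨χ, hχ, ?_⟩
  have := degExp_eq_height_add hM hB hχ
  omega

/-- A height zero character is a unit on a defect class. -/
theorem defectClass_char_unit (hM : IsPModular p M) (hB : IsPBlock M B) {g : G}
    (hg : IsDefectClass M B g) {χ : IrrCharacter G} (hχ : χ ∈ B)
    (h0 : blockHeight p B (χ : G → ℂ) = 0) : ¬ MemLocalIdeal M ((χ : G → ℂ) g) := by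
  intro hmem
  obtain ⟨D, hs⟩ := exists_isSylowIn (p := p) (Subgroup.centralizer ({g} : Set G))
  have hD : IsDefectGroup p M B D := isDefectGroup_iff.2 ⟨g, hg, hs⟩
  obtain ⟨m, hm, hidx⟩ := index_centralizer_eq hs (card_defectGroup hM hB hD)
  obtain ⟨n, hn, hnp⟩ := exists_deg_eq (p := p) χ.2
  refine hg.2.2 χ hχ ?_
  have h1 : centralChar (χ : G → ℂ) g = ((m : ℂ) * (n : ℂ)⁻¹) * (χ : G → ℂ) g := by
    rw [centralChar, hidx, hn, degExp_eq_height_add hM hB hχ, h0, add_zero]
    have h0' := natCast_ne_zero_of_not_dvd hnp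
    have h0'' := prime_cast_ne_zero (p := p)
    push_cast
    field_simp
  rw [h1]
  exact memLocalIdeal_mul_left (mul_mem (natCast_mem _ m) (natCast_inv_mem hM hnp)) hmem

/-! ### Characters paired on the regular elements -/

/-- `χ` on the regular elements, zero elsewhere. -/
noncomputable def regPart (p : ℕ) (χ : G → ℂ) : G → ℂ :=
  fun x => if p ∣ orderOf x then 0 else χ x

/-- The elements `∑ conj ψ(x) x` over the regular `x`. -/
noncomputable def regElt (M : Ideal AlgInt) [M.IsPrime] (p : ℕ) (ψ : IrrCharacter G) :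
    MonoidAlgebra (locRing M) G :=
  MonoidAlgebra.ofCoeff (Finsupp.ofSupportFinite
    (fun x : G => if p ∣ orderOf x then (0 : locRing M) else ⟨_, conj_irr_mem ψ x⟩)
    (Set.toFinite _))

theorem coeff_regElt (ψ : IrrCharacter G) (x : G) :
    (((regElt M p ψ).coeff x : locRing M) : ℂ) =
      if p ∣ orderOf x then 0 else conj ((ψ : G → ℂ) x) := by
  change ((if p ∣ orderOf x then (0 : locRing M) else ⟨_, conj_irr_mem ψ x⟩ : locRing M) : ℂ) = _
  split_ifs <;> rfl

theorem isClassCoeff_regElt (ψ : IrrCharacter G) : IsClassCoeff (regElt M p ψ) := fun g h => by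
  refine Subtype.ext ?_
  simp only [coeff_regElt, isPPart_conj.orderOf_mulAut_conj, classFun_of_irr ψ.2 g h]

theorem inner_regPart [Fintype G] (χ ψ : IrrCharacter G) :
    classInner (regPart p (χ : G → ℂ)) (ψ : G → ℂ) =
      (Nat.card G : ℂ)⁻¹ * ((χ : G → ℂ) 1 * omega (χ : G → ℂ) (regElt M p ψ)) := by
  rw [classInner_def, omega_eq, mul_div_cancel₀ _ (irr_one_ne_zero χ.2)]
  refine congrArg _ (Finset.sum_congr rfl fun x _ => ?_)
  rw [coeff_regElt, regPart]
  split_ifs <;> ring

theorem inner_regPart_conj [Fintype G] (χ ψ : IrrCharacter G) :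
    classInner (regPart p (χ : G → ℂ)) (ψ : G → ℂ) =
      conj (classInner (regPart p (ψ : G → ℂ)) (χ : G → ℂ)) := by
  rw [classInner_conj]
  simp only [classInner_def, regPart]
  refine congrArg _ (Finset.sum_congr rfl fun x _ => ?_)
  split_ifs <;> simp

theorem classFun_regPart {χ : G → ℂ} (hχ : IsClassFunction G χ) :
    IsClassFunction G (regPart p χ) := fun g h => by
  simp only [regPart, isPPart_conj.orderOf_mulAut_conj, hχ g h]

theorem gen_regPart (χ : IrrCharacter G) :
    IsGeneralizedCharacter G ((p : ℂ) ^ pExp p G • regPart p (χ : G → ℂ)) := by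
  classical
  convert gen_mul (gen_regular (G := G) (p := p)) (gen_of_char (isCharacter_of_isIrr χ.2)) using 1
  funext x
  simp only [regPart, Pi.mul_apply, Pi.smul_apply, smul_eq_mul]
  split_ifs <;> simp

theorem inner_regPart_eq_zero (hM : IsPModular p M) [Fintype G] {χ ψ : IrrCharacter G}
    (h : ¬ SameBlock M (χ : G → ℂ) (ψ : G → ℂ)) :
    classInner (regPart p (χ : G → ℂ)) (ψ : G → ℂ) = 0 := by
  have h1 := regular_orth hM h
  simp only [ite_not] at h1
  rw [classInner_def, Finset.sum_congr rfl fun x _ => ?_, h1, mul_zero]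
  simp only [regPart]
  split_ifs <;> simp

/-- The integer `p^d/|G| ∑ χ(x) conj ψ(x)` over the regular elements. -/
theorem exists_regCartan (hM : IsPModular p M) (hB : IsPBlock M B) [Fintype G]
    {χ : IrrCharacter G} (hχ : χ ∈ B) (ψ : IrrCharacter G) :
    ∃ (a : ℤ) (u : ℂ), u ∈ locRing M ∧ u⁻¹ ∈ locRing M ∧ u ≠ 0 ∧
      (a : ℂ) = (p : ℂ) ^ blockDefect p B * classInner (regPart p (χ : G → ℂ)) (ψ : G → ℂ) ∧
      (a : ℂ) = (p : ℂ) ^ blockHeight p B (χ : G → ℂ) * u *
        omega (χ : G → ℂ) (regElt M p ψ) := by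
  obtain ⟨N, hN⟩ := (isGeneralized_iff.1 (gen_regPart (p := p) χ)).2 ψ
  rw [classInner_smul_left] at hN
  obtain ⟨n, hn, hnp⟩ := exists_deg_eq (p := p) χ.2
  obtain ⟨m, hm, hmp⟩ := exists_card_eq (p := p) (G := G)
  have hh := degExp_eq_height_add hM hB hχ
  obtain ⟨e, he⟩ := Nat.exists_eq_add_of_le (blockDefect_le (p := p) hM B)
  rw [he, Nat.add_sub_cancel_left] at hh
  set d := blockDefect p B
  set h := blockHeight p B (χ : G → ℂ)
  set w := omega (χ : G → ℂ) (regElt M p ψ)
  have hw : w ∈ locRing M := omega_mem χ.2 (isClassCoeff_regElt ψ)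
  have hu : (n : ℂ) * (m : ℂ)⁻¹ ∈ locRing M :=
    mul_mem (natCast_mem _ n) (natCast_inv_mem hM hmp)
  have hn0 := natCast_ne_zero_of_not_dvd hnp
  have hm0 := natCast_ne_zero_of_not_dvd hmp
  have hp0 := prime_cast_ne_zero (p := p)
  have key : (p : ℂ) ^ d * classInner (regPart p (χ : G → ℂ)) (ψ : G → ℂ) =
      (p : ℂ) ^ h * ((n : ℂ) * (m : ℂ)⁻¹) * w := by
    rw [inner_regPart (M := M), hn, hh]
    rw [hm, he]
    push_cast
    rw [pow_add, pow_add]
    field_simp
    rfl
  have hdvd : (p : ℤ) ^ e ∣ N := by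
    refine pow_dvd_of_eq hM (mul_mem (mul_mem (pow_mem (natCast_mem _ p) h) hu) hw) ?_
    rw [← key, ← hN, he, pow_add]
    ring
  obtain ⟨a, rfl⟩ := hdvd
  have ha : (a : ℂ) = (p : ℂ) ^ d * classInner (regPart p (χ : G → ℂ)) (ψ : G → ℂ) := by
    rw [he, pow_add] at hN
    push_cast at hN
    refine mul_left_cancel₀ (pow_ne_zero e hp0) ?_
    rw [← hN]
    ring
  refine ⟨a, _, hu, ?_, mul_ne_zero hn0 (inv_ne_zero hm0), ha, ha.trans key⟩
  rw [mul_inv, inv_inv]
  exact mul_mem (natCast_inv_mem hM hnp) (natCast_mem _ m)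

/-- The central character of the regular element of a height zero character is a unit. -/
theorem omega_regElt_unit (hM : IsPModular p M) (hB : IsPBlock M B) [Fintype G]
    {ψ : IrrCharacter G} (hψ : ψ ∈ B) (h0 : blockHeight p B (ψ : G → ℂ) = 0)
    {χ : IrrCharacter G} (hχ : χ ∈ B) :
    ¬ MemLocalIdeal M (omega (χ : G → ℂ) (regElt M p ψ)) := by
  classical
  intro hmem
  have hp : p.Prime := Fact.out
  set d := blockDefect p B
  have hall : ∀ θ ∈ B, MemLocalIdeal M (omega (θ : G → ℂ) (regElt M p ψ)) := by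
    intro θ hθ
    rw [← red_eq_zero_iff (omega_mem θ.2 (isClassCoeff_regElt ψ))]
    rw [← red_eq_zero_iff (omega_mem χ.2 (isClassCoeff_regElt ψ))] at hmem
    rw [← hmem]
    exact omegaBar_congr θ.2 χ.2 (sameBlock_of_mem hB hθ hχ) (isClassCoeff_regElt ψ)
  have hc : ∀ θ : IrrCharacter G, ∃ k : ℤ, (p : ℂ) * (k : ℂ) =
      (p : ℂ) ^ d * classInner (regPart p (ψ : G → ℂ)) (θ : G → ℂ) := by
    intro θ
    by_cases hθ : θ ∈ B
    · obtain ⟨a, u, hu, -, -, ha, ha'⟩ := exists_regCartan hM hB hθ ψ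
      have hu' := memLocalIdeal_mul_left (mul_mem
        (pow_mem (natCast_mem (locRing M) p) (blockHeight p B (θ : G → ℂ))) hu) (hall θ hθ)
      rw [← ha'] at hu'
      have hpa : (p : ℤ) ∣ a := (intCast_memLocalIdeal_iff hM a).1 hu' 
      obtain ⟨k, rfl⟩ := hpa
      refine ⟨k, ?_⟩
      rw [inner_regPart_conj, ← Complex.conj_natCast p, ← map_pow, ← map_mul, ← ha]
      simp
    · refine ⟨0, ?_⟩
      rw [inner_regPart_eq_zero hM fun hs => hθ (mem_of_sameBlock hB hψ hs)]
      simp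
  choose k hk using hc
  let Φ : G → ℂ := ∑ θ : IrrCharacter G, (k θ : ℂ) • (θ : G → ℂ)
  have hΦg : IsGeneralizedCharacter G Φ := isGeneralized_iff.2 ⟨fun a b => by
      simp only [Φ, Finset.sum_apply, Pi.smul_apply, classFun_of_irr (Subtype.property _) a b],
    fun θ => ⟨k θ, by
      simp only [Φ, classInner_sum_left, classInner_smul_left, irrChar_inner, mul_ite, mul_one,
        mul_zero, Finset.sum_ite_eq', Finset.mem_univ, if_true]⟩⟩
  have hΦ : ∀ x, (p : ℂ) * Φ x = (p : ℂ) ^ d * regPart p (ψ : G → ℂ) x := by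
    intro x
    conv_rhs => rw [classFun_eq_sum (classFun_regPart (p := p) (classFun_of_irr ψ.2))]
    simp only [Φ, Finset.sum_apply, Pi.smul_apply, smul_eq_mul, Finset.mul_sum, ← mul_assoc, hk]
  obtain ⟨S⟩ := (inferInstance : Nonempty (Sylow p G))
  have hv := avg_regular_mem (p := p) (gen_mem_locChar (M := M) hΦg) (x := (1 : G))
    (P := (S : Subgroup G)) S.isPGroup' (fun u _ => by
      rw [Subgroup.mem_centralizer_singleton_iff]; simp) (by
      intro u hu hu1
      have h1 := hΦ (1 * u)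
      rw [one_mul] at h1 ⊢
      rw [regPart, if_pos, mul_zero] at h1
      · exact (mul_eq_zero.1 h1).resolve_left prime_cast_ne_zero
      · obtain ⟨i, hi⟩ := IsPGroup.iff_orderOf.1 S.isPGroup' ⟨u, hu⟩
        rw [Subgroup.orderOf_mk] at hi
        rw [hi]
        refine dvd_pow_self p fun h => hu1 ?_
        rw [h, pow_zero, orderOf_eq_one_iff] at hi
        exact hi)
  rw [Sylow.card_eq_multiplicity] at hv
  obtain ⟨n, hn, hnp⟩ := exists_deg_eq (p := p) ψ.2
  have h1 := hΦ 1
  rw [regPart, if_neg (by simpa using hp.ne_one), hn, degExp_eq_height_add hM hB hψ, h0,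
    add_zero] at h1
  have hd := blockDefect_le (p := p) hM B
  have h2 : (n : ℂ) = (p : ℂ) ^ 1 * ((((p ^ pExp p G : ℕ) : ℂ))⁻¹ * Φ 1) := by
    have hp0 := prime_cast_ne_zero (p := p)
    rw [pow_one]
    push_cast at h1 ⊢
    rw [mul_left_comm, h1, ← mul_assoc ((p : ℂ) ^ d), ← pow_add, Nat.add_sub_cancel' hd,
      ← mul_assoc, inv_mul_cancel₀ (pow_ne_zero _ hp0), one_mul]
  exact hnp ((natCast_memLocalIdeal_iff hM n).1 (h2 ▸ pow_mul_memLocalIdeal hM one_pos hv))

end block

end CfsgLib.Blk
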