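import Cfsg.Agent.Blk.Regular
import Cfsg.Agent.Blk.Defect

/-!
The principal block: kernels, values on `u * v` with `v` in a normal `p'`-subgroup of the
centralizer, transfer of block sums to centralizers of `p`-elements.
-/

set_option autoImplicit false
set_option linter.style.haveILetI false
set_option linter.unusedSectionVars false

namespace CfsgLib.Blk

open Cfsg CfsgLib.Char MonoidAlgebra Finset
open scoped ComplexConjugate

universe u

variable {G : Type u} [Group G] [Finite G] {M : Ideal AlgInt} [M.IsPrime] {p : ℕ} [Fact p.Prime]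

theorem eq_deg_of_sum_eq {χ : G → ℂ} (hχ : IsCharacter G χ) {ι : Type*} (s : Finset ι) (f : ι → G)
    (h : ∑ i ∈ s, χ (f i) = (s.card : ℂ) * χ 1) {i : ι} (hi : i ∈ s) : χ (f i) = χ 1 := by
  rw [char_one_eq hχ] at h ⊢
  set d : ℕ := charDegree χ
  have hle : ∀ j, (χ (f j)).re ≤ (d : ℝ) := fun j =>
    (Complex.re_le_norm _).trans (char_norm_le hχ _)
  have h1 : ∑ j ∈ s, ((d : ℝ) - (χ (f j)).re) = 0 := by
    have := congrArg Complex.re h
    simp at this
    simp [Finset.sum_sub_distrib, this]
  have h2 := (Finset.sum_eq_zero_iff_of_nonneg fun j _ => sub_nonneg.2 (hle j)).1 h1 i hi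
  have hre : (χ (f i)).re = d := by linarith
  have hn := char_norm_le hχ (f i)
  have him : (χ (f i)).im = 0 := by
    have h3 : Complex.normSq (χ (f i)) ≤ (d : ℝ) ^ 2 := by
      rw [Complex.normSq_eq_norm_sq]
      exact pow_le_pow_left₀ (norm_nonneg _) hn 2
    rw [Complex.normSq_apply, hre] at h3
    nlinarith [mul_self_nonneg (χ (f i)).im]
  exact Complex.ext (by simp [hre]) (by simp [him])

theorem regular_of_mem {N : Subgroup G} (hN : ¬ p ∣ Nat.card N) {n : G} (hn : n ∈ N) :
    ¬ p ∣ orderOf n :=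
  fun h => hN (h.trans (Subgroup.orderOf_dvd_natCard N hn))

/-- Characters of the principal block are trivial on normal `p'`-subgroups. -/
theorem principal_apply_one (hM : IsPModular p M) {χ : IrrCharacter G}
    (hχ : χ ∈ principalBlock M G) (N : Subgroup G) [N.Normal] (hN : ¬ p ∣ Nat.card N) {n : G}
    (hn : n ∈ N) : (χ : G → ℂ) n = (χ : G → ℂ) 1 := by
  classical
  haveI := Fintype.ofFinite G
  set a : MonoidAlgebra (locRing M) G := MonoidAlgebra.ofCoeff (Finsupp.ofSupportFinite
    (fun g : G => if g ∈ N then (1 : locRing M) else 0) (Set.toFinite _)) with hadef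
  have hac : ∀ g, a.coeff g = if g ∈ N then (1 : locRing M) else 0 := fun g => rfl
  have ha : IsClassCoeff a := fun g h => by
    rw [hac, hac]
    refine if_congr ⟨fun hh => ?_, fun hh => (inferInstance : N.Normal).conj_mem g hh h⟩ rfl rfl
    simpa [mul_assoc] using (inferInstance : N.Normal).conj_mem _ hh h⁻¹
  set S := Finset.univ.filter (fun g : G => g ∈ N)
  have hS : S.card = Nat.card N := by
    rw [Nat.card_eq_fintype_card, Fintype.card_subtype]
  have hsum : ∀ φ : G → ℂ, omega φ a = (∑ g ∈ S, φ g) / φ 1 := fun φ => by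
    rw [omega_eq, Finset.sum_filter]
    congr 1
    refine Finset.sum_congr rfl fun g _ => ?_
    rw [hac]; split_ifs <;> simp
  have hone : omega (fun _ : G => (1 : ℂ)) a = (Nat.card N : ℂ) := by
    rw [hsum]; simp [hS]
  have haa : a * a = (Nat.card N : locRing M) • a := by
    refine MonoidAlgebra.coeff_injective (Finsupp.ext fun g => ?_)
    rw [coeff_mul_sum, MonoidAlgebra.coeff_smul, Finsupp.smul_apply, smul_eq_mul, hac g]
    rw [Finset.sum_congr rfl (g := fun x => (if x ∈ N then (1 : locRing M) else 0) *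
      (if g ∈ N then 1 else 0)) fun x _ => ?_, ← Finset.sum_mul, Finset.sum_boole, hS]
    rw [hac, hac]
    by_cases hx : x ∈ N
    · rw [if_congr (N.mul_mem_cancel_left (inv_mem hx)) rfl rfl]
    · rw [if_neg hx, zero_mul, zero_mul]
  have hsq : omega (χ : G → ℂ) a * (omega (χ : G → ℂ) a - (Nat.card N : ℂ)) = 0 := by
    have h := congrArg (omega (χ : G → ℂ)) haa
    rw [omega_mul χ.2 ha, omega_smul] at h
    simp only [SubringClass.coe_natCast] at h
    rw [mul_sub, h]; ring
  have hne : omega (χ : G → ℂ) a ≠ 0 := by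
    intro h0
    have h := omegaBar_congr χ.2 (⟨_, isIrr_one⟩ : IrrCharacter G).2
      (sameBlock_of_mem isPBlock_principalBlock hχ one_mem_principalBlock) ha
    rw [omegaBar, h0, red_zero, omegaBar, hone, eq_comm,
      red_eq_zero_iff (natCast_mem _ _), natCast_memLocalIdeal_iff hM] at h
    exact hN h
  have h := sub_eq_zero.1 ((mul_eq_zero.1 hsq).resolve_left hne)
  rw [hsum, div_eq_iff (irr_one_ne_zero χ.2), ← hS] at h
  exact eq_deg_of_sum_eq (isCharacter_of_isIrr χ.2) S id h (by simp [S, hn])

theorem principal_mul_kernel (hM : IsPModular p M) {χ : IrrCharacter G}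
    (hχ : χ ∈ principalBlock M G) (N : Subgroup G) [N.Normal] (hN : ¬ p ∣ Nat.card N) (g : G)
    {n : G} (hn : n ∈ N) : (χ : G → ℂ) (g * n) = (χ : G → ℂ) g := by
  obtain ⟨K, -, hK, hKmul⟩ := exists_kernel (isCharacter_of_isIrr χ.2)
  rw [classFun_mul_comm (classFun_of_irr χ.2) g n]
  exact hKmul n ((hK n).2 (principal_apply_one hM hχ N hN hn)) g

theorem regular_iff_mem_complement (N : Subgroup G) [N.Normal] (hN : ¬ p ∣ Nat.card N)
    (hidx : ∃ k : ℕ, N.index = p ^ k) (x : G) : ¬ p ∣ orderOf x ↔ x ∈ N := by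
  refine ⟨fun hx => ?_, regular_of_mem hN⟩
  obtain ⟨k, hk⟩ := hidx
  have h1 : orderOf (x : G ⧸ N) ∣ p ^ k := hk ▸ orderOf_dvd_natCard _
  have h2 : orderOf (x : G ⧸ N) ∣ orderOf x := orderOf_map_dvd (QuotientGroup.mk' N) x
  have hp : p.Prime := Fact.out
  rw [← QuotientGroup.eq_one_iff, ← orderOf_eq_one_iff]
  exact Nat.eq_one_of_dvd_coprimes (Nat.Coprime.pow_left k (hp.coprime_iff_not_dvd.2 hx)) h1 h2

/-- With a normal `p`-complement the principal block consists of the characters trivial on it. -/
theorem mem_principal_iff_of_complement (hM : IsPModular p M) (N : Subgroup G) [N.Normal]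
    (hN : ¬ p ∣ Nat.card N) (hidx : ∃ k : ℕ, N.index = p ^ k) (χ : IrrCharacter G) :
    χ ∈ principalBlock M G ↔ ∀ n ∈ N, (χ : G → ℂ) n = (χ : G → ℂ) 1 := by
  classical
  haveI := Fintype.ofFinite G
  refine ⟨fun h n hn => principal_apply_one hM h N hN hn, fun h => ?_⟩
  by_contra hne
  have h0 := regular_orth hM (χ := χ) (ψ := ⟨_, isIrr_one⟩) (fun hs => hne (sameBlock_symm hs))
  simp only [map_one, mul_one, regular_iff_mem_complement N hN hidx] at h0
  rw [← Finset.sum_filter,
    Finset.sum_congr rfl (g := fun _ => (χ : G → ℂ) 1) fun x hx => h x (Finset.mem_filter.1 hx).2,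
    Finset.sum_const, nsmul_eq_mul, mul_eq_zero] at h0
  rcases h0 with h0 | h0
  · rw [Nat.cast_eq_zero, Finset.card_eq_zero, Finset.filter_eq_empty_iff] at h0
    exact h0 (Finset.mem_univ 1) N.one_mem
  · exact irr_one_ne_zero χ.2 h0

/-- The degree squares of the principal block, with a normal `p`-complement. -/
theorem sum_principal_deg_sq (hM : IsPModular p M) (N : Subgroup G) [N.Normal]
    (hN : ¬ p ∣ Nat.card N) (hidx : ∃ k : ℕ, N.index = p ^ k)
    [DecidablePred (· ∈ principalBlock M G)] :
    ∑ χ : IrrCharacter G, (if χ ∈ principalBlock M G then (χ : G → ℂ) 1 ^ 2 else 0) =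
      (N.index : ℂ) := by
  classical
  haveI := Fintype.ofFinite G
  set S := Finset.univ.filter (fun g : G => g ∈ N)
  have hS : S.card = Nat.card N := by
    rw [Nat.card_eq_fintype_card, Fintype.card_subtype]
  have key : ∀ χ : IrrCharacter G, ∑ g ∈ S, (χ : G → ℂ) 1 * (χ : G → ℂ) g =
      (Nat.card N : ℂ) * (if χ ∈ principalBlock M G then (χ : G → ℂ) 1 ^ 2 else 0) := by
    intro χ
    split_ifs with h
    · rw [Finset.sum_congr rfl (g := fun _ => (χ : G → ℂ) 1 ^ 2) fun g hg => by
        rw [principal_apply_one hM h N hN (Finset.mem_filter.1 hg).2]; ring,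
        Finset.sum_const, nsmul_eq_mul, hS]
    · have h0 := regular_orth hM (χ := χ) (ψ := ⟨_, isIrr_one⟩) (fun hs => h (sameBlock_symm hs))
      simp only [map_one, mul_one, regular_iff_mem_complement N hN hidx] at h0
      rw [← Finset.mul_sum, Finset.sum_filter, h0, mul_zero, mul_zero]
  have h2 : ∑ χ : IrrCharacter G, ∑ g ∈ S, (χ : G → ℂ) 1 * (χ : G → ℂ) g = (Nat.card G : ℂ) := by
    rw [Finset.sum_comm, Finset.sum_eq_single (1 : G)]
    · rw [← sum_degree_sq (G := G)]
      exact Finset.sum_congr rfl fun χ _ => (sq _).symm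
    · intro g _ hg
      have := second_orth (G := G) g 1
      rw [if_neg (fun hc => hg (isConj_one_left.1 hc))] at this
      rw [← this]
      refine Finset.sum_congr rfl fun χ _ => ?_
      rw [irr_one_eq χ.2, Complex.conj_natCast, mul_comm]
    · exact fun h1 => absurd (by simp [S]) h1
  simp only [key, ← Finset.mul_sum] at h2
  have hN0 : (Nat.card N : ℂ) ≠ 0 := natCard_ne_zero N
  rw [← mul_right_inj' hN0, h2, ← N.card_mul_index, Nat.cast_mul]

section restrict

variable (H : Subgroup G)

/-- The principal block part of the restriction to a subgroup containing the centralizer of the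
`p`-part of the element. -/
theorem principal_restrict (hM : IsPModular p M) {z : G} (hz : ∃ k : ℕ, orderOf z = p ^ k)
    (hH : H = Subgroup.centralizer ({z} : Set G)) {h : H} {x : G} (hx : IsPPart p (h : G) x)
    (hxC : Subgroup.centralizer ({x} : Set G) ≤ H) (χ : IrrCharacter G)
    [Decidable (χ ∈ principalBlock M G)] :
    blockPart (principalBlock M H) (fun k : H => (χ : G → ℂ) k) h =
      if χ ∈ principalBlock M G then (χ : G → ℂ) h else 0 := by
  classical
  haveI := Fintype.ofFinite G
  haveI : Fintype H := Fintype.ofFinite _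
  haveI : Fintype {b : Set (IrrCharacter H) // IsPBlock M b} := Fintype.ofFinite _
  have hf : IsClassFunction H (fun k : H => (χ : G → ℂ) k) := fun a b => classFun_of_irr χ.2 a b
  rw [blockPart_eq_sum hM isPBlock_principalBlock hf]
  have h0 : ∀ b : Set (IrrCharacter H), IsPBlock M b →
      (b = principalBlock M H ↔ χ ∉ principalBlock M G) →
      ∑ k : H, blockCoeff b k * (χ : G → ℂ) (k * h : H) = 0 := by
    intro b hb hiff
    obtain ⟨B, hB⟩ : InducedBlockDefined M H b := by
      subst hH; exact inducedBlockDefined_centralizer hM hz hb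
    simp only [Subgroup.coe_mul]
    refine secondMain hM H hB h.2 hx hxC fun hχB => ?_
    by_cases hbp : b = principalBlock M H
    · exact (hiff.1 hbp) ((thirdMain hM H hB).2 hbp ▸ hχB)
    · have hχ : χ ∈ principalBlock M G := by
        by_contra hχ; exact hbp (hiff.2 hχ)
      exact hbp ((thirdMain hM H hB).1 (eq_of_mem_of_mem hB.2.1 isPBlock_principalBlock hχB hχ))
  split_ifs with hχ
  · have hsplit : (χ : G → ℂ) (h : G) = ∑ b : {b : Set (IrrCharacter H) // IsPBlock M b},
        ∑ k : H, blockCoeff b.1 k * (χ : G → ℂ) (k * h : H) := by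
      rw [Finset.sum_comm]
      simp only [← Finset.sum_mul, sum_blocks_blockCoeff hM]
      simp
    rw [hsplit, Finset.sum_eq_single (⟨_, isPBlock_principalBlock⟩ :
      {b : Set (IrrCharacter H) // IsPBlock M b})]
    · intro b _ hb
      exact h0 b.1 b.2 (iff_of_false (fun e => hb (Subtype.ext e)) (not_not_intro hχ))
    · simp
  · exact h0 _ isPBlock_principalBlock (iff_of_true rfl hχ)

theorem principal_restrict_sum (hM : IsPModular p M) {z : G} (hz : ∃ k : ℕ, orderOf z = p ^ k)
    (hH : H = Subgroup.centralizer ({z} : Set G)) {h : H} {x : G} (hx : IsPPart p (h : G) x)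
    (hxC : Subgroup.centralizer ({x} : Set G) ≤ H) (χ : IrrCharacter G) [Fintype H]
    [DecidablePred (· ∈ principalBlock M H)]
    [Decidable (χ ∈ principalBlock M G)] :
    ∑ ξ : IrrCharacter H, (if ξ ∈ principalBlock M H then
        classInner (fun k : H => (χ : G → ℂ) k) (ξ : H → ℂ) * (ξ : H → ℂ) h else 0) =
      if χ ∈ principalBlock M G then (χ : G → ℂ) h else 0 := by
  classical
  rw [← principal_restrict H hM hz hH hx hxC χ, blockPart, finsum_mem_eq_sum_ite]
  refine Finset.sum_congr rfl fun ξ _ => ?_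
  split_ifs
  · rw [classInner_congr_inst]
  · rfl

end restrict

/-- A principal block character is constant on `u N`, `N` a normal `p'`-subgroup of `C(u)`. -/
theorem principal_apply_mul_eq (hM : IsPModular p M) {u : G} (hu : ∃ k : ℕ, orderOf u = p ^ k)
    (N : Subgroup ↥(Subgroup.centralizer ({u} : Set G))) [N.Normal] (hN : ¬ p ∣ Nat.card N)
    {v : ↥(Subgroup.centralizer ({u} : Set G))} (hv : v ∈ N) {χ : IrrCharacter G}
    (hχ : χ ∈ principalBlock M G) : (χ : G → ℂ) (u * v) = (χ : G → ℂ) u := by
  classical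
  haveI : Fintype ↥(Subgroup.centralizer ({u} : Set G)) := Fintype.ofFinite _
  let w : ↥(Subgroup.centralizer ({u} : Set G)) :=
    ⟨u, Subgroup.mem_centralizer_singleton_iff.2 rfl⟩
  have hcomm : Commute u (v : G) := (Subgroup.mem_centralizer_singleton_iff.1 v.2).symm
  have hreg : ¬ p ∣ orderOf (v : G) := by
    rw [Subgroup.orderOf_coe]; exact regular_of_mem hN hv
  have h1 : IsPPart p ((w * v : ↥(Subgroup.centralizer ({u} : Set G))) : G) u := ⟨v, rfl, hcomm, hu, hreg⟩
  have h2 : IsPPart p (w : G) u :=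
    ⟨1, mul_one _, Commute.one_right _, hu, by simpa using (Fact.out : p.Prime).ne_one⟩
  have e1 := principal_restrict_sum _ hM hu rfl h1 le_rfl χ
  have e2 := principal_restrict_sum _ hM hu rfl h2 le_rfl χ
  rw [if_pos hχ] at e1 e2
  change (χ : G → ℂ) ((w * v : ↥(Subgroup.centralizer ({u} : Set G))) : G) = (χ : G → ℂ) (w : G)
  rw [← e1, ← e2]
  refine Finset.sum_congr rfl fun ξ _ => ?_
  split_ifs with hξ
  · rw [principal_mul_kernel hM hξ N hN w hv]
  · rfl

theorem center_apply_mul {ξ : G → ℂ} (hξ : IsIrrCharacter G ξ) {c : G} (hc : ∀ g, Commute c g)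
    (g : G) : ξ (c * g) = ξ c / ξ 1 * ξ g := by
  obtain ⟨M, hM⟩ := exists_isPModular (q := 2) Nat.prime_two
  haveI := CfsgLib.Blk.IsPModular.isPrime hM
  have ha : IsClassCoeff (single c (1 : locRing M)) :=
    isClassCoeff_iff_commute.2 fun b => by
      induction b using MonoidAlgebra.induction_linear with
      | zero => exact Commute.zero_right _
      | add a b ha hb => exact ha.add_right hb
      | single x r => rw [Commute, SemiconjBy, single_mul_single, single_mul_single, (hc x).eq,
          mul_comm]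
  have h := omega_mul hξ ha (single g (1 : locRing M))
  rw [single_mul_single, omega_single, omega_single, omega_single] at h
  have h1 := irr_one_ne_zero hξ
  simp only [mul_one, OneMemClass.coe_one, one_mul] at h
  field_simp at h ⊢
  linear_combination h

theorem center_apply_norm {ξ : G → ℂ} (hξ : IsIrrCharacter G ξ) {c : G} (hc : ∀ g, Commute c g) :
    ξ c / ξ 1 * conj (ξ c / ξ 1) = 1 := by
  have h := center_apply_mul hξ hc c⁻¹
  rw [mul_inv_cancel, char_conj_eq (isCharacter_of_isIrr hξ)] at h
  have h1 := irr_one_ne_zero hξ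
  rw [map_div₀, irr_one_eq hξ, Complex.conj_natCast, ← irr_one_eq hξ, div_mul_div_comm,
    div_eq_one_iff_eq (mul_ne_zero h1 h1)]
  field_simp at h
  linear_combination -h

/-- Transfer of a principal block sum to the centralizer of a `p`-element. -/
theorem principal_transfer (hM : IsPModular p M) {z : G} (hz : ∃ k : ℕ, orderOf z = p ^ k)
    (H : Subgroup G) (hH : H = Subgroup.centralizer ({z} : Set G)) (y : H)
    (hy : ¬ p ∣ orderOf y)
    [DecidablePred (· ∈ principalBlock M G)] [DecidablePred (· ∈ principalBlock M H)] :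
    ∑ χ : IrrCharacter G, (if χ ∈ principalBlock M G then
        (χ : G → ℂ) (z * y) * conj ((χ : G → ℂ) (z * y)) else 0) =
      ∑ ξ : IrrCharacter H, (if ξ ∈ principalBlock M H then
        (ξ : H → ℂ) y * conj ((ξ : H → ℂ) y) else 0) := by
  classical
  haveI := Fintype.ofFinite G
  haveI : Fintype H := Fintype.ofFinite _
  have hzH : z ∈ H := by rw [hH]; exact Subgroup.mem_centralizer_singleton_iff.2 rfl
  set w : H := ⟨z, hzH⟩ with hw
  have hwc : ∀ k : H, Commute w k := fun k => by
    have hk : (k : G) ∈ Subgroup.centralizer ({z} : Set G) := hH ▸ k.2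
    exact Subtype.ext (Subgroup.mem_centralizer_singleton_iff.1 hk).symm
  set h : H := w * y with hh
  have hyG : ¬ p ∣ orderOf (y : G) := by rwa [Subgroup.orderOf_coe]
  have hpart : IsPPart p (h : G) z :=
    ⟨y, rfl, congrArg Subtype.val (hwc y).eq, hz, hyG⟩
  have hwo : ∃ k : ℕ, orderOf w = p ^ k := by
    obtain ⟨k, hk⟩ := hz; exact ⟨k, by rw [← Subgroup.orderOf_coe]; exact hk⟩
  have hpartH : IsPPart p h w := ⟨y, rfl, hwc y, hwo, hy⟩
  change ∑ χ : IrrCharacter G, (if χ ∈ principalBlock M G then
    (χ : G → ℂ) (h : G) * conj ((χ : G → ℂ) (h : G)) else 0) = _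
  set b := principalBlock M H
  set W : H → ℂ := fun k => ∑ ξ : IrrCharacter H,
    (if ξ ∈ b then (ξ : H → ℂ) h * conj ((ξ : H → ℂ) k) else 0) with hWdef
  have hW0 : ∀ k : H, ¬ IsPPart p k w → W k = 0 := by
    intro k hk
    obtain ⟨x, hx⟩ := exists_isPPart (Fact.out : p.Prime) k
    have hxw : ¬ IsConj w x := by
      intro hc
      obtain ⟨c, hc⟩ := isConj_iff.1 hc
      rw [← (hwc c).eq, mul_inv_cancel_right] at hc
      exact hk (hc ▸ hx)
    have := block_orth hM (isPBlock_principalBlock (G := H)) hpartH hx hxw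
    rw [finsum_mem_eq_sum_ite] at this
    exact this
  have hgen : ∀ (φ : H → ℂ), ∑ ξ : IrrCharacter H,
      (if ξ ∈ b then classInner φ (ξ : H → ℂ) * (ξ : H → ℂ) h else 0) =
        (Nat.card H : ℂ)⁻¹ * ∑ k : H, φ k * W k := by
    intro φ
    simp only [hWdef, Finset.mul_sum]
    rw [Finset.sum_comm]
    refine Finset.sum_congr rfl fun ξ _ => ?_
    split_ifs
    · rw [classInner_def, Finset.mul_sum, Finset.sum_mul]
      exact Finset.sum_congr rfl fun k _ => by ring
    · simp
  have hkey : ∀ k : H, W k * ∑ χ : IrrCharacter G,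
        (χ : G → ℂ) k * conj ((χ : G → ℂ) (h : G)) =
      W k * ∑ η : IrrCharacter H, (η : H → ℂ) k * conj ((η : H → ℂ) h) := by
    intro k
    by_cases hk : IsPPart p k w
    swap
    · rw [hW0 k hk, zero_mul, zero_mul]
    have hkG : IsPPart p (k : G) z := by
      obtain ⟨s, hs1, hs2, -, hs4⟩ := hk
      exact ⟨s, congrArg Subtype.val hs1, congrArg Subtype.val hs2.eq, hz,
        by rwa [Subgroup.orderOf_coe]⟩
    congr 1
    have ho : ∀ g : G, g * (k : G) * g⁻¹ = h → g ∈ H := by
      intro g hg
      have h1 : IsPPart p (h : G) (g * z * g⁻¹) := by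
        rw [← hg]; exact isPPart_conj hkG g
      have h2 := isPPart_unique (Fact.out : p.Prime) h1 hpart
      rw [hH, Subgroup.mem_centralizer_singleton_iff]
      exact mul_inv_eq_iff_eq_mul.1 h2
    rw [second_orth, second_orth]
    have hiff : IsConj (k : G) (h : G) ↔ IsConj k h := by
      refine ⟨fun hc => ?_, fun hc => ?_⟩
      · obtain ⟨g, hg⟩ := isConj_iff.1 hc
        exact isConj_iff.2 ⟨⟨g, ho g hg⟩, Subtype.ext (by simpa using hg)⟩
      · obtain ⟨g, hg⟩ := isConj_iff.1 hc
        exact isConj_iff.2 ⟨g, by rw [← hg]; simp⟩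
    by_cases hc : IsConj k h
    · rw [if_pos (hiff.2 hc), if_pos hc]
      congr 1
      have hle : Subgroup.centralizer ({(k : G)} : Set G) ≤ H := by
        intro g hg
        rw [Subgroup.mem_centralizer_singleton_iff] at hg
        have h1 : IsPPart p (k : G) (g * z * g⁻¹) := by
          have h1 := isPPart_conj hkG g
          rwa [hg, mul_inv_cancel_right] at h1
        have h2 := isPPart_unique (Fact.out : p.Prime) h1 hkG
        rw [hH, Subgroup.mem_centralizer_singleton_iff]
        exact mul_inv_eq_iff_eq_mul.1 h2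
      refine Nat.card_congr ⟨fun g => ⟨⟨g, hle g.2⟩, ?_⟩, fun g => ⟨(g : H), ?_⟩, fun _ => rfl,
        fun _ => rfl⟩
      · rw [Subgroup.mem_centralizer_singleton_iff]
        exact Subtype.ext (by simpa using Subgroup.mem_centralizer_singleton_iff.1 g.2)
      · have hg := congrArg Subtype.val (Subgroup.mem_centralizer_singleton_iff.1 g.2)
        rw [Subgroup.mem_centralizer_singleton_iff]
        simpa using hg
    · rw [if_neg (fun h' => hc (hiff.1 h')), if_neg hc]
  calc ∑ χ : IrrCharacter G, (if χ ∈ principalBlock M G then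
        (χ : G → ℂ) (h : G) * conj ((χ : G → ℂ) (h : G)) else 0)
      = ∑ χ : IrrCharacter G, ((Nat.card H : ℂ)⁻¹ * ∑ k : H, (χ : G → ℂ) k * W k) *
          conj ((χ : G → ℂ) (h : G)) := by
        refine Finset.sum_congr rfl fun χ _ => ?_
        rw [← hgen, principal_restrict_sum H hM hz hH hpart hH.ge χ]
        split_ifs <;> simp
    _ = (Nat.card H : ℂ)⁻¹ * ∑ k : H, W k *
          ∑ χ : IrrCharacter G, (χ : G → ℂ) k * conj ((χ : G → ℂ) (h : G)) := by
        simp only [Finset.mul_sum, Finset.sum_mul]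
        rw [Finset.sum_comm]
        exact Finset.sum_congr rfl fun k _ => Finset.sum_congr rfl fun χ _ => by ring
    _ = (Nat.card H : ℂ)⁻¹ * ∑ k : H, W k *
          ∑ η : IrrCharacter H, (η : H → ℂ) k * conj ((η : H → ℂ) h) := by simp only [hkey]
    _ = ∑ η : IrrCharacter H, ((Nat.card H : ℂ)⁻¹ * ∑ k : H, (η : H → ℂ) k * W k) *
          conj ((η : H → ℂ) h) := by
        simp only [Finset.mul_sum, Finset.sum_mul]
        rw [Finset.sum_comm]
        exact Finset.sum_congr rfl fun k _ => Finset.sum_congr rfl fun χ _ => by ring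
    _ = ∑ η : IrrCharacter H, (if η ∈ b then (η : H → ℂ) h * conj ((η : H → ℂ) h) else 0) := by
        refine Finset.sum_congr rfl fun η _ => ?_
        rw [← hgen, Finset.sum_eq_single η]
        · split_ifs <;> simp [irrChar_inner]
        · intro ξ _ hne
          simp [irrChar_inner, Ne.symm hne]
        · simp
    _ = _ := by
        refine Finset.sum_congr rfl fun η _ => ?_
        rw [hh, center_apply_mul η.2 hwc y, map_mul, mul_mul_mul_comm,
          center_apply_norm η.2 hwc, one_mul]
        congr 1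

/-- Column sums of the principal block at a `p`-element with `p`-nilpotent centralizer. -/
theorem principal_column_sum (hM : IsPModular p M) {z : G} (hz : ∃ k : ℕ, orderOf z = p ^ k)
    (H : Subgroup G) (hH : H = Subgroup.centralizer ({z} : Set G)) (N : Subgroup H) [N.Normal]
    (hN : ¬ p ∣ Nat.card N) (hidx : ∃ k : ℕ, N.index = p ^ k)
    [DecidablePred (· ∈ principalBlock M G)] :
    ∑ χ : IrrCharacter G, (if χ ∈ principalBlock M G then
        (χ : G → ℂ) z * conj ((χ : G → ℂ) z) else 0) = (N.index : ℂ) := by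
  classical
  have h := principal_transfer hM hz H hH 1 (by simpa using (Fact.out : p.Prime).ne_one)
  simp only [OneMemClass.coe_one, mul_one] at h
  rw [h, ← sum_principal_deg_sq hM N hN hidx]
  refine Finset.sum_congr rfl fun ξ _ => ?_
  rw [irr_one_eq ξ.2, Complex.conj_natCast, sq]

end CfsgLib.Blk
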