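import Cfsg.Agent.Blk.Bounds

/-!
Restriction and induction between height zero characters of induced blocks.
-/

set_option autoImplicit false
set_option linter.style.haveILetI false
set_option linter.unusedSectionVars false

namespace CfsgLib.Blk

open Cfsg CfsgLib.Char MonoidAlgebra Finset
open scoped ComplexConjugate

universe u

variable {G : Type u} [Group G] [Finite G] {M : Ideal AlgInt} [M.IsPrime] {p : ℕ} [Fact p.Prime]

theorem omega_regElt_mem (hM : IsPModular p M) {B : Set (IrrCharacter G)} (hB : IsPBlock M B)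
    {η : IrrCharacter G} (hη : η ∈ B) (hpos : 0 < blockHeight p B (η : G → ℂ))
    {χ : IrrCharacter G} (hχ : χ ∈ B) :
    MemLocalIdeal M (omega (χ : G → ℂ) (regElt M p η)) := by
  haveI := Fintype.ofFinite G
  obtain ⟨ψ, hψ, h0⟩ := exists_height_zero hM hB
  obtain ⟨a, u, hu, -, -, ha, ha'⟩ := exists_regCartan hM hB hη ψ
  obtain ⟨b, v, -, hv', hv0, hb, hb'⟩ := exists_regCartan hM hB hψ η
  have hab : (a : ℂ) = (b : ℂ) := by
    have := congrArg conj ha
    rw [map_mul, map_pow, Complex.conj_natCast, ← inner_regPart_conj, ← hb] at this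
    simpa using this
  rw [h0, pow_zero, one_mul, ← hab, ha'] at hb'
  have e : omega (ψ : G → ℂ) (regElt M p η) = (p : ℂ) ^ blockHeight p B (η : G → ℂ) *
      (v⁻¹ * (u * omega (η : G → ℂ) (regElt M p ψ))) := by
    field_simp
    linear_combination -hb'
  have hmem : MemLocalIdeal M (omega (ψ : G → ℂ) (regElt M p η)) :=
    e ▸ pow_mul_memLocalIdeal hM hpos
      (mul_mem hv' (mul_mem hu (omega_mem η.2 (isClassCoeff_regElt ψ))))
  rw [← red_eq_zero_iff (omega_mem ψ.2 (isClassCoeff_regElt η))] at hmem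
  rw [← red_eq_zero_iff (omega_mem χ.2 (isClassCoeff_regElt η)), ← hmem]
  exact omegaBar_congr χ.2 ψ.2 (sameBlock_of_mem hB hχ hψ) (isClassCoeff_regElt η)

theorem omega_regElt_eq_zero (hM : IsPModular p M) {χ η : IrrCharacter G}
    (h : ¬ SameBlock M (χ : G → ℂ) (η : G → ℂ)) :
    omega (χ : G → ℂ) (regElt M p η) = 0 := by
  haveI := Fintype.ofFinite G
  have h1 := inner_regPart_eq_zero (p := p) hM h
  rw [inner_regPart (M := M), mul_eq_zero, mul_eq_zero] at h1
  exact (h1.resolve_left (inv_ne_zero (natCard_ne_zero G))).resolve_left (irr_one_ne_zero χ.2)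

/-- The central character of the restricted regular element. -/
theorem omega_resA_regElt (H : Subgroup G) [Fintype H] (χ : IrrCharacter G) {ξ : H → ℂ}
    (m : IrrCharacter H → ℂ)
    (hm : ∀ h : H, (χ : G → ℂ) h = ∑ η : IrrCharacter H, m η * (η : H → ℂ) h) :
    omega ξ (resA H (regElt M p χ)) =
      ∑ η : IrrCharacter H, conj (m η) * omega ξ (regElt M p η) := by
  haveI := Fintype.ofFinite G
  simp only [omega_eq, mul_div_assoc', ← Finset.sum_div, Finset.mul_sum]
  rw [Finset.sum_comm]
  refine congrArg (· / _) (Finset.sum_congr rfl fun h _ => ?_)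
  rw [coeff_resA, coeff_regElt, Subgroup.orderOf_coe, hm]
  simp only [coeff_regElt, map_sum, map_mul]
  split_ifs <;> simp [Finset.sum_mul, mul_assoc]

/-- The restriction of a height zero character has, in every inducing block, a height zero
constituent with multiplicity prime to `p`. -/
theorem exists_res_height_zero (hM : IsPModular p M) [Fintype G] (H : Subgroup G) [Fintype H]
    {b : Set (IrrCharacter H)} {B : Set (IrrCharacter G)} (hind : IsInducedBlock M H b B)
    {χ : IrrCharacter G} (hχ : χ ∈ B) (h0 : blockHeight p B (χ : G → ℂ) = 0) :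
    ∃ η ∈ b, blockHeight p b (η : H → ℂ) = 0 ∧
      ∃ n : ℕ, classInner (fun h : H => (χ : G → ℂ) h) (η : H → ℂ) = (n : ℂ) ∧ ¬ p ∣ n := by
  classical
  obtain ⟨hb, hB, hω⟩ := (isInducedBlock_iff H).1 hind
  obtain ⟨ξ, hξ⟩ := isPBlock_nonempty hb
  have hres := isCharacter_restrict H (isCharacter_of_isIrr χ.2)
  choose n hn using fun η : IrrCharacter H => inner_char_irr hres η.2
  by_contra! hno
  refine omega_regElt_unit (p := p) hM hB hχ h0 hχ ?_
  rw [← red_eq_zero_iff (omega_mem χ.2 (isClassCoeff_regElt (p := p) χ))]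
  have h1 := hω ξ hξ χ hχ _ (isClassCoeff_regElt (p := p) χ)
  rw [omegaBar, omegaBar] at h1
  rw [← h1, red_eq_zero_iff (omega_mem ξ.2 (isClassCoeff_resA H (isClassCoeff_regElt (p := p) χ))),
    omega_resA_regElt H χ (fun η => (n η : ℂ)) fun h => by
      rw [congrFun (classFun_eq_sum (classFun_of_char hres)) h]
      simp [hn]]
  refine memLocalIdeal_sum _ _ fun η _ => ?_
  rw [Complex.conj_natCast]
  by_cases hη : η ∈ b
  · rcases Nat.eq_zero_or_pos (blockHeight p b (η : H → ℂ)) with h | h
    · exact memLocalIdeal_mul_right ((natCast_memLocalIdeal_iff hM _).2 (hno η hη h _ (hn η)))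
        (omega_mem ξ.2 (isClassCoeff_regElt η))
    · exact memLocalIdeal_mul_left (natCast_mem _ _) (omega_regElt_mem hM hb hη h hξ)
  · rw [omega_regElt_eq_zero hM fun hs => hη (mem_of_sameBlock hb hξ hs), mul_zero]
    exact memLocalIdeal_zero

/-- The induced of a height zero character has, in an induced block of the same defect, a height
zero constituent with multiplicity prime to `p`. -/
theorem exists_ind_height_zero (hM : IsPModular p M) [Fintype G] (H : Subgroup G)
    {b : Set (IrrCharacter H)} {B : Set (IrrCharacter G)} (hind : IsInducedBlock M H b B)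
    (hdef : blockDefect p b = blockDefect p B) {ζ : IrrCharacter H} (hζ : ζ ∈ b)
    (hζ0 : blockHeight p b (ζ : H → ℂ) = 0) :
    ∃ χ ∈ B, blockHeight p B (χ : G → ℂ) = 0 ∧
      ∃ a : ℕ, classInner (indFun H (ζ : H → ℂ)) (χ : G → ℂ) = (a : ℂ) ∧ ¬ p ∣ a := by
  classical
  haveI := Fintype.ofFinite H
  obtain ⟨hb, hB, hω⟩ := (isInducedBlock_iff H).1 hind
  obtain ⟨θ, hθ, h0⟩ := exists_height_zero hM hB
  have hind' := isCharacter_indFun H (isCharacter_of_isIrr ζ.2)
  choose m hm using fun χ : IrrCharacter G => inner_char_irr hind' χ.2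
  by_contra! hno
  -- the common value `p^d/|H| ∑ ζ conj θ` on the regular elements of `H`
  have hsum : (p : ℂ) ^ blockDefect p B *
      classInner (regPart p (ζ : H → ℂ)) (fun h : H => (θ : G → ℂ) h) =
      ∑ χ : IrrCharacter G, (m χ : ℂ) *
        ((p : ℂ) ^ blockDefect p B * classInner (regPart p (χ : G → ℂ)) (θ : G → ℂ)) := by
    have h1 : classInner (regPart p (ζ : H → ℂ)) (fun h : H => (θ : G → ℂ) h) =
        classInner (ζ : H → ℂ) (fun h : H => regPart p (θ : G → ℂ) h) := by
      simp only [classInner_def, regPart, Subgroup.orderOf_coe]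
      refine congrArg _ (Finset.sum_congr rfl fun h _ => ?_)
      split_ifs <;> simp
    rw [h1, ← frobenius H _ (classFun_regPart (classFun_of_irr θ.2)),
      classFun_eq_sum (indFun_classFun H (ζ : H → ℂ)), classInner_sum_left, Finset.mul_sum]
    refine Finset.sum_congr rfl fun χ _ => ?_
    rw [classInner_smul_left, hm, ← classInner_conj (θ : G → ℂ)]
    have : classInner (χ : G → ℂ) (regPart p (θ : G → ℂ)) =
        classInner (regPart p (χ : G → ℂ)) (θ : G → ℂ) := by
      simp only [classInner_def, regPart]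
      refine congrArg _ (Finset.sum_congr rfl fun x _ => ?_)
      split_ifs <;> simp
    rw [classInner_conj, this]
    ring
  have hR : MemLocalIdeal M ((p : ℂ) ^ blockDefect p B *
      classInner (regPart p (ζ : H → ℂ)) (fun h : H => (θ : G → ℂ) h)) := by
    rw [hsum]
    refine memLocalIdeal_sum _ _ fun χ _ => ?_
    by_cases hχ : χ ∈ B
    · obtain ⟨a, u, hu, -, -, ha, ha'⟩ := exists_regCartan hM hB hχ θ
      rw [← ha, ha']
      rcases Nat.eq_zero_or_pos (blockHeight p B (χ : G → ℂ)) with h | h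
      · exact memLocalIdeal_mul_right ((natCast_memLocalIdeal_iff hM _).2 (hno χ hχ h _ (hm χ)))
          (mul_mem (mul_mem (pow_mem (natCast_mem _ p) _) hu)
            (omega_mem χ.2 (isClassCoeff_regElt θ)))
      · rw [mul_assoc ((p : ℂ) ^ blockHeight p B (χ : G → ℂ))]
        exact memLocalIdeal_mul_left (natCast_mem _ _)
          (pow_mul_memLocalIdeal hM h (mul_mem hu (omega_mem χ.2 (isClassCoeff_regElt θ))))
    · rw [inner_regPart_eq_zero hM fun hs => hχ (mem_of_sameBlock hB hθ (sameBlock_symm hs)),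
        mul_zero, mul_zero]
      exact memLocalIdeal_zero
  -- it equals a unit times the central character of the restricted element
  obtain ⟨n, hn, hnp⟩ := exists_deg_eq (p := p) ζ.2
  obtain ⟨c, hc, hcp⟩ := exists_card_eq (p := p) (G := H)
  have hhgt := degExp_eq_height_add hM hb hζ
  rw [hζ0, add_zero] at hhgt
  obtain ⟨e, he⟩ := Nat.exists_eq_add_of_le (blockDefect_le (p := p) hM b)
  rw [he, Nat.add_sub_cancel_left] at hhgt
  have key : (p : ℂ) ^ blockDefect p B *
      classInner (regPart p (ζ : H → ℂ)) (fun h : H => (θ : G → ℂ) h) =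
      ((n : ℂ) * (c : ℂ)⁻¹) * omega (ζ : H → ℂ) (resA H (regElt M p θ)) := by
    rw [omega_eq, classInner_def, hn, hhgt, hc, he, ← hdef]
    have hn0 := natCast_ne_zero_of_not_dvd hnp
    have hc0 := natCast_ne_zero_of_not_dvd hcp
    have hp0 := prime_cast_ne_zero (p := p)
    have e1 : ∀ h : H, ((resA H (regElt M p θ)).coeff h : ℂ) * (ζ : H → ℂ) h =
        regPart p (ζ : H → ℂ) h * conj ((θ : G → ℂ) h) := by
      intro h
      rw [coeff_resA, coeff_regElt, regPart, Subgroup.orderOf_coe]
      split_ifs <;> simp [mul_comm]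
    simp only [e1]
    push_cast
    rw [pow_add]
    field_simp
  rw [key] at hR
  have hu' : ((n : ℂ) * (c : ℂ)⁻¹)⁻¹ ∈ locRing M := by
    rw [mul_inv, inv_inv]
    exact mul_mem (natCast_inv_mem hM hnp) (natCast_mem _ c)
  have hmem := memLocalIdeal_mul_left hu' hR
  rw [← mul_assoc, inv_mul_cancel₀ (mul_ne_zero (natCast_ne_zero_of_not_dvd hnp)
    (inv_ne_zero (natCast_ne_zero_of_not_dvd hcp))), one_mul] at hmem
  refine omega_regElt_unit hM hB hθ h0 hθ ?_
  rw [← red_eq_zero_iff (omega_mem θ.2 (isClassCoeff_regElt θ))]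
  rw [← red_eq_zero_iff (omega_mem ζ.2 (isClassCoeff_resA H (isClassCoeff_regElt θ)))] at hmem
  rw [← hmem]
  exact (hω ζ hζ θ hθ _ (isClassCoeff_regElt (p := p) θ)).symm

end CfsgLib.Blk
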