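import Cfsg.Agent.Blk.Sections
import Cfsg.Agent.Blk.HeightZero
import Cfsg.Prelude.Def_BlockRank
import Mathlib.Analysis.InnerProductSpace.PiL2
import Mathlib.RingTheory.Polynomial.Resultant.Basic
import Mathlib.RingTheory.Polynomial.Cyclotomic.Roots
import Mathlib.Analysis.SpecialFunctions.Log.Basic

/-!
The contributions of a major subsection `(y, b)` to a block `B` of height zero characters, and the
inequality `k(B)^2 ≤ p^(2d) l(b)`.
-/

set_option autoImplicit false
set_option linter.style.haveILetI false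
set_option linter.unusedSectionVars false

namespace CfsgLib.Blk

open Cfsg CfsgLib.Char MonoidAlgebra Finset
open scoped ComplexConjugate

universe u

variable {G : Type u} [Group G] [Finite G] {M : Ideal AlgInt} [M.IsPrime] {p : ℕ} [Fact p.Prime]

/-- A central element acts in an irreducible character by a scalar root of unity. -/
theorem exists_central_scalar {C : Type u} [Group C] [Finite C] (η : IrrCharacter C) {y : C}
    (hy : ∀ x, Commute y x) :
    ∃ z : ℂ, z ^ orderOf y = 1 ∧
      ∀ (j : ℕ) (x : C), (η : C → ℂ) (y ^ j * x) = z ^ j * (η : C → ℂ) x := by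
  haveI := Fintype.ofFinite C
  obtain ⟨η, n, ρ, hirr, rfl⟩ := η
  haveI := hirr
  obtain ⟨c, hc⟩ := schur_scalar ρ (ρ y) fun g v => by
    have := congrArg ρ (hy g).eq
    rw [map_mul, map_mul] at this
    exact LinearMap.congr_fun this v
  have key : ∀ (j : ℕ) (x : C), ρ.character (y ^ j * x) = c ^ j * ρ.character x := by
    intro j x
    simp only [Representation.character, map_mul, map_pow, hc, smul_pow, ← Module.End.one_eq_id,
      one_pow, smul_mul_assoc, one_mul, map_smul, smul_eq_mul]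
  refine ⟨c, ?_, key⟩
  have h := key (orderOf y) 1
  rw [pow_orderOf_eq_one, one_mul] at h
  exact (mul_eq_right₀ (irr_one_ne_zero ⟨n, ρ, hirr, rfl⟩)).1 h.symm

theorem red_intCast (e : ℤ) : red M (e : ℂ) = (e : Res M) := by
  rw [red_of_mem (intCast_mem _ e)]
  exact map_intCast (IsLocalRing.residue (locRing M)) e

/-- The ratio `p^d θ(1)/|H|` lies in the local ring. -/
theorem exists_degreeRatio {H : Type u} [Group H] [Finite H] {b : Set (IrrCharacter H)}
    (hM : IsPModular p M) (hb : IsPBlock M b) {θ : IrrCharacter H} (hθ : θ ∈ b) :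
    ∃ u ∈ locRing M,
      u = (p : ℂ) ^ blockDefect p b * (Nat.card H : ℂ)⁻¹ * (θ : H → ℂ) 1 := by
  obtain ⟨n, hn, hnp⟩ := exists_deg_eq (p := p) θ.2
  obtain ⟨m, hm, hmp⟩ := exists_card_eq (p := p) (G := H)
  have hh := degExp_eq_height_add hM hb hθ
  obtain ⟨e, he⟩ := Nat.exists_eq_add_of_le (blockDefect_le (p := p) hM b)
  rw [he, Nat.add_sub_cancel_left] at hh
  refine ⟨(p : ℂ) ^ blockHeight p b (θ : H → ℂ) * ((n : ℂ) * (m : ℂ)⁻¹),
    mul_mem (pow_mem (natCast_mem _ p) _) (mul_mem (natCast_mem _ n) (natCast_inv_mem hM hmp)), ?_⟩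
  rw [hn, hh, hm, he]
  have hm0 := natCast_ne_zero_of_not_dvd hmp
  have hp0 := prime_cast_ne_zero (p := p)
  push_cast
  rw [pow_add, pow_add]
  field_simp

/-- Modulo `M` a root of unity of `p`-power order evaluates a polynomial at `1`. -/
theorem red_aeval_root (hM : IsPModular p M) {ζ : ℂ} {k : ℕ} (hζ : ζ ^ p ^ k = 1)
    (P : Polynomial ℤ) : red M (Polynomial.aeval ζ P) = ((P.eval (1 : ℤ) : ℤ) : Res M) := by
  have hint : IsIntegral ℤ ζ :=
    IsIntegral.of_pow (pow_pos (Fact.out : p.Prime).pos k) (hζ ▸ isIntegral_one)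
  set x : locRing M := ⟨ζ, integral_mem hint⟩
  have hx : IsLocalRing.residue (locRing M) x = 1 := by
    haveI := charP_res (M := M) hM
    have h1 : IsLocalRing.residue (locRing M) x ^ p ^ k = 1 := by
      rw [← map_pow, show x ^ p ^ k = 1 from Subtype.ext (by simpa using hζ), map_one]
    have h2 : (IsLocalRing.residue (locRing M) x - 1) ^ p ^ k = 0 := by
      rw [sub_pow_char_pow, h1, one_pow, sub_self]
    exact sub_eq_zero.1 (pow_eq_zero_iff (pow_pos (Fact.out : p.Prime).pos k).ne' |>.1 h2)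
  have h := Polynomial.aeval_algHom_apply ((locRing M).subtype.toIntAlgHom) x P
  rw [show ((locRing M).subtype.toIntAlgHom x : ℂ) = ζ from rfl] at h
  rw [h, show (locRing M).subtype.toIntAlgHom (Polynomial.aeval x P) =
    ((Polynomial.aeval x P : locRing M) : ℂ) from rfl, red_coe]
  rw [Polynomial.aeval_def, Polynomial.hom_eval₂, hx]
  simp [Polynomial.eval₂_at_one]

variable {C : Subgroup G}

/-- The sum of the squared inner products with the translated characters is bounded. -/
theorem section_bessel [Fintype G] [Fintype C] {y : G} (hC : Subgroup.centralizer ({y} : Set G) = C)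
    (hy : ∃ k : ℕ, orderOf y = p ^ k) (hyC : y ∈ C) {g : C → ℂ} (hg : IsClassFunction C g)
    (hsing : ∀ x : C, p ∣ orderOf x → g x = 0) (S : Finset (IrrCharacter G)) :
    ∑ χ ∈ S, ‖classInner g (fun x : C => (χ : G → ℂ) (y * (x : G)))‖ ^ 2 ≤ (classInner g g).re := by
  classical
  have hcomm : ∀ x : C, Commute y (x : G) := by
    rintro ⟨x, hx⟩
    rw [← hC, Subgroup.mem_centralizer_singleton_iff] at hx
    exact hx.symm
  set g' : C → ℂ := fun c => g ((⟨y, hyC⟩ : C)⁻¹ * c) with hg'
  have hpart : ∀ c : C, g' c ≠ 0 → ppOf p (c : G) = y := by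
    intro c hc
    refine ppOf_eq ⟨y⁻¹ * (c : G), mul_inv_cancel_left _ _, ?_, hy, ?_⟩
    · exact (Commute.refl y).inv_right.mul_right (hcomm c)
    · intro hd
      refine hc (hsing _ ?_)
      rwa [← Subgroup.orderOf_coe]
  have hind : ∀ c : C, g' c ≠ 0 → indFun C g' (c : G) = g' c := by
    intro c hc
    rw [indFun_apply, sum_subgroup C]
    · have : ∀ x : C, extendByZero C g' ((x : G)⁻¹ * (c : G) * x) = g' c := by
        intro x
        rw [show (x : G)⁻¹ * (c : G) * x = ((x⁻¹ * c * x : C) : G) by push_cast; rfl,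
          extendByZero_mem]
        have hx : Commute (⟨y, hyC⟩ : C)⁻¹ x⁻¹ := by
          refine (Commute.inv_inv ?_)
          exact Subtype.ext (hcomm x)
        simp only [hg']
        rw [show (⟨y, hyC⟩ : C)⁻¹ * (x⁻¹ * c * x) = x⁻¹ * ((⟨y, hyC⟩ : C)⁻¹ * c) * x by
          rw [← mul_assoc, ← mul_assoc, hx.eq]; group]
        have := hg ((⟨y, hyC⟩ : C)⁻¹ * c) x⁻¹
        rwa [inv_inv] at this
      simp only [this, Finset.sum_const, Finset.card_univ, nsmul_eq_mul]
      rw [← Nat.card_eq_fintype_card, inv_mul_cancel_left₀ (natCard_ne_zero C)]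
    · intro x hx
      by_cases h : x⁻¹ * (c : G) * x ∈ C
      · rw [extendByZero_mem' _ _ h]
        by_contra hne
        refine hx ?_
        have h1 := hpart ⟨_, h⟩ hne
        have h2 := ppOf_conj (p := p) (c : G) x⁻¹
        rw [inv_inv] at h2
        simp only [h2, hpart c hc] at h1
        rw [← hC, Subgroup.mem_centralizer_singleton_iff]
        conv_lhs => rw [← h1]
        group
      · exact extendByZero_not_mem _ _ h
  set f := indFun C g' with hf
  have hff : classInner f f = classInner g g := by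
    rw [hf, frobenius C g' (indFun_classFun C g'), classInner_def, classInner_def]
    refine congrArg _ ?_
    calc ∑ c : C, g' c * conj (indFun C g' (c : G))
        = ∑ c : C, g' c * conj (g' c) := by
          refine Finset.sum_congr rfl fun c _ => ?_
          by_cases hc : g' c = 0
          · simp [hc]
          · rw [← hf, hind c hc]
      _ = _ := Fintype.sum_equiv (Equiv.mulLeft (⟨y, hyC⟩ : C)⁻¹) _ _ fun c => rfl
  have hinner : ∀ χ : IrrCharacter G, classInner f (χ : G → ℂ) =
      classInner g (fun x : C => (χ : G → ℂ) (y * (x : G))) := by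
    intro χ
    rw [hf, frobenius C g' (classFun_of_irr χ.2), classInner_def, classInner_def]
    refine congrArg _ (Fintype.sum_equiv (Equiv.mulLeft (⟨y, hyC⟩ : C)⁻¹) _ _ fun c => ?_)
    simp [hg']
  have hpars : classInner f f =
      ∑ χ : IrrCharacter G, ((‖classInner f (χ : G → ℂ)‖ ^ 2 : ℝ) : ℂ) := by
    nth_rewrite 1 [classFun_eq_sum (show IsClassFunction G f from indFun_classFun C g')]
    rw [classInner_sum_left]
    refine Finset.sum_congr rfl fun χ _ => ?_
    rw [classInner_smul_left, ← classInner_conj f, Complex.mul_conj, Complex.normSq_eq_norm_sq]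
  rw [← hff, hpars, Complex.re_sum]
  simp only [Complex.ofReal_re, hinner]
  exact Finset.sum_le_sum_of_subset_of_nonneg (Finset.subset_univ S) fun _ _ _ => sq_nonneg _

/-- A frame bound gives a bound on the sum of the squared norms. -/
theorem sum_norm_sq_le_finrank {E : Type*} [NormedAddCommGroup E] [InnerProductSpace ℂ E]
    [FiniteDimensional ℂ E] {ι : Type*} (S : Finset ι) (v : ι → E)
    (h : ∀ w : E, ∑ i ∈ S, ‖inner ℂ w (v i)‖ ^ 2 ≤ ‖w‖ ^ 2) :
    ∑ i ∈ S, ‖v i‖ ^ 2 ≤ (Module.finrank ℂ E : ℝ) := by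
  let e := stdOrthonormalBasis ℂ E
  calc ∑ i ∈ S, ‖v i‖ ^ 2 = ∑ i ∈ S, ∑ j, ‖inner ℂ (e j) (v i)‖ ^ 2 :=
        Finset.sum_congr rfl fun i _ => (e.sum_sq_norm_inner_right (v i)).symm
    _ = ∑ j, ∑ i ∈ S, ‖inner ℂ (e j) (v i)‖ ^ 2 := Finset.sum_comm
    _ ≤ ∑ j, ‖e j‖ ^ 2 := Finset.sum_le_sum fun j _ => h (e j)
    _ = _ := by simp

/-- If the product is at least `1` then so is the mean. -/
theorem card_le_sum_of_one_le_prod {ι : Type*} (s : Finset ι) (x : ι → ℝ) (hx : ∀ i ∈ s, 0 < x i)
    (h : 1 ≤ ∏ i ∈ s, x i) : (s.card : ℝ) ≤ ∑ i ∈ s, x i := by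
  have h1 : ∑ i ∈ s, Real.log (x i) ≤ ∑ i ∈ s, (x i - 1) :=
    Finset.sum_le_sum fun i hi => Real.log_le_sub_one_of_pos (hx i hi)
  rw [← Real.log_prod (fun i hi => (hx i hi).ne'), Finset.sum_sub_distrib] at h1
  simp only [Finset.sum_const, nsmul_eq_mul, mul_one] at h1
  linarith [Real.log_nonneg h]

/-- The mean of the squared conjugates of a nonvanishing cyclotomic integer. -/
theorem card_le_sum_primitive {N : ℕ} (hN : N ≠ 0) (P : Polynomial ℤ)
    (hne : ∀ ζ ∈ primitiveRoots N ℂ, Polynomial.aeval ζ P ≠ 0) :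
    ((primitiveRoots N ℂ).card : ℝ) ≤
      ∑ ζ ∈ primitiveRoots N ℂ, ‖Polynomial.aeval ζ P‖ ^ 2 := by
  classical
  haveI : NeZero (N : ℂ) := ⟨Nat.cast_ne_zero.2 hN⟩
  refine card_le_sum_of_one_le_prod _ _ (fun ζ hζ => by
    have := norm_pos_iff.2 (hne ζ hζ); positivity) ?_
  have key := Polynomial.resultant_map_map (Polynomial.cyclotomic N ℤ) P
    (Polynomial.cyclotomic N ℤ).natDegree P.natDegree (Int.castRingHom ℂ)
  have hdeg : ((Polynomial.cyclotomic N ℤ).map (Int.castRingHom ℂ)).natDegree =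
      (Polynomial.cyclotomic N ℤ).natDegree :=
    (Polynomial.cyclotomic.monic N ℤ).natDegree_map _
  rw [← hdeg, Polynomial.map_cyclotomic, Polynomial.resultant_eq_prod_eval _ _ _
    Polynomial.natDegree_map_le (IsAlgClosed.splits _)] at key
  rw [(Polynomial.cyclotomic.monic N ℂ).leadingCoeff, one_pow, one_mul,
    Polynomial.cyclotomic.roots_eq_primitiveRoots_val] at key
  have key' : ∏ ζ ∈ primitiveRoots N ℂ, Polynomial.aeval ζ P =
      (((Polynomial.cyclotomic N ℤ).resultant P (Polynomial.cyclotomic N ℂ).natDegree P.natDegree :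
        ℤ) : ℂ) := by
    refine Eq.trans ?_ key
    rw [Finset.prod_eq_multiset_prod]
    refine congrArg Multiset.prod (Multiset.map_congr rfl fun ζ _ => ?_)
    simp [Polynomial.aeval_def, Polynomial.eval_map, algebraMap_int_eq]
  rw [Finset.prod_pow, ← norm_prod, key', Complex.norm_intCast, sq_abs]
  have h0 : ∏ ζ ∈ primitiveRoots N ℂ, Polynomial.aeval ζ P ≠ 0 := Finset.prod_ne_zero_iff.2 hne
  rw [key', Int.cast_ne_zero] at h0
  have h1 := sq_pos_of_ne_zero h0
  exact_mod_cast Int.add_one_le_iff.2 h1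

variable [Fintype C] (b : Set (IrrCharacter C))

open scoped Classical in
/-- The `b`-part of the restriction of `χ`, translated by a central element acting by `z`. -/
noncomputable def secVec (p : ℕ) (n : IrrCharacter C → ℕ) (z : IrrCharacter C → ℂ) : C → ℂ :=
  ∑ η : IrrCharacter C, (if η ∈ b then (n η : ℂ) * z η else 0) • regPart p (η : C → ℂ)

theorem secVec_mem_span (n : IrrCharacter C → ℕ) (z : IrrCharacter C → ℂ) :
    secVec b p n z ∈
      Submodule.span ℂ ((fun η : IrrCharacter C => regPart p (η : C → ℂ)) '' b) := by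
  classical
  refine Submodule.sum_mem _ fun η _ => ?_
  split_ifs with h
  · exact Submodule.smul_mem _ _ (Submodule.subset_span ⟨η, h, rfl⟩)
  · simp

theorem regPart_span_facts (hM : IsPModular p M) (hb : IsPBlock M b) {g : C → ℂ}
    (hg : g ∈ Submodule.span ℂ ((fun η : IrrCharacter C => regPart p (η : C → ℂ)) '' b)) :
    IsClassFunction C g ∧ (∀ x : C, p ∣ orderOf x → g x = 0) ∧
      ∀ η : IrrCharacter C, η ∉ b → classInner g (η : C → ℂ) = 0 := by
  induction hg using Submodule.span_induction with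
  | mem x hx =>
    obtain ⟨θ, hθ, rfl⟩ := hx
    exact ⟨classFun_regPart (classFun_of_irr θ.2), fun x hx => by simp [regPart, hx],
      fun η hη => inner_regPart_eq_zero hM fun h => hη (mem_of_sameBlock hb hθ h)⟩
  | zero => exact ⟨fun _ _ => rfl, fun _ _ => rfl, fun _ _ => classInner_zero_left _⟩
  | add a a' _ _ h h' =>
    exact ⟨fun x t => by simp [h.1 x t, h'.1 x t], fun x hx => by simp [h.2.1 x hx, h'.2.1 x hx],
      fun η hη => by rw [classInner_add_left, h.2.2 η hη, h'.2.2 η hη, add_zero]⟩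
  | smul c a _ h =>
    exact ⟨fun x t => by simp [h.1 x t], fun x hx => by simp [h.2.1 x hx],
      fun η hη => by rw [classInner_smul_left, h.2.2 η hη, mul_zero]⟩

variable [Fintype G]

/-- The contributions of a subsection have total squared norm at most the regular rank. -/
theorem contributions_bound (hM : IsPModular p M) (hb : IsPBlock M b) {y : G}
    (hC : Subgroup.centralizer ({y} : Set G) = C) (hy : ∃ k : ℕ, orderOf y = p ^ k) (hyC : y ∈ C)
    (n : IrrCharacter G → IrrCharacter C → ℕ)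
    (hn : ∀ χ : IrrCharacter G, ∀ x : C, (χ : G → ℂ) x = ∑ η, (n χ η : ℂ) * (η : C → ℂ) x)
    (z : IrrCharacter C → ℂ)
    (hz : ∀ (η : IrrCharacter C) (x : C),
      (η : C → ℂ) ((⟨y, hyC⟩ : C) * x) = z η * (η : C → ℂ) x)
    (S : Finset (IrrCharacter G)) :
    ∑ χ ∈ S, ∑ χ' ∈ S, ‖classInner (secVec b p (n χ) z) (secVec b p (n χ') z)‖ ^ 2 ≤
      (blockRank p b : ℝ) := by
  classical
  have hrank : blockRank p b = Module.finrank ℂ
      (Submodule.span ℂ ((fun η : IrrCharacter C => regPart p (η : C → ℂ)) '' b)) := by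
    rw [blockRank]
    have e : (fun η : IrrCharacter C => pRegularPart p (η : C → ℂ)) =
        fun η : IrrCharacter C => regPart p (η : C → ℂ) := by
      funext η x
      by_cases h : p ∣ orderOf x <;> simp [pRegularPart, IsPRegular, regPart, h]
    rw [e]
  set W := Submodule.span ℂ ((fun η : IrrCharacter C => regPart p (η : C → ℂ)) '' b) with hW
  -- the Bessel inequality on `W`
  have hbes : ∀ g ∈ W, ∑ χ ∈ S, ‖classInner g (secVec b p (n χ) z)‖ ^ 2 ≤ (classInner g g).re := by
    intro g hg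
    obtain ⟨hcl, hsing, horth⟩ := regPart_span_facts b hM hb hg
    refine le_trans (le_of_eq (Finset.sum_congr rfl fun χ _ => ?_))
      (section_bessel hC hy hyC hcl hsing S)
    have e : (fun x : C => (χ : G → ℂ) (y * (x : G))) =
        ∑ η : IrrCharacter C, ((n χ η : ℂ) * z η) • (η : C → ℂ) := by
      funext x
      have := hn χ ((⟨y, hyC⟩ : C) * x)
      rw [Subgroup.coe_mul] at this
      rw [this, Finset.sum_apply]
      exact Finset.sum_congr rfl fun η _ => by rw [hz]; simp [mul_assoc]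
    congr 2
    rw [e, secVec, classInner_sum_right, classInner_sum_right]
    refine Finset.sum_congr rfl fun η _ => ?_
    rw [classInner_smul_right, classInner_smul_right]
    split_ifs with h
    · congr 1
      simp only [classInner_def, regPart]
      refine congrArg _ (Finset.sum_congr rfl fun x _ => ?_)
      split_ifs with h' <;> simp [hsing x, h']
    · simp [horth η h]
  -- the Euclidean model
  set s : ℝ := (Real.sqrt (Nat.card C))⁻¹ with hs
  let φ : (C → ℂ) →ₗ[ℂ] EuclideanSpace ℂ C :=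
    (WithLp.linearEquiv 2 ℂ (C → ℂ)).symm.toLinearMap.comp ((s : ℂ) • LinearMap.id)
  have hφ : ∀ f f' : C → ℂ, inner ℂ (φ f) (φ f') = classInner f' f := by
    intro f f'
    have hss : ((s : ℂ)) * (s : ℂ) = (Nat.card C : ℂ)⁻¹ := by
      rw [← Complex.ofReal_mul, hs, ← mul_inv, Real.mul_self_sqrt (Nat.cast_nonneg _)]
      simp
    rw [PiLp.inner_apply, classInner_def, ← hss, Finset.mul_sum]
    refine Finset.sum_congr rfl fun x _ => ?_
    simp [φ, RCLike.inner_apply]
    ring
  have hφ0 : Function.Injective φ := by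
    rw [← LinearMap.ker_eq_bot]
    refine LinearMap.ker_eq_bot'.2 fun f hf => funext fun x => ?_
    have h := congrArg (fun v : EuclideanSpace ℂ C => v x) hf
    have hs0 : (s : ℂ) ≠ 0 := by
      rw [Complex.ofReal_ne_zero, hs]
      exact inv_ne_zero (Real.sqrt_ne_zero'.2 (Nat.cast_pos.2 Nat.card_pos))
    simpa [φ, hs0] using h
  set W' := W.map φ with hW'
  have hdim : Module.finrank ℂ W' = blockRank p b :=
    hrank ▸ (Submodule.equivMapOfInjective φ hφ0 W).finrank_eq.symm
  have hnorm : ∀ f : C → ℂ, ‖φ f‖ ^ 2 = (classInner f f).re := by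
    intro f
    rw [← hφ, ← inner_self_eq_norm_sq (𝕜 := ℂ)]
    rfl
  have hmem : ∀ χ : IrrCharacter G, φ (secVec b p (n χ) z) ∈ W' := fun χ =>
    Submodule.mem_map_of_mem (secVec_mem_span b (n χ) z)
  calc ∑ χ ∈ S, ∑ χ' ∈ S, ‖classInner (secVec b p (n χ) z) (secVec b p (n χ') z)‖ ^ 2
      ≤ ∑ χ ∈ S, ‖φ (secVec b p (n χ) z)‖ ^ 2 := Finset.sum_le_sum fun χ _ => by
        rw [hnorm]; exact hbes _ (secVec_mem_span b (n χ) z)
    _ ≤ (Module.finrank ℂ W' : ℝ) := by
        refine sum_norm_sq_le_finrank S (fun χ => (⟨_, hmem χ⟩ : W')) ?_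
        rintro ⟨w, g, hg, rfl⟩
        refine le_trans (le_of_eq (Finset.sum_congr rfl fun χ _ => ?_))
          (le_of_le_of_eq (hbes g hg) (hnorm g).symm)
        rw [Submodule.coe_inner]
        change ‖inner ℂ (φ g) (φ _)‖ ^ 2 = _
        rw [hφ, ← classInner_conj g, Complex.norm_conj]
    _ = _ := by rw [hdim]

/-- The integral lift of the contribution is prime to `M`. -/
theorem contribution_unit (hM : IsPModular p M) (hb : IsPBlock M b) {B : Set (IrrCharacter G)}
    (hind : IsInducedBlock M C b B) {χ χ' : IrrCharacter G} (hχ : χ ∈ B) (hχ' : χ' ∈ B)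
    (h0 : blockHeight p B (χ : G → ℂ) = 0) (h0' : blockHeight p B (χ' : G → ℂ) = 0)
    (n : IrrCharacter G → IrrCharacter C → ℕ)
    (hn : ∀ χ : IrrCharacter G, ∀ x : C, (χ : G → ℂ) x = ∑ η, (n χ η : ℂ) * (η : C → ℂ) x)
    (a : IrrCharacter C → IrrCharacter C → ℤ)
    (ha : ∀ η η', η ∈ b → (a η η' : ℂ) =
      (p : ℂ) ^ blockDefect p b * classInner (regPart p (η : C → ℂ)) (η' : C → ℂ))
    [DecidablePred (· ∈ b)] :
    ¬ (p : ℤ) ∣ ∑ η : IrrCharacter C, ∑ η' : IrrCharacter C,
      if η ∈ b then (if η' ∈ b then (n χ η : ℤ) * (n χ' η' : ℤ) * a η η' else 0) else 0 := by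
  classical
  obtain ⟨-, hB, hω⟩ := (isInducedBlock_iff C).1 hind
  obtain ⟨ξ, hξ, hξ0⟩ := exists_height_zero hM hb
  set c : IrrCharacter C → Res M := fun η => omegaBar (ξ : C → ℂ) (regElt M p η) with hc
  have hS : ∀ θ ∈ B, blockHeight p B (θ : G → ℂ) = 0 →
      ∑ η : IrrCharacter C, (if η ∈ b then (n θ η : Res M) * c η else 0) ≠ 0 := by
    intro θ hθ hθ0 he
    refine omega_regElt_unit (p := p) hM hB hθ hθ0 hθ ?_
    rw [← red_eq_zero_iff (omega_mem θ.2 (isClassCoeff_regElt θ))]
    have h1 := hω ξ hξ θ hθ _ (isClassCoeff_regElt (p := p) θ)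
    rw [omegaBar, omegaBar] at h1
    rw [← h1, omega_resA_regElt C θ (fun η => (n θ η : ℂ)) (hn θ),
      red_sum _ _ fun η _ => mul_mem (by rw [Complex.conj_natCast]; exact natCast_mem _ _)
        (omega_mem ξ.2 (isClassCoeff_regElt η))]
    refine Eq.trans (Finset.sum_congr rfl fun η _ => ?_) he
    rw [Complex.conj_natCast, red_mul (natCast_mem _ _) (omega_mem ξ.2 (isClassCoeff_regElt η)),
      red_natCast]
    split_ifs with h
    · rfl
    · rw [omega_regElt_eq_zero hM fun hs => h (mem_of_sameBlock hb hξ hs), red_zero, mul_zero]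
  -- the entries are `w η * c η'`
  have hcol : ∀ η : IrrCharacter C, η ∈ b → ∃ w : Res M, ∀ η' : IrrCharacter C,
      (a η η' : Res M) = w * c η' := by
    intro η hη
    obtain ⟨u, hu, hu'⟩ := exists_degreeRatio hM hb hη
    refine ⟨red M u, fun η' => ?_⟩
    rw [← red_intCast, ha η η' hη, inner_regPart (M := M), ← mul_assoc (Nat.card C : ℂ)⁻¹,
      ← mul_assoc ((p : ℂ) ^ _), ← mul_assoc ((p : ℂ) ^ _), ← hu',
      red_mul hu (omega_mem η.2 (isClassCoeff_regElt η'))]
    congr 1
    exact omegaBar_congr η.2 ξ.2 (sameBlock_of_mem hb hη hξ) (isClassCoeff_regElt η')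
  have hsym : ∀ η η', η ∈ b → η' ∈ b → a η η' = a η' η := by
    intro η η' hη hη'
    have h := ha η η' hη
    rw [inner_regPart_conj] at h
    have h' := congrArg conj (ha η' η hη')
    rw [map_mul, map_pow, Complex.conj_natCast, ← h] at h'
    simpa using h'.symm
  have hw : ∃ w : IrrCharacter C → Res M, ∀ η ∈ b, ∀ η', (a η η' : Res M) = w η * c η' := by
    choose! w hw using hcol
    exact ⟨w, hw⟩
  obtain ⟨w, hw⟩ := hw
  have hsum : ∀ θ ∈ B, blockHeight p B (θ : G → ℂ) = 0 →
      ∑ η : IrrCharacter C, (if η ∈ b then (n θ η : Res M) * w η else 0) ≠ 0 := by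
    intro θ hθ hθ0 he
    have hcξ : c ξ ≠ 0 := by
      rw [hc]
      simp only [omegaBar]
      rw [Ne, red_eq_zero_iff (omega_mem ξ.2 (isClassCoeff_regElt ξ))]
      exact omega_regElt_unit hM hb hξ hξ0 hξ
    have hwξ : w ξ ≠ 0 := by
      intro h
      obtain ⟨a₀, u, hu, hu', hu0, h1, h2⟩ := exists_regCartan hM hb hξ ξ
      rw [hξ0, pow_zero, one_mul] at h2
      have hae : (a ξ ξ : ℂ) = u * omega (ξ : C → ℂ) (regElt M p ξ) := by rw [ha ξ ξ hξ, ← h1, h2]
      have h3 := hw ξ hξ ξ
      rw [h, zero_mul, ← red_intCast, hae,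
        red_mul hu (omega_mem ξ.2 (isClassCoeff_regElt ξ))] at h3
      rcases mul_eq_zero.1 h3 with h4 | h4
      · rw [red_eq_zero_iff hu] at h4
        exact not_memLocalIdeal_one (M := M)
          (inv_mul_cancel₀ hu0 ▸ memLocalIdeal_mul_left hu' h4)
      · exact hcξ h4
    refine hS θ hθ hθ0 (mul_left_cancel₀ hwξ ?_)
    refine Eq.trans ?_ ((congrArg (· * c ξ) he).trans ((zero_mul _).trans (mul_zero _).symm))
    change _ = (∑ η : IrrCharacter C, if η ∈ b then (n θ η : Res M) * w η else 0) * c ξ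
    rw [Finset.mul_sum, Finset.sum_mul]
    refine Finset.sum_congr rfl fun η _ => ?_
    split_ifs with h
    · rw [mul_assoc, ← hw η h ξ, hsym η ξ h hξ, hw ξ hξ η]
      ring
    · simp
  intro hdvd
  haveI := charP_res (M := M) hM
  rw [← CharP.intCast_eq_zero_iff (Res M) p, Int.cast_sum] at hdvd
  refine mul_ne_zero (hsum χ hχ h0) (hS χ' hχ' h0') ?_
  refine Eq.trans ?_ hdvd
  rw [Finset.sum_mul_sum]
  refine Finset.sum_congr rfl fun η _ => ?_
  rw [Int.cast_sum]
  refine Finset.sum_congr rfl fun η' _ => ?_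
  split_ifs with h h'
  · push_cast
    rw [hw η h η']
    ring
  all_goals simp

end CfsgLib.Blk
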