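import Cfsg.Agent.Blk.SectionSplit
import Cfsg.Agent.Blk.Contrib
import Cfsg.Agent.Char.Induce

/-!
The matrix of contributions of a subsection `(u, b)` to a block: idempotence, trace and valuations.
-/

set_option autoImplicit false
set_option linter.style.haveILetI false
set_option linter.unusedSectionVars false

namespace CfsgLib.Contribution

open Cfsg CfsgLib.Char CfsgLib.Blk CfsgLib.SectionSplit MonoidAlgebra
open scoped CfsgLib.Char ComplexConjugate

universe u

variable {G : Type u} [Group G] {M : Ideal AlgInt} [M.IsPrime] {p : ℕ} [Fact p.Prime]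
variable [Fintype G] {u : G} {H : Subgroup G} [Fintype H]

/-- The contribution of `(u, b)` at a pair of characters, scaled to an algebraic integer. -/
noncomputable def mm (p : ℕ) (u : G) (H : Subgroup G) [Fintype H] (b : Set (IrrCharacter H))
    (χ χ' : IrrCharacter G) : ℂ :=
  (p : ℂ) ^ blockDefect p b *
    classInner (compL p u H b (χ : G → ℂ)) (compL p u H b (χ' : G → ℂ))

theorem conj_mm (b : Set (IrrCharacter H)) (χ χ' : IrrCharacter G) :
    conj (mm p u H b χ χ') = mm p u H b χ' χ := by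
  rw [mm, mm, map_mul, classInner_conj, map_pow, Complex.conj_natCast]

variable (hM : IsPModular p M) (hu : ∃ k : ℕ, orderOf u = p ^ k)
  (hH : Subgroup.centralizer ({u} : Set G) = H) {b : Set (IrrCharacter H)}

include hH in
theorem self_mem : u ∈ H := hH ▸ Subgroup.mem_centralizer_singleton_iff.2 rfl

include hM hu hH

/-- Idempotence. -/
theorem mm_idem (hb : IsPBlock M b) (χ χ'' : IrrCharacter G) :
    ∑ χ' : IrrCharacter G, mm p u H b χ χ' * mm p u H b χ' χ'' =
      (p : ℂ) ^ blockDefect p b * mm p u H b χ χ'' := by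
  have h := frame_op hM hu hH hb (compL_mem hM hH hb (classFun_of_irr χ.2))
  have h1 := congrArg (fun f => classInner f (compL p u H b (χ'' : G → ℂ))) h
  simp only [classInner_sum_left, classInner_smul_left] at h1
  have h2 : ∀ χ' : IrrCharacter G,
      ∑ s : H, compL p u H b (χ : G → ℂ) s * conj (compL p u H b (χ' : G → ℂ) s) =
        (Nat.card H : ℂ) * classInner (compL p u H b (χ : G → ℂ)) (compL p u H b (χ' : G → ℂ)) :=
    fun χ' => by
      rw [classInner_def, mul_inv_cancel_left₀ (natCard_ne_zero H)]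
  simp only [h2] at h1
  rw [Finset.sum_congr rfl fun χ' _ => mul_assoc (Nat.card H : ℂ) _ _, ← Finset.mul_sum] at h1
  replace h1 := mul_left_cancel₀ (natCard_ne_zero H) h1
  simp only [mm]
  rw [← h1, Finset.mul_sum, Finset.mul_sum]
  exact Finset.sum_congr rfl fun χ' _ => by ring

/-- The trace. -/
theorem mm_trace (hb : IsPBlock M b) :
    ∑ χ : IrrCharacter G, mm p u H b χ χ = (p : ℂ) ^ blockDefect p b * (blockRank p b : ℂ) := by
  simp only [mm, classInner_def]
  rw [← Finset.mul_sum, ← Finset.mul_sum, frame hM hu hH hb,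
    inv_mul_cancel_left₀ (natCard_ne_zero H)]

theorem mm_eq_zero {B : Set (IrrCharacter G)} (hind : IsInducedBlock M H b B) {χ : IrrCharacter G}
    (hχ : χ ∉ B) (χ' : IrrCharacter G) : mm p u H b χ χ' = 0 ∧ mm p u H b χ' χ = 0 := by
  simp [mm, compL_char_eq_zero hM hu hH hind hχ, classInner_zero_left, classInner_zero_right]

/-- The integral expansion of the contributions. -/
theorem mm_expand (hb : IsPBlock M b) [DecidablePred (· ∈ b)] :
    ∃ (n : IrrCharacter G → IrrCharacter H → ℕ) (a : IrrCharacter H → IrrCharacter H → ℤ)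
      (z : IrrCharacter H → ℂ),
      (∀ χ : IrrCharacter G, ∀ x : H, (χ : G → ℂ) x = ∑ η, (n χ η : ℂ) * (η : H → ℂ) x) ∧
      (∀ η η', η ∈ b → (a η η' : ℂ) =
        (p : ℂ) ^ blockDefect p b * classInner (regPart p (η : H → ℂ)) (η' : H → ℂ)) ∧
      (∀ η, z η ^ orderOf u = 1) ∧
      ∀ χ χ', mm p u H b χ χ' = ∑ η : IrrCharacter H, ∑ η' : IrrCharacter H,
        if η ∈ b then (if η' ∈ b then ((n χ η : ℤ) * (n χ' η' : ℤ) * a η η' : ℤ) * (z η * conj (z η'))
          else 0) else 0 := by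
  classical
  let x' : H := ⟨u, self_mem hH⟩
  have hx'c : ∀ c, Commute x' c := fun c => Subtype.ext
    (Subgroup.mem_centralizer_singleton_iff.1 (hH.symm ▸ c.2)).symm
  have hres : ∀ χ : IrrCharacter G, IsCharacter H (fun c : H => (χ : G → ℂ) c) := fun χ =>
    isCharacter_restrict H (isCharacter_of_isIrr χ.2)
  have hn' := fun (χ : IrrCharacter G) (η : IrrCharacter H) => inner_char_irr (hres χ) η.2
  choose n hn using hn'
  have hexp : ∀ (χ : IrrCharacter G) (c : H), (χ : G → ℂ) c =
      ∑ η : IrrCharacter H, (n χ η : ℂ) * (η : H → ℂ) c := fun χ c => by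
    have := congrFun (classFun_eq_sum (classFun_of_char (hres χ))) c
    simp only [hn, Finset.sum_apply, Pi.smul_apply, smul_eq_mul] at this
    exact this
  have hz' := fun η : IrrCharacter H => exists_central_scalar η hx'c
  choose z hz1 hz using hz'
  have ha' : ∀ η η' : IrrCharacter H, ∃ a : ℤ, η ∈ b → (a : ℂ) =
      (p : ℂ) ^ blockDefect p b * classInner (regPart p (η : H → ℂ)) (η' : H → ℂ) := fun η η' => by
    by_cases h : η ∈ b
    · obtain ⟨a, _, _, _, _, h1, _⟩ := exists_regCartan hM hb h η'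
      exact ⟨a, fun _ => h1⟩
    · exact ⟨0, fun h' => absurd h' h⟩
  choose a ha using ha'
  refine ⟨n, a, z, hexp, ha, fun η => ?_, fun χ χ' => ?_⟩
  · have := hz1 η
    rwa [← Subgroup.orderOf_coe] at this
  have hcol : ∀ χ : IrrCharacter G, compL p u H b (χ : G → ℂ) = ∑ η : IrrCharacter H,
      (if η ∈ b then (n χ η : ℂ) * z η else 0) • regPart p (η : H → ℂ) := by
    intro χ
    have e : shiftL u H (χ : G → ℂ) =
        ∑ η : IrrCharacter H, ((n χ η : ℂ) * z η) • (η : H → ℂ) := by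
      funext c
      show (χ : G → ℂ) (u * c) = _
      rw [show u * (c : G) = ((x' ^ 1 * c : H) : G) by simp [x'], hexp]
      simp only [Finset.sum_apply, Pi.smul_apply, smul_eq_mul]
      exact Finset.sum_congr rfl fun η _ => by rw [hz, pow_one, mul_assoc]
    rw [compL, LinearMap.comp_apply, LinearMap.comp_apply, e, map_sum, map_sum]
    refine Finset.sum_congr rfl fun η _ => ?_
    rw [map_smul, map_smul]
    funext s
    have hb' : bmul b (η : H → ℂ) = fun y => if η ∈ b then (η : H → ℂ) y else 0 := by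
      funext y
      rw [bmul_apply, sum_blockCoeff_mul_char hM hb]
    rw [hb']
    by_cases hs : p ∣ orderOf s
    · simp [regL_val' _ _ hs, regPart, hs]
    · simp only [Pi.smul_apply, smul_eq_mul, regL_val _ _ hs, regPart, hs, if_false]
      split_ifs <;> simp
  rw [mm, hcol, hcol, classInner_sum_left, Finset.mul_sum]
  refine Finset.sum_congr rfl fun η _ => ?_
  rw [classInner_smul_left, classInner_sum_right, Finset.mul_sum, Finset.mul_sum]
  refine Finset.sum_congr rfl fun η' _ => ?_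
  rw [classInner_smul_right]
  have hrr : classInner (regPart p (η : H → ℂ)) (regPart p (η' : H → ℂ)) =
      classInner (regPart p (η : H → ℂ)) (η' : H → ℂ) := by
    simp only [classInner_def, regPart]
    refine congrArg _ (Finset.sum_congr rfl fun c _ => ?_)
    by_cases hc : p ∣ orderOf c <;> simp [hc]
  rw [hrr]
  split_ifs with h h'
  · push_cast
    rw [ha η η' h, map_mul, Complex.conj_natCast]
    ring
  all_goals simp

/-- Reduction modulo `M`: the matrix is symmetric, and units at height zero. -/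
theorem mm_red (hb : IsPBlock M b) :
    ∃ r : IrrCharacter G → IrrCharacter G → ℤ, (∀ χ χ', r χ χ' = r χ' χ) ∧
      (∀ χ χ', mm p u H b χ χ' ∈ locRing M ∧ red M (mm p u H b χ χ') = (r χ χ' : Res M)) ∧
      ∀ B, IsInducedBlock M H b B → ∀ χ ∈ B, ∀ χ' ∈ B, blockHeight p B (χ : G → ℂ) = 0 →
        blockHeight p B (χ' : G → ℂ) = 0 → ¬ (p : ℤ) ∣ r χ χ' := by
  classical
  obtain ⟨n, a, z, hexp, ha, hz, hmm⟩ := mm_expand hM hu hH hb
  obtain ⟨k, hk⟩ := hu
  have hzz : ∀ η, (z η ∈ locRing M ∧ red M (z η) = 1) ∧ conj (z η) ∈ locRing M ∧ red M (conj (z η)) = 1 := by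
    intro η
    have h1 : z η ^ p ^ k = 1 := by rw [← hk]; exact hz η
    have h2 : conj (z η) ^ p ^ k = 1 := by rw [← map_pow, h1, map_one]
    have hp0 := pow_pos (Fact.out : p.Prime).pos k
    exact ⟨⟨integral_mem (IsIntegral.of_pow hp0 (h1 ▸ isIntegral_one)),
      by simpa using red_aeval_root hM h1 (Polynomial.X : Polynomial ℤ)⟩,
      integral_mem (IsIntegral.of_pow hp0 (h2 ▸ isIntegral_one)),
      by simpa using red_aeval_root hM h2 (Polynomial.X : Polynomial ℤ)⟩
  have hsym : ∀ η η', η ∈ b → η' ∈ b → a η η' = a η' η := by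
    intro η η' hη hη'
    have h := ha η η' hη
    rw [inner_regPart_conj] at h
    have h' := congrArg conj (ha η' η hη')
    rw [map_mul, map_pow, Complex.conj_natCast, ← h] at h'
    simpa using h'.symm
  refine ⟨fun χ χ' => ∑ η : IrrCharacter H, ∑ η' : IrrCharacter H,
    if η ∈ b then (if η' ∈ b then (n χ η : ℤ) * (n χ' η' : ℤ) * a η η' else 0) else 0, ?_, ?_,
    fun B hind χ hχ χ' hχ' h0 h0' => contribution_unit b hM hb hind hχ hχ' h0 h0' n hexp a ha⟩
  · intro χ χ'
    beta_reduce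
    rw [Finset.sum_comm]
    refine Finset.sum_congr rfl fun η _ => Finset.sum_congr rfl fun η' _ => ?_
    split_ifs with h h'
    · rw [hsym η' η h h']; ring
    all_goals rfl
  · intro χ χ'
    have hterm : ∀ η η', (if η ∈ b then (if η' ∈ b then ((n χ η : ℤ) * (n χ' η' : ℤ) * a η η' : ℤ) * (z η * conj (z η'))
          else 0) else 0 : ℂ) ∈ locRing M := by
      intro η η'
      split_ifs
      · exact mul_mem (intCast_mem _ _) (mul_mem (hzz η).1.1 (hzz η').2.1)
      all_goals exact zero_mem _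
    rw [hmm]
    refine ⟨sum_mem fun η _ => sum_mem fun η' _ => hterm η η', ?_⟩
    rw [red_sum _ _ fun η _ => sum_mem fun η' _ => hterm η η', Int.cast_sum]
    refine Finset.sum_congr rfl fun η _ => ?_
    rw [red_sum _ _ fun η' _ => hterm η η', Int.cast_sum]
    refine Finset.sum_congr rfl fun η' _ => ?_
    split_ifs
    · rw [red_mul (intCast_mem _ _) (mul_mem (hzz η).1.1 (hzz η').2.1),
        red_mul (hzz η).1.1 (hzz η').2.1, (hzz η).1.2, (hzz η').2.2, red_intCast, mul_one, mul_one]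
    all_goals rw [red_zero, Int.cast_zero]

/-- A member of the regular span of `b`, spread over the section of `u` in `G`. -/
theorem exists_section_fun (hb : IsPBlock M b) (ψ : IrrCharacter G) :
    ∃ f : G → ℂ, IsClassFunction G f ∧ (∀ g, conj (f g) ∈ locRing M) ∧
      ∀ χ : IrrCharacter G, classInner f (χ : G → ℂ) =
        classInner (compL p u H b (ψ : G → ℂ)) (compL p u H b (χ : G → ℂ)) := by
  classical
  set w := compL p u H b (ψ : G → ℂ) with hw
  obtain ⟨hwc, hwsing⟩ := regSpan_facts (compL_mem hM hH hb (classFun_of_irr ψ.2))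
  let x' : H := ⟨u, self_mem hH⟩
  have hcomm : ∀ c : H, Commute x' c := fun c => Subtype.ext
    (Subgroup.mem_centralizer_singleton_iff.1 (hH.symm ▸ c.2)).symm
  let g' : H → ℂ := fun c => w (x'⁻¹ * c)
  have hmem : ∀ c : H, conj (g' c) ∈ locRing M := by
    intro c
    obtain ⟨n, a, z, hexp, -, hz, -⟩ := mm_expand hM hu hH hb
    show conj (compL p u H b (ψ : G → ℂ) (x'⁻¹ * c)) ∈ locRing M
    rw [compL, LinearMap.comp_apply]
    by_cases hs : p ∣ orderOf (x'⁻¹ * c)
    · rw [regL_val' _ _ hs, map_zero]; exact zero_mem _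
    · rw [regL_val _ _ hs, LinearMap.comp_apply, bmul_apply, map_sum]
      refine sum_mem fun k _ => ?_
      rw [map_mul]
      refine mul_mem ?_ ?_
      · have e : conj (blockCoeff b k) = blockCoeff b k⁻¹ := by
          simp only [blockCoeff, map_mul, map_inv₀, Complex.conj_natCast, finsum_mem_eq_sum_ite, map_sum]
          refine congrArg _ (Finset.sum_congr rfl fun θ _ => ?_)
          split_ifs
          · rw [map_mul, irr_one_eq θ.2, Complex.conj_natCast, char_conj_eq (isCharacter_of_isIrr θ.2)]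
          · rw [map_zero]
        rw [e]
        exact blockCoeff_mem hM hb _
      exact conj_irr_mem ψ _
  refine ⟨indFun H g', indFun_classFun H g', fun g => ?_, fun χ => ?_⟩
  · have hpart : ∀ c : H, g' c ≠ 0 → ppOf p (c : G) = u := by
      intro c hc
      refine ppOf_eq ⟨((x'⁻¹ * c : H) : G), by simp [x'], (congrArg Subtype.val (hcomm (x'⁻¹ * c)).eq), hu, ?_⟩
      rw [Subgroup.orderOf_coe]
      exact fun hd => hc (hwsing _ hd)
    by_cases hex : ∃ x : G, ∃ hx : x⁻¹ * g * x ∈ H, g' ⟨_, hx⟩ ≠ 0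
    · obtain ⟨x, hx, hne⟩ := hex
      have e : indFun H g' g = g' ⟨_, hx⟩ := by
        have hc := indFun_classFun H g' g x⁻¹
        rw [inv_inv] at hc
        rw [← hc, indFun_apply, sum_subgroup H]
        · have : ∀ y : H, extendByZero H g' ((y : G)⁻¹ * (x⁻¹ * g * x) * y) = g' ⟨_, hx⟩ := by
            intro y
            rw [show (y : G)⁻¹ * (x⁻¹ * g * x) * y = ((y⁻¹ * ⟨_, hx⟩ * y : H) : G) by push_cast; rfl,
              extendByZero_mem]
            show w (x'⁻¹ * (y⁻¹ * ⟨_, hx⟩ * y)) = w (x'⁻¹ * ⟨_, hx⟩)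
            rw [show x'⁻¹ * (y⁻¹ * ⟨_, hx⟩ * y) = y⁻¹ * (x'⁻¹ * ⟨_, hx⟩) * y by
              rw [← mul_assoc, ← mul_assoc, ((hcomm y⁻¹).inv_left).eq]; group]
            have := hwc (x'⁻¹ * ⟨_, hx⟩) y⁻¹
            rwa [inv_inv] at this
          simp only [this, Finset.sum_const, Finset.card_univ, nsmul_eq_mul]
          rw [← Nat.card_eq_fintype_card, inv_mul_cancel_left₀ (natCard_ne_zero H)]
        · intro y hy
          by_cases h : y⁻¹ * (x⁻¹ * g * x) * y ∈ H
          · rw [extendByZero_mem' _ _ h]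
            by_contra hne'
            refine hy ?_
            have h1 := hpart ⟨_, h⟩ hne'
            have h2 := ppOf_conj (p := p) (x⁻¹ * g * x) y⁻¹
            rw [inv_inv] at h2
            simp only [h2, hpart _ hne] at h1
            rw [← hH, Subgroup.mem_centralizer_singleton_iff]
            conv_lhs => rw [← h1]
            group
          · exact extendByZero_not_mem _ _ h
      rw [e]; exact hmem _
    · push Not at hex
      rw [indFun_apply, Finset.sum_eq_zero fun x _ => ?_, mul_zero, map_zero]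
      · exact zero_mem _
      by_cases h : x⁻¹ * g * x ∈ H
      · rw [extendByZero_mem' _ _ h]; exact hex x h
      · exact extendByZero_not_mem _ _ h
  · rw [frobenius H g' (classFun_of_irr χ.2), classInner_def, classInner_def,
      inner_compL hM hH hb (compL_mem hM hH hb (classFun_of_irr ψ.2))]
    refine congrArg _ (Fintype.sum_equiv (Equiv.mulLeft x'⁻¹) _ _ fun c => ?_)
    simp [g', hw, x']

omit hu hH in
theorem exists_height_ratio {B : Set (IrrCharacter G)} (hB : IsPBlock M B) {χ : IrrCharacter G}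
    (hχ : χ ∈ B) :
    ∃ ν : ℂ, ν ∈ locRing M ∧ ν⁻¹ ∈ locRing M ∧ ν ≠ 0 ∧
      (p : ℂ) ^ blockDefect p B * (Nat.card G : ℂ)⁻¹ * (χ : G → ℂ) 1 =
        (p : ℂ) ^ blockHeight p B (χ : G → ℂ) * ν := by
  obtain ⟨n, hn, hnp⟩ := exists_deg_eq (p := p) χ.2
  obtain ⟨m, hm, hmp⟩ := exists_card_eq (p := p) (G := G)
  have hh := degExp_eq_height_add hM hB hχ
  obtain ⟨e, he⟩ := Nat.exists_eq_add_of_le (blockDefect_le (p := p) hM B)
  rw [he, Nat.add_sub_cancel_left] at hh
  have hn0 := natCast_ne_zero_of_not_dvd hnp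
  have hm0 := natCast_ne_zero_of_not_dvd hmp
  have hp0 := prime_cast_ne_zero (p := p)
  refine ⟨(n : ℂ) * (m : ℂ)⁻¹, mul_mem (natCast_mem _ n) (natCast_inv_mem hM hmp), ?_,
    mul_ne_zero hn0 (inv_ne_zero hm0), ?_⟩
  · rw [mul_inv, inv_inv]
    exact mul_mem (natCast_inv_mem hM hnp) (natCast_mem _ m)
  rw [hn, hh, hm, he]
  push_cast
  rw [pow_add, pow_add]
  field_simp

/-- For a major subsection the contribution with a height zero character has valuation the height,
and the diagonal one strictly more at positive height. -/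
theorem mm_major {B : Set (IrrCharacter G)} (hind : IsInducedBlock M H b B)
    (hd : blockDefect p b = blockDefect p B) {χ ψ : IrrCharacter G} (hχ : χ ∈ B) (hψ : ψ ∈ B)
    (h0 : blockHeight p B (ψ : G → ℂ) = 0) :
    (∃ x ∈ locRing M, ¬ MemLocalIdeal M x ∧
        mm p u H b χ ψ = (p : ℂ) ^ blockHeight p B (χ : G → ℂ) * x) ∧
      (0 < blockHeight p B (χ : G → ℂ) → ∃ x, MemLocalIdeal M x ∧
        mm p u H b χ χ = (p : ℂ) ^ blockHeight p B (χ : G → ℂ) * x) := by
  classical
  obtain ⟨r, hrs, hr, hru⟩ := mm_red hM hu hH hind.1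
  have key : ∀ θ : IrrCharacter G, ∃ a : MonoidAlgebra (locRing M) G, IsClassCoeff a ∧
      ∀ χ ∈ B, ∃ ν : ℂ, ν ∈ locRing M ∧ ν⁻¹ ∈ locRing M ∧ ν ≠ 0 ∧
        mm p u H b χ θ = (p : ℂ) ^ blockHeight p B (χ : G → ℂ) * (ν * omega (χ : G → ℂ) a) := by
    intro θ
    obtain ⟨f, hfc, hfm, hf⟩ := exists_section_fun hM hu hH hind.1 θ
    let a : MonoidAlgebra (locRing M) G := MonoidAlgebra.ofCoeff (Finsupp.ofSupportFinite
      (fun g : G => (⟨_, hfm g⟩ : locRing M)) (Set.toFinite _))
    have hca : ∀ g, ((a.coeff g : locRing M) : ℂ) = conj (f g) := fun g => rfl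
    refine ⟨a, fun g h => Subtype.ext (by rw [hca, hca, hfc g h]), fun χ hχ => ?_⟩
    obtain ⟨ν, h1, h2, h3, h4⟩ := exists_height_ratio hM hind.2.1 hχ
    refine ⟨ν, h1, h2, h3, ?_⟩
    rw [← mul_assoc, ← h4, mm, hd, ← classInner_conj (compL p u H b (θ : G → ℂ)), ← hf, classInner_def,
      map_mul, map_inv₀, Complex.conj_natCast, map_sum, omega_eq]
    have h10 := irr_one_ne_zero χ.2
    simp only [hca, map_mul, Complex.conj_conj]
    field_simp
  have hν : ∀ {ν y : ℂ}, ν⁻¹ ∈ locRing M → ν ≠ 0 → MemLocalIdeal M (ν * y) → MemLocalIdeal M y := by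
    intro ν y hν hν0 h
    have := memLocalIdeal_mul_left hν h
    rwa [inv_mul_cancel_left₀ hν0] at this
  refine ⟨?_, fun hpos => ?_⟩
  · obtain ⟨a, ha, hval⟩ := key ψ
    obtain ⟨ν, h1, h2, h3, h4⟩ := hval χ hχ
    obtain ⟨μ, g1, g2, g3, g4⟩ := hval ψ hψ
    refine ⟨_, mul_mem h1 (omega_mem χ.2 ha), fun hbad => ?_, h4⟩
    have h5 := (red_eq_zero_iff (omega_mem χ.2 ha)).2 (hν h2 h3 hbad)
    have h6 : omegaBar (ψ : G → ℂ) a = 0 :=
      (omegaBar_congr χ.2 ψ.2 (sameBlock_of_mem hind.2.1 hχ hψ) ha) ▸ h5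
    have h7 : red M (mm p u H b ψ ψ) = 0 := by
      rw [g4, h0, pow_zero, one_mul, red_mul g1 (omega_mem ψ.2 ha)]
      show _ * omegaBar _ a = 0
      rw [h6, mul_zero]
    haveI := charP_res (M := M) hM
    rw [(hr ψ ψ).2, CharP.intCast_eq_zero_iff (Res M) p] at h7
    exact hru B hind ψ hψ ψ hψ h0 h0 h7
  · obtain ⟨aψ, haψ, hvalψ⟩ := key ψ
    obtain ⟨a, ha, hval⟩ := key χ
    obtain ⟨ν, h1, h2, h3, h4⟩ := hval χ hχ
    obtain ⟨μ, g1, g2, g3, g4⟩ := hval ψ hψ
    obtain ⟨κ, k1, k2, k3, k4⟩ := hvalψ χ hχ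
    refine ⟨_, memLocalIdeal_mul_left h1 ?_, h4⟩
    rw [← red_eq_zero_iff (omega_mem χ.2 ha)]
    show omegaBar (χ : G → ℂ) a = 0
    rw [omegaBar_congr χ.2 ψ.2 (sameBlock_of_mem hind.2.1 hχ hψ) ha]
    have e1 : red M (mm p u H b χ ψ) = 0 := by
      rw [k4, red_mul (pow_mem (natCast_mem _ p) _) (mul_mem k1 (omega_mem χ.2 haψ))]
      haveI := charP_res (M := M) hM
      rw [← Nat.cast_pow, red_natCast, Nat.cast_pow, CharP.cast_eq_zero, zero_pow hpos.ne', zero_mul]
    rw [(hr χ ψ).2, hrs, ← (hr ψ χ).2, g4, h0, pow_zero, one_mul] at e1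
    rw [red_mul g1 (omega_mem ψ.2 ha), mul_eq_zero] at e1
    refine e1.resolve_left fun e2 => ?_
    exact not_memLocalIdeal_one (M := M) (inv_mul_cancel₀ g3 ▸ memLocalIdeal_mul_left g2 ((red_eq_zero_iff g1).1 e2))

end CfsgLib.Contribution
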