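import Cfsg.Agent.Blk.PiKer
import Cfsg.Agent.Char.Galois
import Cfsg.Agent.Char.GaloisTwist

/-!
Blocks and inflation from a quotient by a normal `p'`-subgroup; the principal block is stable
under Galois twists.
-/

set_option autoImplicit false
set_option linter.style.haveILetI false
set_option linter.unusedSectionVars false

namespace CfsgLib.Blk

open Cfsg CfsgLib.Char CfsgLib.Blk.Pair MonoidAlgebra Finset IsLocalRing
open scoped ComplexConjugate

universe u

variable {G : Type u} [Group G] [Finite G] {M : Ideal AlgInt} [M.IsPrime] {p : ℕ}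

section inflation

variable (N : Subgroup G) [N.Normal]

/-- Inflation of an irreducible character of a quotient. -/
noncomputable def infl (χ : IrrCharacter (G ⧸ N)) : IrrCharacter G :=
  ⟨(χ : G ⧸ N → ℂ) ∘ QuotientGroup.mk, by
    haveI := Fintype.ofFinite G
    haveI := Fintype.ofFinite (G ⧸ N)
    exact irr_comp (QuotientGroup.mk' N) (QuotientGroup.mk'_surjective N) χ.2⟩

theorem infl_apply (χ : IrrCharacter (G ⧸ N)) (g : G) :
    (infl N χ : G → ℂ) g = (χ : G ⧸ N → ℂ) g := rfl

theorem infl_injective : Function.Injective (infl N) := fun χ ψ h =>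
  Subtype.ext (funext fun x => by
    obtain ⟨g, rfl⟩ := QuotientGroup.mk_surjective x
    exact congrFun (congrArg Subtype.val h) g)

theorem charDegree_infl (χ : IrrCharacter (G ⧸ N)) :
    charDegree (infl N χ : G → ℂ) = charDegree (χ : G ⧸ N → ℂ) := rfl

theorem exists_infl {ψ : IrrCharacter G} (h : ∀ y ∈ N, (ψ : G → ℂ) y = (ψ : G → ℂ) 1) :
    ∃ χ : IrrCharacter (G ⧸ N), infl N χ = ψ := by
  haveI := Fintype.ofFinite G
  haveI := Fintype.ofFinite (G ⧸ N)
  obtain ⟨χ', h1, h2⟩ := irr_descend (QuotientGroup.mk' N) (QuotientGroup.mk'_surjective N) ψ.2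
    (fun k hk => h k ((QuotientGroup.eq_one_iff k).1 hk))
  exact ⟨⟨χ', h1⟩, Subtype.ext h2⟩

theorem infl_kernel (χ : IrrCharacter (G ⧸ N)) {y : G} (hy : y ∈ N) :
    (infl N χ : G → ℂ) y = (infl N χ : G → ℂ) 1 := by
  rw [infl_apply, infl_apply, (QuotientGroup.eq_one_iff y).2 hy, QuotientGroup.mk_one]

theorem sum_mk [Fintype G] [Fintype (G ⧸ N)] {A : Type*} [AddCommMonoid A] (F : G ⧸ N → A) :
    ∑ g : G, F g = Nat.card N • ∑ x : G ⧸ N, F x := by
  classical
  haveI := Fintype.ofFinite N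
  rw [Fintype.sum_equiv (Subgroup.groupEquivQuotientProdSubgroup (s := N))
    (fun g : G => F g) (fun z => F z.1) (fun _ => rfl), Fintype.sum_prod_type, Finset.smul_sum]
  exact Finset.sum_congr rfl fun x _ => by
    show ∑ _y : N, F x = _
    rw [Finset.sum_const, Finset.card_univ, Fintype.card_eq_nat_card]

theorem index_centralizer_dvd (g : G) :
    (Subgroup.centralizer ({(g : G ⧸ N)} : Set (G ⧸ N))).index ∣
      (Subgroup.centralizer ({g} : Set G)).index := by
  rw [← Subgroup.index_comap_of_surjective _ (QuotientGroup.mk'_surjective N)]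
  refine Subgroup.index_dvd_of_le fun x hx => ?_
  rw [Subgroup.mem_comap, Subgroup.mem_centralizer_singleton_iff]
  rw [Subgroup.mem_centralizer_singleton_iff] at hx
  simp only [QuotientGroup.mk'_apply, ← QuotientGroup.mk_mul, hx]

/-- Inflation preserves blocks. -/
theorem sameBlock_infl {χ ψ : IrrCharacter (G ⧸ N)}
    (h : SameBlock M (χ : G ⧸ N → ℂ) (ψ : G ⧸ N → ℂ)) :
    SameBlock M (infl N χ : G → ℂ) (infl N ψ : G → ℂ) := fun g => by
  obtain ⟨k, hk⟩ := index_centralizer_dvd N g
  have e : ∀ θ : IrrCharacter (G ⧸ N), centralChar (infl N θ : G → ℂ) g =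
      (k : ℂ) * centralChar (θ : G ⧸ N → ℂ) (g : G ⧸ N) := fun θ => by
    rw [centralChar, centralChar, infl_apply, infl_apply, hk, QuotientGroup.mk_one, Nat.cast_mul]
    ring
  rw [e, e, ← mul_sub]
  exact memLocalIdeal_mul_left (natCast_mem _ k) (h _)

/-- Over a `p'`-kernel, inflation reflects blocks. -/
theorem sameBlock_of_infl (hM : IsPModular p M) (hN : ¬ p ∣ Nat.card N)
    {χ ψ : IrrCharacter (G ⧸ N)} (h : SameBlock M (infl N χ : G → ℂ) (infl N ψ : G → ℂ)) :
    SameBlock M (χ : G ⧸ N → ℂ) (ψ : G ⧸ N → ℂ) := by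
  classical
  haveI := Fintype.ofFinite G
  haveI := Fintype.ofFinite (G ⧸ N)
  rw [sameBlock_iff_red χ.2 ψ.2]
  intro x
  let a : MonoidAlgebra (locRing M) G := MonoidAlgebra.ofCoeff (Finsupp.ofSupportFinite
    (fun g : G => if IsConj x (g : G ⧸ N) then (1 : locRing M) else 0) (Set.toFinite _))
  have hac : ∀ g, a.coeff g = if IsConj x (g : G ⧸ N) then (1 : locRing M) else 0 := fun _ => rfl
  have ha : IsClassCoeff a := fun g y => by
    rw [hac, hac]
    have hc : IsConj (g : G ⧸ N) ((y * g * y⁻¹ : G) : G ⧸ N) :=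
      isConj_iff.2 ⟨(y : G ⧸ N), by simp⟩
    exact if_congr ⟨fun hh => hh.trans hc.symm, fun hh => hh.trans hc⟩ rfl rfl
  have hω : ∀ θ : IrrCharacter (G ⧸ N), omega (infl N θ : G → ℂ) a =
      (Nat.card N : ℂ) * centralChar (θ : G ⧸ N → ℂ) x := fun θ => by
    rw [omega_eq, centralChar_eq (classFun_of_irr θ.2), Finset.sum_filter, infl_apply,
      QuotientGroup.mk_one, mul_div_assoc']
    congr 1
    rw [← nsmul_eq_mul, ← sum_mk N]
    refine Finset.sum_congr rfl fun g _ => ?_
    rw [hac, infl_apply]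
    split_ifs <;> simp
  have h1 := omegaBar_congr (infl N χ).2 (infl N ψ).2 h ha
  rw [omegaBar, omegaBar, hω, hω, red_mul (natCast_mem _ _) (centralChar_mem χ.2 x),
    red_mul (natCast_mem _ _) (centralChar_mem ψ.2 x), red_natCast] at h1
  haveI := charP_res hM
  exact mul_left_cancel₀ (fun h0 => hN ((CharP.cast_eq_zero_iff (Res M) p _).1 h0)) h1

variable [Fact p.Prime] (hM : IsPModular p M) (hN : ¬ p ∣ Nat.card N)
include hM hN

/-- A normal `p'`-subgroup in the kernel of a character is in the kernel of its block. -/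
theorem kernel_of_sameBlock {χ ψ : IrrCharacter G} (h : SameBlock M (χ : G → ℂ) (ψ : G → ℂ))
    (hk : ∀ y ∈ N, (χ : G → ℂ) y = (χ : G → ℂ) 1) {y : G} (hy : y ∈ N) :
    (ψ : G → ℂ) y = (ψ : G → ℂ) 1 := by
  refine (lam_hatA hM N hN ψ).1 ?_ y hy
  rw [← lam_congr χ.2 ψ.2 h (isClassCoeff_hatA N)]
  exact (lam_hatA hM N hN χ).2 hk

theorem exists_infl_of_sameBlock {χ : IrrCharacter (G ⧸ N)} {ψ : IrrCharacter G}
    (h : SameBlock M (infl N χ : G → ℂ) (ψ : G → ℂ)) :
    ∃ ψ' : IrrCharacter (G ⧸ N), infl N ψ' = ψ ∧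
      SameBlock M (χ : G ⧸ N → ℂ) (ψ' : G ⧸ N → ℂ) := by
  obtain ⟨ψ', rfl⟩ := exists_infl N (ψ := ψ) fun y hy =>
    kernel_of_sameBlock N hM hN h (fun z hz => infl_kernel N χ hz) hy
  exact ⟨ψ', rfl, sameBlock_of_infl N hM hN h⟩

/-- The principal block is inflated from the quotient. -/
theorem principalBlock_eq_image :
    principalBlock M G = infl N '' principalBlock M (G ⧸ N) := by
  ext ψ
  constructor
  · intro h
    obtain ⟨ψ', h1, h2⟩ := exists_infl_of_sameBlock N hM hN (χ := ⟨_, isIrr_one⟩) (ψ := ψ) h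
    exact ⟨ψ', h2, h1⟩
  · rintro ⟨ψ', h, rfl⟩
    exact sameBlock_infl N (χ := ⟨_, isIrr_one⟩) h

end inflation

section galois

/-- The twist of an irreducible character by a power map. -/
noncomputable def powIrr {m : ℕ} (hm : m.Coprime (Nat.card G)) (χ : IrrCharacter G) :
    IrrCharacter G := ⟨fun g => (χ : G → ℂ) (g ^ m), irr_pow hm χ.2⟩

theorem powIrr_apply {m : ℕ} (hm : m.Coprime (Nat.card G)) (χ : IrrCharacter G) (g : G) :
    (powIrr hm χ : G → ℂ) g = (χ : G → ℂ) (g ^ m) := rfl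

theorem powIrr_injective {m : ℕ} (hm : m.Coprime (Nat.card G)) :
    Function.Injective (powIrr (G := G) hm) := fun χ ψ h => Subtype.ext (funext fun g => by
  obtain ⟨y, rfl⟩ := (powCoprime (Nat.Coprime.symm hm)).surjective g
  exact congrFun (congrArg Subtype.val h) y)

theorem image_powIrr_principal [Fact p.Prime] (hM : IsPModular p M) {m : ℕ}
    (hm : m.Coprime (Nat.card G)) :
    powIrr hm '' principalBlock M G = principalBlock M G := by
  classical
  haveI := Fintype.ofFinite G
  have hsub : principalBlock M G ⊆ powIrr hm ⁻¹' principalBlock M G := by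
    refine blockOf_subset_of_regular_orth hM (A := powIrr hm ⁻¹' principalBlock M G)
      (fun χ hχ ψ hψ => ?_) (χ := ⟨_, isIrr_one⟩) (sameBlock_refl _)
    have h := regular_orth hM (χ := powIrr hm χ) (ψ := powIrr hm ψ)
      fun hs => hψ (sameBlock_trans (show SameBlock M (fun _ => (1 : ℂ)) _ from hχ) hs)
    refine Eq.trans ?_ h
    refine (Fintype.sum_equiv (powCoprime (Nat.Coprime.symm hm)) _ _ fun x => ?_).symm
    have ho : orderOf (x ^ m) = orderOf x :=
      (Nat.Coprime.coprime_dvd_right (orderOf_dvd_natCard x) hm).symm.orderOf_pow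
    show _ = _
    rw [show powCoprime (Nat.Coprime.symm hm) x = x ^ m from rfl, ho]
    rfl
  exact Set.eq_of_subset_of_ncard_le (Set.image_subset_iff.2 hsub)
    (Set.ncard_image_of_injective _ (powIrr_injective hm)).ge (Set.toFinite _)

end galois

end CfsgLib.Blk
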