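import Cfsg.Agent.Blk.FirstMain

/-!
Blocks of `D C(D)` inducing a block with defect group `D` are conjugate in `N(D)`.
-/

set_option autoImplicit false
set_option linter.style.haveILetI false
set_option linter.unusedSectionVars false

namespace CfsgLib.Blk

open Cfsg CfsgLib.Char MonoidAlgebra Finset

universe u

variable {G : Type u} [Group G] [Finite G] {M : Ideal AlgInt} [M.IsPrime] {p : ℕ} [Fact p.Prime]

theorem centralChar_comp_mulEquiv {A : Type u} [Group A] {A' : Type u} [Group A'] (φ : A ≃* A')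
    (χ : A' → ℂ) (g : A) : centralChar (χ ∘ φ) g = centralChar χ (φ g) := by
  have h : (Subgroup.centralizer ({g} : Set A)).map φ.toMonoidHom =
      Subgroup.centralizer ({φ g} : Set A') := by
    ext x
    rw [Subgroup.mem_map_equiv, Subgroup.mem_centralizer_singleton_iff,
      Subgroup.mem_centralizer_singleton_iff]
    constructor
    · intro e
      have := congrArg φ e
      simpa using this
    · intro e
      have := congrArg φ.symm e
      simpa using this
  have h2 : (Subgroup.centralizer ({φ g} : Set A')).index =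
      (Subgroup.centralizer ({g} : Set A)).index := by
    rw [← h]
    exact Subgroup.index_map_equiv _ φ
  simp [centralChar, h2]

theorem sameBlock_comp_mulEquiv {A : Type u} [Group A] {A' : Type u} [Group A'] (φ : A ≃* A')
    {χ ψ : A' → ℂ} (h : SameBlock M χ ψ) : SameBlock M (χ ∘ φ) (ψ ∘ φ) := fun g => by
  rw [centralChar_comp_mulEquiv, centralChar_comp_mulEquiv]; exact h (φ g)

/-- Conjugation by a normalising element, as an automorphism. -/
noncomputable def conjAut (H : Subgroup G) (n : G) (hn : n ∈ Subgroup.normalizer (H : Set G)) :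
    H ≃* H where
  toFun x := ⟨n * x * n⁻¹, (Subgroup.mem_normalizer_iff.1 hn x).1 x.2⟩
  invFun x := ⟨n⁻¹ * x * n, (Subgroup.mem_normalizer_iff.1 hn _).2 (by simp [mul_assoc])⟩
  left_inv x := Subtype.ext (by simp [mul_assoc])
  right_inv x := Subtype.ext (by simp [mul_assoc])
  map_mul' x y := Subtype.ext (by simp [mul_assoc])

theorem conjAut_apply (H : Subgroup G) (n : G) (hn : n ∈ Subgroup.normalizer (H : Set G)) (x : H) :
    ((conjAut H n hn x : H) : G) = n * x * n⁻¹ := rfl

theorem omega_comp_mulEquiv {A : Type u} [Group A] [Finite A] {A' : Type u} [Group A'] [Finite A']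
    (φ : A ≃* A') (χ : A' → ℂ) (x : MonoidAlgebra (locRing M) A)
    (y : MonoidAlgebra (locRing M) A') (hxy : ∀ g, x.coeff g = y.coeff (φ g)) :
    omega (χ ∘ φ) x = omega χ y := by
  haveI := Fintype.ofFinite A
  haveI := Fintype.ofFinite A'
  rw [omega_eq, omega_eq, Function.comp_apply, map_one φ]
  congr 1
  exact Fintype.sum_equiv φ.toEquiv _ _ fun g => by simp [hxy g]

theorem le_normalizer_pc (D : Subgroup G) :
    D ⊔ Subgroup.centralizer (D : Set G) ≤ Subgroup.normalizer (D : Set G) :=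
  sup_le Subgroup.le_normalizer (Subgroup.centralizer_le_normalizer _)

theorem normalizer_le_normalizer_pc (D : Subgroup G) :
    Subgroup.normalizer (D : Set G) ≤
      Subgroup.normalizer ((D ⊔ Subgroup.centralizer (D : Set G) : Subgroup G) : Set G) := by
  intro n hn
  have hkey : ∀ k ∈ Subgroup.normalizer (D : Set G), ∀ x ∈ D ⊔ Subgroup.centralizer (D : Set G),
      k * x * k⁻¹ ∈ D ⊔ Subgroup.centralizer (D : Set G) := by
    intro k hk x hx
    have hle : D ⊔ Subgroup.centralizer (D : Set G) ≤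
        (D ⊔ Subgroup.centralizer (D : Set G)).comap (MulAut.conj k).toMonoidHom := by
      refine sup_le (fun d hd => ?_) (fun c hc => ?_) <;>
        rw [Subgroup.mem_comap, MulEquiv.coe_toMonoidHom, MulAut.conj_apply]
      · exact Subgroup.mem_sup_left ((Subgroup.mem_normalizer_iff.1 hk d).1 hd)
      · refine Subgroup.mem_sup_right fun y hy => ?_
        have hy' : k⁻¹ * y * k ∈ D := by
          simpa using (Subgroup.mem_normalizer_iff.1 (inv_mem hk) y).1 hy
        calc y * (k * c * k⁻¹) = k * ((k⁻¹ * y * k) * c) * k⁻¹ := by group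
          _ = k * c * k⁻¹ * y := by rw [hc _ hy']; group
    exact hle hx
  rw [Subgroup.mem_normalizer_iff]
  refine fun x => ⟨hkey n hn x, fun hx => ?_⟩
  have := hkey n⁻¹ (inv_mem hn) _ hx
  simpa [mul_assoc] using this

/-- Blocks of `H`, normal in `N(D)` over `D C(D)`, inducing a block with defect group `D` are
conjugate under `N(D)`. -/
theorem conj_of_induced_pc (hM : IsPModular p M) {D : Subgroup G} {B : Set (IrrCharacter G)}
    (hD : IsDefectGroup p M B D) {H : Subgroup G} [Fintype H] (hDH : D ≤ H)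
    (hCH : Subgroup.centralizer (D : Set G) ≤ H) (hHN : H ≤ Subgroup.normalizer (D : Set G))
    (hNH : Subgroup.normalizer (D : Set G) ≤ Subgroup.normalizer (H : Set G))
    {b b' : Set (IrrCharacter H)}
    (hind : IsInducedBlock M H b B) (hind' : IsInducedBlock M H b' B) :
    ∃ (n : G) (hn : n ∈ Subgroup.normalizer (D : Set G)),
      ∀ θ ∈ b, ∃ θ' ∈ b', ∀ x : H,
        (θ' : H → ℂ) x = (θ : H → ℂ) (conjAut H n (hNH hn) x) := by
  classical
  set N := Subgroup.normalizer (D : Set G) with hN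
  have hDp := IsDefectGroup.isPGroup hD
  have hDN : D ≤ N := Subgroup.le_normalizer
  obtain ⟨hb, hB, hω⟩ := (isInducedBlock_iff H).1 hind
  obtain ⟨hb', -, hω'⟩ := (isInducedBlock_iff H).1 hind'
  obtain ⟨χ, hχ⟩ := isPBlock_nonempty hB
  obtain ⟨φ, hφ⟩ : ∃ φ : ↥(H.subgroupOf N) ≃* ↥H, ∀ x, ((φ x : H) : G) = ((x : N) : G) :=
    ⟨Subgroup.subgroupOfEquivOfLe hHN, fun x => rfl⟩
  haveI : Fintype ↥(H.subgroupOf N) := Fintype.ofFinite _
  -- transport to `N`
  have key : ∀ (c : Set (IrrCharacter H)), IsInducedBlock M H c B → ∀ ξ ∈ c,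
      ∃ β : Set (IrrCharacter N), IsInducedBlock M N β B ∧ ∀ ψ ∈ β,
        ∀ x : MonoidAlgebra (locRing M) N, IsClassCoeff x →
          omegaBar ((ξ : H → ℂ) ∘ φ) (resA (H.subgroupOf N) x) = omegaBar (ψ : N → ℂ) x := by
    intro c hc ξ hξ
    obtain ⟨ξN, hξN⟩ : ∃ ξN : IrrCharacter ↥(H.subgroupOf N),
        (ξN : ↥(H.subgroupOf N) → ℂ) = (ξ : H → ℂ) ∘ φ :=
      ⟨⟨_, irr_mulEquiv φ ξ.2⟩, rfl⟩
    obtain ⟨β, hβ⟩ := inducedBlockDefined_of_brauer hM (D.subgroupOf N) (H.subgroupOf N)
      (hDp.of_equiv (Subgroup.subgroupOfEquivOfLe hDN).symm)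
      (fun x hx => Subgroup.mem_subgroupOf.2 (hDH (Subgroup.mem_subgroupOf.1 hx)))
      (fun x hx => Subgroup.mem_subgroupOf.2 (hCH ((mem_centralizer_subgroupOf hDN x).1 hx)))
      (fun x _ => by
        haveI : (D.subgroupOf N).Normal := Subgroup.normal_subgroupOf_of_le_normalizer le_rfl
        rw [Subgroup.normalizer_eq_top]; trivial)
      (blockOf_isPBlock ξN)
    obtain ⟨-, hβblk, hβω⟩ := (isInducedBlock_iff (H.subgroupOf N)).1 hβ
    refine ⟨β, (isInducedBlock_iff N).2 ⟨hβblk, hB, fun ψ hψ θ hθ a ha => ?_⟩, fun ψ hψ x hx => ?_⟩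
    · rw [← hβω ξN (sameBlock_refl _) ψ hψ _ (isClassCoeff_resA N ha),
        ← ((isInducedBlock_iff H).1 hc).2.2 ξ hξ θ hθ a ha, hξN, omegaBar, omegaBar]
      congr 1
      refine omega_comp_mulEquiv φ _ _ _ fun g => ?_
      simp [coeff_resA, hφ]
    · rw [← hξN]; exact hβω ξN (sameBlock_refl _) ψ hψ x hx
  obtain ⟨ξ, hξ⟩ := isPBlock_nonempty hb
  obtain ⟨ξ', hξ'⟩ := isPBlock_nonempty hb'
  obtain ⟨β, hβ, hβω⟩ := key b hind ξ hξ
  obtain ⟨β', hβ', hβω'⟩ := key b' hind' ξ' hξ'
  have hββ : β = β' := induced_normalizer_unique hM hD hβ hβ'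
  obtain ⟨ψ, hψ⟩ := isPBlock_nonempty hβ.1
  -- the orbit idempotent
  haveI : Fintype {c : Set (IrrCharacter H) // IsPBlock M c} := Fintype.ofFinite _
  let tw : N → IrrCharacter H := fun n =>
    ⟨_, irr_mulEquiv (conjAut H n (hNH n.2)) ξ.2⟩
  let O : Finset {c : Set (IrrCharacter H) // IsPBlock M c} :=
    Finset.univ.filter fun c => ∃ n : N, tw n ∈ c.1
  set f : MonoidAlgebra (locRing M) H := ∑ c ∈ O, blockIdem hM c.2 with hfdef
  have hf : IsClassCoeff f := isClassCoeff_sum _ _ fun c _ => isClassCoeff_blockIdem hM c.2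
  have hfω : ∀ η : IrrCharacter H, omega (η : H → ℂ) f =
      if (⟨_, blockOf_isPBlock (M := M) η⟩ : {c : Set (IrrCharacter H) // IsPBlock M c}) ∈ O
      then 1 else 0 := by
    intro η
    haveI := Fintype.ofFinite H
    rw [hfdef, omega_sum, Finset.sum_congr rfl fun c _ => omega_blockIdem hM c.2 η]
    by_cases h : (⟨_, blockOf_isPBlock (M := M) η⟩ : {c : Set (IrrCharacter H) // IsPBlock M c}) ∈ O
    · rw [if_pos h, Finset.sum_eq_single
        (⟨_, blockOf_isPBlock (M := M) η⟩ : {c : Set (IrrCharacter H) // IsPBlock M c})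
        (fun c _ hne => if_neg fun h' => hne (Subtype.ext (eq_blockOf c.2 h')))
        (fun h' => absurd h h'), if_pos (show η ∈ blockOf M (η : H → ℂ) from sameBlock_refl _)]
    · rw [if_neg h]
      exact Finset.sum_eq_zero fun c hc => if_neg fun h' =>
        h (Subtype.ext (eq_blockOf c.2 h') (a1 := c)
          (a2 := (⟨_, blockOf_isPBlock (M := M) η⟩ : {c : Set (IrrCharacter H) // IsPBlock M c})) ▸ hc)
  -- invariance
  have hOinv : ∀ (m : N) (η : IrrCharacter H)
      (hη : IsIrrCharacter H ((η : H → ℂ) ∘ conjAut H m (hNH m.2))),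
      (∃ n : N, tw n ∈ blockOf M (η : H → ℂ)) →
        ∃ n : N, tw n ∈ blockOf M ((⟨_, hη⟩ : IrrCharacter H) : H → ℂ) := by
    rintro m η hη ⟨n, hn⟩
    refine ⟨n * m, mem_blockOf.2 ?_⟩
    have h1 := sameBlock_comp_mulEquiv (conjAut H m (hNH m.2))
      (mem_blockOf.1 hn)
    have e : (tw (n * m) : H → ℂ) =
        (tw n : H → ℂ) ∘ conjAut H m (hNH m.2) := by
      funext x
      refine congrArg (ξ : H → ℂ) (Subtype.ext ?_)
      simp [conjAut_apply, mul_assoc]
    rw [e]; exact h1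
  have hfinv : ∀ (m : N) (h : H),
      f.coeff (conjAut H m (hNH m.2) h) = f.coeff h := by
    intro m
    set am := conjAut H m (hNH m.2) with ham
    let f' : MonoidAlgebra (locRing M) H := MonoidAlgebra.ofCoeff
      (Finsupp.ofSupportFinite (fun h => f.coeff (am h)) (Set.toFinite _))
    have hf'c : ∀ h, f'.coeff h = f.coeff (am h) := fun h => rfl
    have hf' : IsClassCoeff f' := fun g k => by
      simp only [hf'c, map_mul, map_inv]; exact hf _ _
    suffices f' = f from fun h => by rw [← hf'c, this]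
    refine eq_of_omega_eq hf' hf fun η => ?_
    have hη : IsIrrCharacter H ((η : H → ℂ) ∘ am.symm) := irr_mulEquiv _ η.2
    rw [← omega_comp_mulEquiv (M := M) am.symm (η : H → ℂ) f f'
      (fun g => by rw [hf'c, MulEquiv.apply_symm_apply]),
      hfω ⟨_, hη⟩, hfω η]
    refine if_congr ?_ rfl rfl
    simp only [O, Finset.mem_filter, Finset.mem_univ, true_and]
    constructor
    · intro h
      have h2 : ((η : H → ℂ) ∘ am.symm) ∘ conjAut H (m : G) (hNH m.2) = (η : H → ℂ) := by
        funext x; simp [ham]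
      have := hOinv m ⟨_, hη⟩ (by rw [h2]; exact η.2) h
      simpa [h2] using this
    · intro h
      have hsy : am.symm = conjAut H ((m⁻¹ : N) : G) (hNH (m⁻¹ : N).2) :=
        MulEquiv.ext fun x => Subtype.ext (by simp [ham, conjAut, mul_assoc])
      have h3 := hOinv m⁻¹ η (by rw [← hsy]; exact hη) h
      simpa [hsy] using h3
  -- the lift to `N`
  let F : MonoidAlgebra (locRing M) N := MonoidAlgebra.ofCoeff (Finsupp.ofSupportFinite
    (fun x : N => if hx : (x : G) ∈ H then f.coeff ⟨x, hx⟩ else 0) (Set.toFinite _))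
  have hFc : ∀ x : N, F.coeff x = if hx : (x : G) ∈ H then f.coeff ⟨x, hx⟩ else 0 := fun x => rfl
  have hF : IsClassCoeff F := by
    intro x m
    rw [hFc, hFc]
    have hiff : ((m * x * m⁻¹ : N) : G) ∈ H ↔ (x : G) ∈ H := by
      simpa using (Subgroup.mem_normalizer_iff.1 (hNH m.2) x).symm
    by_cases hx : (x : G) ∈ H
    · rw [dif_pos (hiff.2 hx), dif_pos hx, ← hfinv m ⟨x, hx⟩]
      exact congrArg _ (Subtype.ext (by simp [conjAut_apply]))
    · rw [dif_neg fun h => hx (hiff.1 h), dif_neg hx]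
  have hres : ∀ η : IrrCharacter H,
      omegaBar ((η : H → ℂ) ∘ φ) (resA (H.subgroupOf N) F) = red M (omega (η : H → ℂ) f) := by
    intro η
    rw [omegaBar]
    congr 1
    refine omega_comp_mulEquiv φ _ _ _ fun g => ?_
    rw [coeff_resA, hFc, dif_pos (Subgroup.mem_subgroupOf.1 g.2)]
    exact congrArg _ (Subtype.ext (hφ g).symm)
  have h1 : (⟨_, blockOf_isPBlock (M := M) ξ'⟩ : {c : Set (IrrCharacter H) // IsPBlock M c}) ∈ O := by
    have e1 := hβω ψ hψ F hF
    have e2 := hβω' ψ (hββ ▸ hψ) F hF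
    rw [← e2, hres, hres, hfω, hfω] at e1
    by_contra hno
    rw [if_pos, if_neg hno, red_one, red_zero] at e1
    · exact one_ne_zero e1
    · refine Finset.mem_filter.2 ⟨Finset.mem_univ _, 1, mem_blockOf.2 ?_⟩
      have e : (tw 1 : H → ℂ) = (ξ : H → ℂ) := by
        funext x
        exact congrArg (ξ : H → ℂ) (Subtype.ext (by simp [conjAut_apply]))
      rw [e]; exact sameBlock_refl _
  obtain ⟨-, n, hn⟩ := Finset.mem_filter.1 h1
  refine ⟨n, n.2, fun θ hθ => ?_⟩
  obtain ⟨θ', hθ'⟩ : ∃ θ' : IrrCharacter H,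
      (θ' : H → ℂ) = (θ : H → ℂ) ∘ conjAut H n (hNH n.2) :=
    ⟨⟨_, irr_mulEquiv _ θ.2⟩, rfl⟩
  refine ⟨θ', mem_of_sameBlock hb' hξ' (sameBlock_trans (mem_blockOf.1 hn) ?_),
    fun x => congrFun hθ' x⟩
  rw [hθ']
  exact sameBlock_comp_mulEquiv _ (sameBlock_of_mem hb hξ hθ)

end CfsgLib.Blk
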