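import Cfsg.Agent.Blk.NormalP
import Cfsg.Agent.Blk.NormalDefect
import Cfsg.Agent.Blk.Pair.Maximal
import Cfsg.Agent.Blk.Pair.FirstMain
import Cfsg.Agent.Blk.Pair.NormalP
import Cfsg.Agent.Solv.Basic

/-!
Normal `p'`-subgroups in the kernel of the blocks of Brauer pairs: the averaging idempotents and
their Brauer images.
-/

set_option autoImplicit false
set_option linter.style.haveILetI false
set_option linter.unusedSectionVars false

namespace CfsgLib.Blk.Pair

open Cfsg CfsgLib.Char CfsgLib.Blk CfsgLib.Solv MonoidAlgebra Finset IsLocalRing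

universe u

variable {G : Type u} [Group G] [Finite G] {M : Ideal AlgInt} [M.IsPrime] {p : ℕ}

/-- The averaging element of a subgroup. -/
noncomputable def hatA (M : Ideal AlgInt) [M.IsPrime] (L : Subgroup G) : KA M G :=
  MonoidAlgebra.ofCoeff (Finsupp.ofSupportFinite
    (fun g => by classical exact if g ∈ L then (Nat.card L : Res M)⁻¹ else 0) (Set.toFinite _))

theorem coeff_hatA (L : Subgroup G) (g : G) [Decidable (g ∈ L)] :
    (hatA M L).coeff g = if g ∈ L then (Nat.card L : Res M)⁻¹ else 0 := by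
  simp only [hatA, MonoidAlgebra.coeff_ofCoeff, Finsupp.ofSupportFinite_coe]
  split_ifs <;> rfl

theorem isClassCoeff_hatA (L : Subgroup G) [hL : L.Normal] : IsClassCoeff (hatA M L) := fun g h => by
  classical
  rw [coeff_hatA, coeff_hatA]
  exact if_congr ⟨fun hh => by simpa [mul_assoc] using hL.conj_mem _ hh h⁻¹,
    fun hh => hL.conj_mem _ hh h⟩ rfl rfl

theorem inA_hatA (K : Subgroup G) (L : Subgroup K) :
    inA K (hatA M L) = hatA M (L.map K.subtype) := by
  classical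
  refine MonoidAlgebra.coeff_injective (Finsupp.ext fun g => ?_)
  rw [coeff_hatA, Subgroup.card_map_of_injective K.subtype_injective]
  by_cases hg : g ∈ K
  · rw [show g = ((⟨g, hg⟩ : K) : G) from rfl, coeff_inA, coeff_hatA]
    exact if_congr ⟨fun h => ⟨_, h, rfl⟩, fun ⟨y, hy, he⟩ => Subtype.ext he ▸ hy⟩ rfl rfl
  · rw [coeff_inA_of_notMem _ _ hg, if_neg]
    rintro ⟨y, -, rfl⟩
    exact hg y.2

variable (hM : IsPModular p M) [Fact p.Prime]
include hM

theorem hatA_mul_self (L : Subgroup G) (hL : ¬ p ∣ Nat.card L) :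
    hatA M L * hatA M L = hatA M L := by
  classical
  haveI := Fintype.ofFinite G
  haveI : CharP (Res M) p := charP_res hM
  have hne : (Nat.card L : Res M) ≠ 0 := by
    rw [Ne, CharP.cast_eq_zero_iff (Res M) p]; exact hL
  refine MonoidAlgebra.coeff_injective (Finsupp.ext fun g => ?_)
  rw [coeff_mul_sum]
  simp only [coeff_hatA]
  by_cases hg : g ∈ L
  · have : ∀ x : G, ((if x ∈ L then (Nat.card L : Res M)⁻¹ else 0) *
        if x⁻¹ * g ∈ L then (Nat.card L : Res M)⁻¹ else 0) =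
        if x ∈ L then (Nat.card L : Res M)⁻¹ * (Nat.card L : Res M)⁻¹ else 0 := by
      intro x
      by_cases hx : x ∈ L
      · rw [if_pos hx, if_pos (mul_mem (inv_mem hx) hg), if_pos hx]
      · rw [if_neg hx, if_neg hx, zero_mul]
    simp only [this, if_pos hg, Finset.sum_ite, Finset.sum_const_zero, add_zero, Finset.sum_const,
      nsmul_eq_mul]
    rw [show ((Finset.univ.filter fun x => x ∈ L).card) = Nat.card L by
      rw [Nat.card_eq_fintype_card, Fintype.card_subtype], ← mul_assoc, mul_inv_cancel₀ hne, one_mul]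
  · rw [if_neg hg, Finset.sum_eq_zero]
    intro x _
    by_cases hx : x ∈ L
    · rw [if_neg fun h : x⁻¹ * g ∈ L => hg (by simpa using mul_mem hx h), mul_zero]
    · rw [if_neg hx, zero_mul]

/-- The value of the averaging idempotent tells whether the subgroup is in the kernel. -/
theorem lam_hatA (L : Subgroup G) [L.Normal] (hL : ¬ p ∣ Nat.card L) (χ : IrrCharacter G) :
    lam (χ : G → ℂ) (hatA M L) = 1 ↔ ∀ y ∈ L, (χ : G → ℂ) y = (χ : G → ℂ) 1 := by
  classical
  haveI := Fintype.ofFinite G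
  haveI := Fintype.ofFinite L
  let c : locRing M := ⟨(Nat.card L : ℂ)⁻¹, natCast_inv_mem hM hL⟩
  let A : MonoidAlgebra (locRing M) G := MonoidAlgebra.ofCoeff (Finsupp.ofSupportFinite
    (fun g => if g ∈ L then c else 0) (Set.toFinite _))
  have hA : ∀ g, A.coeff g = if g ∈ L then c else 0 := fun _ => rfl
  have hAc : IsClassCoeff A := fun g h => by
    rw [hA, hA]
    exact if_congr ⟨fun hh => by simpa [mul_assoc] using (inferInstance : L.Normal).conj_mem _ hh h⁻¹,
      fun hh => (inferInstance : L.Normal).conj_mem _ hh h⟩ rfl rfl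
  have hred : redA A = hatA M L := by
    refine MonoidAlgebra.coeff_injective (Finsupp.ext fun g => ?_)
    rw [coeff_redA, coeff_hatA, hA]
    split_ifs
    · refine eq_inv_of_mul_eq_one_left ?_
      rw [← map_natCast (residue (locRing M)), ← map_mul, ← map_one (residue (locRing M))]
      exact congrArg _ (Subtype.ext (by
        simp only [Subring.coe_mul, Subring.coe_natCast, OneMemClass.coe_one, c]
        exact inv_mul_cancel₀ (natCard_ne_zero L)))
    · exact map_zero _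
  have hω : omega (χ : G → ℂ) A =
      ((Nat.card L : ℂ)⁻¹ * ∑ y : L, (χ : G → ℂ) (y : G)) / (χ : G → ℂ) 1 := by
    rw [omega_eq]
    congr 1
    rw [sum_subgroup L _ (fun g hg => by simp [hA, hg]), Finset.mul_sum]
    exact Finset.sum_congr rfl fun y _ => by simp [hA, c]
  rw [← hred, lam_redA χ.2 hAc, omegaBar, hω]
  constructor
  · intro h
    rcases sum_normal_eq_zero_or χ L with h0 | h0
    · rw [h0, mul_zero, zero_div, red_zero] at h
      exact absurd h zero_ne_one
    · exact h0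
  · intro h
    have : ∑ y : L, (χ : G → ℂ) (y : G) = (Nat.card L : ℂ) * (χ : G → ℂ) 1 := by
      simp [h _ (Subtype.prop _), Nat.card_eq_fintype_card]
    rw [this, inv_mul_cancel_left₀ (natCard_ne_zero L), div_self (irr_one_ne_zero χ.2), red_one]

/-- The Brauer image of the averaging idempotent. -/
theorem resA_hatA {R : Subgroup G} (hR : IsPGroup p R) (L : Subgroup G)
    (hRL : R ≤ Subgroup.normalizer (L : Set G)) :
    resA (Cn R) (hatA M L) = hatA M (L.subgroupOf (Cn R)) := by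
  classical
  haveI : CharP (Res M) p := charP_res hM
  haveI := Fintype.ofFinite L
  letI : MulAction R L :=
    { smul := fun r x => ⟨(r : G) * x * (r : G)⁻¹, (Subgroup.mem_normalizer_iff.1 (hRL r.2) _).1 x.2⟩
      one_smul := fun x => Subtype.ext (show (1 : G) * x * (1 : G)⁻¹ = x by group)
      mul_smul := fun q r x => Subtype.ext (show ((q * r : R) : G) * x * ((q * r : R) : G)⁻¹ =
        q * (r * x * (r : G)⁻¹) * (q : G)⁻¹ by rw [Subgroup.coe_mul]; group) }
  have hcard : (Nat.card (L.subgroupOf (Cn R)) : Res M) = (Nat.card L : Res M) := by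
    have h := hR.card_modEq_card_fixedPoints (α := L)
    rw [← CharP.natCast_eq_natCast (Res M) p] at h
    rw [h]
    congr 1
    refine Nat.card_congr
      { toFun := fun x => ⟨⟨(x.1 : G), x.2⟩, fun r => Subtype.ext
          (show (r : G) * (x.1 : G) * (r : G)⁻¹ = (x.1 : G) by
            rw [x.1.2 r r.2, mul_inv_cancel_right])⟩
        invFun := fun x => ⟨⟨(x.1 : G), fun r hr => mul_inv_eq_iff_eq_mul.1
          (congrArg Subtype.val (x.2 ⟨r, hr⟩))⟩, x.1.2⟩
        left_inv := fun _ => rfl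
        right_inv := fun _ => rfl }
  refine MonoidAlgebra.coeff_injective (Finsupp.ext fun g => ?_)
  rw [coeff_resA, coeff_hatA, coeff_hatA, hcard]
  exact if_congr Subgroup.mem_subgroupOf.symm rfl rfl

theorem adm_hatA_classCoeff {R : Subgroup G} (L : Subgroup G) [L.Normal] : Adm R (hatA M L) :=
  adm_of_classCoeff (isClassCoeff_hatA L)

/-- Along a normal subpair an invariant `p'`-subgroup lies in the kernel at one end if and only if
its centralized part does at the other. -/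
theorem kernel_iff_of_normalSubpair {Q R : Subgroup G} {f : Set (IrrCharacter (Cn Q))}
    {g : Set (IrrCharacter (Cn R))} (h : IsNormalSubpair p M Q f R g)
    (L : Subgroup (Cn Q)) [hLn : L.Normal] (hL : ¬ p ∣ Nat.card L)
    (hRL : R ≤ Subgroup.normalizer ((L.map (Cn Q).subtype : Subgroup G) : Set G)) :
    (∀ η ∈ f, ∀ y ∈ L, (η : Cn Q → ℂ) y = (η : Cn Q → ℂ) 1) ↔
      ∀ ξ ∈ g, ∀ y : Cn R, (y : G) ∈ L.map (Cn Q).subtype → (ξ : Cn R → ℂ) y = (ξ : Cn R → ℂ) 1 := by
  classical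
  obtain ⟨hf, hg, hQR, -, hfix, hv⟩ := (isNormalSubpair_iff hM).1 h
  set LG := L.map (Cn Q).subtype with hLG
  have hz : IsClassCoeff (hatA M L) := isClassCoeff_hatA L
  have ha : Adm R (inA (Cn Q) (hatA M L)) := by
    refine ⟨fix_iff.2 fun r hr x => ?_, (fix_Cn_inA Q hz).mono (Cn_antitone hQR)⟩
    rw [inA_hatA, coeff_hatA, coeff_hatA, ← hLG]
    exact if_congr (Subgroup.mem_normalizer_iff.1 (hRL hr) x).symm rfl rfl
  have hb : Adm R (idA M Q f) :=
    ⟨hfix, (fix_Cn_inA Q (isClassCoeff_bid hM hf.2)).mono (Cn_antitone hQR)⟩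
  haveI hLR : (LG.subgroupOf (Cn R)).Normal := ⟨fun y hy c => by
    obtain ⟨l, hl, hle⟩ := hy
    refine ⟨(⟨(c : G), Cn_antitone hQR c.2⟩ : Cn Q) * l * (⟨(c : G), Cn_antitone hQR c.2⟩ : Cn Q)⁻¹,
      hLn.conj_mem _ hl _, ?_⟩
    simp only [Subgroup.coe_subtype, Subgroup.coe_mul, Subgroup.coe_inv] at hle ⊢
    rw [hle]⟩
  have hLR' : ¬ p ∣ Nat.card (LG.subgroupOf (Cn R)) := fun hd => hL (by
    refine hd.trans ?_
    rw [card_subgroupOf_eq_inf, ← Subgroup.card_map_of_injective (K := L) (Cn Q).subtype_injective]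
    exact Subgroup.card_dvd_of_le inf_le_left)
  have key : ∀ η ∈ f, ∀ ξ ∈ g, lam (η : Cn Q → ℂ) (hatA M L) =
      lam (ξ : Cn R → ℂ) (hatA M (LG.subgroupOf (Cn R))) := by
    intro η hη ξ hξ
    have h1 := val_mul (ξ := ξ) hM hg.1 hb ha
    rw [hv ξ hξ, one_mul, idA, ← map_mul,
      bid_mul_idem hM hf.2 hz (hatA_mul_self hM L hL) hη, inA_smul,
      val_smul _ hb, hv ξ hξ, mul_one] at h1
    rw [h1, inA_hatA, val, resA_hatA hM hg.1 _ hRL]
  constructor
  · intro hk ξ hξ y hy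
    obtain ⟨η, hη⟩ := isPBlock_nonempty hf.2
    exact (lam_hatA hM _ hLR' ξ).1 ((key η hη ξ hξ).symm.trans
      ((lam_hatA hM L hL η).2 (hk η hη))) y hy
  · intro hk η hη y hy
    obtain ⟨ξ, hξ⟩ := isPBlock_nonempty hg.2
    exact (lam_hatA hM L hL η).1 ((key η hη ξ hξ).trans
      ((lam_hatA hM _ hLR' ξ).2 fun z hz => hk ξ hξ z hz)) y hy

/-- Through a pair of a block the kernel is seen on the centralizer. -/
theorem kernel_iff_of_pairOf {Q : Subgroup G} {f : Set (IrrCharacter (Cn Q))}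
    {B : Set (IrrCharacter G)} (h : IsBrauerPairOf p M B Q f) (L : Subgroup G) [L.Normal]
    (hL : ¬ p ∣ Nat.card L) :
    (∀ y ∈ L, y ∈ blockKer B) ↔
      ∀ ξ ∈ f, ∀ y : Cn Q, (y : G) ∈ L → (ξ : Cn Q → ℂ) y = (ξ : Cn Q → ℂ) 1 := by
  classical
  obtain ⟨hf, hB, -⟩ := (isBrauerPairOf_iff hM).1 h
  haveI : (L.subgroupOf (Cn Q)).Normal := ⟨fun y hy c =>
    Subgroup.mem_subgroupOf.2 (by
      simpa using (inferInstance : L.Normal).conj_mem _ (Subgroup.mem_subgroupOf.1 hy) c)⟩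
  have hL' : ¬ p ∣ Nat.card (L.subgroupOf (Cn Q)) := fun hd => hL (by
    refine hd.trans ?_
    rw [card_subgroupOf_eq_inf]
    exact Subgroup.card_dvd_of_le inf_le_left)
  have key : ∀ χ ∈ B, ∀ ξ ∈ f, lam (χ : G → ℂ) (hatA M L) =
      lam (ξ : Cn Q → ℂ) (hatA M (L.subgroupOf (Cn Q))) := fun χ hχ ξ hξ => by
    rw [← val_eq_lam hM h hξ hχ (isClassCoeff_hatA L), val,
      resA_hatA hM hf.1 L (by rw [Subgroup.normalizer_eq_top_iff.2 inferInstance]; exact le_top)]
  constructor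
  · intro hk ξ hξ y hy
    obtain ⟨χ, hχ⟩ := isPBlock_nonempty hB
    exact (lam_hatA hM _ hL' ξ).1 ((key χ hχ ξ hξ).symm.trans
      ((lam_hatA hM L hL χ).2 fun z hz => hk z hz χ hχ)) y hy
  · intro hk y hy χ hχ
    obtain ⟨ξ, hξ⟩ := isPBlock_nonempty hf.2
    exact (lam_hatA hM L hL χ).1 ((key χ hχ ξ hξ).trans
      ((lam_hatA hM _ hL' ξ).2 fun z hz => hk ξ hξ z hz)) y hy

omit hM in
theorem not_dvd_card_piCore {π : Set ℕ} (hpπ : p ∈ π) {X : Type u} [Group X] [Finite X] :
    ¬ p ∣ Nat.card (piCore {q | q ∉ π} X) := fun h =>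
  (piNat_card_piCore {q | q ∉ π} p Fact.out h) hpπ

/-- The `π'`-core of the centralizer is in the kernel of the pair. -/
def PiKills (π : Set ℕ) (Q : Subgroup G) (f : Set (IrrCharacter (Cn Q))) : Prop :=
  ∀ η ∈ f, ∀ y ∈ piCore {q | q ∉ π} (Cn Q), (η : Cn Q → ℂ) y = (η : Cn Q → ℂ) 1

/-- Every `π'`-element of the centralizer lies in its `π'`-core. -/
def PiHall (π : Set ℕ) (Q : Subgroup G) : Prop :=
  ∀ x : Cn Q, (∀ q : ℕ, q.Prime → q ∣ orderOf x → q ∉ π) → x ∈ piCore {q | q ∉ π} (Cn Q)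

omit hM in
theorem piCore_inf_le {π : Set ℕ} {Q R : Subgroup G} (hQR : Q ≤ R) :
    ((piCore π (Cn Q)).map (Cn Q).subtype).subgroupOf (Cn R) ≤ piCore π (Cn R) := by
  haveI hn : (((piCore π (Cn Q)).map (Cn Q).subtype).subgroupOf (Cn R)).Normal := ⟨fun y hy c => by
    obtain ⟨l, hl, hle⟩ := hy
    refine ⟨(⟨(c : G), Cn_antitone hQR c.2⟩ : Cn Q) * l * (⟨(c : G), Cn_antitone hQR c.2⟩ : Cn Q)⁻¹,
      (inferInstance : (piCore π (Cn Q)).Normal).conj_mem _ hl _, ?_⟩
    simp only [Subgroup.coe_subtype, Subgroup.coe_mul, Subgroup.coe_inv] at hle ⊢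
    rw [hle]⟩
  refine le_piCore ((piNat_card_piCore (G := Cn Q) π).of_dvd ?_)
  rw [card_subgroupOf_eq_inf,
    ← Subgroup.card_map_of_injective (K := piCore π (Cn Q)) (Cn Q).subtype_injective]
  exact Subgroup.card_dvd_of_le inf_le_left

omit hM in
theorem le_normalizer_map_piCore {π : Set ℕ} {Q R : Subgroup G}
    (hRN : R ≤ Subgroup.normalizer (Q : Set G)) :
    R ≤ Subgroup.normalizer (((piCore π (Cn Q)).map (Cn Q).subtype : Subgroup G) : Set G) := by
  rw [le_normalizer_iff_forall_conj_mem]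
  rintro r hr _ ⟨l, hl, rfl⟩
  have hrC := normalizer_le_normalizer_Cn Q (hRN hr)
  have hmap := map_piCore_equiv (π := π) (conjAut (Cn Q) r hrC)
  exact ⟨conjAut (Cn Q) r hrC l, hmap ▸ ⟨l, hl, rfl⟩, rfl⟩

theorem piKills_of_normalSubpair {π : Set ℕ} (hpπ : p ∈ π) {Q R : Subgroup G}
    {f : Set (IrrCharacter (Cn Q))} {g : Set (IrrCharacter (Cn R))}
    (h : IsNormalSubpair p M Q f R g) (hk : PiKills π R g) : PiKills π Q f :=
  (kernel_iff_of_normalSubpair hM h _ (not_dvd_card_piCore hpπ)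
    (le_normalizer_map_piCore h.2.2.2.1)).2
    fun ξ hξ y hy => hk ξ hξ y (piCore_inf_le h.2.2.1 (Subgroup.mem_subgroupOf.2 hy))

theorem piKills_up {π : Set ℕ} (hpπ : p ∈ π) {Q R : Subgroup G}
    {f : Set (IrrCharacter (Cn Q))} {g : Set (IrrCharacter (Cn R))}
    (h : IsNormalSubpair p M Q f R g) (hH : PiHall π Q) (hk : PiKills π Q f) :
    PiHall π R ∧ PiKills π R g := by
  have hQR : Q ≤ R := h.2.2.1
  have hall : ∀ x : Cn R, (∀ q : ℕ, q.Prime → q ∣ orderOf x → q ∉ π) →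
      (x : G) ∈ (piCore {q | q ∉ π} (Cn Q)).map (Cn Q).subtype := fun x hx =>
    ⟨⟨(x : G), Cn_antitone hQR x.2⟩, hH _ (by
      intro q hq hd
      refine hx q hq ?_
      rwa [← Subgroup.orderOf_coe] at hd ⊢), rfl⟩
  refine ⟨fun x hx => piCore_inf_le hQR (Subgroup.mem_subgroupOf.2 (hall x hx)), fun ξ hξ y hy => ?_⟩
  refine (kernel_iff_of_normalSubpair hM h _ (not_dvd_card_piCore hpπ)
    (le_normalizer_map_piCore h.2.2.2.1)).1 hk ξ hξ y (hall y fun q hq hd => ?_)
  exact piNat_card_piCore {q | q ∉ π} q hq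
    (hd.trans (Subgroup.orderOf_dvd_natCard _ hy))

theorem piKills_of_subpairLE {π : Set ℕ} (hpπ : p ∈ π) {Q R : Subgroup G}
    {f : Set (IrrCharacter (Cn Q))} {g : Set (IrrCharacter (Cn R))}
    (h : SubpairLE p M Q f R g) (hk : PiKills π R g) : PiKills π Q f := by
  suffices key : ∀ a : BrauerPairIdx G, Relation.ReflTransGen (NormalSubpairRel p M) a ⟨R, g⟩ →
      PiKills π a.1 a.2 from key ⟨Q, f⟩ h
  intro a ha
  induction ha using Relation.ReflTransGen.head_induction_on with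
  | refl => exact hk
  | head hab _ ih => exact piKills_of_normalSubpair hM hpπ hab ih

theorem piKills_up_subpairLE {π : Set ℕ} (hpπ : p ∈ π) {Q R : Subgroup G}
    {f : Set (IrrCharacter (Cn Q))} {g : Set (IrrCharacter (Cn R))}
    (h : SubpairLE p M Q f R g) (hH : PiHall π Q) (hk : PiKills π Q f) :
    PiHall π R ∧ PiKills π R g := by
  suffices key : ∀ b : BrauerPairIdx G, Relation.ReflTransGen (NormalSubpairRel p M) ⟨Q, f⟩ b →
      PiHall π b.1 ∧ PiKills π b.1 b.2 from key ⟨R, g⟩ h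
  intro b hb
  induction hb with
  | refl => exact ⟨hH, hk⟩
  | tail _ hbc ih => exact piKills_up hM hpπ hbc ih.1 ih.2

omit hM in
theorem piKills_cjPair {π : Set ℕ} (x : G) {Q : Subgroup G} {f : Set (IrrCharacter (Cn Q))} :
    PiKills π (Q.map (MulAut.conj x).toMonoidHom) (conjBlock Q x f) ↔ PiKills π Q f := by
  rw [conjBlock_eq_mvSet]
  let e := cjIso x (mem_centralizer_map_conj Q x)
  have hmap := map_piCore_equiv (π := {q | q ∉ π}) e
  constructor
  · intro h η hη y hy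
    have h1 := h _ ((mem_mvSet e).2 hη) (e y) (hmap ▸ ⟨y, hy, rfl⟩)
    rw [mvChar_apply, mvChar_apply, e.symm_apply_apply, map_one] at h1
    exact h1
  · intro h η' hη' y hy
    obtain ⟨η, hη, rfl⟩ := hη'
    rw [← hmap] at hy
    obtain ⟨z, hz, rfl⟩ := hy
    rw [mvChar_apply, mvChar_apply, MulEquiv.coe_toMonoidHom, e.symm_apply_apply, map_one]
    exact h η hη z hz

/-- A pair in a subgroup containing the centralizer gives a pair of the induced block. -/
theorem pairOf_induced {T : Subgroup G} {b : Set (IrrCharacter T)} {B : Set (IrrCharacter G)}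
    (hind : IsInducedBlock M T b B) {Q : Subgroup G} (hQ : Q ≤ T) (hC : Cn Q ≤ T)
    {f' : Set (IrrCharacter (Cn (Q.subgroupOf T)))}
    (h : IsBrauerPairOf p M b (Q.subgroupOf T) f') :
    ∃ f, IsBrauerPairOf p M B Q f ∧ subSet hC hQ f = f' := by
  classical
  obtain ⟨hb, hB, hω⟩ := (isInducedBlock_iff T).1 hind
  refine ⟨mvSet (cnEquiv hC hQ).symm f', ?_, ?_⟩
  swap
  · have := mvSet_symm (cnEquiv hC hQ).symm f'
    rwa [MulEquiv.symm_symm] at this
  obtain ⟨he, -, hv⟩ := (isBrauerPairOf_iff hM).1 h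
  obtain ⟨η, hη⟩ := isPBlock_nonempty he.2
  obtain ⟨θ, hθ⟩ := isPBlock_nonempty hb
  obtain ⟨χ, hχ⟩ := isPBlock_nonempty hB
  refine isBrauerPairOf_of_mem hM hB
    ⟨he.1.of_equiv (Subgroup.subgroupOfEquivOfLe hQ), isPBlock_mvSet _ he.2⟩
    ((mem_mvSet _).2 hη) ?_
  have hbc := isClassCoeff_bid hM hB
  rw [← val_resA hC hQ, mvChar_symm', val_eq_lam hM h hη hθ (isClassCoeff_resA T hbc),
    bid_eq hM hB, ← redA_resA, lam_redA θ.2 (isClassCoeff_resA T (isClassCoeff_blockIdem hM hB)),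
    hω θ hθ χ hχ _ (isClassCoeff_blockIdem hM hB), omegaBar_blockIdem, if_pos hχ]

omit hM in
theorem subgroupOf_piCore_le_Cn {π : Set ℕ} {T Q : Subgroup G} (hQ : Q ≤ T) (hC : Cn Q ≤ T) :
    ((piCore π T).map T.subtype).subgroupOf (Cn Q) ≤ piCore π (Cn Q) := by
  haveI hn : (((piCore π T).map T.subtype).subgroupOf (Cn Q)).Normal := ⟨fun y hy c => by
    obtain ⟨l, hl, hle⟩ := hy
    refine ⟨(⟨(c : G), hC c.2⟩ : T) * l * (⟨(c : G), hC c.2⟩ : T)⁻¹,
      (inferInstance : (piCore π T).Normal).conj_mem _ hl _, ?_⟩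
    simp only [Subgroup.coe_subtype, Subgroup.coe_mul, Subgroup.coe_inv] at hle ⊢
    rw [hle]⟩
  refine le_piCore ((piNat_card_piCore (G := T) π).of_dvd ?_)
  rw [card_subgroupOf_eq_inf,
    ← Subgroup.card_map_of_injective (K := piCore π T) T.subtype_injective]
  exact Subgroup.card_dvd_of_le inf_le_left

omit hM in
theorem piCore_Cn_le {π : Set ℕ} {D : Subgroup G} :
    ∀ y ∈ piCore π (Cn D), ⟨(y : G), Cn_le_normalizer D y.2⟩ ∈
      piCore π (Subgroup.normalizer (D : Set G)) := by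
  set N := Subgroup.normalizer (D : Set G) with hN
  intro y hy
  set L := ((piCore π (Cn D)).map (Cn D).subtype).subgroupOf N with hL
  haveI hn : L.Normal := by
    refine Subgroup.normal_subgroupOf_of_le_normalizer (le_normalizer_map_piCore ?_)
    exact le_rfl
  refine le_piCore (N := L) ((piNat_card_piCore (G := Cn D) π).of_dvd ?_) ⟨y, hy, rfl⟩
  rw [hL, card_subgroupOf_eq_inf,
    ← Subgroup.card_map_of_injective (K := piCore π (Cn D)) (Cn D).subtype_injective]
  exact Subgroup.card_dvd_of_le inf_le_left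

end CfsgLib.Blk.Pair

namespace CfsgLib.Blk.Pair

open Cfsg CfsgLib.Char CfsgLib.Blk CfsgLib.Solv MonoidAlgebra Finset IsLocalRing

universe v

variable {G : Type v} [Group G] [Finite G] {M : Ideal AlgInt} [M.IsPrime] {p : ℕ}
variable (hM : IsPModular p M) [Fact p.Prime]
include hM

/-- The maximal pair coming from a block of the normalizer of the defect group, and what its kernel
condition says. -/
theorem exists_maximal_kills {π : Set ℕ} (hpπ : p ∈ π) {B : Set (IrrCharacter G)} {D : Subgroup G}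
    (hBD : IsDefectGroup p M B D)
    {B₁ : Set (IrrCharacter (Subgroup.normalizer (D : Set G)))}
    (hB₁ : IsInducedBlock M (Subgroup.normalizer (D : Set G)) B₁ B)
    (hB₁D : IsDefectGroup p M B₁ (D.subgroupOf (Subgroup.normalizer (D : Set G)))) :
    ∃ e, IsMaximalBrauerPair p M B D e ∧
      ((∀ n ∈ piCore {q | q ∉ π} (Subgroup.normalizer (D : Set G)), n ∈ blockKer B₁) ↔
        PiKills π D e) := by
  classical
  set N := Subgroup.normalizer (D : Set G) with hN
  obtain ⟨hb, hB, -⟩ := (isInducedBlock_iff N).1 hB₁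
  obtain ⟨e', he'⟩ := exists_maximal_of_defectGroup hM hb hB₁D
  obtain ⟨e, he, hee⟩ := pairOf_induced hM hB₁ (Q := D) Subgroup.le_normalizer (Cn_le_normalizer D)
    he'.1
  refine ⟨e, maximal_of_card hM he hBD le_rfl, ?_⟩
  rw [kernel_iff_of_pairOf hM he'.1 _ (not_dvd_card_piCore hpπ), ← hee]
  constructor
  · intro h η hη y hy
    have h1 := h _ ((mem_mvSet _).2 hη) (cnEquiv (Cn_le_normalizer D) Subgroup.le_normalizer y)
      (piCore_Cn_le y hy)
    rwa [mvChar_apply, mvChar_apply, MulEquiv.symm_apply_apply, map_one] at h1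
  · rintro h ξ ⟨η, hη, rfl⟩ y hy
    obtain ⟨x, rfl⟩ := (cnEquiv (Cn_le_normalizer D) Subgroup.le_normalizer).surjective y
    rw [mvChar_apply, mvChar_apply, MulEquiv.symm_apply_apply, map_one]
    exact h η hη x (subgroupOf_piCore_le_Cn Subgroup.le_normalizer (Cn_le_normalizer D)
      (Subgroup.mem_subgroupOf.2 ⟨_, hy, rfl⟩))

/-- The kernel passes down to the blocks of subgroups containing the centralizer of a defect
group. -/
theorem piCore_le_blockKer {π : Set ℕ} (hpπ : p ∈ π) {B : Set (IrrCharacter G)} {D : Subgroup G}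
    {e : Set (IrrCharacter (Cn D))} (hmax : IsMaximalBrauerPair p M B D e) (hk : PiKills π D e)
    {G₀ : Subgroup G} {B₀ : Set (IrrCharacter G₀)} (hB₀ : IsInducedBlock M G₀ B₀ B)
    {D₀ : Subgroup G₀} (hD₀ : IsDefectGroup p M B₀ D₀)
    (hC : Cn (D₀.map G₀.subtype) ≤ G₀) :
    ∀ x : G₀, x ∈ piCore {q | q ∉ π} G₀ → x ∈ blockKer B₀ := by
  classical
  obtain ⟨hb, hB, -⟩ := (isInducedBlock_iff G₀).1 hB₀
  obtain ⟨Q, hQ, rfl⟩ : ∃ Q : Subgroup G, Q ≤ G₀ ∧ Q.subgroupOf G₀ = D₀ :=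
    ⟨D₀.map G₀.subtype, Subgroup.map_subtype_le _, by
      rw [← Subgroup.comap_subtype, Subgroup.comap_map_eq_self_of_injective G₀.subtype_injective]⟩
  rw [Subgroup.map_subgroupOf_eq_of_le hQ] at hC
  obtain ⟨f', hf'⟩ := exists_maximal_of_defectGroup hM hb hD₀
  obtain ⟨f, hf, hff⟩ := pairOf_induced hM hB₀ hQ hC hf'.1
  obtain ⟨x, hx⟩ := conj_le_maximal hM hmax hf
  have hkf : PiKills π Q f := (piKills_cjPair x).1 (piKills_of_subpairLE hM hpπ hx hk)
  refine (kernel_iff_of_pairOf hM hf'.1 _ (not_dvd_card_piCore hpπ)).2 ?_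
  rw [← hff]
  rintro ξ ⟨η, hη, rfl⟩ y hy
  obtain ⟨z, rfl⟩ := (cnEquiv hC hQ).surjective y
  rw [mvChar_apply, mvChar_apply, MulEquiv.symm_apply_apply, map_one]
  exact hkf η hη z (subgroupOf_piCore_le_Cn hQ hC (Subgroup.mem_subgroupOf.2 ⟨_, hy, rfl⟩))

omit hM in
theorem map_conj_piHall {π : Set ℕ} (x : G) {Q : Subgroup G} (h : PiHall π Q) :
    PiHall π (Q.map (MulAut.conj x).toMonoidHom) := fun y hy => by
  let e := cjIso x (mem_centralizer_map_conj Q x)
  rw [← map_piCore_equiv (π := {q | q ∉ π}) e]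
  exact ⟨e.symm y, h _ (fun q hq hd => hy q hq (by rwa [MulEquiv.orderOf_eq] at hd)),
    e.apply_symm_apply y⟩

/-- The kernel passes up to the maximal pair. -/
theorem piKills_maximal {π : Set ℕ} (hpπ : p ∈ π) {B : Set (IrrCharacter G)} {D : Subgroup G}
    {e : Set (IrrCharacter (Cn D))} (hmax : IsMaximalBrauerPair p M B D e) {Q : Subgroup G}
    {f : Set (IrrCharacter (Cn Q))} (hf : IsBrauerPairOf p M B Q f) (hH : PiHall π Q)
    (hk : PiKills π Q f) : PiKills π D e := by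
  obtain ⟨x, hx⟩ := conj_le_maximal hM hmax hf
  exact (piKills_up_subpairLE hM hpπ hx (map_conj_piHall x hH) ((piKills_cjPair x).2 hk)).2

end CfsgLib.Blk.Pair
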