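import Cfsg.Agent.Blk.Subsection
import Cfsg.Agent.Blk.Pair.Nilpotent
import Cfsg.Agent.Blk.PiKer

/-!
Subsections of a block with abelian defect group: representatives of the orbits of the inertial
subgroup on the defect group.
-/

set_option autoImplicit false
set_option linter.style.haveILetI false
set_option linter.unusedSectionVars false

namespace CfsgLib.SubsectionPairs

open Cfsg CfsgLib.Char CfsgLib.Blk CfsgLib.Blk.Pair CfsgLib.SectionSplit
open scoped CfsgLib.Char

universe u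

variable {G : Type u} [Group G] [Fintype G] {M : Ideal AlgInt} [M.IsPrime] {p : ℕ} [Fact p.Prime]

theorem cn_zpowers (w : G) : Subgroup.centralizer ({w} : Set G) = Cn (Subgroup.zpowers w) := by
  show _ = Subgroup.centralizer _
  rw [Subgroup.zpowers_eq_closure, Subgroup.centralizer_closure]

/-- Brauer pairs of `B` on `Q` are the blocks of `C(Q)` inducing `B`. -/
theorem pairOf_iff_induced (hM : IsPModular p M) {Q : Subgroup G} (hQ : IsPGroup p Q)
    (hQC : Q ≤ Cn Q) {B : Set (IrrCharacter G)} (hB : IsPBlock M B)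
    {f : Set (IrrCharacter (Cn Q))} :
    IsBrauerPairOf p M B Q f ↔ IsInducedBlock M (Cn Q) f B := by
  classical
  obtain ⟨χ, hχ⟩ := isPBlock_nonempty hB
  constructor
  · intro h
    obtain ⟨B', hB'⟩ := inducedBlockDefined_of_brauer hM Q (Cn Q) hQ hQC le_rfl
      (Cn_le_normalizer Q) h.1.2
    obtain ⟨hf, hB'b, hω⟩ := (isInducedBlock_iff (Cn Q)).1 hB'
    obtain ⟨ξ, hξ⟩ := isPBlock_nonempty hf
    obtain ⟨χ', hχ'⟩ := isPBlock_nonempty hB'b
    obtain ⟨-, -, hv⟩ := (isBrauerPairOf_iff hM).1 h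
    have h1 := hv ξ hξ
    rw [val, bid_eq hM hB, ← redA_resA, lam_redA ξ.2 (isClassCoeff_resA _ (isClassCoeff_blockIdem hM hB)),
      hω ξ hξ χ' hχ' _ (isClassCoeff_blockIdem hM hB), omegaBar_blockIdem] at h1
    have hmem : χ' ∈ B := by
      by_contra hn
      rw [if_neg hn] at h1
      exact zero_ne_one h1
    exact eq_of_mem_of_mem hB'b hB hχ' hmem ▸ hB'
  · intro h
    obtain ⟨hf, -, hω⟩ := (isInducedBlock_iff (Cn Q)).1 h
    obtain ⟨ξ, hξ⟩ := isPBlock_nonempty hf
    refine isBrauerPairOf_of_mem hM hB ⟨hQ, hf⟩ hξ ?_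
    rw [val, bid_eq hM hB, ← redA_resA, lam_redA ξ.2 (isClassCoeff_resA _ (isClassCoeff_blockIdem hM hB)),
      hω ξ hξ χ hχ _ (isClassCoeff_blockIdem hM hB), omegaBar_blockIdem, if_pos hχ]

theorem pair_transport {x : G} {Q : Subgroup G} {f : Set (IrrCharacter (Cn Q))} {P : Subgroup G}
    {e : Set (IrrCharacter (Cn P))} {Q' : Subgroup G} (hQ : Q.map (MulAut.conj x).toMonoidHom = Q')
    (φ : Cn Q ≃* Cn Q') (hφ : ∀ k : Cn Q, (φ k : G) = x * k * x⁻¹)
    (hle : SubpairLE p M Q' (mvSet φ f) P e) :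
    SubpairLE p M (Q.map (MulAut.conj x).toMonoidHom) (conjBlock Q x f) P e := by
  subst hQ
  rw [conjBlock_eq_mvSet]
  convert hle using 2
  exact MulEquiv.ext fun k => Subtype.ext (by rw [coe_cjIso, hφ])

theorem zero_conj {u x : G} {Q : Subgroup G} [Fintype (Cn Q)]
    [Fintype (Cn (Q.map (MulAut.conj x).toMonoidHom))] {f : Set (IrrCharacter (Cn Q))} {F : G → ℂ}
    (hF : IsClassFunction G F) :
    compL p (x * u * x⁻¹) (Cn (Q.map (MulAut.conj x).toMonoidHom)) (conjBlock Q x f) F = 0 ↔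
      compL p u (Cn Q) f F = 0 := by
  have h := fun s => Subsection.compL_conj (p := p) (u := u) (cjIso x (mem_centralizer_map_conj Q x))
    (fun k => coe_cjIso x (mem_centralizer_map_conj Q x) k) f hF s
  rw [conjBlock_eq_mvSet]
  constructor
  · intro h0
    funext s
    rw [← h s, h0]
    rfl
  · intro h0
    funext t
    obtain ⟨s, rfl⟩ := (cjIso x (mem_centralizer_map_conj Q x)).surjective t
    rw [h s, h0]
    rfl

theorem zero_of_eq (hM : IsPModular p M) {u : G} {P : Subgroup G} {e : Set (IrrCharacter (Cn P))}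
    {Q Q' : Subgroup G} (hQ : Q = Q') {f : Set (IrrCharacter (Cn Q))}
    {f' : Set (IrrCharacter (Cn Q'))} (h : SubpairLE p M Q f P e) (h' : SubpairLE p M Q' f' P e)
    {F : G → ℂ} (h0 : compL p u (Cn Q) f F = 0) : compL p u (Cn Q') f' F = 0 := by
  subst hQ
  rwa [← subpair_unique hM P h h']

theorem map_zpowers_conj (x w : G) :
    (Subgroup.zpowers w).map (MulAut.conj x).toMonoidHom = Subgroup.zpowers (x * w * x⁻¹) := by
  rw [MonoidHom.map_zpowers]; rfl

/-- Brauer's formula over representatives of the orbits of the inertial subgroup. -/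
theorem card_abelian (hM : IsPModular p M) {B : Set (IrrCharacter G)} {P : Subgroup G}
    {e : Set (IrrCharacter (Cn P))} (hmax : IsMaximalBrauerPair p M B P e)
    (hab : ∀ x ∈ P, ∀ y ∈ P, x * y = y * x) {ι : Type*} [Fintype ι] (v : ι → G)
    (hv : ∀ i, v i ∈ P ∧ v i ≠ 1)
    (hsep : ∀ i j, ∀ y ∈ Subgroup.normalizer (P : Set G),
      StabilizesBlock (Cn P) e y → y * v i * y⁻¹ = v j → i = j)
    (hcov : ∀ x ∈ P, x ≠ 1 → ∃ i, ∃ y ∈ Subgroup.normalizer (P : Set G),
      StabilizesBlock (Cn P) e y ∧ y * v i * y⁻¹ = x) :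
    ∃ f : ∀ i, Set (IrrCharacter (Cn (Subgroup.zpowers (v i)))),
      (∀ i, SubpairLE p M (Subgroup.zpowers (v i)) (f i) P e ∧
        IsInducedBlock M (Cn (Subgroup.zpowers (v i))) (f i) B) ∧
      Nat.card B = blockRank p B + ∑ i, blockRank p (f i) := by
  classical
  have he := hmax.1.1
  have hB := hmax.1.2.1
  have hF := isBlockFusionSystemOn_blockSystem hM hmax
  have hle : ∀ i, Subgroup.zpowers (v i) ≤ P := fun i => Subgroup.zpowers_le.2 (hv i).1
  choose f hf hsub using fun i => exists_subpair hM P he (hle i)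
  have hQC : ∀ w : G, Subgroup.zpowers w ≤ Cn (Subgroup.zpowers w) := fun w => by
    rw [← cn_zpowers]; exact Subgroup.zpowers_le.2 (Subgroup.mem_centralizer_singleton_iff.2 rfl)
  have hind : ∀ i, IsInducedBlock M (Cn (Subgroup.zpowers (v i))) (f i) B := fun i =>
    (pairOf_iff_induced hM (hf i).1 (hQC _) hB).1 ((pairOf_congr hM (hsub i)).1 hmax.1)
  refine ⟨f, fun i => ⟨hsub i, hind i⟩, ?_⟩
  have hpow : ∀ w ∈ P, ∃ k : ℕ, orderOf w = p ^ k := fun w hw => by
    obtain ⟨k, hk⟩ := IsPGroup.iff_orderOf.1 he.1 ⟨w, hw⟩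
    exact ⟨k, by rw [← hk, Subgroup.orderOf_mk]⟩
  haveI : ∀ i, Fintype (Cn (Subgroup.zpowers (v i))) := fun i => Fintype.ofFinite _
  refine Subsection.card_eq_rank_add_sum hM hB v (fun i => Cn (Subgroup.zpowers (v i)))
    (fun i => ⟨hpow _ (hv i).1, (hv i).2⟩) (fun i => cn_zpowers _) f hind ?_ ?_
  · intro i j hij x hx φ hφ heq
    have hQ : (Subgroup.zpowers (v i)).map (MulAut.conj x).toMonoidHom = Subgroup.zpowers (v j) := by
      rw [map_zpowers_conj, hx]
    have hle' := pair_transport hQ φ hφ (heq ▸ hsub j)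
    obtain ⟨y, hy, hyfix, hyx⟩ := exists_extension_abelian hM hmax hab hF (hsub i)
      ((isMap_block_iff hM hF (hsub i)).2 ⟨x, fun _ _ => rfl, hle'⟩)
    refine hij (hsep i j y hy ((stabilizesBlock_iff hM he.2 y).2
      ⟨normalizer_le_normalizer_Cn P hy, hyfix⟩) ?_)
    rw [← hyx _ (Subgroup.mem_zpowers _), hx]
  · intro F hFc h0 w hw hwp b hb
    have key : ∀ H : Subgroup G, H = Cn (Subgroup.zpowers w) → ∀ b : Set (IrrCharacter H),
        IsInducedBlock M H b B → compL p w H b F = 0 := by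
      rintro H rfl b hb
      have hpair := (pairOf_iff_induced hM (isPGroup_zpowers hwp) (hQC w) hB).2 hb
      obtain ⟨x, hx⟩ := conj_le_maximal hM hmax hpair
      haveI : Fintype (Cn (Subgroup.zpowers w)) := Fintype.ofFinite _
      haveI : Fintype (Cn ((Subgroup.zpowers w).map (MulAut.conj x).toMonoidHom)) := Fintype.ofFinite _
      rw [← zero_conj (x := x) hFc]
      have hwP : x * w * x⁻¹ ∈ P := subpairLE_le hx ⟨w, Subgroup.mem_zpowers w, rfl⟩
      have hw1 : x * w * x⁻¹ ≠ 1 := by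
        rw [Ne, conj_eq_one_iff]; exact hw
      obtain ⟨i, y, hy, hst, hyi⟩ := hcov _ hwP hw1
      haveI : Fintype (Cn ((Subgroup.zpowers (v i)).map (MulAut.conj y).toMonoidHom)) := Fintype.ofFinite _
      have hfQ : IsBrauerPair p M (Subgroup.zpowers (v i)) (f i) := hf i
      have hley : SubpairLE p M ((Subgroup.zpowers (v i)).map (MulAut.conj y).toMonoidHom)
          (conjBlock (Subgroup.zpowers (v i)) y (f i)) P e :=
        subpairLE_cjPair hM hfQ (isBrauerPair_conjBlock y hfQ) he (cjPair_conjBlock y _ (f i))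
          ⟨(map_conj_eq_of_mem_normalizer hy).symm, ((stabilizesBlock_iff hM he.2 y).1 hst).2.symm⟩ (hsub i)
      have hzero := (zero_conj (p := p) (u := v i) (x := y) hFc).2 (h0 i)
      rw [hyi] at hzero
      exact zero_of_eq hM (by rw [map_zpowers_conj, map_zpowers_conj, hyi]) hley hx hzero
    exact key _ (cn_zpowers w) b hb

end CfsgLib.SubsectionPairs
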