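import Cfsg.Agent.Blk.Principal
import Cfsg.Agent.Inv.Isolated
import Cfsg.Agent.Char.Galois
import Cfsg.Agent.Char.Induce
import Mathlib.GroupTheory.Transfer
import Mathlib.GroupTheory.SpecificGroups.Cyclic

/-!
Tools for the Z* theorem: characters and involutions, class sum identities, induction from a
subgroup controlling the support, small group facts.
-/

set_option autoImplicit false
set_option linter.style.haveILetI false
set_option linter.unusedSectionVars false

namespace CfsgLib.Blk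

open Cfsg CfsgLib.Char CfsgLib.Inv MonoidAlgebra Finset
open scoped ComplexConjugate

universe u

variable {G : Type u} [Group G] [Finite G]

theorem char_apply_int_of_sq {χ : G → ℂ} (hχ : IsCharacter G χ) {t : G} (ht : t * t = 1) :
    ∃ n : ℤ, χ t = n := by
  obtain ⟨d, ρ, rfl⟩ := hχ
  obtain ⟨ζ, hζ, -, hsum, -⟩ := exists_roots ρ t
  have hd : orderOf t ∣ 2 := orderOf_dvd_of_pow_eq_one (by rw [pow_two, ht])
  have h : ∀ i, ∃ n : ℤ, ζ i = n := fun i => by
    obtain ⟨c, hc⟩ := hd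
    have h2 : ζ i * ζ i = 1 := by rw [← pow_two, hc, pow_mul, hζ, one_pow]
    rcases mul_self_eq_one_iff.1 h2 with h | h
    · exact ⟨1, by simp [h]⟩
    · exact ⟨-1, by simp [h]⟩
  choose n hn using h
  exact ⟨∑ i, n i, by rw [hsum, Int.cast_sum]; exact Finset.sum_congr rfl fun i _ => hn i⟩

theorem char_apply_int_of_pow_conj {χ : G → ℂ} (hχ : IsCharacter G χ) {g : G}
    (hg : ∀ m : ℕ, m.Coprime (Nat.card G) → IsConj (g ^ m) g) : ∃ n : ℤ, χ g = n := by
  refine int_of_fixed (char_isIntegral hχ g) fun φ => ?_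
  obtain ⟨m, hm, hφ⟩ := algHom_char_pow G φ
  rw [hφ χ hχ g, classFun_isConj (classFun_of_char hχ) (hg m hm)]

open Classical in
/-- The sum over a class of translated values. -/
theorem sum_class_translate [Fintype G] {χ : G → ℂ} (hχ : IsIrrCharacter G χ) (a b : G) :
    ∑ s : G, (if IsConj a s then χ (s * b) else 0) =
      ((Subgroup.centralizer ({a} : Set G)).index : ℂ) * χ a * χ b / χ 1 := by
  obtain ⟨M, hM⟩ := exists_isPModular (q := 2) Nat.prime_two
  haveI := CfsgLib.Blk.IsPModular.isPrime hM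
  have h := omega_mul hχ (isClassCoeff_classSum (locRing M) a) (single b (1 : locRing M))
  rw [omega_classSum (classFun_of_irr hχ), omega_single, omega_eq, centralChar] at h
  simp only [coeff_mul_single_apply, mul_one, coeff_classSum, OneMemClass.coe_one, one_mul] at h
  have h1 := irr_one_ne_zero hχ
  rw [← Fintype.sum_equiv (Equiv.mulRight b⁻¹)
    (fun g => (((if IsConj a (g * b⁻¹) then 1 else 0 : locRing M)) : ℂ) * χ g) _ fun g => by
      simp only [Equiv.coe_mulRight]
      split_ifs <;> simp_all [isConj_iff]]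
  field_simp at h ⊢
  linear_combination h

/-- If `χ z = ± χ 1` then `χ` is trivial on all `g z g⁻¹ z`. -/
theorem apply_conj_mul_eq {χ : G → ℂ} (hχ : IsIrrCharacter G χ) {z : G}
    (hz : χ z ^ 2 = χ 1 ^ 2) (g : G) : χ (g * z * g⁻¹ * z) = χ 1 := by
  classical
  haveI := Fintype.ofFinite G
  have h := sum_class_translate hχ z z
  rw [mul_assoc, ← pow_two, hz, ← Finset.sum_filter, sq, mul_div_assoc,
    mul_div_cancel_right₀ _ (irr_one_ne_zero hχ), ← card_filter_isConj] at h
  exact eq_deg_of_sum_eq (isCharacter_of_isIrr hχ) _ (fun s => s * z) h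
    (i := g * z * g⁻¹) (by simp [isConj_iff])

/-- A nontrivial irreducible character does not have `χ z = ± χ 1` when `z` is not central
modulo any proper normal subgroup. -/
theorem eq_one_of_sq_eq {z : G}
    (hgen : ∀ K : Subgroup G, K.Normal → (∀ g : G, g * z * g⁻¹ * z ∈ K) → K = ⊤)
    {χ : G → ℂ} (hχ : IsIrrCharacter G χ) (hz : χ z ^ 2 = χ 1 ^ 2) : χ = fun _ => 1 := by
  classical
  haveI := Fintype.ofFinite G
  obtain ⟨K, hKn, hK, -⟩ := exists_kernel (isCharacter_of_isIrr hχ)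
  have htop := hgen K hKn fun g => (hK _).2 (apply_conj_mul_eq hχ hz g)
  by_contra hne
  have h := irr_inner_ne hχ isIrr_one hne
  rw [classInner_def, Finset.sum_congr rfl (g := fun _ => χ 1) fun g _ => by
      rw [map_one, mul_one]; exact (hK g).1 (htop ▸ Subgroup.mem_top g),
    Finset.sum_const, Finset.card_univ, nsmul_eq_mul, Fintype.card_eq_nat_card,
    ← mul_assoc, inv_mul_cancel₀ (natCard_ne_zero G), one_mul] at h
  exact irr_one_ne_zero hχ h

/-- The final contradiction of the Z* theorem. -/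
theorem false_of_norm_three {z : G}
    (hodd : ∀ g : G, Odd (orderOf (g * z * g⁻¹ * z)))
    (hgen : ∀ K : Subgroup G, K.Normal → (∀ g : G, g * z * g⁻¹ * z ∈ K) → K = ⊤)
    (θ : G → ℂ) (hθ : ∀ g : G, Odd (orderOf g) → θ g = 0)
    (χ ψ : IrrCharacter G) (a c : ℂ) (ha : a ^ 2 = 1) (hc : c ^ 2 = 1)
    (he : ∀ g, θ g = 1 + a * (χ : G → ℂ) g + c * (ψ : G → ℂ) g)
    (hne : (χ : G → ℂ) ≠ fun _ => 1)
    (hsq : (c * (ψ : G → ℂ) z) ^ 2 = (1 + a * (χ : G → ℂ) z) ^ 2) : False := by
  classical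
  haveI := Fintype.ofFinite G
  have h1 : θ 1 = 0 := hθ 1 (by simp)
  have h2 : ∑ s : G, (if IsConj z s then θ (s * z) else 0) = 0 := by
    refine Finset.sum_eq_zero fun s _ => ?_
    split_ifs with hs
    · obtain ⟨g, rfl⟩ := isConj_iff.1 hs
      exact hθ _ (hodd g)
    · rfl
  rw [he] at h1
  set I : ℂ := ((Subgroup.centralizer ({z} : Set G)).index : ℂ) with hI
  have hI0 : I ≠ 0 := by rw [hI]; exact_mod_cast Subgroup.index_ne_zero_of_finite
  have h3 : ∑ s : G, (if IsConj z s then θ (s * z) else 0) =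
      ∑ s : G, (if IsConj z s then (1 : ℂ) else 0) +
      a * ∑ s : G, (if IsConj z s then (χ : G → ℂ) (s * z) else 0) +
      c * ∑ s : G, (if IsConj z s then (ψ : G → ℂ) (s * z) else 0) := by
    simp only [Finset.mul_sum, ← Finset.sum_add_distrib]
    refine Finset.sum_congr rfl fun s _ => ?_
    split_ifs
    · exact he _
    · ring
  rw [h2, sum_class_translate χ.2, sum_class_translate ψ.2] at h3
  have hone : ∑ s : G, (if IsConj z s then (1 : ℂ) else 0) = I := by
    rw [Finset.sum_boole, hI, ← card_filter_isConj]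
  rw [hone, ← hI] at h3
  set x : ℂ := a * (χ : G → ℂ) 1 with hx
  set y : ℂ := c * (ψ : G → ℂ) 1 with hy
  set b : ℂ := a * (χ : G → ℂ) z with hb
  have ha0 : a ≠ 0 := fun h => by simp [h] at ha
  have hc0 : c ≠ 0 := fun h => by simp [h] at hc
  have hx0 : x ≠ 0 := mul_ne_zero ha0 (irr_one_ne_zero χ.2)
  have hy0 : y ≠ 0 := mul_ne_zero hc0 (irr_one_ne_zero ψ.2)
  have ea : a * ((χ : G → ℂ) z * (χ : G → ℂ) z / (χ : G → ℂ) 1) = b ^ 2 / x := by
    rw [hb, hx]; field_simp
  have ec : c * ((ψ : G → ℂ) z * (ψ : G → ℂ) z / (ψ : G → ℂ) 1) = (1 + b) ^ 2 / y := by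
    rw [← hsq, hy]; field_simp
  have h4 : 1 + b ^ 2 / x + (1 + b) ^ 2 / y = 0 := by
    rw [← ea, ← ec]
    refine mul_left_cancel₀ hI0 ?_
    rw [mul_zero]
    linear_combination -h3
  field_simp at h4
  have hy' : y = -1 - x := by linear_combination h1
  rw [hy'] at h4
  have hbx : (x - b) * (x - b) = 0 := by linear_combination -h4
  have hbx' : x = b := sub_eq_zero.1 (mul_self_eq_zero.1 hbx)
  have hχ : (χ : G → ℂ) z = (χ : G → ℂ) 1 := mul_left_cancel₀ ha0 hbx'.symm
  exact hne (eq_one_of_sq_eq hgen χ.2 (by rw [hχ]))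

/-- Induction from a subgroup controlling the support. -/
theorem indFun_eq_of_ti [Fintype G] (H : Subgroup G) {α : H → ℂ} (hα : IsClassFunction H α) {h : H}
    (hti : ∀ g : G, ∀ hm : g⁻¹ * (h : G) * g ∈ H, α ⟨_, hm⟩ ≠ 0 → g ∈ H) :
    indFun H α (h : G) = α h := by
  classical
  haveI : Fintype H := Fintype.ofFinite _
  rw [indFun_apply, sum_subgroup H _ fun x hx => ?_,
    Finset.sum_congr rfl (g := fun _ => α h) fun x _ => ?_, Finset.sum_const, Finset.card_univ,
    nsmul_eq_mul, Fintype.card_eq_nat_card, ← mul_assoc, inv_mul_cancel₀ (natCard_ne_zero H),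
    one_mul]
  · have hmem : (x : G)⁻¹ * (h : G) * x ∈ H := mul_mem (mul_mem (inv_mem x.2) h.2) x.2
    rw [extendByZero_mem' H _ hmem, ← hα h x⁻¹]
    congr 1
    exact Subtype.ext (by simp)
  · by_cases hm : x⁻¹ * (h : G) * x ∈ H
    · rw [extendByZero_mem' H _ hm]
      by_contra h0
      exact hx (hti x hm h0)
    · exact extendByZero_not_mem _ _ hm

theorem indFun_eq_zero [Fintype G] (H : Subgroup G) {α : H → ℂ} {g : G}
    (h : ∀ k : H, IsConj g (k : G) → α k = 0) : indFun H α g = 0 := by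
  classical
  rw [indFun_apply, Finset.sum_eq_zero fun x _ => ?_, mul_zero]
  by_cases hm : x⁻¹ * g * x ∈ H
  · rw [extendByZero_mem' H _ hm]
    exact h _ (isConj_iff.2 ⟨x⁻¹, by simp⟩)
  · exact extendByZero_not_mem _ _ hm

theorem classInner_indFun_ti [Fintype G] (H : Subgroup G) [Fintype H] {α β : H → ℂ}
    (hβ : IsClassFunction H β)
    (hti : ∀ h : H, α h ≠ 0 → ∀ g : G, ∀ hm : g⁻¹ * (h : G) * g ∈ H, β ⟨_, hm⟩ ≠ 0 → g ∈ H) :
    classInner (indFun H α) (indFun H β) = classInner α β := by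
  rw [frobenius H α (indFun_classFun H β), classInner_def, classInner_def]
  congr 1
  refine Finset.sum_congr rfl fun h _ => ?_
  by_cases h0 : α h = 0
  · simp [h0]
  · rw [indFun_eq_of_ti H hβ (hti h h0)]

theorem exists_of_sum_sq_eq_two {ι : Type*} [Fintype ι] [DecidableEq ι] {n : ι → ℤ}
    (h : ∑ i, n i ^ 2 = 2) :
    ∃ i j, i ≠ j ∧ n i ^ 2 = 1 ∧ n j ^ 2 = 1 ∧ ∀ k, k ≠ i → k ≠ j → n k = 0 := by
  set S := Finset.univ.filter (fun i => n i ≠ 0) with hS
  have hge : ∀ i ∈ S, 1 ≤ n i ^ 2 := fun i hi => by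
    have := pow_two_pos_of_ne_zero (Finset.mem_filter.1 hi).2
    omega
  have hsum : ∑ i ∈ S, n i ^ 2 = 2 :=
    (Finset.sum_subset (Finset.subset_univ S) fun i _ hi => by
      simp [hS] at hi; simp [hi]).trans h
  have hle : (S.card : ℤ) ≤ 2 := by
    rw [← hsum, Finset.card_eq_sum_ones]
    push_cast
    exact Finset.sum_le_sum hge
  have hz : ∀ k, k ∉ S → n k = 0 := fun k hk => by simpa [hS] using hk
  have h01 : S.card = 0 ∨ S.card = 1 ∨ S.card = 2 := by omega
  rcases h01 with h0 | h1 | h2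
  · rw [Finset.card_eq_zero.1 h0, Finset.sum_empty] at hsum; omega
  · obtain ⟨i, hi⟩ := Finset.card_eq_one.1 h1
    rw [hi, Finset.sum_singleton] at hsum
    have h3 : n i ≤ 1 := by nlinarith
    have h4 : -1 ≤ n i := by nlinarith
    interval_cases (n i) <;> omega
  · obtain ⟨i, j, hij, hij'⟩ := Finset.card_eq_two.1 h2
    rw [hij', Finset.sum_pair hij] at hsum
    have hi := hge i (by rw [hij']; simp)
    have hj := hge j (by rw [hij']; simp)
    exact ⟨i, j, hij, by omega, by omega, fun k hki hkj => hz k (by rw [hij']; simp [hki, hkj])⟩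

/-- A generalized character of norm two orthogonal to the principal character. -/
theorem exists_of_norm_two [Fintype G] {θ : G → ℂ} (hθ : IsGeneralizedCharacter G θ)
    (hn : classInner θ θ = 2) (h1 : classInner θ (fun _ => 1) = 0) :
    ∃ (χ ψ : IrrCharacter G) (a c : ℤ), χ ≠ ψ ∧ a ^ 2 = 1 ∧ c ^ 2 = 1 ∧
      (χ : G → ℂ) ≠ (fun _ => 1) ∧ (ψ : G → ℂ) ≠ (fun _ => 1) ∧
      classInner θ (χ : G → ℂ) = a ∧ classInner θ (ψ : G → ℂ) = c ∧
      ∀ g, θ g = a * (χ : G → ℂ) g + c * (ψ : G → ℂ) g := by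
  classical
  obtain ⟨hcf, hint⟩ := isGeneralized_iff.1 hθ
  choose n hn' using hint
  have hexp : θ = ∑ χ : IrrCharacter G, (n χ : ℂ) • (χ : G → ℂ) := by
    conv_lhs => rw [classFun_eq_sum hcf]
    exact Finset.sum_congr rfl fun χ _ => by rw [hn']
  have hsq : ∑ χ : IrrCharacter G, n χ ^ 2 = 2 := by
    have h : classInner θ θ = ∑ χ : IrrCharacter G, (n χ : ℂ) ^ 2 := by
      conv_lhs => arg 1; rw [hexp]
      rw [classInner_sum_left]
      refine Finset.sum_congr rfl fun χ _ => ?_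
      rw [classInner_smul_left, ← classInner_conj θ (χ : G → ℂ), hn', map_intCast, sq]
    rw [hn] at h
    exact_mod_cast h.symm
  obtain ⟨χ, ψ, hne, ha, hc, h0⟩ := exists_of_sum_sq_eq_two hsq
  have hnt : ∀ η : IrrCharacter G, n η ^ 2 = 1 → (η : G → ℂ) ≠ fun _ => 1 := fun η hη he => by
    have h := hn' η
    rw [he, h1, eq_comm, Int.cast_eq_zero] at h
    simp [h] at hη
  refine ⟨χ, ψ, n χ, n ψ, hne, ha, hc, hnt χ ha, hnt ψ hc, hn' χ, hn' ψ, fun g => ?_⟩
  conv_lhs => rw [hexp]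
  rw [Finset.sum_apply, ← Finset.sum_subset (Finset.subset_univ {χ, ψ}), Finset.sum_pair hne]
  · simp
  · intro k _ hk
    simp only [Finset.mem_insert, Finset.mem_singleton, not_or] at hk
    simp [h0 k hk.1 hk.2]

theorem exists_complement_of_cyclic_sylow (T : Sylow 2 G) (hT : IsCyclic (T : Subgroup G))
    (heven : Even (Nat.card G)) :
    ∃ N : Subgroup G, N.Normal ∧ ¬ 2 ∣ Nat.card N ∧ N.index = Nat.card (T : Subgroup G) ∧
      N.IsComplement' (T : Subgroup G) := by
  haveI : Fact (Nat.Prime 2) := ⟨Nat.prime_two⟩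
  have hmin : (Nat.card G).minFac = 2 := (Nat.minFac_eq_two_iff _).2 (even_iff_two_dvd.1 heven)
  have hP := IsCyclic.normalizer_le_centralizer hmin hT
  have hc := MonoidHom.ker_transferSylow_isComplement' T hP
  exact ⟨_, inferInstance, MonoidHom.not_dvd_card_ker_transferSylow T hP, hc.symm.index_eq_card,
    hc⟩

end CfsgLib.Blk
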