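import Cfsg.Agent.Blk.CoverDefect
import Cfsg.Agent.Blk.Contribution
import Cfsg.Agent.Blk.SubsectionPairs
import Cfsg.Agent.Blk.Inflate
import Cfsg.Agent.Char.CyclicTI

/-!
A stable block of a normal subgroup of `p`-power index under a block with abelian defect group.
-/

set_option autoImplicit false
set_option linter.style.haveILetI false
set_option linter.unusedSectionVars false

namespace CfsgLib.AbelianStable

open Cfsg CfsgLib.Char CfsgLib.Blk CfsgLib.Blk.Pair CfsgLib.SectionSplit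
open scoped CfsgLib.Char ComplexConjugate

universe u

variable {M : Ideal AlgInt} [M.IsPrime] {p : ℕ} [Fact p.Prime]
variable {G : Type u} [Group G] [Fintype G]

/-- Through every element of an abelian defect group there is a major subsection. -/
theorem exists_major (hM : IsPModular p M) {B : Set (IrrCharacter G)} (hB : IsPBlock M B)
    {P : Subgroup G} (hP : IsDefectGroup p M B P) (hab : ∀ x ∈ P, ∀ y ∈ P, x * y = y * x)
    {u : G} (hu : u ∈ P) :
    ∃ f : Set (IrrCharacter (Cn (Subgroup.zpowers u))),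
      IsInducedBlock M (Cn (Subgroup.zpowers u)) f B ∧ blockDefect p f = blockDefect p B := by
  classical
  obtain ⟨e, hmax⟩ := exists_maximal_of_defectGroup hM hB hP
  have he := hmax.1.1
  set Q := Subgroup.zpowers u with hQ
  have hQP : Q ≤ P := Subgroup.zpowers_le.2 hu
  obtain ⟨f, hf, hsub⟩ := exists_subpair hM P he hQP
  have hQC : Q ≤ Cn Q := by
    rw [hQ, ← CfsgLib.SubsectionPairs.cn_zpowers]
    exact Subgroup.zpowers_le.2 (Subgroup.mem_centralizer_singleton_iff.2 rfl)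
  have hind : IsInducedBlock M (Cn Q) f B :=
    (CfsgLib.SubsectionPairs.pairOf_iff_induced hM hf.1 hQC hB).1
      ((pairOf_congr hM hsub).1 hmax.1)
  refine ⟨f, hind, ?_⟩
  have hPC : P ≤ Cn Q := fun x hx q hq => hab q (hQP hq) x hx
  obtain ⟨D, hD, hle⟩ := local_le_defectGroup hM hf.2 (resA_inA _ _).symm (Cn_le_normalizer Q)
    he hsub le_rfl hPC (fun g => by
      rw [sup_eq_right.2 hQP]
      exact ⟨fun h => ⟨Cn_antitone hQP h, h⟩, fun h => h.2⟩)
  obtain ⟨E, hE, hDE⟩ := exists_defectGroup_ge hM hind hD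
  have c1 := Subgroup.card_le_of_le hle
  rw [Nat.card_congr (Subgroup.subgroupOfEquivOfLe hPC).toEquiv, card_defectGroup hM hB hP,
    card_defectGroup hM hf.2 hD] at c1
  have c2 := Subgroup.card_le_of_le hDE
  rw [Subgroup.card_subtype, card_defectGroup hM hf.2 hD, card_defectGroup hM hB hE] at c2
  exact Nat.pow_right_injective (Fact.out : p.Prime).two_le (le_antisymm c2 c1)

variable {N : Subgroup G} [hN : N.Normal] [Fintype N]

/-- A member does not vanish outside the kernel of a linear character of the quotient. -/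
theorem exists_ne_zero (hM : IsPModular p M) (hidx : ∃ k : ℕ, N.index = p ^ k)
    {B : Set (IrrCharacter G)} (hB : IsPBlock M B) {P : Subgroup G} (hP : IsDefectGroup p M B P)
    (hab : ∀ x ∈ P, ∀ y ∈ P, x * y = y * x) (hsup : N ⊔ P = ⊤) {χ : IrrCharacter G} (hχ : χ ∈ B)
    {μ : G ⧸ N →* ℂˣ} (hμ : μ ≠ 1) : ∃ g : G, μ g ≠ 1 ∧ (χ : G → ℂ) g ≠ 0 := by
  classical
  obtain ⟨u, hu, huμ⟩ : ∃ u ∈ P, μ (u : G ⧸ N) ≠ 1 := by
    by_contra! hcon
    refine hμ (MonoidHom.ext fun q => ?_)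
    obtain ⟨g, rfl⟩ := QuotientGroup.mk_surjective q
    have hg : g ∈ N ⊔ P := hsup ▸ Subgroup.mem_top g
    rw [Subgroup.mem_sup_of_normal_left] at hg
    obtain ⟨n, hn, y, hy, rfl⟩ := hg
    rw [QuotientGroup.mk_mul, (QuotientGroup.eq_one_iff n).2 hn, one_mul, hcon y hy,
      MonoidHom.one_apply]
  obtain ⟨f, hind, hd⟩ := exists_major hM hB hP hab hu
  haveI : Fintype (Cn (Subgroup.zpowers u)) := Fintype.ofFinite _
  obtain ⟨ψ, hψ, h0⟩ := exists_height_zero hM hB
  obtain ⟨k, hk⟩ := IsPGroup.iff_orderOf.1 (IsDefectGroup.isPGroup hP) ⟨u, hu⟩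
  obtain ⟨⟨x, -, hx, hxe⟩, -⟩ := CfsgLib.Contribution.mm_major hM
    ⟨k, by rw [← hk, Subgroup.orderOf_mk]⟩ (CfsgLib.SubsectionPairs.cn_zpowers u) hind hd hχ hψ h0
  by_contra! hcon
  have hx0 : x ≠ 0 := fun h => hx (h ▸ (red_eq_zero_iff (zero_mem _)).1 red_zero)
  have hzero : compL p u (Cn (Subgroup.zpowers u)) f (χ : G → ℂ) = 0 := by
    funext y
    by_cases hy : p ∣ orderOf y
    · exact regL_val' _ _ hy
    rw [compL, LinearMap.comp_apply, regL_val _ _ hy, LinearMap.comp_apply, bmul_apply,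
      Pi.zero_apply]
    refine Finset.sum_eq_zero fun g _ => ?_
    by_cases hg : p ∣ orderOf g
    · rw [blockCoeff_eq_zero_of_singular hM hind.1 hg, zero_mul]
    · refine mul_eq_zero_of_right _ ?_
      show (χ : G → ℂ) (u * ((g * y : Cn (Subgroup.zpowers u)) : G)) = 0
      refine hcon _ fun h => huμ ?_
      have hgN : (g : G) ∈ N := mem_N_of_regular hidx (by rwa [Subgroup.orderOf_coe])
      have hyN : (y : G) ∈ N := mem_N_of_regular hidx (by rwa [Subgroup.orderOf_coe])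
      rwa [QuotientGroup.mk_mul, Subgroup.coe_mul, (QuotientGroup.eq_one_iff _).2 (N.mul_mem hgN hyN), mul_one] at h
  rw [CfsgLib.Contribution.mm, hzero, classInner_zero_left, mul_zero] at hxe
  exact mul_ne_zero (pow_ne_zero _ prime_cast_ne_zero) hx0 hxe.symm

/-- The quotient by `N` is abelian. -/
theorem quot_comm {P : Subgroup G} (hab : ∀ x ∈ P, ∀ y ∈ P, x * y = y * x) (hsup : N ⊔ P = ⊤)
    (a b : G ⧸ N) : a * b = b * a := by
  have h : ∀ q : G ⧸ N, ∃ y ∈ P, (y : G ⧸ N) = q := by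
    intro q
    obtain ⟨g, rfl⟩ := QuotientGroup.mk_surjective q
    have hg : g ∈ N ⊔ P := hsup ▸ Subgroup.mem_top g
    rw [Subgroup.mem_sup_of_normal_left] at hg
    obtain ⟨n, hn, y, hy, rfl⟩ := hg
    exact ⟨y, hy, by rw [QuotientGroup.mk_mul, (QuotientGroup.eq_one_iff n).2 hn, one_mul]⟩
  obtain ⟨x, hx, rfl⟩ := h a
  obtain ⟨y, hy, rfl⟩ := h b
  rw [← QuotientGroup.mk_mul, ← QuotientGroup.mk_mul, hab x hx y hy]

/-- Restrictions of members are irreducible. -/
theorem restrict_irr (hM : IsPModular p M) (hidx : ∃ k : ℕ, N.index = p ^ k)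
    {B : Set (IrrCharacter G)} (hB : IsPBlock M B) {P : Subgroup G} (hP : IsDefectGroup p M B P)
    (hab : ∀ x ∈ P, ∀ y ∈ P, x * y = y * x) (hsup : N ⊔ P = ⊤) {χ : IrrCharacter G} (hχ : χ ∈ B) :
    IsIrrCharacter N (fun n : N => (χ : G → ℂ) n) := by
  classical
  refine isIrr_of_char_norm (isCharacter_restrict N (isCharacter_of_isIrr χ.2)) ?_
  have hc := quot_comm (N := N) hab hsup
  haveI : Fintype (G ⧸ N) := Fintype.ofFinite _
  haveI : Finite (G ⧸ N →* ℂˣ) := Finite.of_equiv _ (CfsgLib.CTI.linEquiv hc).symm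
  haveI : Fintype (G ⧸ N →* ℂˣ) := Fintype.ofFinite _
  set F : G → ℂ := fun g => (χ : G → ℂ) g * conj ((χ : G → ℂ) g) with hF
  have hμ : ∀ μ : G ⧸ N →* ℂˣ,
      ∑ g : G, (μ (g : G ⧸ N) : ℂ) * F g = if μ = 1 then (Nat.card G : ℂ) else 0 := by
    intro μ
    have h1 : ∀ ν : G → ℂ, IsIrrCharacter G ν → ∑ g : G, ν g * conj ((χ : G → ℂ) g) =
        (Nat.card G : ℂ) * classInner ν (χ : G → ℂ) := fun ν _ => by
      rw [classInner_def, mul_inv_cancel_left₀ (natCard_ne_zero G)]
    have h2 := irr_mul_linear χ.2 (μ.comp (QuotientGroup.mk' N))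
    calc ∑ g : G, (μ (g : G ⧸ N) : ℂ) * F g
        = ∑ g : G, (fun g => (χ : G → ℂ) g * ((μ.comp (QuotientGroup.mk' N)) g : ℂ)) g *
            conj ((χ : G → ℂ) g) := Finset.sum_congr rfl fun g _ => by
          simp only [hF, MonoidHom.comp_apply, QuotientGroup.mk'_apply]; ring
      _ = _ := h1 _ h2
      _ = _ := by
        split_ifs with h
        · subst h
          simp only [MonoidHom.one_comp, MonoidHom.one_apply, Units.val_one, mul_one,
            irr_inner_self χ.2]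
        · rw [irr_inner_ne h2 χ.2 ?_, mul_zero]
          intro e
          obtain ⟨g, hg, hg0⟩ := exists_ne_zero hM hidx hB hP hab hsup hχ h
          have h3 := congrFun e g
          simp only [MonoidHom.comp_apply, QuotientGroup.mk'_apply] at h3
          exact hg (Units.val_eq_one.1 (mul_left_cancel₀ hg0 (h3.trans (mul_one _).symm)))
  have hsum : ∀ g : G, ∑ μ : G ⧸ N →* ℂˣ, (μ (g : G ⧸ N) : ℂ) =
      if g ∈ N then (Nat.card (G ⧸ N) : ℂ) else 0 := by
    intro g
    have h := CfsgLib.CTI.sum_linear_conj hc (g : G ⧸ N) 1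
    simp only [map_one, Units.val_one, mul_one] at h
    rw [h]
    exact if_congr (QuotientGroup.eq_one_iff g) rfl rfl
  have key : (Nat.card (G ⧸ N) : ℂ) * ∑ n : N, F n = (Nat.card G : ℂ) := by
    calc (Nat.card (G ⧸ N) : ℂ) * ∑ n : N, F n
        = ∑ g : G, (∑ μ : G ⧸ N →* ℂˣ, (μ (g : G ⧸ N) : ℂ)) * F g := by
          rw [sum_subgroup N _ fun g hg => by rw [hsum, if_neg hg, zero_mul], Finset.mul_sum]
          refine Finset.sum_congr rfl fun n _ => ?_
          rw [hsum, if_pos n.2]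
      _ = ∑ μ : G ⧸ N →* ℂˣ, ∑ g : G, (μ (g : G ⧸ N) : ℂ) * F g := by
          rw [Finset.sum_comm]
          exact Finset.sum_congr rfl fun g _ => Finset.sum_mul _ _ _
      _ = _ := by simp only [hμ, Finset.sum_ite_eq', Finset.mem_univ, if_true]
  rw [classInner_def]
  show (Nat.card N : ℂ)⁻¹ * ∑ n : N, F n = 1
  have hcard : (Nat.card G : ℂ) = (Nat.card (G ⧸ N) : ℂ) * (Nat.card N : ℂ) := by
    exact_mod_cast N.card_eq_card_quotient_mul_card_subgroup
  rw [hcard] at key
  rw [mul_left_cancel₀ (natCard_ne_zero _) key, inv_mul_cancel₀ (natCard_ne_zero N)]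

theorem main (hM : IsPModular p M) (hidx : ∃ k : ℕ, N.index = p ^ k)
    {b : Set (IrrCharacter N)} (hb : IsPBlock M b) (hstab : ∀ g : G, StabilizesBlock N b g)
    {B : Set (IrrCharacter G)} (hB : IsPBlock M B)
    (hcov : ∃ χ ∈ B, ∃ θ ∈ b, classInner (fun n : N => (χ : G → ℂ) n) (θ : N → ℂ) ≠ 0)
    {P : Subgroup G} (hP : IsDefectGroup p M B P) (hab : ∀ x ∈ P, ∀ y ∈ P, x * y = y * x) :
    N ⊔ P = ⊤ ∧ IsDefectGroup p M b ((P ⊓ N).subgroupOf N) ∧
      (∀ χ ∈ B, ∃ θ ∈ b, ∀ n : N, (χ : G → ℂ) n = (θ : N → ℂ) n) ∧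
      (∀ θ ∈ b, Nat.card {χ : IrrCharacter G // χ ∈ B ∧
        ∀ n : N, (χ : G → ℂ) n = (θ : N → ℂ) n} = N.index) ∧
      Nat.card B = N.index * Nat.card b ∧ blockRank p B = blockRank p b := by
  classical
  have hst : ∀ y, cjA y (inA N (bid M b)) = inA N (bid M b) := fun y =>
    ((stabilizesBlock_iff hM hb y).1 (hstab y)).2
  have he := isClassCoeff_of_cjA hst
  have hsupp : ∀ g, g ∉ N → (inA N (bid M b)).coeff g = 0 := fun g hg => coeff_inA_of_notMem N _ hg
  -- the block above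
  obtain ⟨B1, hB1, hbid, -⟩ := exists_above (G := G) hM hb hidx
  rw [nSum_of_stable hM hb hst] at hbid
  have hBB : B = B1 := by
    obtain ⟨χ, hχ, θ, hθ, hc⟩ := hcov
    refine eq_of_mem_of_mem hB hB1 hχ (by_contra fun hn => ?_)
    have h1 := lam_bid hM hB1 χ
    rw [if_neg hn, hbid, ← lam_constituent χ.2 θ.2 hc he hsupp, resA_inA, lam_bid hM hb,
      if_pos hθ] at h1
    exact one_ne_zero h1
  subst hBB
  obtain ⟨hsup, hdef⟩ := stable_block_defect hM hb hidx hB hbid hP
  have hc := quot_comm (N := N) hab hsup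
  have hres : ∀ χ ∈ B, ∀ θ : IrrCharacter N,
      classInner (fun n : N => (χ : G → ℂ) n) (θ : N → ℂ) ≠ 0 →
      θ ∈ b ∧ ∀ n : N, (χ : G → ℂ) n = (θ : N → ℂ) n := by
    intro χ hχ θ hc
    have heq : ∀ n : N, (χ : G → ℂ) n = (θ : N → ℂ) n := by
      intro n
      by_contra hne
      exact hc (irr_inner_ne (restrict_irr hM hidx hB hP hab hsup hχ) θ.2 fun e => hne (congrFun e n))
    refine ⟨by_contra fun hn => ?_, heq⟩
    have h1 := lam_bid hM hb θ
    rw [if_neg hn, ← resA_inA N (bid M b), lam_constituent χ.2 θ.2 hc he hsupp, ← hbid,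
      lam_bid hM hB, if_pos hχ] at h1
    exact one_ne_zero h1
  have hR : ∀ χ ∈ B, ∃ θ ∈ b, ∀ n : N, (χ : G → ℂ) n = (θ : N → ℂ) n := fun χ hχ => by
    obtain ⟨φ, hφi, hφ⟩ := exists_constituent_res (N := N) χ.2
    exact ⟨⟨φ, hφi⟩, hres χ hχ ⟨φ, hφi⟩ hφ⟩
  have hup : ∀ θ ∈ b, ∀ χ : IrrCharacter G,
      classInner (fun n : N => (χ : G → ℂ) n) (θ : N → ℂ) ≠ 0 → χ ∈ B := by
    intro θ hθ χ hc
    by_contra hn
    have h1 := lam_bid hM hB χ
    rw [if_neg hn, hbid, ← lam_constituent χ.2 θ.2 hc he hsupp, resA_inA, lam_bid hM hb,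
      if_pos hθ] at h1
    exact one_ne_zero h1
  have hcount : ∀ θ ∈ b, Nat.card {χ : IrrCharacter G // χ ∈ B ∧
      ∀ n : N, (χ : G → ℂ) n = (θ : N → ℂ) n} = N.index := by
    intro θ hθ
    obtain ⟨χ, hχ⟩ := exists_constituent (isCharacter_indFun N (isCharacter_of_isIrr θ.2))
      fun h => by
        have := congrFun h 1
        rw [indFun_one] at this
        rcases mul_eq_zero.1 this with h' | h'
        · exact N.index_ne_zero_of_finite (by exact_mod_cast h')
        · exact irr_one_ne_zero θ.2 h'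
    have hcon : classInner (fun n : N => (χ : G → ℂ) n) (θ : N → ℂ) ≠ 0 := by
      rw [← classInner_conj, ← frobenius N _ (classFun_of_irr χ.2)]
      intro e
      exact hχ (by simpa using congrArg conj e)
    obtain ⟨-, hext⟩ := hres χ (hup θ hθ χ hcon) θ hcon
    have hgal := gallagher θ.2 (isCharacter_of_isIrr χ.2) hext
    have hχ1 : (χ : G → ℂ) 1 ≠ 0 := irr_one_ne_zero χ.2
    let Φ : (G ⧸ N →* ℂˣ) → {χ : IrrCharacter G // χ ∈ B ∧
        ∀ n : N, (χ : G → ℂ) n = (θ : N → ℂ) n} := fun μ =>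
      ⟨⟨fun g => (χ : G → ℂ) g * ((μ.comp (QuotientGroup.mk' N)) g : ℂ),
        irr_mul_linear χ.2 (μ.comp (QuotientGroup.mk' N))⟩, by
        have hv : ∀ n : N, (χ : G → ℂ) n * ((μ.comp (QuotientGroup.mk' N)) (n : G) : ℂ) =
            (θ : N → ℂ) n := fun n => by
          rw [MonoidHom.comp_apply, QuotientGroup.mk'_apply, (QuotientGroup.eq_one_iff _).2 n.2,
            map_one, Units.val_one, mul_one, hext]
        refine ⟨hup θ hθ _ ?_, hv⟩
        rw [show (fun n : N => (χ : G → ℂ) n * ((μ.comp (QuotientGroup.mk' N)) (n : G) : ℂ)) =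
          (θ : N → ℂ) from funext hv, irr_inner_self θ.2]
        exact one_ne_zero⟩
    have hinj : Function.Injective Φ := by
      intro μ ν h
      have h1 : ∀ β : G → ℂ, ∀ ξ : G ⧸ N →* ℂˣ, β = (fun g : G => (ξ (g : G ⧸ N) : ℂ)) →
          IsIrrCharacter G β ∧ ∀ n : N, β n = β 1 := by
        rintro β ξ rfl
        refine ⟨isIrr_linear (ξ.comp (QuotientGroup.mk' N)), fun n => ?_⟩
        show ((ξ ((n : G) : G ⧸ N) : ℂˣ) : ℂ) = (ξ ((1 : G) : G ⧸ N) : ℂ)
        rw [(QuotientGroup.eq_one_iff _).2 n.2, QuotientGroup.mk_one]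
      have h2 := hgal.injOn (h1 _ μ rfl) (h1 _ ν rfl) (funext fun g => by
        have h3 := congrFun (congrArg (fun w => (w.1 : IrrCharacter G).1) h) g
        simp only [Pi.mul_apply]
        rw [mul_comm, mul_comm (ν _ : ℂ)]
        exact h3)
      refine MonoidHom.ext fun q => ?_
      obtain ⟨g, rfl⟩ := QuotientGroup.mk_surjective q
      exact Units.ext (congrFun h2 g)
    have hsurj : Function.Surjective Φ := by
      rintro ⟨χ', -, hχ'⟩
      obtain ⟨β, ⟨hβi, hβ⟩, hβe⟩ := hgal.surjOn (a := (χ' : G → ℂ)) ⟨χ'.2, by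
        rw [show (fun n : N => (χ' : G → ℂ) n) = (θ : N → ℂ) from funext hχ', irr_inner_self θ.2]
        exact one_ne_zero⟩
      obtain ⟨β', hβ'⟩ := exists_infl (N := N) (ψ := ⟨β, hβi⟩) fun y hy => hβ ⟨y, hy⟩
      obtain ⟨μ, hμ⟩ := (CfsgLib.CTI.linEquiv hc).surjective β'
      refine ⟨μ, Subtype.ext (Subtype.ext (funext fun g => ?_))⟩
      show (χ : G → ℂ) g * (μ (g : G ⧸ N) : ℂ) = (χ' : G → ℂ) g
      have h1 := congrFun (congrArg Subtype.val hβ') g
      rw [infl_apply, ← hμ] at h1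
      rw [← congrFun hβe g]
      simp only [Pi.mul_apply]
      rw [mul_comm]
      exact congrArg (· * (χ : G → ℂ) g) h1
    rw [← Nat.card_eq_of_bijective Φ ⟨hinj, hsurj⟩, N.index_eq_card]
    haveI : Fintype (G ⧸ N) := Fintype.ofFinite _
    haveI : Finite (G ⧸ N →* ℂˣ) := Finite.of_equiv _ (CfsgLib.CTI.linEquiv hc).symm
    haveI : Fintype (G ⧸ N →* ℂˣ) := Fintype.ofFinite _
    have h := CfsgLib.CTI.sum_linear_conj hc (1 : G ⧸ N) 1
    simp only [map_one, Units.val_one, mul_one, Finset.sum_const, Finset.card_univ, nsmul_eq_mul,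
      if_true, ← Nat.card_eq_fintype_card] at h
    exact_mod_cast h
  refine ⟨hsup, hdef, hR, hcount, ?_, ?_⟩
  · choose F hFb hF using hR
    let f : B → b := fun χ => ⟨F χ.1 χ.2, hFb _ _⟩
    have hfib : ∀ θ : b, Nat.card {χ : B // f χ = θ} = N.index := by
      intro θ
      rw [← hcount θ.1 θ.2]
      refine Nat.card_congr
        { toFun := fun χ => ⟨χ.1.1, χ.1.2, fun n => by
            rw [hF _ χ.1.2 n]
            exact congrArg (fun w : b => (w.1 : N → ℂ) n) χ.2⟩
          invFun := fun χ => ⟨⟨χ.1, χ.2.1⟩, Subtype.ext (Subtype.ext (funext fun n =>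
            (hF χ.1 χ.2.1 n).symm.trans (χ.2.2 n)))⟩
          left_inv := fun χ => rfl
          right_inv := fun χ => rfl }
    haveI : Fintype b := Fintype.ofFinite _
    rw [Nat.card_congr (Equiv.sigmaFiberEquiv f).symm, Nat.card_sigma,
      Finset.sum_congr rfl fun θ _ => hfib θ, Finset.sum_const, smul_eq_mul, Finset.card_univ,
      Nat.card_eq_fintype_card, mul_comm]
  · let j : (N → ℂ) →ₗ[ℂ] (G → ℂ) :=
      { toFun := fun f g => if h : g ∈ N then f ⟨g, h⟩ else 0
        map_add' := fun f f' => funext fun g => by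
          simp only [Pi.add_apply]
          split_ifs <;> simp
        map_smul' := fun r f => funext fun g => by
          simp only [Pi.smul_apply, RingHom.id_apply, smul_eq_mul]
          split_ifs <;> simp }
    have hj : Function.Injective j := fun f f' h => funext fun n => by
      have h1 := congrFun h (n : G)
      simpa [j] using h1
    have hval : ∀ χ : IrrCharacter G, ∀ θ : IrrCharacter N,
        (∀ n : N, (χ : G → ℂ) n = (θ : N → ℂ) n) →
        j (pRegularPart p (θ : N → ℂ)) = pRegularPart p (χ : G → ℂ) := by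
      intro χ θ h
      funext g
      show (if hg : g ∈ N then pRegularPart p (θ : N → ℂ) ⟨g, hg⟩ else 0) = _
      by_cases hg : g ∈ N
      · rw [dif_pos hg]
        by_cases hs : p ∣ orderOf g <;>
          simp [pRegularPart, IsPRegular, ← Subgroup.orderOf_coe, ← h ⟨g, hg⟩, hs]
      · rw [dif_neg hg]
        by_cases hs : p ∣ orderOf g
        · simp [pRegularPart, IsPRegular, hs]
        · exact absurd (mem_N_of_regular hidx hs) hg
    rw [blockRank_eq, blockRank_eq, (Submodule.equivMapOfInjective j hj (regSpan p b)).finrank_eq]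
    have hmap : (regSpan p b).map j = regSpan p B := by
      rw [regSpan, Submodule.map_span, ← Set.image_comp, regSpan]
      congr 1
      ext w
      constructor
      · rintro ⟨θ, hθ, rfl⟩
        obtain ⟨⟨χ, hχ, h⟩⟩ : Nonempty {χ : IrrCharacter G // χ ∈ B ∧
            ∀ n : N, (χ : G → ℂ) n = (θ : N → ℂ) n} :=
          (Nat.card_pos_iff.1 (by rw [hcount θ hθ]; exact N.index_ne_zero_of_finite.bot_lt)).1
        exact ⟨χ, hχ, (hval χ θ h).symm⟩
      · rintro ⟨χ, hχ, rfl⟩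
        obtain ⟨θ, hθ, h⟩ := hR χ hχ
        exact ⟨θ, hθ, hval χ θ h⟩
    rw [hmap]

end CfsgLib.AbelianStable
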