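import Cfsg.Agent.Blk.Defect

/-!
Bounds on the number and the heights of the characters of a block.
-/

set_option autoImplicit false
set_option linter.style.haveILetI false
set_option linter.unusedSectionVars false

namespace CfsgLib.Blk

open Cfsg CfsgLib.Char MonoidAlgebra Finset
open scoped ComplexConjugate

universe u

variable {G : Type u} [Group G] [Finite G] {M : Ideal AlgInt} [M.IsPrime] {p : ℕ} [Fact p.Prime]
  {B : Set (IrrCharacter G)}

theorem inner_regPart_self [Fintype G] (θ : IrrCharacter G) :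
    classInner (regPart p (θ : G → ℂ)) (regPart p (θ : G → ℂ)) =
      classInner (regPart p (θ : G → ℂ)) (θ : G → ℂ) := by
  simp only [classInner_def, regPart]
  refine congrArg _ (Finset.sum_congr rfl fun x _ => ?_)
  split_ifs <;> simp

/-- The integers attached to a character of the block, with their sum of squares. -/
theorem exists_regRow (hM : IsPModular p M) (hB : IsPBlock M B) [Fintype G]
    {θ : IrrCharacter G} (hθ : θ ∈ B) :
    ∃ a : IrrCharacter G → ℤ,
      (∀ χ, χ ∉ B → a χ = 0) ∧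
      ∑ χ, a χ * a χ = (p : ℤ) ^ blockDefect p B * a θ ∧
      (∀ χ ∈ B, (p : ℤ) ^ blockHeight p B (χ : G → ℂ) ∣ a χ) ∧
      (∀ χ ∈ B, (p : ℤ) ^ blockHeight p B (θ : G → ℂ) ∣ a χ) ∧
      (∀ χ ∈ B, blockHeight p B (θ : G → ℂ) = 0 →
        ¬ (p : ℤ) ^ (blockHeight p B (χ : G → ℂ) + 1) ∣ a χ) ∧
      (∀ χ ∈ B, blockHeight p B (χ : G → ℂ) = 0 →
        ¬ (p : ℤ) ^ (blockHeight p B (θ : G → ℂ) + 1) ∣ a χ) ∧
      (0 < blockHeight p B (θ : G → ℂ) → (p : ℤ) ^ (blockHeight p B (θ : G → ℂ) + 1) ∣ a θ) := by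
  classical
  have hsym : ∀ χ : IrrCharacter G, ∀ a : ℤ,
      (a : ℂ) = (p : ℂ) ^ blockDefect p B * classInner (regPart p (θ : G → ℂ)) (χ : G → ℂ) →
      (a : ℂ) = (p : ℂ) ^ blockDefect p B * classInner (regPart p (χ : G → ℂ)) (θ : G → ℂ) := by
    intro χ a h
    have := congrArg conj h
    rw [map_mul, map_pow, Complex.conj_natCast, ← inner_regPart_conj] at this
    simpa using this
  have h1 := fun χ => exists_regCartan hM hB hθ χ
  choose a u hu hu' hu0 ha ha' using h1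
  have hdiv : ∀ (j : ℕ) (b : ℤ) (c w : ℂ), c ∈ locRing M → w ∈ locRing M →
      (b : ℂ) = (p : ℂ) ^ j * c * w → (p : ℤ) ^ j ∣ b := fun j b c w hc hw he =>
    pow_dvd_of_eq hM (mul_mem hc hw) (by rw [he]; ring)
  have hndiv : ∀ (j : ℕ) (b : ℤ) (c w : ℂ), c⁻¹ ∈ locRing M → c ≠ 0 → ¬ MemLocalIdeal M w →
      (b : ℂ) = (p : ℂ) ^ j * c * w → ¬ (p : ℤ) ^ (j + 1) ∣ b := by
    rintro j b c w hc hc0 hw he ⟨k, rfl⟩
    refine hw (memLocalIdeal_of_pow_eq hM (Nat.lt_succ_self j)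
      (mul_mem (intCast_mem (locRing M) k) hc) ?_)
    push_cast at he
    rw [← mul_assoc, he]
    field_simp
  have hcol : ∀ χ ∈ B, ∃ v, v ∈ locRing M ∧ v⁻¹ ∈ locRing M ∧ v ≠ 0 ∧
      (a χ : ℂ) = (p : ℂ) ^ blockHeight p B (χ : G → ℂ) * v *
        omega (χ : G → ℂ) (regElt M p θ) := by
    intro χ hχ
    obtain ⟨b, v, hv, hv', hv0, hb, hb'⟩ := exists_regCartan hM hB hχ θ
    have e : (a χ : ℂ) = (b : ℂ) := by rw [hsym χ _ (ha χ), hb]
    exact ⟨v, hv, hv', hv0, by rw [e, hb']⟩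
  refine ⟨a, fun χ hχ => ?_, ?_, fun χ hχ => ?_, fun χ _ => ?_, fun χ hχ h0 => ?_, fun χ hχ h0 => ?_,
    fun hpos => ?_⟩
  · have h := ha χ
    rw [inner_regPart_eq_zero hM fun hs => hχ (mem_of_sameBlock hB hθ hs), mul_zero] at h
    exact_mod_cast h
  · have h2 := inner_regPart_self (p := p) θ
    set f := regPart p (θ : G → ℂ)
    have e : ∀ χ : IrrCharacter G, (a χ : ℂ) =
        (p : ℂ) ^ blockDefect p B * classInner (χ : G → ℂ) f := by
      intro χ
      have := congrArg conj (ha χ)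
      rw [map_mul, map_pow, Complex.conj_natCast, classInner_conj] at this
      simpa using this
    have h3 : classInner f f =
        ∑ χ : IrrCharacter G, classInner f (χ : G → ℂ) * classInner (χ : G → ℂ) f := by
      have hf : IsClassFunction G f := classFun_regPart (classFun_of_irr θ.2)
      nth_rewrite 1 [classFun_eq_sum hf]
      rw [classInner_sum_left]
      exact Finset.sum_congr rfl fun χ _ => classInner_smul_left _ _ _
    have h4 : ((∑ χ, a χ * a χ : ℤ) : ℂ) = (((p : ℤ) ^ blockDefect p B * a θ : ℤ) : ℂ) := by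
      push_cast
      rw [ha θ, ← h2, h3, Finset.mul_sum, Finset.mul_sum]
      refine Finset.sum_congr rfl fun χ _ => ?_
      nth_rewrite 2 [e χ]
      rw [ha χ]
      ring
    exact_mod_cast h4
  · obtain ⟨v, hv, -, -, hb⟩ := hcol χ hχ
    exact hdiv _ _ _ _ hv (omega_mem χ.2 (isClassCoeff_regElt θ)) hb
  · exact hdiv _ _ _ _ (hu χ) (omega_mem θ.2 (isClassCoeff_regElt χ)) (ha' χ)
  · obtain ⟨v, -, hv', hv0, hb⟩ := hcol χ hχ
    exact hndiv _ _ _ _ hv' hv0 (omega_regElt_unit hM hB hθ h0 hχ) hb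
  · exact hndiv _ _ _ _ (hu' χ) (hu0 χ) (omega_regElt_unit hM hB hχ h0 hθ) (ha' χ)
  · obtain ⟨ψ, hψ, h0⟩ := exists_height_zero hM hB
    obtain ⟨v, hv, hv', hv0, hb⟩ := hcol ψ hψ
    rw [h0, pow_zero, one_mul] at hb
    -- the central character of `z_θ` at `ψ` is `0` modulo `M`
    have hdθ : (p : ℤ) ^ blockHeight p B (θ : G → ℂ) ∣ a ψ :=
      hdiv _ _ _ _ (hu ψ) (omega_mem θ.2 (isClassCoeff_regElt ψ)) (ha' ψ)
    have hψmem : MemLocalIdeal M (omega (ψ : G → ℂ) (regElt M p θ)) := by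
      have e : omega (ψ : G → ℂ) (regElt M p θ) = v⁻¹ * (a ψ : ℂ) := by
        rw [hb]; field_simp
      rw [e]
      exact memLocalIdeal_mul_left hv' ((intCast_memLocalIdeal_iff hM _).2
        (dvd_trans (dvd_pow_self _ hpos.ne') hdθ))
    rw [← red_eq_zero_iff (omega_mem ψ.2 (isClassCoeff_regElt θ))] at hψmem
    have hθmem : MemLocalIdeal M (omega (θ : G → ℂ) (regElt M p θ)) := by
      rw [← red_eq_zero_iff (omega_mem θ.2 (isClassCoeff_regElt θ)), ← hψmem]
      exact omegaBar_congr θ.2 ψ.2 (sameBlock_of_mem hB hθ hψ) (isClassCoeff_regElt θ)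
    have ha2 := ha' θ
    rw [red_eq_zero_iff (omega_mem ψ.2 (isClassCoeff_regElt θ))] at hψmem
    set h := blockHeight p B (θ : G → ℂ)
    obtain ⟨k, hk⟩ := hdiv _ _ _ _ (hu θ) (omega_mem θ.2 (isClassCoeff_regElt θ)) ha2
    rw [hk, pow_succ]
    refine mul_dvd_mul_left _ ((intCast_memLocalIdeal_iff hM k).1 ?_)
    have e : (k : ℂ) = u θ * omega (θ : G → ℂ) (regElt M p θ) := by
      refine mul_left_cancel₀ (pow_ne_zero h (prime_cast_ne_zero (p := p))) ?_
      rw [← mul_assoc, ← ha2, hk]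
      push_cast
      rfl
    rw [e]
    exact memLocalIdeal_mul_left (hu θ) hθmem

theorem sq_pow_le_of_dvd {x : ℤ} {j : ℕ} (h : (p : ℤ) ^ j ∣ x) (hx : x ≠ 0) :
    ((p : ℤ) ^ j) * ((p : ℤ) ^ j) ≤ x * x := by
  have hp : (0 : ℤ) < (p : ℤ) := by exact_mod_cast (Fact.out : p.Prime).pos
  have h1 : (p : ℤ) ^ j ≤ |x| := Int.le_of_dvd (abs_pos.2 hx) ((dvd_abs _ _).2 h)
  rw [← abs_mul_abs_self x]
  exact mul_le_mul h1 h1 (by positivity) (abs_nonneg x)

/-- A block has at most `p^(2d)` characters. -/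
theorem card_block_le (hM : IsPModular p M) (hB : IsPBlock M B) :
    Nat.card B ≤ p ^ (2 * blockDefect p B) := by
  classical
  haveI := Fintype.ofFinite G
  obtain ⟨θ, hθ, h0⟩ := exists_height_zero hM hB
  obtain ⟨a, -, hsum, -, -, hnd, -⟩ := exists_regRow hM hB hθ
  set P := (p : ℤ) ^ blockDefect p B with hP
  have hterm : ∀ χ : IrrCharacter G, (if χ ∈ B then (1 : ℤ) else 0) ≤ a χ * a χ := by
    intro χ
    split_ifs with h
    · have h1 := hnd χ h h0
      have h2 : a χ ≠ 0 := fun e => h1 (e ▸ dvd_zero _)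
      nlinarith [mul_self_pos.2 h2]
    · exact mul_self_nonneg _
  have hk : (Nat.card B : ℤ) ≤ ∑ χ, a χ * a χ := by
    refine le_trans (le_of_eq ?_) (Finset.sum_le_sum fun χ _ => hterm χ)
    rw [Finset.sum_boole, Nat.card_eq_fintype_card, ← Set.toFinset_card]
    congr 2
    ext χ
    simp
  have hx := Finset.single_le_sum (fun χ _ => mul_self_nonneg (a χ)) (Finset.mem_univ θ)
  rw [hsum] at hx hk
  have hP0 : (0 : ℤ) ≤ P := pow_nonneg (Int.natCast_nonneg p) _
  have : (Nat.card B : ℤ) ≤ ((p ^ (2 * blockDefect p B) : ℕ) : ℤ) := by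
    push_cast
    rw [two_mul, pow_add, ← hP]
    refine hk.trans ?_
    rcases le_or_gt (a θ) 0 with h | h
    · nlinarith
    · have : a θ ≤ P := le_of_mul_le_mul_right (by linarith) h
      nlinarith
  exact_mod_cast this

/-- Bounds for blocks with a character of positive height. -/
theorem height_bounds (hM : IsPModular p M) (hB : IsPBlock M B) {θ : IrrCharacter G} (hθ : θ ∈ B)
    (hpos : 0 < blockHeight p B (θ : G → ℂ)) :
    2 * Nat.card B ≤ p ^ (2 * blockDefect p B - 2) ∧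
      blockHeight p B (θ : G → ℂ) + 2 ≤ blockDefect p B := by
  classical
  haveI := Fintype.ofFinite G
  have hp : p.Prime := Fact.out
  obtain ⟨ψ, hψ, h0⟩ := exists_height_zero hM hB
  obtain ⟨a, -, hsum, -, hdiva, -, hnd, hdiag⟩ := exists_regRow hM hB hθ
  obtain ⟨b, -, hsumb, hdivb, -, hndb, -⟩ := exists_regRow hM hB hψ
  set h := blockHeight p B (θ : G → ℂ) with hh
  set d := blockDefect p B with hd
  set K0 := Finset.univ.filter fun χ : IrrCharacter G =>
    χ ∈ B ∧ blockHeight p B (χ : G → ℂ) = 0 with hK0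
  set K1 := Finset.univ.filter fun χ : IrrCharacter G =>
    χ ∈ B ∧ 0 < blockHeight p B (χ : G → ℂ) with hK1
  have hp1 : (1 : ℤ) ≤ p := by exact_mod_cast hp.one_lt.le
  have hθ0 : θ ∉ K0 := by simp [hK0, ← hh, hpos.ne']
  have hψ1 : ψ ∉ K1 := by simp [hK1, h0]
  have hsplit : ∀ (c : IrrCharacter G → ℤ) (x : IrrCharacter G) (K : Finset (IrrCharacter G))
      (m : ℤ), x ∉ K → (∀ χ ∈ K, m ≤ c χ * c χ) →
      m * K.card + c x * c x ≤ ∑ χ, c χ * c χ := by
    intro c x K m hx hm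
    rw [← Finset.add_sum_erase _ _ (Finset.mem_univ x), add_comm]
    refine add_le_add le_rfl ?_
    refine le_trans ?_ (Finset.sum_le_sum_of_subset_of_nonneg
      (s := K) (fun χ hχ => Finset.mem_erase.2 ⟨fun e => hx (e ▸ hχ), Finset.mem_univ _⟩)
      fun χ _ _ => mul_self_nonneg _)
    refine le_trans (le_of_eq ?_) (Finset.sum_le_sum (f := fun _ => m) hm)
    rw [Finset.sum_const, nsmul_eq_mul, mul_comm]
  have hA : ((p : ℤ) ^ h * (p : ℤ) ^ h) * K0.card + a θ * a θ ≤ (p : ℤ) ^ d * a θ := by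
    refine (hsplit a θ K0 _ hθ0 fun χ hχ => ?_).trans_eq hsum
    obtain ⟨-, hχB, hχ0⟩ := Finset.mem_filter.1 hχ
    exact sq_pow_le_of_dvd (hdiva χ hχB) fun e => hnd χ hχB hχ0 (e ▸ dvd_zero _)
  have hB' : ((p : ℤ) * p) * K1.card + b ψ * b ψ ≤ (p : ℤ) ^ d * b ψ := by
    refine (hsplit b ψ K1 _ hψ1 fun χ hχ => ?_).trans_eq hsumb
    obtain ⟨-, hχB, hχ1⟩ := Finset.mem_filter.1 hχ
    have h2 := sq_pow_le_of_dvd (j := 1) ((pow_dvd_pow _ hχ1).trans (hdivb χ hχB))
      fun e => hndb χ hχB h0 (e ▸ dvd_zero _)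
    simpa using h2
  have hk : Nat.card B = K0.card + K1.card := by
    rw [Nat.card_eq_fintype_card, ← Set.toFinset_card, ← Finset.card_union_of_disjoint]
    · congr 1
      ext χ
      simp only [Set.mem_toFinset, hK0, hK1, Finset.mem_union, Finset.mem_filter,
        Finset.mem_univ, true_and]
      constructor
      · intro hc
        rcases Nat.eq_zero_or_pos (blockHeight p B (χ : G → ℂ)) with e | e
        exacts [Or.inl ⟨hc, e⟩, Or.inr ⟨hc, e⟩]
      · rintro (h | h) <;> exact h.1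
    · refine Finset.disjoint_left.2 fun χ hc hc' => ?_
      simp only [hK0, hK1, Finset.mem_filter] at hc hc'
      omega
  -- the height
  have hK0pos : (1 : ℤ) ≤ K0.card := by
    exact_mod_cast Finset.card_pos.2 ⟨ψ, by simp [hK0, hψ, h0]⟩
  have hp2h : (1 : ℤ) ≤ (p : ℤ) ^ h * (p : ℤ) ^ h := by
    nlinarith [one_le_pow₀ hp1 (n := h)]
  have hapos : 0 < a θ ∧ a θ < (p : ℤ) ^ d := by
    have h1 : 0 < a θ * ((p : ℤ) ^ d - a θ) := by nlinarith
    have h2 : (0 : ℤ) ≤ (p : ℤ) ^ d := pow_nonneg (Int.natCast_nonneg p) _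
    rcases lt_trichotomy (a θ) 0 with h3 | h3 | h3
    · nlinarith
    · simp [h3] at h1
    · exact ⟨h3, by nlinarith⟩
  have hd2 : h + 2 ≤ d := by
    have h1 : (p : ℤ) ^ (h + 1) < (p : ℤ) ^ d :=
      (Int.le_of_dvd hapos.1 (hdiag hpos)).trans_lt hapos.2
    have h2 := (pow_lt_pow_iff_right₀ (by exact_mod_cast hp.one_lt : (1 : ℤ) < p)).1 h1
    omega
  refine ⟨?_, hd2⟩
  obtain ⟨e, he⟩ := Nat.exists_eq_add_of_le (show 1 ≤ d by omega)
  have hph : (p : ℤ) * p ≤ (p : ℤ) ^ h * (p : ℤ) ^ h := by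
    have := le_self_pow₀ hp1 hpos.ne'
    nlinarith
  have hamgm : ∀ x : ℤ, 4 * ((p : ℤ) ^ d * x - x * x) ≤ (p : ℤ) ^ d * (p : ℤ) ^ d := fun x => by
    nlinarith [mul_self_nonneg ((p : ℤ) ^ d - 2 * x)]
  have hfin : ((2 * Nat.card B : ℕ) : ℤ) * ((p : ℤ) * p) ≤
      ((p ^ (2 * d - 2) : ℕ) : ℤ) * ((p : ℤ) * p) := by
    have e1 : ((p ^ (2 * d - 2) : ℕ) : ℤ) * ((p : ℤ) * p) = (p : ℤ) ^ d * (p : ℤ) ^ d := by
      rw [show 2 * d - 2 = e + e from by omega, he]
      push_cast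
      ring
    rw [e1, hk]
    push_cast
    have h1 := hamgm (a θ)
    have h2 := hamgm (b ψ)
    have h3 : (p : ℤ) * p * K0.card ≤ (p : ℤ) ^ h * (p : ℤ) ^ h * K0.card :=
      mul_le_mul_of_nonneg_right hph (by positivity)
    nlinarith
  have := le_of_mul_le_mul_right hfin (by nlinarith)
  exact_mod_cast this

/-- The class of `x g`, `x` central in a defect group of the defect class of `g`, has unit central
character. -/
theorem centralChar_mul_defectClass (hM : IsPModular p M) (hB : IsPBlock M B) {g : G}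
    (hg : IsDefectClass M B g) {D : Subgroup G}
    (hs : IsSylowIn p D (Subgroup.centralizer ({g} : Set G))) {x : G} (hx : x ∈ D)
    (hxc : ∀ w ∈ D, x * w = w * x) {χ : IrrCharacter G} (hχ : χ ∈ B) :
    ¬ MemLocalIdeal M (centralChar (χ : G → ℂ) (x * g)) := by
  haveI := Fintype.ofFinite G
  have hp : p.Prime := Fact.out
  have hc : Commute x g := Subgroup.mem_centralizer_singleton_iff.1 (hs.le hx)
  have hord : ∃ i : ℕ, orderOf x = p ^ i := by
    obtain ⟨i, hi⟩ := IsPGroup.iff_orderOf.1 hs.isPGroup ⟨x, hx⟩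
    exact ⟨i, by rwa [← Subgroup.orderOf_mk x hx]⟩
  have hpart : IsPPart p (x * g) x := isPPart_mul hord (isDefectClass_regular hM hB hg) hc
  have hle : D ≤ Subgroup.centralizer ({x * g} : Set G) := fun w hw =>
    Subgroup.mem_centralizer_singleton_iff.2
      (Commute.mul_left (hxc w hw) (Subgroup.mem_centralizer_singleton_iff.1 (hs.le hw) : Commute w g).symm).symm.eq
  have hge : Subgroup.centralizer ({x * g} : Set G) ≤ Subgroup.centralizer ({g} : Set G) := by
    intro w hw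
    have h1 : Commute (x * g) w := (Subgroup.mem_centralizer_singleton_iff.1 hw : Commute w _).symm
    have h2 : Commute x w := isPPart_commute hp hpart h1
    have h3 : Commute g w := by simpa using h2.inv_left.mul_left h1
    exact Subgroup.mem_centralizer_singleton_iff.2 h3.symm.eq
  obtain ⟨D', hD'⟩ := exists_isSylowIn_ge (p := p) hs.isPGroup hle
  obtain ⟨hsy, hDD'⟩ := hD'
  rw [hs.eq_of_le hDD' (hsy.le.trans hge) hsy.isPGroup] at hsy
  have hdG : IsDefectGroup p M B D := isDefectGroup_iff.2 ⟨g, hg, hs⟩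
  obtain ⟨m, hm, hidx⟩ := index_centralizer_eq hsy (card_defectGroup hM hB hdG)
  obtain ⟨ψ, hψ, h0⟩ := exists_height_zero hM hB
  intro hmem
  rw [← red_eq_zero_iff (centralChar_mem χ.2 _), (sameBlock_iff_red χ.2 ψ.2).1
    (sameBlock_of_mem hB hχ hψ), red_eq_zero_iff (centralChar_mem ψ.2 _)] at hmem
  obtain ⟨n, hn, hnp⟩ := exists_deg_eq (p := p) ψ.2
  have hn0 := natCast_ne_zero_of_not_dvd hnp
  have hm0 := natCast_ne_zero_of_not_dvd hm
  have hp0 := prime_cast_ne_zero (p := p)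
  refine defectClass_char_unit hM hB hg hψ h0 ?_
  rw [← red_eq_zero_iff (irr_mem ψ g), ← red_char_eq hM (isCharacter_of_isIrr ψ.2) rfl hc hord,
    red_eq_zero_iff (irr_mem ψ _)]
  have e : (ψ : G → ℂ) (x * g) = ((n : ℂ) * (m : ℂ)⁻¹) * centralChar (ψ : G → ℂ) (x * g) := by
    rw [centralChar, hidx, hn, degExp_eq_height_add hM hB hψ, h0, add_zero]
    push_cast
    field_simp
  rw [e]
  exact memLocalIdeal_mul_left (mul_mem (natCast_mem _ n) (natCast_inv_mem hM hm)) hmem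

end CfsgLib.Blk
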