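import Cfsg.Agent.Blk.Induced
import Cfsg.Agent.Blk.Defect

/-!
The Brauer homomorphism on block idempotents: the idempotents of the blocks inducing `B`.
-/

set_option autoImplicit false
set_option linter.style.haveILetI false
set_option linter.unusedSectionVars false

namespace CfsgLib.Blk

open Cfsg CfsgLib.Char MonoidAlgebra Finset

universe u

variable {G : Type u} [Group G] [Finite G] {M : Ideal AlgInt} [M.IsPrime] {p : ℕ} [Fact p.Prime]

/-- A unit coefficient of a block idempotent on `C(P)` comes from a block inducing it. -/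
theorem exists_induced_of_unit (hM : IsPModular p M) (P H : Subgroup G) (hP : IsPGroup p P)
    (hPH : P ≤ H) (hC : Subgroup.centralizer (P : Set G) ≤ H)
    (hHN : H ≤ Subgroup.normalizer (P : Set G)) {B : Set (IrrCharacter G)} (hB : IsPBlock M B)
    (h : H) (hh : (h : G) ∈ Subgroup.centralizer (P : Set G))
    (hu : ¬ MemLocalIdeal M (blockCoeff B (h : G))) :
    ∃ b : Set (IrrCharacter H), IsInducedBlock M H b B ∧ ¬ MemLocalIdeal M (blockCoeff b h) := by
  classical
  haveI : CharP (Res M) p := charP_res hM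
  haveI : Fintype {b : Set (IrrCharacter H) // IsPBlock M b} := Fintype.ofFinite _
  have hcls := isClassCoeff_blockIdem hM hB
  set f : MonoidAlgebra (locRing M) H := resA H (brMap P (blockIdem hM hB)) with hfdef
  have hf : IsClassCoeff f := isClassCoeff_resA_brMap P H hHN hcls
  set S : Finset {b : Set (IrrCharacter H) // IsPBlock M b} :=
    Finset.univ.filter fun b => IsInducedBlock M H b.1 B with hS
  set E : MonoidAlgebra (locRing M) H := ∑ b ∈ S, blockIdem hM b.2 with hEdef
  have hE : IsClassCoeff E := isClassCoeff_sum _ _ fun b _ => isClassCoeff_blockIdem hM b.2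
  have hEE : E * E = E := by
    rw [hEdef, Finset.sum_mul_sum]
    refine Finset.sum_congr rfl fun b hb => ?_
    rw [Finset.sum_eq_single b (fun c _ hne => blockIdem_mul_ne hM b.2 c.2
      fun e => hne (Subtype.ext e.symm)) (fun h => absurd hb h), blockIdem_mul_self]
  have hff : redA f * redA f = redA f := by
    simp only [hfdef, redA_resA, redA_brMap]
    rw [← resA_brMap_mul P H hP hC hcls.redA hcls.redA, ← map_mul, blockIdem_mul_self]
  have hω : ∀ ξ : IrrCharacter H, omegaBar (ξ : H → ℂ) (f - E) = 0 := by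
    intro ξ
    have hbξ : IsPBlock M (blockOf M (ξ : H → ℂ)) := blockOf_isPBlock ξ
    obtain ⟨B', hB'⟩ := inducedBlockDefined_of_brauer hM P H hP hPH hC hHN hbξ
    obtain ⟨-, hB'blk, hω⟩ := (isInducedBlock_iff H).1 hB'
    obtain ⟨χ, hχ⟩ := isPBlock_nonempty hB'blk
    have h1 : omegaBar (ξ : H → ℂ) f = if χ ∈ B then 1 else 0 := by
      rw [hfdef, ← omegaBar_resA_brMap hM P H hP hPH hHN ξ.2 hcls,
        hω ξ (sameBlock_refl _) χ hχ _ hcls, omegaBar_blockIdem]
    have h2 : omegaBar (ξ : H → ℂ) E = if χ ∈ B then 1 else 0 := by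
      have hs : omegaBar (ξ : H → ℂ) E = ∑ b ∈ S, omegaBar (ξ : H → ℂ) (blockIdem hM b.2) := by
        rw [hEdef]
        clear hEdef hE hEE hS
        induction S using Finset.induction_on with
        | empty => simp [omegaBar_zero]
        | insert b S hb ih =>
          rw [Finset.sum_insert hb, Finset.sum_insert hb,
            omegaBar_add ξ.2 (isClassCoeff_blockIdem hM b.2)
              (isClassCoeff_sum _ _ fun c _ => isClassCoeff_blockIdem hM c.2), ih]
      rw [hs, Finset.sum_congr rfl (g := fun b => if ξ ∈ b.1 then (1 : Res M) else 0)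
        fun b _ => omegaBar_blockIdem hM b.2 ξ]
      have hiff : χ ∈ B ↔ (⟨_, hbξ⟩ : {b : Set (IrrCharacter H) // IsPBlock M b}) ∈ S := by
        simp only [hS, Finset.mem_filter, Finset.mem_univ, true_and]
        exact ⟨fun h' => eq_of_mem_of_mem hB'blk hB hχ h' ▸ hB',
          fun h' => isInducedBlock_unique H h' hB' ▸ hχ⟩
      by_cases hb : (⟨_, hbξ⟩ : {b : Set (IrrCharacter H) // IsPBlock M b}) ∈ S
      · rw [if_pos (hiff.2 hb), Finset.sum_eq_single (⟨_, hbξ⟩ :
          {b : Set (IrrCharacter H) // IsPBlock M b})]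
        · rw [if_pos (show ξ ∈ blockOf M (ξ : H → ℂ) from sameBlock_refl _)]
        · intro c _ hne
          exact if_neg fun h' => hne (Subtype.ext (eq_blockOf c.2 h'))
        · exact fun h' => absurd hb h'
      · rw [if_neg (fun h' => hb (hiff.1 h'))]
        exact Finset.sum_eq_zero fun c hc => if_neg fun h' =>
          hb (Subtype.ext (eq_blockOf c.2 h') (a1 := c) (a2 := ⟨_, hbξ⟩) ▸ hc)
    rw [omegaBar_sub ξ.2 hf hE, h1, h2, sub_self]
  have hnil := isNilpotent_redA hM (hf.sub hE) hω
  rw [map_sub] at hnil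
  have heq : redA f = redA E := eq_of_isNilpotent_sub_of_isIdempotentElem_of_commute hff
    (show redA E * redA E = redA E by rw [← map_mul, hEE]) hnil (hf.redA.commute _)
  have hne : (redA f).coeff h ≠ 0 := by
    rw [hfdef, coeff_redA, coeff_resA, coeff_brMap, if_pos hh, ← coeff_redA]
    exact (residue_blockIdem_ne_zero_iff hM hB _).2 hu
  rw [heq, hEdef, map_sum, MonoidAlgebra.coeff_sum, Finset.sum_apply'] at hne
  obtain ⟨b, hb, hb'⟩ := Finset.exists_ne_zero_of_sum_ne_zero hne
  exact ⟨b.1, (Finset.mem_filter.1 hb).2, (residue_blockIdem_ne_zero_iff hM b.2 h).1 hb'⟩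

end CfsgLib.Blk
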