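import Cfsg.Agent.Blk.Bounds

/-! The Brauer-Feit bound with heights. -/

set_option autoImplicit false
set_option linter.style.haveILetI false
set_option linter.unusedSectionVars false

namespace CfsgLib.Blk

open Cfsg CfsgLib.Char MonoidAlgebra Finset
open scoped ComplexConjugate

universe u

variable {G : Type u} [Group G] [Finite G] {M : Ideal AlgInt} [M.IsPrime] {p : ℕ} [Fact p.Prime]
  {B : Set (IrrCharacter G)}

theorem brauer_feit (hM : IsPModular p M) (hB : IsPBlock M B) :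
    4 * ∑ᶠ χ ∈ B, p ^ (2 * blockHeight p B (χ : G → ℂ)) ≤ p ^ (2 * blockDefect p B) + 4 := by
  classical
  haveI := Fintype.ofFinite G
  obtain ⟨θ, hθ, h0⟩ := exists_height_zero hM hB
  obtain ⟨a, hout, hsum, hdiv, -, hnd, -, -⟩ := exists_regRow hM hB hθ
  rw [finsum_mem_eq_sum_ite]
  let t : IrrCharacter G → ℤ := fun χ =>
    if χ ∈ B then (p : ℤ) ^ blockHeight p B (χ : G → ℂ) * (p : ℤ) ^ blockHeight p B (χ : G → ℂ) else 0
  have ht : ∀ χ, t χ ≤ a χ * a χ := by
    intro χ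
    simp only [t]
    split_ifs with h
    · exact sq_pow_le_of_dvd (hdiv χ h) fun e => hnd χ h h0 (e ▸ dvd_zero _)
    · exact mul_self_nonneg _
  have hsplit := Finset.add_sum_erase Finset.univ (fun χ => a χ * a χ) (Finset.mem_univ θ)
  have hle : ∑ χ ∈ Finset.univ.erase θ, t χ ≤ ∑ χ ∈ Finset.univ.erase θ, a χ * a χ :=
    Finset.sum_le_sum fun χ _ => ht χ
  have htθ : t θ = 1 := by simp [t, hθ, h0]
  have htsum := Finset.add_sum_erase Finset.univ t (Finset.mem_univ θ)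
  rw [htθ] at htsum
  have key : 4 * ∑ χ, t χ ≤ ((p : ℤ) ^ blockDefect p B) ^ 2 + 4 := by
    rw [hsum] at hsplit
    nlinarith [sq_nonneg ((p : ℤ) ^ blockDefect p B - 2 * a θ)]
  have e : ((∑ χ : IrrCharacter G, if χ ∈ B then p ^ (2 * blockHeight p B (χ : G → ℂ)) else 0 : ℕ) : ℤ) =
      ∑ χ, t χ := by
    push_cast
    refine Finset.sum_congr rfl fun χ _ => ?_
    simp only [t]
    split_ifs
    · rw [two_mul, pow_add]
    · rfl
  have key' : ((4 * (∑ χ : IrrCharacter G, if χ ∈ B then p ^ (2 * blockHeight p B (χ : G → ℂ)) else 0) : ℕ) : ℤ)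
      ≤ ((p ^ (2 * blockDefect p B) + 4 : ℕ) : ℤ) := by
    rw [Nat.cast_mul, e, Nat.cast_add, Nat.cast_pow, mul_comm 2, pow_mul]
    exact key
  exact_mod_cast key'

theorem card_le_sum_heights : Nat.card B ≤ ∑ᶠ χ ∈ B, p ^ (2 * blockHeight p B (χ : G → ℂ)) := by
  classical
  rw [finsum_mem_eq_sum_ite, ← Finset.sum_filter]
  refine le_trans (le_of_eq ?_) (Finset.card_nsmul_le_sum _ _ 1 fun χ _ =>
    Nat.one_le_pow _ _ (Fact.out : p.Prime).pos)
  rw [smul_eq_mul, mul_one, Nat.card_eq_fintype_card, ← Set.toFinset_card]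
  congr 1
  ext χ
  simp

end CfsgLib.Blk
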