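import Cfsg.Agent.Blk.Sections
import Cfsg.Agent.Blk.NormalDefect
import Cfsg.Agent.Char.Classes

/-!
The canonical character of a block of `G = P C(P)` with defect group `P`.
-/

set_option autoImplicit false
set_option linter.style.haveILetI false
set_option linter.unusedSectionVars false

namespace CfsgLib.Blk

open Cfsg CfsgLib.Char MonoidAlgebra Finset
open scoped ComplexConjugate

universe u

variable {G : Type u} [Group G] [Finite G] {M : Ideal AlgInt} [M.IsPrime] {p : ℕ} [Fact p.Prime]
variable {P : Subgroup G}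

theorem normal_of_pc_top (hG : P ⊔ Subgroup.centralizer (P : Set G) = ⊤) : P.Normal :=
  Subgroup.normalizer_eq_top_iff.1 (top_le_iff.1 (hG ▸ le_normalizer_pc P))

variable [P.Normal] (hP : IsPGroup p P) (hG : P ⊔ Subgroup.centralizer (P : Set G) = ⊤)
include hP hG

/-- Degree, height and regular norm of a block member trivial on the defect group. -/
theorem canonical_facts (hM : IsPModular p M) [Fintype G] [Fintype P] {B : Set (IrrCharacter G)}
    (hB : IsPBlock M B) (hD : IsDefectGroup p M B P) {θ : IrrCharacter G} (hθ : θ ∈ B)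
    (htriv : ∀ y ∈ P, (θ : G → ℂ) y = (θ : G → ℂ) 1) :
    (charDegree (θ : G → ℂ)).factorization p = P.index.factorization p ∧
      blockHeight p (blockOf M (θ : G → ℂ)) (θ : G → ℂ) = 0 ∧
      (∀ g, ppOf p g ∉ P → (θ : G → ℂ) g = 0) ∧
      ∑ x : G, (if p ∣ orderOf x then 0 else (θ : G → ℂ) x * conj ((θ : G → ℂ) x)) =
        (Nat.card G : ℂ) / (Nat.card P : ℂ) := by
  classical
  have hp : p.Prime := Fact.out
  haveI : Fintype (G ⧸ P) := Fintype.ofFinite _
  obtain ⟨θ', hθ', hcomp⟩ := irr_descend (QuotientGroup.mk' P) (QuotientGroup.mk'_surjective P) θ.2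
    (fun k hk => htriv k ((QuotientGroup.eq_one_iff k).1 hk))
  have hdeq : charDegree (θ : G → ℂ) = charDegree θ' := by
    refine charDegree_eq ?_
    rw [← hcomp, Function.comp_apply, map_one, irr_one_eq hθ']
  have hle : (charDegree (θ : G → ℂ)).factorization p ≤ P.index.factorization p :=
    (Nat.factorization_le_iff_dvd (charDegree_pos θ.2).ne' Subgroup.index_ne_zero_of_finite).2
      (by rw [hdeq, Subgroup.index_eq_card]; exact degree_dvd_card hθ') p
  have hh := degExp_eq_height_add hM hB hθ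
  have hcard := card_defectGroup hM hB hD
  have hfac : (Nat.card G).factorization p = blockDefect p B + P.index.factorization p := by
    rw [← Subgroup.card_mul_index P, Nat.factorization_mul Nat.card_pos.ne'
      Subgroup.index_ne_zero_of_finite, Finsupp.add_apply, hcard, hp.factorization_pow,
      Finsupp.single_eq_same]
  simp only [degExp, pExp] at hh
  have h0 : blockHeight p B (θ : G → ℂ) = 0 := by omega
  have hdeg : (charDegree (θ : G → ℂ)).factorization p = P.index.factorization p := by omega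
  obtain ⟨K, -, hK, hKmul⟩ := exists_kernel (isCharacter_of_isIrr θ.2)
  obtain ⟨hv, hr⟩ := sec_norm hP hG hM θ hdeg ⟨_, isIrr_one⟩ (fun y x _ => by
    rw [hKmul _ ((hK _).2 (htriv y y.2))]; exact (one_mul _).symm)
  exact ⟨hdeg, eq_blockOf hB hθ ▸ h0, hv, hr⟩

/-- The members of the block, by the irreducible characters of the defect group. -/
theorem canonical_param (hM : IsPModular p M) [Fintype G] [Fintype P] {B : Set (IrrCharacter G)}
    (hB : IsPBlock M B) (hD : IsDefectGroup p M B P) {θ : IrrCharacter G} (hθ : θ ∈ B)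
    (htriv : ∀ y ∈ P, (θ : G → ℂ) y = (θ : G → ℂ) 1) :
    ∃ F : IrrCharacter P → IrrCharacter G,
      (∀ ζ, F ζ ∈ B ∧ (F ζ : G → ℂ) = secFun p P (θ : G → ℂ) (ζ : P → ℂ)) ∧
      (∀ ψ ∈ B, ∃ ζ, F ζ = ψ) ∧ Function.Injective F := by
  classical
  obtain ⟨hdeg, h0, -, hreg⟩ := canonical_facts hP hG hM hB hD hθ htriv
  have h := fun ζ => sec_irr hP hG hM θ hdeg hreg ζ
  refine ⟨fun ζ => ⟨_, (h ζ).1⟩, fun ζ => ⟨mem_of_sameBlock hB hθ (h ζ).2, rfl⟩, fun ψ hψ => ?_, ?_⟩
  · obtain ⟨ζ, hζ⟩ := sec_exhaust hP hG hM θ hdeg hreg h0 (eq_blockOf hB hθ ▸ hψ)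
    exact ⟨ζ, Subtype.ext hζ.symm⟩
  · intro ζ ζ' he
    refine Subtype.ext (funext fun y => ?_)
    have h1 := congrFun (congrArg Subtype.val he) ((y : G) * 1)
    have hp1 : ¬ p ∣ orderOf (1 : G) := by simpa using (Fact.out : p.Prime).ne_one
    simp only [secFun_mul hP hG _ _ y hp1] at h1
    exact mul_right_cancel₀ (irr_one_ne_zero θ.2) h1

end CfsgLib.Blk
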