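import Mathlib.GroupTheory.Sylow
import Mathlib.GroupTheory.Nilpotent
import Mathlib.GroupTheory.Subgroup.Centralizer
import Mathlib.Algebra.Group.Subgroup.Pointwise

/-!
Sylow subgroups of subgroups, as subgroups of the ambient group.
-/

set_option autoImplicit false

open scoped Pointwise

namespace CfsgLib.Blk

universe u

variable {G : Type u} [Group G] [Finite G] {p : ℕ}

/-- `D` is a Sylow `p`-subgroup of the subgroup `H`. -/
def IsSylowIn (p : ℕ) (D H : Subgroup G) : Prop :=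
  D ≤ H ∧ Nat.card D = p ^ (Nat.card H).factorization p

theorem IsSylowIn.le {D H : Subgroup G} (h : IsSylowIn p D H) : D ≤ H := h.1

theorem IsSylowIn.card {D H : Subgroup G} (h : IsSylowIn p D H) :
    Nat.card D = p ^ (Nat.card H).factorization p := h.2

theorem IsSylowIn.isPGroup [Fact p.Prime] {D H : Subgroup G} (h : IsSylowIn p D H) : IsPGroup p D :=
  IsPGroup.of_card h.2

variable [Fact p.Prime]

theorem exists_sylow_map_eq_iff {D H : Subgroup G} :
    (∃ S : Sylow p H, (S : Subgroup H).map H.subtype = D) ↔ IsSylowIn p D H := by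
  constructor
  · rintro ⟨S, rfl⟩
    refine ⟨Subgroup.map_subtype_le _, ?_⟩
    rw [Subgroup.card_subtype, Sylow.card_eq_multiplicity]
  · rintro ⟨hle, hcard⟩
    have hc : Nat.card (D.subgroupOf H) = p ^ (Nat.card H).factorization p := by
      rw [Nat.card_congr (Subgroup.subgroupOfEquivOfLe hle).toEquiv, hcard]
    refine ⟨Sylow.ofCard (D.subgroupOf H) hc, ?_⟩
    rw [Sylow.coe_ofCard, Subgroup.map_subgroupOf_eq_of_le hle]

theorem exists_sylow_eq_map_iff {D H : Subgroup G} :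
    (∃ S : Sylow p H, D = (S : Subgroup H).map H.subtype) ↔ IsSylowIn p D H := by
  rw [← exists_sylow_map_eq_iff]
  exact exists_congr fun _ => eq_comm

theorem isSylowIn_map (H : Subgroup G) (S : Sylow p H) :
    IsSylowIn p ((S : Subgroup H).map H.subtype) H :=
  exists_sylow_map_eq_iff.1 ⟨S, rfl⟩

theorem IsSylowIn.eq_of_le {D E H : Subgroup G} (h : IsSylowIn p D H) (hDE : D ≤ E) (hEH : E ≤ H)
    (hE : IsPGroup p E) : E = D := by
  obtain ⟨S, rfl⟩ := exists_sylow_map_eq_iff.2 h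
  have hEp : IsPGroup p (E.subgroupOf H) :=
    hE.of_equiv (Subgroup.subgroupOfEquivOfLe hEH).symm
  have hle : (S : Subgroup H) ≤ E.subgroupOf H := fun x hx =>
    hDE ⟨x, hx, rfl⟩
  rw [← S.is_maximal' hEp hle, Subgroup.map_subgroupOf_eq_of_le hEH]

theorem exists_isSylowIn_ge {Q H : Subgroup G} (hQ : IsPGroup p Q) (hQH : Q ≤ H) :
    ∃ D, IsSylowIn p D H ∧ Q ≤ D := by
  have hQp : IsPGroup p (Q.subgroupOf H) :=
    hQ.of_equiv (Subgroup.subgroupOfEquivOfLe hQH).symm
  obtain ⟨S, hS⟩ := hQp.exists_le_sylow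
  exact ⟨_, isSylowIn_map H S, fun x hx => ⟨⟨x, hQH hx⟩, hS hx, rfl⟩⟩

theorem exists_isSylowIn (H : Subgroup G) : ∃ D, IsSylowIn p D H :=
  ⟨_, isSylowIn_map H (Classical.arbitrary (Sylow p H))⟩

theorem card_map_conj (D : Subgroup G) (x : G) :
    Nat.card (D.map (MulAut.conj x).toMonoidHom) = Nat.card D :=
  (Nat.card_congr (D.equivMapOfInjective _ (MulAut.conj x).injective).toEquiv).symm

omit [Finite G] [Fact p.Prime] in
theorem mem_map_conj {D : Subgroup G} {x g : G} :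
    g ∈ D.map (MulAut.conj x).toMonoidHom ↔ x⁻¹ * g * x ∈ D := by
  constructor
  · rintro ⟨d, hd, rfl⟩
    simpa [mul_assoc] using hd
  · intro h
    exact ⟨_, h, by simp [mul_assoc]⟩

theorem IsSylowIn.conj {D H : Subgroup G} (h : IsSylowIn p D H) (x : G) :
    IsSylowIn p (D.map (MulAut.conj x).toMonoidHom) (H.map (MulAut.conj x).toMonoidHom) :=
  ⟨Subgroup.map_mono h.1, by rw [card_map_conj, card_map_conj, h.2]⟩

/-- Any `p`-subgroup of `H` is conjugate in `H` into a given Sylow `p`-subgroup of `H`. -/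
theorem IsSylowIn.exists_conj_le {D H Q : Subgroup G} (h : IsSylowIn p D H) (hQ : IsPGroup p Q)
    (hQH : Q ≤ H) : ∃ x ∈ H, Q.map (MulAut.conj x).toMonoidHom ≤ D := by
  obtain ⟨S, rfl⟩ := exists_sylow_map_eq_iff.2 h
  obtain ⟨E, hE, hQE⟩ := exists_isSylowIn_ge hQ hQH
  obtain ⟨T, rfl⟩ := exists_sylow_map_eq_iff.2 hE
  obtain ⟨x, hx⟩ := MulAction.exists_smul_eq H T S
  refine ⟨x, x.2, ?_⟩
  rintro g ⟨q, hq, rfl⟩
  obtain ⟨t, ht, rfl⟩ := hQE hq
  refine ⟨x * t * x⁻¹, ?_, by simp⟩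
  have hx' : MulAut.conj x • (T : Subgroup H) = (S : Subgroup H) := by
    rw [← Sylow.coe_subgroup_smul]
    exact congrArg Sylow.toSubgroup hx
  rw [SetLike.mem_coe, ← hx']
  exact ⟨t, ht, rfl⟩

theorem IsSylowIn.exists_conj_eq {D E H : Subgroup G} (h : IsSylowIn p D H) (h' : IsSylowIn p E H) :
    ∃ x ∈ H, E.map (MulAut.conj x).toMonoidHom = D := by
  obtain ⟨x, hx, hle⟩ := h.exists_conj_le h'.isPGroup h'.1
  refine ⟨x, hx, Subgroup.eq_of_le_of_card_ge hle ?_⟩
  rw [card_map_conj, h.2, h'.2]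

omit [Finite G] [Fact p.Prime] in
theorem centralizer_singleton_conj (x g : G) :
    (Subgroup.centralizer ({g} : Set G)).map (MulAut.conj x).toMonoidHom =
      Subgroup.centralizer ({x * g * x⁻¹} : Set G) := by
  ext y
  rw [show y ∈ (Subgroup.centralizer ({g} : Set G)).map (MulAut.conj x).toMonoidHom ↔ x⁻¹ * y * x ∈ Subgroup.centralizer ({g} : Set G) from mem_map_conj, Subgroup.mem_centralizer_singleton_iff, Subgroup.mem_centralizer_singleton_iff]
  constructor <;> intro h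
  · calc y * (x * g * x⁻¹) = x * ((x⁻¹ * y * x) * g) * x⁻¹ := by group
      _ = x * g * x⁻¹ * y := by rw [h]; group
  · calc x⁻¹ * y * x * g = x⁻¹ * (y * (x * g * x⁻¹)) * x := by group
      _ = g * (x⁻¹ * y * x) := by rw [h]; group

theorem IsSylowIn.centralizer_conj {D : Subgroup G} {g : G}
    (h : IsSylowIn p D (Subgroup.centralizer ({g} : Set G))) (x : G) :
    IsSylowIn p (D.map (MulAut.conj x).toMonoidHom) (Subgroup.centralizer ({x * g * x⁻¹} : Set G)) := by
  rw [← centralizer_singleton_conj]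
  exact h.conj x

/-- If `P` is Sylow in `H ⊓ N(P)` then it is Sylow in `H`. -/
theorem isSylowIn_of_inf_normalizer {P H : Subgroup G}
    (h : IsSylowIn p P (H ⊓ Subgroup.normalizer (P : Set G))) : IsSylowIn p P H := by
  have hPH : P ≤ H := h.1.trans inf_le_left
  obtain ⟨T, hT, hPT⟩ := exists_isSylowIn_ge h.isPGroup hPH
  by_contra hne
  have hlt : P < T := lt_of_le_of_ne hPT (fun e => hne (e ▸ hT))
  haveI := hT.isPGroup.isNilpotent
  have hlt' : P.subgroupOf T < ⊤ := by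
    rw [lt_top_iff_ne_top, Ne, Subgroup.subgroupOf_eq_top]
    exact not_le_of_gt hlt
  have hnc := Group.normalizerCondition_of_isNilpotent (G := T) _ hlt'
  obtain ⟨t, ht, htP⟩ := SetLike.exists_of_lt hnc
  let E := (Subgroup.normalizer ((P.subgroupOf T : Subgroup T) : Set T)).map T.subtype
  have hET : E ≤ T := Subgroup.map_subtype_le _
  have hPE : P ≤ E := fun x hx => ⟨⟨x, hPT hx⟩, Subgroup.le_normalizer hx, rfl⟩
  have hEN : E ≤ H ⊓ Subgroup.normalizer (P : Set G) := by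
    rintro _ ⟨n, hn, rfl⟩
    refine ⟨hT.1 n.2, ?_⟩
    show (n : G) ∈ Subgroup.normalizer (P : Set G)
    rw [Subgroup.mem_normalizer_iff]
    intro x
    constructor
    · intro hx
      exact (Subgroup.mem_normalizer_iff.1 hn ⟨x, hPT hx⟩).1 hx
    · intro hx
      have hxT : x ∈ T := by
        simpa [mul_assoc] using T.mul_mem (T.mul_mem (T.inv_mem n.2) (hPT hx)) n.2
      exact (Subgroup.mem_normalizer_iff.1 hn ⟨x, hxT⟩).2 hx
  exact htP ((h.eq_of_le hPE hEN (hT.isPGroup.to_le hET)).le ⟨t, ht, rfl⟩)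

end CfsgLib.Blk
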