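import Cfsg.Agent.Blk.Core
import Cfsg.Agent.Blk.SylowIn

/-!
Reduction of the group algebra modulo `M`: the reduced central characters only depend on the
reduction, they detect nilpotency, and they exhaust the homomorphisms on the centre.
Defect classes and defect groups.
-/

set_option autoImplicit false
set_option linter.style.haveILetI false
set_option linter.unusedSectionVars false

namespace CfsgLib.Blk

open Cfsg CfsgLib.Char MonoidAlgebra Finset IsLocalRing
open scoped ComplexConjugate

universe u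

variable {G : Type u} [Group G] [Finite G] {M : Ideal AlgInt} [M.IsPrime] {p : ℕ}

/-- Reduction of coefficients modulo the maximal ideal. -/
noncomputable def redA : MonoidAlgebra (locRing M) G →+* MonoidAlgebra (Res M) G :=
  MonoidAlgebra.mapRingHom G (residue (locRing M))

@[simp] theorem coeff_redA (a : MonoidAlgebra (locRing M) G) (g : G) :
    (redA a).coeff g = residue (locRing M) (a.coeff g) :=
  MonoidAlgebra.coeff_mapRingHom _ a g

theorem redA_smul (r : locRing M) (a : MonoidAlgebra (locRing M) G) :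
    redA (r • a) = residue (locRing M) r • redA a := by
  refine MonoidAlgebra.coeff_injective (Finsupp.ext fun g => ?_)
  simp

theorem redA_classSum (g : G) :
    redA (classSum (locRing M) g) = classSum (Res M) g := by
  classical
  refine MonoidAlgebra.coeff_injective (Finsupp.ext fun x => ?_)
  rw [coeff_redA, coeff_classSum, coeff_classSum]
  split_ifs <;> simp

theorem IsClassCoeff.redA {a : MonoidAlgebra (locRing M) G} (ha : IsClassCoeff a) :
    IsClassCoeff (Blk.redA a) := fun g h => by rw [coeff_redA, coeff_redA, ha g h]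

theorem exists_lift_classCoeff {c : MonoidAlgebra (Res M) G} (hc : IsClassCoeff c) :
    ∃ a : MonoidAlgebra (locRing M) G, IsClassCoeff a ∧ redA a = c := by
  let s := Function.surjInv (IsLocalRing.residue_surjective (R := locRing M))
  refine ⟨MonoidAlgebra.ofCoeff (Finsupp.ofSupportFinite (fun g => s (c.coeff g))
    (Set.toFinite _)), fun g h => ?_, ?_⟩
  · change s (c.coeff _) = s (c.coeff _)
    rw [hc g h]
  · refine MonoidAlgebra.coeff_injective (Finsupp.ext fun g => ?_)
    rw [coeff_redA]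
    exact Function.surjInv_eq _ _

theorem omegaBar_of_redA_eq {χ : G → ℂ} (hχ : IsIrrCharacter G χ)
    {a b : MonoidAlgebra (locRing M) G} (ha : IsClassCoeff a) (hb : IsClassCoeff b)
    (h : redA a = redA b) : omegaBar χ a = omegaBar χ b := by
  haveI : Fintype (ConjClasses G) := Fintype.ofFinite _
  rw [omegaBar_eq_sum hχ ha, omegaBar_eq_sum hχ hb]
  refine Finset.sum_congr rfl fun C _ => ?_
  rw [← coeff_redA, ← coeff_redA, h]

theorem omegaBar_zero {χ : G → ℂ} :
    omegaBar χ (0 : MonoidAlgebra (locRing M) G) = 0 := by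
  rw [omegaBar, omega_zero, red_zero]

theorem isClassCoeff_zero {R : Type*} [CommRing R] : IsClassCoeff (0 : MonoidAlgebra R G) :=
  fun g h => by simp

theorem omegaBar_eq_zero_of_isNilpotent {χ : G → ℂ} (hχ : IsIrrCharacter G χ)
    {a : MonoidAlgebra (locRing M) G} (ha : IsClassCoeff a) (h : IsNilpotent (redA a)) :
    omegaBar χ a = 0 := by
  obtain ⟨n, hn⟩ := h
  have h1 : omegaBar χ (a ^ n) = 0 := by
    rw [omegaBar_of_redA_eq hχ (ha.pow n) isClassCoeff_zero (by rw [map_pow, hn, map_zero]),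
      omegaBar_zero]
  rw [omegaBar_pow hχ ha] at h1
  exact (IsReduced.eq_zero _ ⟨n, h1⟩)

theorem isNilpotent_redA (hM : IsPModular p M) {a : MonoidAlgebra (locRing M) G}
    (ha : IsClassCoeff a) (h : ∀ χ : IrrCharacter G, omegaBar (χ : G → ℂ) a = 0) :
    IsNilpotent (redA a) := by
  classical
  let w : IrrCharacter G → locRing M := fun χ => ⟨omega (χ : G → ℂ) a, omega_mem χ.2 ha⟩
  have hw : ∀ χ, MemLocalIdeal M ((w χ : locRing M) : ℂ) := fun χ => by
    rw [← red_eq_zero_iff (omega_mem χ.2 ha)]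
    exact h χ
  have hn : p * Nat.card G ≠ 0 := Nat.mul_ne_zero hM.1.ne_zero Nat.card_pos.ne'
  choose k _ hk using fun χ => exists_pow_dvd hM (hw χ) hn
  haveI := Fintype.ofFinite G
  let K := ∑ χ, k χ
  have hdvd : ∀ χ, ((p * Nat.card G : ℕ) : locRing M) ∣ w χ ^ K := fun χ =>
    (hk χ).trans (pow_dvd_pow _ (Finset.single_le_sum (fun i _ => Nat.zero_le (k i))
      (Finset.mem_univ χ)))
  choose q hq using hdvd
  refine ⟨K, MonoidAlgebra.coeff_injective (Finsupp.ext fun g => ?_)⟩
  rw [← map_pow, coeff_redA, MonoidAlgebra.coeff_zero, Finsupp.zero_apply, residue_eq_zero_iff,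
    omega_inversion (ha.pow K)]
  have e : ∀ χ : IrrCharacter G, omega (χ : G → ℂ) (a ^ K) =
      (p : ℂ) * (Nat.card G : ℂ) * ((q χ : locRing M) : ℂ) := fun χ => by
    rw [omega_pow χ.2 ha]
    have := congrArg (fun x : locRing M => (x : ℂ)) (hq χ)
    simpa [w, mul_assoc] using this
  simp only [e]
  have : (Nat.card G : ℂ)⁻¹ * ∑ χ : IrrCharacter G,
      (p : ℂ) * (Nat.card G : ℂ) * (q χ : ℂ) * (χ : G → ℂ) 1 * conj ((χ : G → ℂ) g) =
      (p : ℂ) * ∑ χ : IrrCharacter G, (q χ : ℂ) * (χ : G → ℂ) 1 * conj ((χ : G → ℂ) g) := by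
    rw [Finset.mul_sum, Finset.mul_sum]
    refine Finset.sum_congr rfl fun χ _ => ?_
    have := natCard_ne_zero G
    field_simp
  rw [this]
  exact memLocalIdeal_mul_right ((natCast_memLocalIdeal_iff hM p).2 dvd_rfl)
    (sum_mem fun χ _ => mul_mem (mul_mem (q χ).2 (irr_mem χ 1)) (conj_irr_mem χ g))

theorem omegaBar_blockIdem (hM : IsPModular p M) {B : Set (IrrCharacter G)} (hB : IsPBlock M B)
    (ψ : IrrCharacter G) [Decidable (ψ ∈ B)] :
    omegaBar (ψ : G → ℂ) (blockIdem hM hB) = if ψ ∈ B then 1 else 0 := by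
  rw [omegaBar, omega_blockIdem]
  split_ifs
  · exact red_one
  · exact red_zero

theorem sum_blockIdem (hM : IsPModular p M)
    [Fintype {B : Set (IrrCharacter G) // IsPBlock M B}] :
    ∑ B : {B : Set (IrrCharacter G) // IsPBlock M B}, blockIdem hM B.2 = 1 := by
  classical
  refine eq_of_omega_eq (isClassCoeff_sum _ _ fun B _ => isClassCoeff_blockIdem hM B.2)
    isClassCoeff_one fun χ => ?_
  rw [omega_sum, omega_one (irr_one_ne_zero χ.2),
    Finset.sum_eq_single ⟨_, blockOf_isPBlock χ⟩]
  · rw [omega_blockIdem, if_pos]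
    exact sameBlock_refl _
  · intro B _ hne
    rw [omega_blockIdem, if_neg]
    intro h
    exact hne (Subtype.ext (eq_blockOf B.2 h))
  · simp

/-- Every unital homomorphism from the centre to the residue field, semilinear over the local
ring, is a reduced central character. -/
theorem exists_irr_of_hom (hM : IsPModular p M) (lam : MonoidAlgebra (locRing M) G → Res M)
    (hadd : ∀ a b, IsClassCoeff a → IsClassCoeff b → lam (a + b) = lam a + lam b)
    (hmul : ∀ a b, IsClassCoeff a → IsClassCoeff b → lam (a * b) = lam a * lam b)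
    (hone : lam 1 = 1)
    (hsmul : ∀ (r : locRing M) a, IsClassCoeff a → lam (r • a) = residue (locRing M) r * lam a) :
    ∃ χ : IrrCharacter G, ∀ a, IsClassCoeff a → lam a = omegaBar (χ : G → ℂ) a := by
  classical
  haveI : Fintype (ConjClasses G) := Fintype.ofFinite _
  haveI : Fintype {B : Set (IrrCharacter G) // IsPBlock M B} := Fintype.ofFinite _
  have hzero : lam 0 = 0 := by
    have h := hadd 0 0 isClassCoeff_zero isClassCoeff_zero
    rw [add_zero] at h
    simpa using h
  have hsub : ∀ a b, IsClassCoeff a → IsClassCoeff b → lam (a - b) = lam a - lam b := by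
    intro a b ha hb
    have h := hadd (a - b) b (ha.sub hb) hb
    rw [sub_add_cancel] at h
    rw [h, add_sub_cancel_right]
  have hsum : ∀ {ι : Type u} (s : Finset ι) (f : ι → MonoidAlgebra (locRing M) G),
      (∀ i ∈ s, IsClassCoeff (f i)) → lam (∑ i ∈ s, f i) = ∑ i ∈ s, lam (f i) := by
    intro ι s f hf
    induction s using Finset.induction_on with
    | empty => simp [hzero]
    | insert i s hi ih =>
      rw [Finset.sum_insert hi, Finset.sum_insert hi,
        hadd _ _ (hf i (Finset.mem_insert_self i s))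
          (isClassCoeff_sum _ _ fun j hj => hf j (Finset.mem_insert_of_mem hj)),
        ih fun j hj => hf j (Finset.mem_insert_of_mem hj)]
  have hnil : ∀ a, IsClassCoeff a → IsNilpotent (redA a) → lam a = 0 := by
    rintro a ha ⟨n, hn⟩
    have hpow : ∀ m, lam (a ^ m) = lam a ^ m := by
      intro m
      induction m with
      | zero => simp [hone]
      | succ m ih => rw [pow_succ, pow_succ, hmul _ _ (ha.pow m) ha, ih]
    have h0 : lam (a ^ n) = 0 := by
      refine ((congrArg lam (eq_sum_classSum (ha.pow n))).trans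
        (hsum _ _ fun C _ => (isClassCoeff_classSum _ _).smul _)).trans ?_
      refine Finset.sum_eq_zero fun C _ => ?_
      rw [hsmul _ _ (isClassCoeff_classSum _ _), ← coeff_redA, map_pow, hn]
      simp
    rw [hpow] at h0
    exact IsReduced.eq_zero _ ⟨n, h0⟩
  obtain ⟨B, hB⟩ : ∃ B : {B : Set (IrrCharacter G) // IsPBlock M B},
      lam (blockIdem hM B.2) ≠ 0 := by
    by_contra! hall
    have h := hsum Finset.univ (fun B : {B : Set (IrrCharacter G) // IsPBlock M B} =>
      blockIdem hM B.2) fun B _ => isClassCoeff_blockIdem hM B.2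
    rw [sum_blockIdem hM, hone, Finset.sum_eq_zero fun B _ => hall B] at h
    exact one_ne_zero h
  have he : lam (blockIdem hM B.2) = 1 := by
    have h := hmul _ _ (isClassCoeff_blockIdem hM B.2) (isClassCoeff_blockIdem hM B.2)
    rw [blockIdem_mul_self] at h
    exact (mul_eq_left₀ hB).1 h.symm
  obtain ⟨χ, hχ⟩ := isPBlock_nonempty B.2
  refine ⟨χ, fun a ha => ?_⟩
  obtain ⟨s, hs⟩ := IsLocalRing.residue_surjective (omegaBar (χ : G → ℂ) a)
  have h1 : IsClassCoeff (a - s • (1 : MonoidAlgebra (locRing M) G)) :=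
    ha.sub (isClassCoeff_one.smul s)
  have h2 : IsClassCoeff (blockIdem hM B.2 * (a - s • 1)) :=
    (isClassCoeff_blockIdem hM B.2).mul h1
  have h3 : lam (blockIdem hM B.2 * (a - s • 1)) = 0 := by
    refine hnil _ h2 (isNilpotent_redA hM h2 fun ψ => ?_)
    rw [omegaBar_mul ψ.2 (isClassCoeff_blockIdem hM B.2) h1, omegaBar_blockIdem]
    split_ifs with hψ
    · rw [omegaBar_sub ψ.2 ha (isClassCoeff_one.smul s), omegaBar_smul ψ.2 s isClassCoeff_one,
        omegaBar_one ψ.2, hs, omegaBar_congr ψ.2 χ.2 (sameBlock_of_mem B.2 hψ hχ) ha]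
      ring
    · rw [zero_mul]
  rw [hmul _ _ (isClassCoeff_blockIdem hM B.2) h1, he, one_mul,
    hsub _ _ ha (isClassCoeff_one.smul s), hsmul s _ isClassCoeff_one, hone, mul_one, hs,
    sub_eq_zero] at h3
  exact h3

theorem sameBlock_of_omegaBar {χ ψ : G → ℂ} (hχ : IsIrrCharacter G χ) (hψ : IsIrrCharacter G ψ)
    (h : ∀ g : G, omegaBar χ (classSum (locRing M) g) = omegaBar ψ (classSum (locRing M) g)) :
    SameBlock M χ ψ := by
  rw [sameBlock_iff_red hχ hψ]
  intro g
  rw [← omegaBar_classSum hχ, ← omegaBar_classSum hψ, h]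

theorem red_centralChar_ne_zero_iff {χ : G → ℂ} (hχ : IsIrrCharacter G χ) (g : G) :
    red M (centralChar χ g) ≠ 0 ↔ ¬ MemLocalIdeal M (centralChar χ g) :=
  (red_eq_zero_iff (centralChar_mem hχ g)).not

theorem residue_blockIdem_ne_zero_iff (hM : IsPModular p M) {B : Set (IrrCharacter G)}
    (hB : IsPBlock M B) (g : G) :
    (redA (blockIdem hM hB)).coeff g ≠ 0 ↔ ¬ MemLocalIdeal M (blockCoeff B g) := by
  rw [coeff_redA, ne_eq, residue_eq_zero_iff, coeff_blockIdem]

/-! ### Defect classes and defect groups -/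

theorem exists_isDefectClass (hM : IsPModular p M) {B : Set (IrrCharacter G)}
    (hB : IsPBlock M B) : ∃ g : G, IsDefectClass M B g := by
  classical
  haveI : Fintype (ConjClasses G) := Fintype.ofFinite _
  obtain ⟨χ, hχ⟩ := isPBlock_nonempty hB
  have h : omegaBar (χ : G → ℂ) (blockIdem hM hB) = 1 := by rw [omegaBar_blockIdem, if_pos hχ]
  rw [omegaBar_eq_sum χ.2 (isClassCoeff_blockIdem hM hB)] at h
  obtain ⟨C, -, hC⟩ := Finset.exists_ne_zero_of_sum_ne_zero (h.symm ▸ one_ne_zero)
  obtain ⟨h1, h2⟩ := mul_ne_zero_iff.1 hC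
  refine ⟨C.out, blockCoeff_mem hM hB _, ?_, fun ψ hψ => ?_⟩
  · rw [← residue_blockIdem_ne_zero_iff hM hB, coeff_redA]
    exact h1
  · rw [← red_centralChar_ne_zero_iff ψ.2, ← (sameBlock_iff_red χ.2 ψ.2).1
      (sameBlock_of_mem hB hχ hψ)]
    exact h2

theorem isDefectGroup_iff [Fact p.Prime] {B : Set (IrrCharacter G)} {D : Subgroup G} :
    IsDefectGroup p M B D ↔
      ∃ g : G, IsDefectClass M B g ∧ IsSylowIn p D (Subgroup.centralizer ({g} : Set G)) :=
  exists_congr fun _ => and_congr_right fun _ => exists_sylow_eq_map_iff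

theorem exists_isDefectGroup [Fact p.Prime] (hM : IsPModular p M) {B : Set (IrrCharacter G)}
    (hB : IsPBlock M B) : ∃ D : Subgroup G, IsDefectGroup p M B D := by
  obtain ⟨g, hg⟩ := exists_isDefectClass hM hB
  obtain ⟨D, hD⟩ := exists_isSylowIn (p := p) (Subgroup.centralizer ({g} : Set G))
  exact ⟨D, isDefectGroup_iff.2 ⟨g, hg, hD⟩⟩

theorem IsDefectGroup.isPGroup [Fact p.Prime] {B : Set (IrrCharacter G)} {D : Subgroup G}
    (hD : IsDefectGroup p M B D) : IsPGroup p D := by
  obtain ⟨g, -, hD⟩ := isDefectGroup_iff.1 hD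
  exact hD.isPGroup

theorem isDefectClass_conj {B : Set (IrrCharacter G)} {g : G} (hg : IsDefectClass M B g) (x : G) :
    IsDefectClass M B (x * g * x⁻¹) := by
  obtain ⟨h1, h2, h3⟩ := hg
  have hc : IsConj g (x * g * x⁻¹) := isConj_iff.2 ⟨x, rfl⟩
  haveI := Fintype.ofFinite G
  refine ⟨by rwa [blockCoeff_conj], by rwa [blockCoeff_conj], fun χ hχ => ?_⟩
  rw [← centralChar_isConj (classFun_of_irr χ.2) hc]
  exact h3 χ hχ

theorem IsDefectGroup.conj [Fact p.Prime] {B : Set (IrrCharacter G)} {D : Subgroup G}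
    (hD : IsDefectGroup p M B D) (x : G) :
    IsDefectGroup p M B (D.map (MulAut.conj x).toMonoidHom) := by
  obtain ⟨g, hg, hD⟩ := isDefectGroup_iff.1 hD
  exact isDefectGroup_iff.2 ⟨_, isDefectClass_conj hg x, hD.centralizer_conj x⟩

end CfsgLib.Blk
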