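import Cfsg.Agent.Blk.Kernel

/-!
The Brauer map on block idempotents: the min-max property of defect classes, conjugacy of defect
groups, and normal `p`-subgroups.
-/

set_option autoImplicit false
set_option linter.style.haveILetI false
set_option linter.unusedSectionVars false

namespace CfsgLib.Blk

open Cfsg CfsgLib.Char MonoidAlgebra Finset IsLocalRing

universe u

variable {G : Type u} [Group G] [Finite G] {p : ℕ} [Fact p.Prime]

section generic

variable {R : Type*} [CommRing R]

theorem brMap_zero (Q : Subgroup G) : brMap Q (0 : MonoidAlgebra R G) = 0 := by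
  classical
  refine MonoidAlgebra.coeff_injective (Finsupp.ext fun g => ?_)
  simp [coeff_brMap]

theorem brMap_sub (Q : Subgroup G) (a b : MonoidAlgebra R G) :
    brMap Q (a - b) = brMap Q a - brMap Q b := by
  have h := brMap_add Q (a - b) b
  rw [sub_add_cancel] at h
  rw [h, add_sub_cancel_right]

theorem brMap_sum {ι : Type*} (Q : Subgroup G) (s : Finset ι) (f : ι → MonoidAlgebra R G) :
    brMap Q (∑ i ∈ s, f i) = ∑ i ∈ s, brMap Q (f i) := by
  classical
  induction s using Finset.induction_on with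
  | empty => simp [brMap_zero]
  | insert i s hi ih => rw [Finset.sum_insert hi, Finset.sum_insert hi, brMap_add, ih]

theorem brMap_mul_class [CharP R p] (Q : Subgroup G) (hQ : IsPGroup p Q)
    {a b : MonoidAlgebra R G} (ha : IsClassCoeff a) (hb : IsClassCoeff b) :
    brMap Q (a * b) = brMap Q a * brMap Q b :=
  brMap_mul Q hQ (fun q _ g => ha g q) fun q _ g => hb g q

theorem brMap_pow [CharP R p] (Q : Subgroup G) (hQ : IsPGroup p Q)
    {a : MonoidAlgebra R G} (ha : IsClassCoeff a) (n : ℕ) :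
    brMap Q (a ^ n) = brMap Q a ^ n := by
  induction n with
  | zero => simp [brMap_one]
  | succ n ih => rw [pow_succ, pow_succ, brMap_mul_class Q hQ (ha.pow n) ha, ih]

theorem brMap_classSum_eq_zero (Q : Subgroup G) (g : G)
    (h : ∀ c, IsConj g c → c ∉ Subgroup.centralizer (Q : Set G)) :
    brMap Q (classSum R g) = 0 := by
  classical
  refine MonoidAlgebra.coeff_injective (Finsupp.ext fun c => ?_)
  rw [coeff_brMap, coeff_classSum]
  by_cases hc : IsConj g c
  · rw [if_neg (h c hc)]; rfl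
  · rw [if_neg hc, ite_self]; rfl

/-- Reduction modulo a normal `p`-subgroup kills what the Brauer map kills. -/
theorem mapDomain_eq_zero_of_brMap [CharP R p] (P : Subgroup G) [P.Normal] (hP : IsPGroup p P)
    {a : MonoidAlgebra R G} (ha : ∀ y ∈ P, ∀ g, a.coeff (y * g * y⁻¹) = a.coeff g)
    (h : brMap P a = 0) :
    MonoidAlgebra.mapDomainRingHom R (QuotientGroup.mk' P) a = 0 := by
  classical
  haveI := Fintype.ofFinite G
  refine MonoidAlgebra.coeff_injective (Finsupp.ext fun q => ?_)
  have h1 : a = ∑ g : G, single g (a.coeff g) := by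
    conv_lhs => rw [← MonoidAlgebra.sum_coeff_single a, Finsupp.sum_fintype _ _ (by simp)]
  conv_lhs => rw [h1, map_sum]
  simp only [MonoidAlgebra.mapDomainRingHom_apply, MonoidAlgebra.mapDomain_single,
    MonoidAlgebra.coeff_sum, Finset.sum_apply', MonoidAlgebra.coeff_single, Finsupp.single_apply,
    MonoidAlgebra.coeff_zero, Finsupp.zero_apply]
  letI : MulAction P G :=
    { smul := fun y x => (y : G) * x * (y : G)⁻¹
      one_smul := fun x => by change (1 : G) * x * (1 : G)⁻¹ = x; group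
      mul_smul := fun y z x => by
        change ((y * z : P) : G) * x * ((y * z : P) : G)⁻¹ = y * (z * x * (z : G)⁻¹) * (y : G)⁻¹
        rw [Subgroup.coe_mul]; group }
  rw [sum_eq_sum_fixedPoints hP]
  · refine Finset.sum_eq_zero fun x hx => ?_
    have hfix := (Finset.mem_filter.1 hx).2
    have hxC : x ∈ Subgroup.centralizer (P : Set G) := fun y hy =>
      mul_inv_eq_iff_eq_mul.1 (hfix ⟨y, hy⟩)
    have h2 := congrArg (fun z : MonoidAlgebra R G => z.coeff x) h
    simp only [coeff_brMap, if_pos hxC, MonoidAlgebra.coeff_zero, Finsupp.zero_apply] at h2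
    rw [h2, ite_self]
  · intro y x
    change (if QuotientGroup.mk' P ((y : G) * x * (y : G)⁻¹) = q then
      a.coeff ((y : G) * x * (y : G)⁻¹) else 0) = _
    have hy : ((y : G) : G ⧸ P) = 1 := (QuotientGroup.eq_one_iff _).2 y.2
    simp only [ha y y.2, QuotientGroup.mk'_apply, QuotientGroup.mk_mul, QuotientGroup.mk_inv, hy,
      one_mul, inv_one, mul_one]
    exact ite_congr rfl (fun _ => rfl) fun _ => rfl

theorem isNilpotent_of_brMap_eq_zero {k : Type*} [Field k] [CharP k p] (P : Subgroup G)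
    [P.Normal] (hP : IsPGroup p P) {a : MonoidAlgebra k G}
    (ha : ∀ y ∈ P, ∀ g, a.coeff (y * g * y⁻¹) = a.coeff g) (h : brMap P a = 0) : IsNilpotent a :=
  isNilpotent_of_mapDomain_eq_zero P hP a (mapDomain_eq_zero_of_brMap P hP ha h)

end generic

/-- If no conjugate of `Q` lies in a Sylow subgroup of the centralizer of `g`, no conjugate of `g`
centralizes `Q`. -/
theorem not_mem_centralizer_of_not_conj_le {Q D : Subgroup G} {g : G}
    (hD : IsSylowIn p D (Subgroup.centralizer ({g} : Set G))) (hQ : IsPGroup p Q)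
    (hno : ∀ x : G, ¬ Q.map (MulAut.conj x).toMonoidHom ≤ D) :
    ∀ c, IsConj g c → c ∉ Subgroup.centralizer (Q : Set G) := by
  intro c hc hcQ
  obtain ⟨y, rfl⟩ := isConj_iff.1 hc
  have hle : Q ≤ Subgroup.centralizer ({y * g * y⁻¹} : Set G) := fun q hq =>
    Subgroup.mem_centralizer_singleton_iff.2 (hcQ q hq)
  obtain ⟨z, -, hz⟩ := (hD.centralizer_conj y).exists_conj_le hQ hle
  refine hno (y⁻¹ * z) ?_
  intro w hw
  rw [mem_map_conj] at hw
  have h1 : y * w * y⁻¹ ∈ Q.map (MulAut.conj z).toMonoidHom := by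
    rw [mem_map_conj]
    convert hw using 1
    group
  have h2 := hz h1
  rw [mem_map_conj] at h2
  convert h2 using 1
  group

variable {M : Ideal AlgInt} [M.IsPrime]

section minmax

variable (hM : IsPModular p M) {B : Set (IrrCharacter G)} (hB : IsPBlock M B)
include hM

theorem brMap_blockIdem_eq_zero {χ : IrrCharacter G} (hχ : χ ∈ B) (Q : Subgroup G)
    (hQ : IsPGroup p Q) (g : G)
    (hω : omegaBar (χ : G → ℂ) (classSum (locRing M) g) ≠ 0)
    (hg : ∀ c, IsConj g c → c ∉ Subgroup.centralizer (Q : Set G)) :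
    brMap Q (redA (blockIdem hM hB)) = 0 := by
  classical
  haveI : CharP (Res M) p := charP_res hM
  obtain ⟨s, hs⟩ := IsLocalRing.residue_surjective
    (omegaBar (χ : G → ℂ) (classSum (locRing M) g))
  have he := isClassCoeff_blockIdem hM hB
  have hc := isClassCoeff_classSum (locRing M) g
  have hb : IsClassCoeff (classSum (locRing M) g * blockIdem hM hB - s • blockIdem hM hB) :=
    (hc.mul he).sub (he.smul s)
  obtain ⟨n, hn⟩ : IsNilpotent
      (redA (classSum (locRing M) g * blockIdem hM hB - s • blockIdem hM hB)) := by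
    refine isNilpotent_redA hM hb fun ψ => ?_
    rw [omegaBar_sub ψ.2 (hc.mul he) (he.smul s), omegaBar_mul ψ.2 hc he,
      omegaBar_smul ψ.2 s he, omegaBar_blockIdem]
    split_ifs with hψ
    · rw [omegaBar_congr ψ.2 χ.2 (sameBlock_of_mem hB hψ hχ) hc, hs]
      ring
    · ring
  have key : brMap Q (redA (classSum (locRing M) g * blockIdem hM hB - s • blockIdem hM hB)) =
      -(residue (locRing M) s • brMap Q (redA (blockIdem hM hB))) := by
    rw [map_sub, map_mul, redA_smul, brMap_sub, brMap_smul, redA_classSum,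
      brMap_mul_class Q hQ (isClassCoeff_classSum _ g) he.redA, brMap_classSum_eq_zero Q g hg]
    simp
  have hnil : IsNilpotent (residue (locRing M) s • brMap Q (redA (blockIdem hM hB))) := by
    rw [← isNilpotent_neg_iff, ← key]
    refine ⟨n, ?_⟩
    rw [← brMap_pow Q hQ hb.redA, hn, brMap_zero]
  obtain ⟨m, hm⟩ := hnil
  have hidem : IsIdempotentElem (brMap Q (redA (blockIdem hM hB))) := by
    rw [IsIdempotentElem, ← brMap_mul_class Q hQ he.redA he.redA, ← map_mul, blockIdem_mul_self]
  have hs0 : residue (locRing M) s ≠ 0 := hs ▸ hω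
  rcases m with _ | m
  · simpa using congrArg (· * brMap Q (redA (blockIdem hM hB))) hm
  rw [smul_pow, hidem.pow_succ_eq] at hm
  exact (smul_eq_zero.1 hm).resolve_left (pow_ne_zero _ hs0)

include hB

/-- The defect group is the largest `p`-subgroup centralizing a class in the support of the
block idempotent. -/
theorem minmax_le {D Q : Subgroup G} (hD : IsDefectGroup p M B D) (h : G)
    (hh : ¬ MemLocalIdeal M (blockCoeff B h)) (hQ : IsPGroup p Q)
    (hQh : Q ≤ Subgroup.centralizer ({h} : Set G)) :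
    ∃ x : G, Q.map (MulAut.conj x).toMonoidHom ≤ D := by
  classical
  obtain ⟨g, hg, hD⟩ := isDefectGroup_iff.1 hD
  obtain ⟨χ, hχ⟩ := isPBlock_nonempty hB
  by_contra! hno
  have h0 := brMap_blockIdem_eq_zero hM hB hχ Q hQ g
    (by rw [omegaBar_classSum χ.2]; exact (red_centralChar_ne_zero_iff χ.2 g).2 (hg.2.2 χ hχ))
    (not_mem_centralizer_of_not_conj_le hD hQ hno)
  have h1 := congrArg (fun z : MonoidAlgebra (Res M) G => z.coeff h) h0
  have hmem : h ∈ Subgroup.centralizer (Q : Set G) := fun q hq =>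
    Subgroup.mem_centralizer_singleton_iff.1 (hQh hq)
  simp only [coeff_brMap, if_pos hmem, MonoidAlgebra.coeff_zero, Finsupp.zero_apply] at h1
  exact (residue_blockIdem_ne_zero_iff hM hB h).2 hh h1

theorem brMap_blockIdem_defectGroup_ne_zero {D : Subgroup G} (hD : IsDefectGroup p M B D) :
    brMap D (redA (blockIdem hM hB)) ≠ 0 := by
  classical
  obtain ⟨g, hg, hD⟩ := isDefectGroup_iff.1 hD
  intro h0
  have h1 := congrArg (fun z : MonoidAlgebra (Res M) G => z.coeff g) h0
  have hmem : g ∈ Subgroup.centralizer (D : Set G) := fun q hq =>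
    Subgroup.mem_centralizer_singleton_iff.1 (hD.le hq)
  simp only [coeff_brMap, if_pos hmem, MonoidAlgebra.coeff_zero, Finsupp.zero_apply] at h1
  exact (residue_blockIdem_ne_zero_iff hM hB g).2 hg.2.1 h1

theorem minmax_ge {D Q : Subgroup G} (hD : IsDefectGroup p M B D) {χ : IrrCharacter G}
    (hχ : χ ∈ B) (h : G) (hh : ¬ MemLocalIdeal M (centralChar (χ : G → ℂ) h))
    (hQ : IsSylowIn p Q (Subgroup.centralizer ({h} : Set G))) :
    ∃ x : G, D.map (MulAut.conj x).toMonoidHom ≤ Q := by
  by_contra! hno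
  exact brMap_blockIdem_defectGroup_ne_zero hM hB hD (brMap_blockIdem_eq_zero hM hB hχ D
    (IsDefectGroup.isPGroup hD) h (by rw [omegaBar_classSum χ.2]; exact (red_centralChar_ne_zero_iff χ.2 h).2 hh)
    (not_mem_centralizer_of_not_conj_le hQ (IsDefectGroup.isPGroup hD) hno))

theorem exists_conj_mem_centralizer {D : Subgroup G} (hD : IsDefectGroup p M B D)
    {χ : IrrCharacter G} (hχ : χ ∈ B) (h : G)
    (hh : ¬ MemLocalIdeal M (centralChar (χ : G → ℂ) h)) :
    ∃ c, IsConj h c ∧ c ∈ Subgroup.centralizer (D : Set G) := by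
  by_contra! hno
  exact brMap_blockIdem_defectGroup_ne_zero hM hB hD (brMap_blockIdem_eq_zero hM hB hχ D
    (IsDefectGroup.isPGroup hD) h (by rw [omegaBar_classSum χ.2]; exact (red_centralChar_ne_zero_iff χ.2 h).2 hh)
    hno)

theorem isDefectGroup_conj_eq {D D' : Subgroup G} (hD : IsDefectGroup p M B D)
    (hD' : IsDefectGroup p M B D') : ∃ x : G, D'.map (MulAut.conj x).toMonoidHom = D := by
  obtain ⟨g, hg, hs⟩ := isDefectGroup_iff.1 hD
  obtain ⟨g', hg', hs'⟩ := isDefectGroup_iff.1 hD'
  obtain ⟨x, hx⟩ := minmax_le hM hB hD g' hg'.2.1 hs'.isPGroup hs'.le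
  obtain ⟨y, hy⟩ := minmax_le hM hB hD' g hg.2.1 hs.isPGroup hs.le
  refine ⟨x, Subgroup.eq_of_le_of_card_ge hx ?_⟩
  have := Subgroup.card_le_of_le hy
  rw [card_map_conj] at this
  rwa [card_map_conj]

theorem brMap_blockIdem_ne_zero_iff {D : Subgroup G} (hD : IsDefectGroup p M B D) (Q : Subgroup G)
    (hQ : IsPGroup p Q) :
    brMap Q (redA (blockIdem hM hB)) ≠ 0 ↔
      ∃ x : G, Q.map (MulAut.conj x).toMonoidHom ≤ D := by
  classical
  constructor
  · intro h
    obtain ⟨g, hg, hs⟩ := isDefectGroup_iff.1 hD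
    obtain ⟨χ, hχ⟩ := isPBlock_nonempty hB
    by_contra! hno
    exact h (brMap_blockIdem_eq_zero hM hB hχ Q hQ g
      (by rw [omegaBar_classSum χ.2]; exact (red_centralChar_ne_zero_iff χ.2 g).2 (hg.2.2 χ hχ))
      (not_mem_centralizer_of_not_conj_le hs hQ hno))
  · rintro ⟨x, hx⟩ h0
    obtain ⟨g, hg, hs⟩ := isDefectGroup_iff.1 hD
    have h1 := congrArg (fun z : MonoidAlgebra (Res M) G => z.coeff (x⁻¹ * g * x)) h0
    have hmem : x⁻¹ * g * x ∈ Subgroup.centralizer (Q : Set G) := fun q hq => by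
      have h2 : x * q * x⁻¹ ∈ D := hx ⟨q, hq, by simp⟩
      have h3 := Subgroup.mem_centralizer_singleton_iff.1 (hs.le h2)
      calc q * (x⁻¹ * g * x) = x⁻¹ * ((x * q * x⁻¹) * g) * x := by group
        _ = x⁻¹ * g * x * q := by rw [h3]; group
    simp only [coeff_brMap, if_pos hmem, MonoidAlgebra.coeff_zero, Finsupp.zero_apply] at h1
    refine (residue_blockIdem_ne_zero_iff hM hB _).2 ?_ h1
    have h4 : blockCoeff B (x⁻¹ * g * x) = blockCoeff B g := by
      simpa using blockCoeff_conj B g x⁻¹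
    rw [h4]
    exact hg.2.1

end minmax

theorem omegaBar_eq_zero_of_brMap (hM : IsPModular p M) (P : Subgroup G) [P.Normal]
    (hP : IsPGroup p P) {χ : G → ℂ} (hχ : IsIrrCharacter G χ)
    {a : MonoidAlgebra (locRing M) G} (ha : IsClassCoeff a) (h : brMap P (redA a) = 0) :
    omegaBar χ a = 0 := by
  haveI : CharP (Res M) p := charP_res hM
  exact omegaBar_eq_zero_of_isNilpotent hχ ha
    (isNilpotent_of_brMap_eq_zero P hP (fun y _ g => ha.redA g y) h)

theorem mem_centralizer_of_centralChar (hM : IsPModular p M) (P : Subgroup G) [P.Normal]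
    (hP : IsPGroup p P) {χ : G → ℂ} (hχ : IsIrrCharacter G χ) (g : G)
    (hg : ¬ MemLocalIdeal M (centralChar χ g)) : g ∈ Subgroup.centralizer (P : Set G) := by
  by_contra hgP
  refine (red_centralChar_ne_zero_iff hχ g).2 hg ?_
  rw [← omegaBar_classSum hχ]
  refine omegaBar_eq_zero_of_brMap hM P hP hχ (isClassCoeff_classSum _ g) ?_
  rw [redA_classSum]
  refine brMap_classSum_eq_zero P g fun c hc hcP => hgP ?_
  obtain ⟨y, rfl⟩ := isConj_iff.1 hc
  have := (Subgroup.normal_centralizer (H := P)).conj_mem _ hcP y⁻¹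
  simpa [mul_assoc] using this

theorem normal_pgroup_le_defectGroup (hM : IsPModular p M) {B : Set (IrrCharacter G)}
    (hB : IsPBlock M B) (P : Subgroup G) [P.Normal] (hP : IsPGroup p P) {D : Subgroup G}
    (hD : IsDefectGroup p M B D) : P ≤ D := by
  obtain ⟨g, hg, hs⟩ := isDefectGroup_iff.1 hD
  obtain ⟨χ, hχ⟩ := isPBlock_nonempty hB
  have hgP := mem_centralizer_of_centralChar hM P hP χ.2 g (hg.2.2 χ hχ)
  have hle : P ≤ Subgroup.centralizer ({g} : Set G) := fun y hy =>
    Subgroup.mem_centralizer_singleton_iff.2 (hgP y hy)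
  obtain ⟨x, -, hx⟩ := hs.exists_conj_le hP hle
  refine fun y hy => hx ?_
  rw [mem_map_conj]
  simpa [mul_assoc] using Subgroup.Normal.conj_mem ‹P.Normal› y hy x⁻¹

end CfsgLib.Blk
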