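import Cfsg.Agent.Blk.MinMax
import Cfsg.Agent.Char.Induce

/-!
Restriction of coefficients to a subgroup and induced blocks.
-/

set_option autoImplicit false
set_option linter.style.haveILetI false
set_option linter.unusedSectionVars false

namespace CfsgLib.Blk

open Cfsg CfsgLib.Char MonoidAlgebra Finset IsLocalRing
open scoped ComplexConjugate

universe u

variable {G : Type u} [Group G] [Finite G]

section generic

variable {R : Type*} [CommRing R]

/-- The restriction of the coefficients to a subgroup. -/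
noncomputable def resA (H : Subgroup G) (a : MonoidAlgebra R G) : MonoidAlgebra R H :=
  MonoidAlgebra.comapDomain ((↑) : H → G) Subtype.val_injective a

@[simp] theorem coeff_resA (H : Subgroup G) (a : MonoidAlgebra R G) (h : H) :
    (resA H a).coeff h = a.coeff (h : G) := by
  simp [resA]

theorem resA_add (H : Subgroup G) (a b : MonoidAlgebra R G) :
    resA H (a + b) = resA H a + resA H b :=
  MonoidAlgebra.comapDomain_add _ _ _ _

theorem resA_sub (H : Subgroup G) (a b : MonoidAlgebra R G) :
    resA H (a - b) = resA H a - resA H b := by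
  have h := resA_add H (a - b) b
  rw [sub_add_cancel] at h
  rw [h, add_sub_cancel_right]

theorem resA_smul (H : Subgroup G) (r : R) (a : MonoidAlgebra R G) :
    resA H (r • a) = r • resA H a := by
  refine MonoidAlgebra.coeff_injective (Finsupp.ext fun g => ?_)
  simp

theorem resA_one (H : Subgroup G) : resA H (1 : MonoidAlgebra R G) = 1 := by
  classical
  refine MonoidAlgebra.coeff_injective (Finsupp.ext fun g => ?_)
  simp [MonoidAlgebra.one_def, MonoidAlgebra.coeff_single, Finsupp.single_apply, eq_comm]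

theorem isClassCoeff_resA (H : Subgroup G) {a : MonoidAlgebra R G} (ha : IsClassCoeff a) :
    IsClassCoeff (resA H a) := fun g h => by
  simpa using ha (g : G) (h : G)

theorem mapDomain_resA (H : Subgroup G) {a : MonoidAlgebra R G}
    (ha : ∀ g, g ∉ H → a.coeff g = 0) :
    MonoidAlgebra.mapDomainRingHom R H.subtype (resA H a) = a := by
  change MonoidAlgebra.mapDomain ((↑) : H → G) (resA H a) = a
  refine MonoidAlgebra.mapDomain_comapDomain (fun g hg => ?_) _
  exact ⟨⟨g, by by_contra h; exact Finsupp.mem_support_iff.1 hg (ha g h)⟩, rfl⟩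

theorem resA_mul (H : Subgroup G) {a b : MonoidAlgebra R G}
    (ha : ∀ g, g ∉ H → a.coeff g = 0) (hb : ∀ g, g ∉ H → b.coeff g = 0) :
    resA H (a * b) = resA H a * resA H b := by
  conv_lhs => rw [← mapDomain_resA H ha, ← mapDomain_resA H hb, ← map_mul]
  refine MonoidAlgebra.coeff_injective (Finsupp.ext fun h => ?_)
  rw [coeff_resA]
  change (MonoidAlgebra.mapDomain ((↑) : H → G) (resA H a * resA H b)).coeff (h : G) = _
  rw [MonoidAlgebra.coeff_mapDomain]
  exact Finsupp.mapDomain_apply Subtype.val_injective _ _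

theorem coeff_brMap_of_notMem (P : Subgroup G) (a : MonoidAlgebra R G) {g : G}
    (hg : g ∉ Subgroup.centralizer (P : Set G)) : (brMap P a).coeff g = 0 := by
  classical
  rw [coeff_brMap, if_neg hg]

theorem resA_brMap_mul {p : ℕ} [Fact p.Prime] [CharP R p] (P H : Subgroup G) (hP : IsPGroup p P)
    (hC : Subgroup.centralizer (P : Set G) ≤ H) {a b : MonoidAlgebra R G} (ha : IsClassCoeff a)
    (hb : IsClassCoeff b) :
    resA H (brMap P (a * b)) = resA H (brMap P a) * resA H (brMap P b) := by
  rw [brMap_mul_class P hP ha hb]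
  exact resA_mul H (fun g hg => coeff_brMap_of_notMem P a fun h => hg (hC h))
    fun g hg => coeff_brMap_of_notMem P b fun h => hg (hC h)

theorem isClassCoeff_resA_brMap (P H : Subgroup G) (hHN : H ≤ Subgroup.normalizer (P : Set G))
    {a : MonoidAlgebra R G} (ha : IsClassCoeff a) : IsClassCoeff (resA H (brMap P a)) := by
  classical
  intro g h
  simp only [coeff_resA, coeff_brMap, Subgroup.coe_mul, Subgroup.coe_inv, ha (g : G) (h : G)]
  refine if_congr ?_ rfl rfl
  have hn : ∀ y : G, y ∈ P ↔ (h : G) * y * (h : G)⁻¹ ∈ P :=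
    Subgroup.mem_normalizer_iff.1 (hHN h.2)
  simp only [Subgroup.mem_centralizer_iff, SetLike.mem_coe]
  constructor
  · intro hx y hy
    have h1 := hx ((h : G) * y * (h : G)⁻¹) ((hn y).1 hy)
    calc y * g = (h : G)⁻¹ * (((h : G) * y * (h : G)⁻¹) * ((h : G) * g * (h : G)⁻¹)) * h := by group
      _ = g * y := by rw [h1]; group
  · intro hx y hy
    have h1 := hx ((h : G)⁻¹ * y * h) (by rw [hn]; simpa [mul_assoc] using hy)
    calc y * ((h : G) * g * (h : G)⁻¹) = (h : G) * (((h : G)⁻¹ * y * h) * g) * (h : G)⁻¹ := by group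
      _ = (h : G) * g * (h : G)⁻¹ * y := by rw [h1]; group

end generic

variable {M : Ideal AlgInt} [M.IsPrime] {p : ℕ}

theorem redA_resA (H : Subgroup G) (a : MonoidAlgebra (locRing M) G) :
    redA (resA H a) = resA H (redA a) := by
  refine MonoidAlgebra.coeff_injective (Finsupp.ext fun g => ?_)
  simp

theorem redA_brMap (P : Subgroup G) (a : MonoidAlgebra (locRing M) G) :
    redA (brMap P a) = brMap P (redA a) := by
  classical
  refine MonoidAlgebra.coeff_injective (Finsupp.ext fun g => ?_)
  simp only [coeff_redA, coeff_brMap]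
  split_ifs <;> simp

theorem omega_resA [Fintype G] (H : Subgroup G) [Fintype H] (ξ : H → ℂ)
    (a : MonoidAlgebra (locRing M) G) :
    omega ξ (resA H a) = (∑ h : H, ((a.coeff (h : G) : locRing M) : ℂ) * ξ h) / ξ 1 := by
  simp [omega_eq]

theorem omega_resA_classSum (H : Subgroup G) (ξ : H → ℂ) (g : G) :
    omega ξ (resA H (classSum (locRing M) g)) = inducedCentralChar H ξ g := by
  classical
  haveI := Fintype.ofFinite G
  haveI := Fintype.ofFinite H
  rw [omega_resA, inducedCentralChar, finsum_mem_eq_sum_ite, Finset.sum_div]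
  refine Finset.sum_congr rfl fun h _ => ?_
  rw [coeff_classSum]
  simp only [Set.mem_setOf_eq]
  split_ifs <;> simp

theorem inducedCentralChar_mem (H : Subgroup G) {ξ : H → ℂ} (hξ : IsIrrCharacter H ξ) (g : G) :
    inducedCentralChar H ξ g ∈ locRing M := by
  rw [← omega_resA_classSum (M := M)]
  exact omega_mem hξ (isClassCoeff_resA H (isClassCoeff_classSum _ g))

theorem omegaBar_resA_classSum (H : Subgroup G) (ξ : H → ℂ) (g : G) :
    omegaBar ξ (resA H (classSum (locRing M) g)) = red M (inducedCentralChar H ξ g) := by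
  rw [omegaBar, omega_resA_classSum]

theorem omegaBar_resA_eq_sum [Fintype (ConjClasses G)] (H : Subgroup G) {ξ : H → ℂ}
    (hξ : IsIrrCharacter H ξ) {a : MonoidAlgebra (locRing M) G} (ha : IsClassCoeff a) :
    omegaBar ξ (resA H a) = ∑ C : ConjClasses G,
      residue (locRing M) (a.coeff C.out) * red M (inducedCentralChar H ξ C.out) := by
  classical
  let c : ConjClasses G → MonoidAlgebra (locRing M) G := fun C =>
    a.coeff C.out • classSum (locRing M) C.out
  have hc : ∀ C, IsClassCoeff (c C) := fun C => (isClassCoeff_classSum _ _).smul _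
  have key : ∀ s : Finset (ConjClasses G), omegaBar ξ (resA H (∑ C ∈ s, c C)) =
      ∑ C ∈ s, residue (locRing M) (a.coeff C.out) * red M (inducedCentralChar H ξ C.out) := by
    intro s
    induction s using Finset.induction_on with
    | empty =>
      have : resA H (0 : MonoidAlgebra (locRing M) G) = 0 := by
        refine MonoidAlgebra.coeff_injective (Finsupp.ext fun g => ?_)
        simp
      simp [this, omegaBar_zero]
    | insert C s hC ih =>
      rw [Finset.sum_insert hC, Finset.sum_insert hC, resA_add,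
        omegaBar_add hξ (isClassCoeff_resA H (hc C))
          (isClassCoeff_resA H (isClassCoeff_sum _ _ fun D _ => hc D)), ih]
      simp only [c, resA_smul]
      rw [omegaBar_smul hξ _ (isClassCoeff_resA H (isClassCoeff_classSum _ _)),
        omegaBar_resA_classSum]
  rw [← key]
  exact congrArg (fun x => omegaBar ξ (resA H x)) (eq_sum_classSum ha)

theorem isInducedBlock_iff (H : Subgroup G) {b : Set (IrrCharacter H)} {B : Set (IrrCharacter G)} :
    IsInducedBlock M H b B ↔ IsPBlock M b ∧ IsPBlock M B ∧ ∀ ξ ∈ b, ∀ χ ∈ B,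
      ∀ a : MonoidAlgebra (locRing M) G, IsClassCoeff a →
        omegaBar (ξ : H → ℂ) (resA H a) = omegaBar (χ : G → ℂ) a := by
  haveI : Fintype (ConjClasses G) := Fintype.ofFinite _
  constructor
  · rintro ⟨hb, hB, h⟩
    refine ⟨hb, hB, fun ξ hξ χ hχ a ha => ?_⟩
    rw [omegaBar_resA_eq_sum H ξ.2 ha, omegaBar_eq_sum χ.2 ha]
    refine Finset.sum_congr rfl fun C _ => ?_
    have h1 := (red_eq_zero_iff (sub_mem (inducedCentralChar_mem H ξ.2 C.out)
      (centralChar_mem χ.2 C.out))).2 (h ξ hξ χ hχ C.out)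
    rw [red_sub (inducedCentralChar_mem H ξ.2 _) (centralChar_mem χ.2 _), sub_eq_zero] at h1
    rw [h1]
  · rintro ⟨hb, hB, h⟩
    refine ⟨hb, hB, fun ξ hξ χ hχ g => ?_⟩
    have h1 := h ξ hξ χ hχ _ (isClassCoeff_classSum _ g)
    rw [omegaBar_resA_classSum, omegaBar_classSum χ.2] at h1
    rw [← red_eq_zero_iff (sub_mem (inducedCentralChar_mem H ξ.2 g) (centralChar_mem χ.2 g)),
      red_sub (inducedCentralChar_mem H ξ.2 _) (centralChar_mem χ.2 _), h1, sub_self]

theorem isInducedBlock_of_rep (H : Subgroup G) (ξ : IrrCharacter H) (χ : IrrCharacter G)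
    (h : ∀ g : G, omegaBar (ξ : H → ℂ) (resA H (classSum (locRing M) g)) =
      omegaBar (χ : G → ℂ) (classSum (locRing M) g)) :
    IsInducedBlock M H (blockOf M (ξ : H → ℂ)) (blockOf M (χ : G → ℂ)) := by
  refine ⟨blockOf_isPBlock ξ, blockOf_isPBlock χ, fun ξ' hξ' χ' hχ' g => ?_⟩
  have hg : IsClassCoeff (classSum (locRing M) g) := isClassCoeff_classSum _ g
  rw [← red_eq_zero_iff (sub_mem (inducedCentralChar_mem H ξ'.2 g) (centralChar_mem χ'.2 g)),
    red_sub (inducedCentralChar_mem H ξ'.2 _) (centralChar_mem χ'.2 _),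
    ← omegaBar_resA_classSum, ← omegaBar_classSum χ'.2,
    omegaBar_congr ξ'.2 ξ.2 (sameBlock_symm (mem_blockOf.1 hξ')) (isClassCoeff_resA H hg),
    omegaBar_congr χ'.2 χ.2 (sameBlock_symm (mem_blockOf.1 hχ')) hg, h, sub_self]

theorem isInducedBlock_unique (H : Subgroup G) {b : Set (IrrCharacter H)}
    {B B' : Set (IrrCharacter G)} (h : IsInducedBlock M H b B) (h' : IsInducedBlock M H b B') :
    B = B' := by
  obtain ⟨hb, hB, h1⟩ := (isInducedBlock_iff H).1 h
  obtain ⟨-, hB', h2⟩ := (isInducedBlock_iff H).1 h'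
  obtain ⟨ξ, hξ⟩ := isPBlock_nonempty hb
  obtain ⟨χ, hχ⟩ := isPBlock_nonempty hB
  obtain ⟨ψ, hψ⟩ := isPBlock_nonempty hB'
  refine eq_of_mem_of_mem hB hB' (χ := ψ) (mem_of_sameBlock hB hχ ?_) hψ
  refine sameBlock_of_omegaBar χ.2 ψ.2 fun g => ?_
  rw [← h1 ξ hξ χ hχ _ (isClassCoeff_classSum _ g), h2 ξ hξ ψ hψ _ (isClassCoeff_classSum _ g)]

/-- The induced block is defined as soon as the induced map is multiplicative. -/
theorem inducedBlockDefined_of_mul (hM : IsPModular p M) (H : Subgroup G)
    {b : Set (IrrCharacter H)} (hb : IsPBlock M b) (ξ : IrrCharacter H) (hξ : ξ ∈ b)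
    (hmul : ∀ a a' : MonoidAlgebra (locRing M) G, IsClassCoeff a → IsClassCoeff a' →
      omegaBar (ξ : H → ℂ) (resA H (a * a')) =
        omegaBar (ξ : H → ℂ) (resA H a) * omegaBar (ξ : H → ℂ) (resA H a')) :
    InducedBlockDefined M H b := by
  obtain ⟨χ, hχ⟩ := exists_irr_of_hom hM (fun a => omegaBar (ξ : H → ℂ) (resA H a))
    (fun a a' ha ha' => by
      rw [resA_add, omegaBar_add ξ.2 (isClassCoeff_resA H ha) (isClassCoeff_resA H ha')])
    hmul (by rw [resA_one, omegaBar_one ξ.2])
    (fun r a ha => by rw [resA_smul, omegaBar_smul ξ.2 r (isClassCoeff_resA H ha)])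
  refine ⟨blockOf M (χ : G → ℂ), ?_⟩
  rw [eq_blockOf hb hξ]
  exact isInducedBlock_of_rep H ξ χ fun g => hχ _ (isClassCoeff_classSum _ g)

section brauer

variable [Fact p.Prime]

theorem omegaBar_resA_brMap (hM : IsPModular p M) (P H : Subgroup G) (hP : IsPGroup p P)
    (hPH : P ≤ H) (hHN : H ≤ Subgroup.normalizer (P : Set G)) {ξ : H → ℂ}
    (hξ : IsIrrCharacter H ξ) {a : MonoidAlgebra (locRing M) G} (ha : IsClassCoeff a) :
    omegaBar ξ (resA H a) = omegaBar ξ (resA H (brMap P a)) := by
  classical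
  haveI : (P.subgroupOf H).Normal := Subgroup.normal_subgroupOf_of_le_normalizer hHN
  have hP' : IsPGroup p (P.subgroupOf H) := hP.of_equiv (Subgroup.subgroupOfEquivOfLe hPH).symm
  rw [← sub_eq_zero, ← omegaBar_sub hξ (isClassCoeff_resA H ha)
    (isClassCoeff_resA_brMap P H hHN ha)]
  refine omegaBar_eq_zero_of_brMap hM (P.subgroupOf H) hP' hξ
    ((isClassCoeff_resA H ha).sub (isClassCoeff_resA_brMap P H hHN ha)) ?_
  refine MonoidAlgebra.coeff_injective (Finsupp.ext fun h => ?_)
  rw [coeff_brMap]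
  split_ifs with hh
  · have hG : (h : G) ∈ Subgroup.centralizer (P : Set G) := fun y hy =>
      congrArg Subtype.val (hh ⟨y, hPH hy⟩ (Subgroup.mem_subgroupOf.2 hy))
    simp [coeff_brMap, hG]
  · rfl

theorem omegaBar_resA_mul (hM : IsPModular p M) (P H : Subgroup G) (hP : IsPGroup p P)
    (hPH : P ≤ H) (hC : Subgroup.centralizer (P : Set G) ≤ H)
    (hHN : H ≤ Subgroup.normalizer (P : Set G)) {ξ : H → ℂ} (hξ : IsIrrCharacter H ξ)
    {a a' : MonoidAlgebra (locRing M) G} (ha : IsClassCoeff a) (ha' : IsClassCoeff a') :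
    omegaBar ξ (resA H (a * a')) = omegaBar ξ (resA H a) * omegaBar ξ (resA H a') := by
  haveI : CharP (Res M) p := charP_res hM
  rw [omegaBar_resA_brMap hM P H hP hPH hHN hξ (ha.mul ha'),
    omegaBar_resA_brMap hM P H hP hPH hHN hξ ha, omegaBar_resA_brMap hM P H hP hPH hHN hξ ha',
    ← omegaBar_mul hξ (isClassCoeff_resA_brMap P H hHN ha) (isClassCoeff_resA_brMap P H hHN ha')]
  refine omegaBar_of_redA_eq hξ (isClassCoeff_resA_brMap P H hHN (ha.mul ha'))
    ((isClassCoeff_resA_brMap P H hHN ha).mul (isClassCoeff_resA_brMap P H hHN ha')) ?_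
  simp only [map_mul, redA_resA, redA_brMap]
  exact resA_brMap_mul P H hP hC ha.redA ha'.redA

theorem inducedBlockDefined_of_brauer (hM : IsPModular p M) (P H : Subgroup G) (hP : IsPGroup p P)
    (hPH : P ≤ H) (hC : Subgroup.centralizer (P : Set G) ≤ H)
    (hHN : H ≤ Subgroup.normalizer (P : Set G)) {b : Set (IrrCharacter H)} (hb : IsPBlock M b) :
    InducedBlockDefined M H b := by
  obtain ⟨ξ, hξ⟩ := isPBlock_nonempty hb
  exact inducedBlockDefined_of_mul hM H hb ξ hξ fun a a' ha ha' =>
    omegaBar_resA_mul hM P H hP hPH hC hHN ξ.2 ha ha'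

end brauer

theorem exists_class_of_inducedCentralChar (H : Subgroup G) {ξ : H → ℂ} (hξ : IsIrrCharacter H ξ)
    (g : G) (hg : ¬ MemLocalIdeal M (inducedCentralChar H ξ g)) :
    ∃ h : H, IsConj g (h : G) ∧ ¬ MemLocalIdeal M (centralChar ξ h) := by
  classical
  haveI : Fintype (ConjClasses H) := Fintype.ofFinite _
  have h1 : omegaBar ξ (resA H (classSum (locRing M) g)) ≠ 0 := by
    rw [omegaBar_resA_classSum]
    exact fun h => hg ((red_eq_zero_iff (inducedCentralChar_mem H hξ g)).1 h)
  rw [omegaBar_eq_sum hξ (isClassCoeff_resA H (isClassCoeff_classSum _ g))] at h1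
  obtain ⟨C, -, hC⟩ := Finset.exists_ne_zero_of_sum_ne_zero h1
  obtain ⟨h2, h3⟩ := mul_ne_zero_iff.1 hC
  refine ⟨C.out, ?_, (red_centralChar_ne_zero_iff hξ C.out).1 h3⟩
  rw [coeff_resA, coeff_classSum] at h2
  by_contra h
  rw [if_neg h, map_zero] at h2
  exact h2 rfl

theorem exists_defectGroup_ge [Fact p.Prime] (hM : IsPModular p M) {H : Subgroup G}
    {b : Set (IrrCharacter H)} {B : Set (IrrCharacter G)} (hind : IsInducedBlock M H b B)
    {D : Subgroup H} (hD : IsDefectGroup p M b D) :
    ∃ E : Subgroup G, IsDefectGroup p M B E ∧ D.map H.subtype ≤ E := by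
  obtain ⟨hb, hB, hω⟩ := (isInducedBlock_iff H).1 hind
  obtain ⟨g, hg⟩ := exists_isDefectClass hM hB
  obtain ⟨χ, hχ⟩ := isPBlock_nonempty hB
  obtain ⟨ξ, hξ⟩ := isPBlock_nonempty hb
  have h1 : ¬ MemLocalIdeal M (inducedCentralChar H (ξ : H → ℂ) g) := by
    rw [← red_eq_zero_iff (inducedCentralChar_mem H ξ.2 g), ← omegaBar_resA_classSum,
      hω ξ hξ χ hχ _ (isClassCoeff_classSum _ g), omegaBar_classSum χ.2]
    exact (red_centralChar_ne_zero_iff χ.2 g).2 (hg.2.2 χ hχ)
  obtain ⟨h, hgh, hh⟩ := exists_class_of_inducedCentralChar H ξ.2 g h1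
  obtain ⟨Q, hQ⟩ := exists_isSylowIn (p := p) (Subgroup.centralizer ({h} : Set H))
  obtain ⟨x, hx⟩ := minmax_ge hM hb hD hξ h hh hQ
  obtain ⟨y, hy⟩ := isConj_iff.1 hgh
  let Dx : Subgroup G := (D.map (MulAut.conj x).toMonoidHom).map H.subtype
  have hle : Dx ≤ Subgroup.centralizer ({(h : G)} : Set G) := by
    rintro _ ⟨d, hd, rfl⟩
    exact Subgroup.mem_centralizer_singleton_iff.2
      (congrArg Subtype.val (Subgroup.mem_centralizer_singleton_iff.1 (hQ.le (hx hd))))
  have hDx : IsPGroup p Dx := ((IsDefectGroup.isPGroup hD).map _).map _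
  obtain ⟨E, hE, hDE⟩ := exists_isSylowIn_ge hDx hle
  have hE' : IsDefectGroup p M B E :=
    isDefectGroup_iff.2 ⟨h, hy ▸ isDefectClass_conj hg y, hE⟩
  refine ⟨_, IsDefectGroup.conj hE' (x : G)⁻¹, ?_⟩
  rintro _ ⟨d, hd, rfl⟩
  rw [mem_map_conj]
  refine hDE ⟨x * d * x⁻¹, ⟨d, hd, by simp⟩, by simp⟩

/-- The central character of a constituent of a restriction, on an element supported in the
subgroup. -/
theorem omega_resA_of_constituent [Fintype G] (H : Subgroup G) [Fintype H] {χ : G → ℂ}
    (hχ : IsIrrCharacter G χ) {θ : H → ℂ} (hθ : IsIrrCharacter H θ)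
    (hcon : classInner (fun h : H => χ h) θ ≠ 0) {a : MonoidAlgebra (locRing M) G}
    (ha : IsClassCoeff a) (hsupp : ∀ g, g ∉ H → a.coeff g = 0) :
    omega θ (resA H a) = omega χ a := by
  classical
  have e1 : ∀ y : H, ∑ x : H, ((a.coeff (x : G) : locRing M) : ℂ) * χ ((x : G) * y) =
      omega χ a * χ y := by
    intro y
    have h := omega_mul hχ ha (single (y : G) (1 : locRing M))
    rw [omega_single, omega_eq] at h
    simp only [OneMemClass.coe_one, one_mul, coeff_mul_single_apply, mul_one] at h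
    rw [mul_div_assoc', div_left_inj' (irr_one_ne_zero hχ)] at h
    rw [← h, ← Fintype.sum_equiv (Equiv.mulRight (y : G))
      (fun x => ((a.coeff x : locRing M) : ℂ) * χ (x * (y : G))) _ (fun x => by simp),
      sum_subgroup H (fun x => ((a.coeff x : locRing M) : ℂ) * χ (x * (y : G)))]
    intro g hg
    simp [hsupp g hg]
  have e2 : ∀ y : H, ∑ x : H, ((a.coeff (x : G) : locRing M) : ℂ) * θ (x * y) =
      omega θ (resA H a) * θ y := by
    intro y
    have h := omega_mul hθ (isClassCoeff_resA H ha) (single y (1 : locRing M))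
    rw [omega_single, omega_eq] at h
    simp only [OneMemClass.coe_one, one_mul, coeff_mul_single_apply, mul_one] at h
    rw [mul_div_assoc', div_left_inj' (irr_one_ne_zero hθ)] at h
    rw [← h]
    refine Fintype.sum_equiv (Equiv.mulRight y) _ _ fun x => ?_
    simp
  have key : omega θ (resA H a) * classInner (fun h : H => χ h) θ =
      omega χ a * classInner (fun h : H => χ h) θ := by
    simp only [classInner_def, Finset.mul_sum]
    symm
    calc ∑ y : H, omega χ a * ((Nat.card H : ℂ)⁻¹ * (χ y * conj (θ y)))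
        = ∑ y : H, ∑ x : H, (Nat.card H : ℂ)⁻¹ *
            ((a.coeff (x : G) : locRing M) : ℂ) * (χ ((x : G) * y) * conj (θ y)) := by
          refine Finset.sum_congr rfl fun y _ => ?_
          calc omega χ a * ((Nat.card H : ℂ)⁻¹ * (χ y * conj (θ y)))
              = (omega χ a * χ y) * ((Nat.card H : ℂ)⁻¹ * conj (θ y)) := by ring
            _ = _ := by
              rw [← e1, Finset.sum_mul]
              exact Finset.sum_congr rfl fun x _ => by ring
      _ = ∑ x : H, ∑ z : H, (Nat.card H : ℂ)⁻¹ *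
            ((a.coeff (x : G) : locRing M) : ℂ) * (χ z * θ (x * z⁻¹)) := by
          rw [Finset.sum_comm]
          refine Finset.sum_congr rfl fun x _ => ?_
          refine Fintype.sum_equiv (Equiv.mulLeft x) _ _ fun y => ?_
          simp only [Equiv.coe_mulLeft, Subgroup.coe_mul]
          rw [← char_conj_eq (isCharacter_of_isIrr hθ), mul_inv_rev,
            classFun_mul_comm (classFun_of_irr hθ) x, inv_mul_cancel_right]
      _ = _ := by
          rw [Finset.sum_comm]
          refine Finset.sum_congr rfl fun z _ => ?_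
          rw [← char_conj_eq (isCharacter_of_isIrr hθ)]
          calc ∑ x : H, (Nat.card H : ℂ)⁻¹ *
                ((a.coeff (x : G) : locRing M) : ℂ) * (χ z * θ (x * z⁻¹))
              = ((Nat.card H : ℂ)⁻¹ * χ z) *
                ∑ x : H, ((a.coeff (x : G) : locRing M) : ℂ) * θ (x * z⁻¹) := by
                rw [Finset.mul_sum]
                exact Finset.sum_congr rfl fun x _ => by ring
            _ = _ := by rw [e2]; ring
  exact mul_right_cancel₀ hcon key

theorem centralChar_indFun [Fintype G] (H : Subgroup G) (ξ : H → ℂ) (g : G) :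
    centralChar (indFun H ξ) g = inducedCentralChar H ξ g := by
  classical
  haveI := Fintype.ofFinite H
  rw [centralChar_eq (indFun_classFun H ξ), indFun_one, inducedCentralChar, finsum_mem_eq_sum_ite]
  have key : ∀ x : G, ∑ y ∈ Finset.univ.filter (IsConj g), extendByZero H ξ (x⁻¹ * y * x) =
      ∑ h : H, if IsConj g (h : G) then ξ h else 0 := by
    intro x
    rw [Finset.sum_filter, ← Fintype.sum_equiv (MulAut.conj x).toEquiv
      (fun z => if IsConj g z then extendByZero H ξ z else 0)
      (fun y => if IsConj g y then extendByZero H ξ (x⁻¹ * y * x) else 0)]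
    · rw [sum_subgroup H _ fun z hz => by rw [extendByZero_not_mem H ξ hz, ite_self]]
      simp only [extendByZero_mem]
    · intro z
      have hz : IsConj z (x * z * x⁻¹) := isConj_iff.2 ⟨x, rfl⟩
      simp only [MulEquiv.toEquiv_eq_coe, MulEquiv.coe_toEquiv, MulAut.conj_apply]
      rw [show x⁻¹ * (x * z * x⁻¹) * x = z by group]
      exact if_congr ⟨fun h => h.trans hz, fun h => h.trans hz.symm⟩ rfl rfl
  simp only [indFun_apply, ← Finset.mul_sum]
  rw [Finset.sum_comm]
  simp only [key, Finset.sum_const, Finset.card_univ, nsmul_eq_mul, Fintype.card_eq_nat_card]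
  have h1 : ∀ h : H, (if h ∈ {h : H | IsConj g (h : G)} then ξ h / ξ 1 else 0) =
      (if IsConj g (h : G) then ξ h else 0) / ξ 1 := fun h => by
    simp only [Set.mem_setOf_eq]
    split_ifs <;> simp
  simp only [h1, ← Finset.sum_div]
  have e : (Nat.card H : ℂ)⁻¹ * (Nat.card G : ℂ) = (H.index : ℂ) := by
    rw [← H.index_mul_card, Nat.cast_mul]
    have := natCard_ne_zero H
    field_simp
  rw [← mul_assoc, e, mul_div_mul_left _ _ (Nat.cast_ne_zero.2 Subgroup.index_ne_zero_of_finite)]

theorem omega_indFun [Fintype G] (H : Subgroup G) [Fintype H] (ξ : H → ℂ)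
    {a : MonoidAlgebra (locRing M) G} (ha : IsClassCoeff a) :
    omega (indFun H ξ) a = omega ξ (resA H a) := by
  classical
  haveI : Fintype (ConjClasses G) := Fintype.ofFinite _
  rw [omega_eq_sum_classes (indFun_classFun H ξ) ha]
  have key : ∀ s : Finset (ConjClasses G), omega ξ (resA H (∑ C ∈ s,
      a.coeff C.out • classSum (locRing M) C.out)) =
      ∑ C ∈ s, (a.coeff C.out : ℂ) * centralChar (indFun H ξ) C.out := by
    intro s
    induction s using Finset.induction_on with
    | empty =>
      have : resA H (0 : MonoidAlgebra (locRing M) G) = 0 := by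
        refine MonoidAlgebra.coeff_injective (Finsupp.ext fun g => ?_)
        simp
      simp [this, omega_zero]
    | insert C s hC ih =>
      rw [Finset.sum_insert hC, Finset.sum_insert hC, resA_add, omega_add, ih, resA_smul,
        omega_smul, omega_resA_classSum, centralChar_indFun]
  rw [← key]
  exact congrArg (fun x => omega ξ (resA H x)) (eq_sum_classSum ha).symm

end CfsgLib.Blk
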