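import Cfsg.Agent.Blk.Orth
import Cfsg.Agent.Blk.Induced

/-!
Brauer's second main theorem, and its corollary that characters vanish on elements whose `p`-part
lies in no defect group.
-/

set_option autoImplicit false
set_option linter.style.haveILetI false
set_option linter.unusedSectionVars false

namespace CfsgLib.Blk

open Cfsg CfsgLib.Char MonoidAlgebra Finset IsLocalRing
open scoped ComplexConjugate

universe u

section relTr

variable {A : Type*} [Ring A]

/-- The relative trace `∑_{j<p} X^j w X'^j`. -/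
def relTr (X X' : A) (p : ℕ) (w : A) : A := ∑ j ∈ Finset.range p, X ^ j * w * X' ^ j

theorem relTr_add (X X' : A) (p : ℕ) (v w : A) :
    relTr X X' p (v + w) = relTr X X' p v + relTr X X' p w := by
  simp [relTr, mul_add, add_mul, Finset.sum_add_distrib]

theorem relTr_mul_right {X X' a : A} (p : ℕ) (w : A) (ha : Commute X' a) :
    relTr X X' p w * a = relTr X X' p (w * a) := by
  rw [relTr, relTr, Finset.sum_mul]
  refine Finset.sum_congr rfl fun j _ => ?_
  simp only [mul_assoc]
  rw [(ha.pow_left j).eq]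

theorem mul_relTr_left {X X' a : A} (p : ℕ) (w : A) (ha : Commute X a) :
    a * relTr X X' p w = relTr X X' p (a * w) := by
  rw [relTr, relTr, Finset.mul_sum]
  refine Finset.sum_congr rfl fun j _ => ?_
  simp only [← mul_assoc]
  rw [← (ha.pow_left j).eq]

theorem exists_relTr_pow {X X' a u : A} (p : ℕ) (hXa : Commute X a)
    (hXb : Commute X (a + relTr X X' p u)) (hX'b : Commute X' (a + relTr X X' p u))
    (hu : Commute u (X ^ p)) (n : ℕ) :
    ∃ v, Commute v (X ^ p) ∧ (a + relTr X X' p u) ^ n = a ^ n + relTr X X' p v := by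
  induction n with
  | zero => exact ⟨0, Commute.zero_left _, by simp [relTr]⟩
  | succ n ih =>
    obtain ⟨v, hv, he⟩ := ih
    refine ⟨a ^ n * u + v * (a + relTr X X' p u),
      (Commute.mul_left (hXa.pow_pow p n).symm hu).add_left
        (hv.mul_left (hXb.pow_left p).symm), ?_⟩
    rw [relTr_add, ← mul_relTr_left p u (hXa.pow_right n), ← relTr_mul_right p v hX'b, pow_succ,
      he, pow_succ]
    noncomm_ring

end relTr

variable {G : Type u} [Group G]

section alg

variable {R : Type*} [CommRing R]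

theorem commute_single_of_invariant {c : MonoidAlgebra R G} {z : G}
    (h : ∀ g, c.coeff (z * g * z⁻¹) = c.coeff g) : Commute (single z (1 : R)) c := by
  refine MonoidAlgebra.coeff_injective (Finsupp.ext fun g => ?_)
  rw [coeff_single_mul_apply, coeff_mul_single_apply, one_mul, mul_one, ← h (z⁻¹ * g)]
  congr 1
  group

theorem coeff_relTr (z : G) (p : ℕ) (w : MonoidAlgebra R G) (g : G) :
    (relTr (single z (1 : R)) (single z⁻¹ 1) p w).coeff g =
      ∑ j ∈ Finset.range p, w.coeff ((z ^ j)⁻¹ * g * z ^ j) := by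
  classical
  rw [relTr, MonoidAlgebra.coeff_sum, Finset.sum_apply']
  refine Finset.sum_congr rfl fun j _ => ?_
  rw [single_pow, single_pow, one_pow, coeff_mul_single_apply, mul_one, coeff_single_mul_apply,
    one_mul, inv_pow, inv_inv, mul_assoc]

variable [Finite G]

/-- An invariant element without support on the centralizer is a relative trace. -/
theorem exists_relTr_eq {p : ℕ} [Fact p.Prime] {z : G} {k : ℕ} (hz : z ^ p ^ k = 1)
    {r : MonoidAlgebra R G} (hinv : ∀ g, r.coeff (z * g * z⁻¹) = r.coeff g)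
    (hfix : ∀ g, Commute z g → r.coeff g = 0) :
    ∃ w : MonoidAlgebra R G, Commute w (single z (1 : R) ^ p) ∧
      relTr (single z (1 : R)) (single z⁻¹ 1) p w = r := by
  classical
  haveI := Fintype.ofFinite G
  let π : Equiv.Perm G := (MulAut.conj z).toEquiv
  have hπ : ∀ g, π g = z * g * z⁻¹ := fun g => rfl
  have hmem : ∀ g, ¬ Commute z (π g) ↔ ¬ Commute z g := by
    intro g
    rw [not_iff_not]
    constructor <;> intro h <;> unfold Commute SemiconjBy at h ⊢ <;> rw [hπ] at *
    · calc z * g = z * g * z⁻¹ * z := by group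
        _ = z⁻¹ * (z * (z * g * z⁻¹)) * z := by group
        _ = z⁻¹ * (z * g * z⁻¹ * z) * z := by rw [h]
        _ = g * z := by group
    · calc z * (z * g * z⁻¹) = z * (g * z) * z⁻¹ := by rw [← h]; group
        _ = z * g * z⁻¹ * z := by group
  let π' : Equiv.Perm {g : G // ¬ Commute z g} := π.subtypePerm hmem
  have hπn : ∀ (n : ℕ) (g : G), (π ^ n) g = z ^ n * g * (z ^ n)⁻¹ := by
    intro n
    induction n with
    | zero => simp
    | succ n ih =>
      intro g
      rw [pow_succ', Equiv.Perm.mul_apply, ih, hπ, pow_succ']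
      group
  obtain ⟨f, hf⟩ := exists_shift p π' (k := k) (by
    refine Equiv.ext fun g => Subtype.ext ?_
    rw [Equiv.Perm.subtypePerm_pow, Equiv.Perm.subtypePerm_apply]
    simp [hπn, hz]) (fun g h => g.2 (by
      have h' : z * g.1 * z⁻¹ = g.1 := congrArg Subtype.val h
      exact mul_inv_eq_iff_eq_mul.1 h'))
  let F : G → ZMod p := fun g => if h : Commute z g then 0 else f ⟨g, h⟩
  have hF : ∀ g, ¬ Commute z g → F (π g) = F g + 1 := by
    intro g hg
    simp only [F, dif_neg hg, dif_neg ((hmem g).2 hg)]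
    exact hf ⟨g, hg⟩
  have hiter : ∀ (n : ℕ) g, ¬ Commute z g → ¬ Commute z ((π ^ n) g) ∧ F ((π ^ n) g) = F g + n ∧
      r.coeff ((π ^ n) g) = r.coeff g := by
    intro n
    induction n with
    | zero => intro g hg; simp [hg]
    | succ n ih =>
      intro g hg
      obtain ⟨h1, h2, h3⟩ := ih g hg
      rw [pow_succ', Equiv.Perm.mul_apply]
      refine ⟨(hmem _).2 h1, ?_, ?_⟩
      · rw [hF _ h1, h2]; push_cast; ring
      · rw [hπ, hinv, h3]
  let w : MonoidAlgebra R G := MonoidAlgebra.ofCoeff (Finsupp.ofSupportFinite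
    (fun g => if F g = 0 then r.coeff g else 0) (Set.toFinite _))
  have hw : ∀ g, w.coeff g = if F g = 0 then r.coeff g else 0 := fun g => rfl
  refine ⟨w, ?_, MonoidAlgebra.coeff_injective (Finsupp.ext fun g => ?_)⟩
  · rw [single_pow, one_pow]
    refine (commute_single_of_invariant fun g => ?_).symm
    rw [← hπn, hw, hw]
    by_cases hg : Commute z g
    · have : (π ^ p) g = g := by rw [hπn, (hg.pow_left p).eq, mul_inv_cancel_right]
      rw [this]
    · obtain ⟨-, h2, h3⟩ := hiter p g hg
      rw [h2, h3, ZMod.natCast_self, add_zero]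
  · rw [coeff_relTr]
    by_cases hg : Commute z g
    · rw [hfix g hg, Finset.sum_eq_zero]
      intro j _
      have : (z ^ j)⁻¹ * g * z ^ j = g := by
        rw [mul_assoc, ← (hg.pow_left j).eq, inv_mul_cancel_left]
      rw [this, hw, hfix g hg, ite_self]
    · have e : ∀ j : ℕ, w.coeff ((z ^ j)⁻¹ * g * z ^ j) =
          if F g = (j : ZMod p) then r.coeff g else 0 := by
        intro j
        set g' := (z ^ j)⁻¹ * g * z ^ j with hg'
        have hback : (π ^ j) g' = g := by rw [hπn, hg']; group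
        have hg'c : ¬ Commute z g' := by
          intro h
          apply hg
          rw [← hback, hπn, (h.pow_left j).eq, mul_inv_cancel_right]
          exact h
        obtain ⟨-, h2, h3⟩ := hiter j g' hg'c
        rw [hback] at h2 h3
        rw [hw, ← h3, h2]
        refine if_congr ⟨fun h => by rw [h, zero_add], fun h => ?_⟩ rfl rfl
        simpa using h
      simp only [e]
      rw [Finset.sum_eq_single (F g).val]
      · simp
      · intro j hj hne
        rw [if_neg]
        intro h
        exact hne (by rw [h, ZMod.val_cast_of_lt (Finset.mem_range.1 hj)])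
      · intro h
        exact absurd (Finset.mem_range.2 (ZMod.val_lt _)) h

theorem leftMat_sum {ι : Type*} (s : Finset ι) (f : ι → MonoidAlgebra R G) :
    leftMat (∑ i ∈ s, f i) = ∑ i ∈ s, leftMat (f i) := by
  ext i j
  simp [leftMat_apply, Matrix.sum_apply, MonoidAlgebra.coeff_sum, Finset.sum_apply']

theorem commute_biMul_leftMat' [Fintype G] [DecidableEq G] {c : MonoidAlgebra R G} {a : G}
    (hc : ∀ g, c.coeff (a * g * a⁻¹) = c.coeff g) (b : G) :
    Commute (permMat R (biMul a b)) (leftMat c) := by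
  refine commute_permMat fun i j => ?_
  rw [leftMat_apply, leftMat_apply, ← hc (i * j⁻¹)]
  congr 1
  simp [mul_assoc]

theorem biMul_conj_leftMat [Fintype G] [DecidableEq G] (z y : G) (j : ℕ)
    (w : MonoidAlgebra R G) :
    permMat R (biMul z y) ^ j * leftMat w * permMat R (biMul z y)⁻¹ ^ j =
      leftMat (single z (1 : R) ^ j * w * single z⁻¹ 1 ^ j) := by
  ext i l
  rw [permMat_pow, permMat_pow, mul_assoc, permMat_mul_apply, mul_permMat_apply, inv_pow,
    biMul_pow, biMul_inv_apply, biMul_inv_apply, leftMat_apply, leftMat_apply, single_pow,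
    single_pow, one_pow, coeff_mul_single_apply, mul_one, coeff_single_mul_apply, one_mul, inv_pow,
    inv_inv]
  congr 1
  group

end alg

variable [Finite G] {M : Ideal AlgInt} [M.IsPrime] {p : ℕ}

/-- A central element with all reduced central characters zero has a power divisible by `p`. -/
theorem exists_pow_eq_smul (hM : IsPModular p M) {a : MonoidAlgebra (locRing M) G}
    (ha : IsClassCoeff a) (h : ∀ χ : IrrCharacter G, omegaBar (χ : G → ℂ) a = 0) :
    ∃ (m : ℕ) (c : MonoidAlgebra (locRing M) G), 0 < m ∧ IsClassCoeff c ∧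
      a ^ m = (p : locRing M) • c := by
  classical
  haveI := Fintype.ofFinite G
  let w : IrrCharacter G → locRing M := fun χ => ⟨omega (χ : G → ℂ) a, omega_mem χ.2 ha⟩
  have hw : ∀ χ, MemLocalIdeal M ((w χ : locRing M) : ℂ) := fun χ => by
    rw [← red_eq_zero_iff (omega_mem χ.2 ha)]
    exact h χ
  choose k _ hk using fun χ =>
    exists_pow_dvd hM (hw χ) (Nat.mul_ne_zero hM.1.ne_zero (Nat.card_pos (α := G)).ne')
  let K := (∑ χ, k χ) + 1
  have hdvd : ∀ χ, ((p * Nat.card G : ℕ) : locRing M) ∣ w χ ^ K := fun χ =>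
    (hk χ).trans (pow_dvd_pow _ ((Finset.single_le_sum (fun i _ => Nat.zero_le (k i))
      (Finset.mem_univ χ)).trans (Nat.le_succ _)))
  choose q hq using hdvd
  let c : MonoidAlgebra (locRing M) G := MonoidAlgebra.ofCoeff (Finsupp.ofSupportFinite
    (fun g => (⟨∑ χ : IrrCharacter G, (q χ : ℂ) * (χ : G → ℂ) 1 * conj ((χ : G → ℂ) g),
      sum_mem fun χ _ => mul_mem (mul_mem (q χ).2 (irr_mem χ 1)) (conj_irr_mem χ g)⟩ : locRing M))
    (Set.toFinite _))
  refine ⟨K, c, Nat.succ_pos _, fun g x => Subtype.ext ?_,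
    MonoidAlgebra.coeff_injective (Finsupp.ext fun g => Subtype.ext ?_)⟩
  · change ∑ χ : IrrCharacter G, (q χ : ℂ) * (χ : G → ℂ) 1 * conj ((χ : G → ℂ) (x * g * x⁻¹)) = _
    refine Finset.sum_congr rfl fun χ _ => ?_
    rw [classFun_of_irr χ.2 g x]
  · rw [omega_inversion (ha.pow K), MonoidAlgebra.coeff_smul, Finsupp.smul_apply, smul_eq_mul]
    change _ = (p : ℂ) * ∑ χ : IrrCharacter G, (q χ : ℂ) * (χ : G → ℂ) 1 * conj ((χ : G → ℂ) g)
    rw [Finset.mul_sum, Finset.mul_sum]
    refine Finset.sum_congr rfl fun χ _ => ?_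
    have e : omega (χ : G → ℂ) (a ^ K) = (p : ℂ) * (Nat.card G : ℂ) * (q χ : ℂ) := by
      rw [omega_pow χ.2 ha]
      simpa [w, mul_assoc] using congrArg (fun x : locRing M => (x : ℂ)) (hq χ)
    rw [e]
    have := natCard_ne_zero G
    field_simp

theorem sum_blockCoeff_mul_char (hM : IsPModular p M) [Fintype G] {B : Set (IrrCharacter G)}
    (hB : IsPBlock M B) (ψ : IrrCharacter G) [Decidable (ψ ∈ B)] (y : G) :
    ∑ g : G, blockCoeff B g * (ψ : G → ℂ) (g * y) = if ψ ∈ B then (ψ : G → ℂ) y else 0 := by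
  have h := omega_mul ψ.2 (isClassCoeff_blockIdem hM hB) (single y (1 : locRing M))
  rw [omega_blockIdem, omega_single, omega_eq] at h
  simp only [OneMemClass.coe_one, one_mul, coeff_mul_single_apply, mul_one, coeff_blockIdem,
    mul_div_assoc'] at h
  rw [div_left_inj' (irr_one_ne_zero ψ.2)] at h
  rw [← Fintype.sum_equiv (Equiv.mulRight y⁻¹)
    (fun x => blockCoeff B (x * y⁻¹) * (ψ : G → ℂ) x) _ (fun x => by simp), h]
  split_ifs <;> simp

theorem blockPart_eq_sum (hM : IsPModular p M) [Fintype G] {B : Set (IrrCharacter G)}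
    (hB : IsPBlock M B) {f : G → ℂ} (hf : IsClassFunction G f) (y : G) :
    blockPart B f y = ∑ g : G, blockCoeff B g * f (g * y) := by
  classical
  rw [blockPart]
  symm
  calc ∑ g : G, blockCoeff B g * f (g * y)
      = ∑ g : G, ∑ χ : IrrCharacter G,
          classInner f (χ : G → ℂ) * (blockCoeff B g * (χ : G → ℂ) (g * y)) := by
        refine Finset.sum_congr rfl fun g _ => ?_
        conv_lhs => rw [classFun_eq_sum hf]
        simp only [Finset.sum_apply, Pi.smul_apply, smul_eq_mul, Finset.mul_sum]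
        exact Finset.sum_congr rfl fun χ _ => by ring
    _ = ∑ χ : IrrCharacter G, classInner f (χ : G → ℂ) *
          (if χ ∈ B then (χ : G → ℂ) y else 0) := by
        rw [Finset.sum_comm]
        simp only [← Finset.mul_sum, sum_blockCoeff_mul_char hM hB]
    _ = ∑ᶠ χ ∈ B, classInner f (χ : G → ℂ) * (χ : G → ℂ) y := by
        rw [finsum_mem_eq_sum_ite]
        exact Finset.sum_congr rfl fun χ _ => by split_ifs <;> simp
    _ = _ := by
        refine finsum_congr fun χ => finsum_congr fun _ => ?_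
        rw [classInner_congr_inst]

variable [Fact p.Prime]

/-- Brauer's second main theorem. -/
theorem secondMain (hM : IsPModular p M) (H : Subgroup G) [Fintype H]
    {b : Set (IrrCharacter H)} {B : Set (IrrCharacter G)} (hind : IsInducedBlock M H b B)
    {h z : G} (hh : h ∈ H) (hz : IsPPart p h z)
    (hC : Subgroup.centralizer ({z} : Set G) ≤ H) {χ : IrrCharacter G} (hχ : χ ∉ B) :
    ∑ k : H, blockCoeff b k * (χ : G → ℂ) ((k : G) * h) = 0 := by
  classical
  haveI := Fintype.ofFinite G
  have hp : p.Prime := Fact.out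
  haveI : NeZero p := ⟨hp.ne_zero⟩
  obtain ⟨hb, hB, hω⟩ := (isInducedBlock_iff H).1 hind
  set B' := blockOf M (χ : G → ℂ) with hB'def
  have hB' : IsPBlock M B' := blockOf_isPBlock χ
  let R := locRing M
  let ι : MonoidAlgebra R H →+* MonoidAlgebra R G := MonoidAlgebra.mapDomainRingHom R H.subtype
  have hzH : z ∈ H :=
    Subgroup.zpowers_le.2 hh (isPPart_mem_zpowers hp hz)
  obtain ⟨s, hzs, hcs, ⟨kz, hkz⟩, hs⟩ := hz
  have hsH : s ∈ H := by
    have : s = z⁻¹ * h := by rw [← hzs]; group
    rw [this]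
    exact H.mul_mem (H.inv_mem hzH) hh
  set e' := blockIdem hM hB' with he'def
  have he' : IsClassCoeff e' := isClassCoeff_blockIdem hM hB'
  set eb := blockIdem hM hb with hebdef
  have heb : IsClassCoeff eb := isClassCoeff_blockIdem hM hb
  have hιc : ∀ (a : MonoidAlgebra R H) (k : H), (ι a).coeff (k : G) = a.coeff k := fun a k => by
    change (MonoidAlgebra.mapDomain ((↑) : H → G) a).coeff (k : G) = _
    rw [MonoidAlgebra.coeff_mapDomain]
    exact Finsupp.mapDomain_apply Subtype.val_injective _ _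
  have hι0 : ∀ (a : MonoidAlgebra R H) (g : G), g ∉ H → (ι a).coeff g = 0 := fun a g hg => by
    change (MonoidAlgebra.mapDomain ((↑) : H → G) a).coeff g = _
    rw [MonoidAlgebra.coeff_mapDomain]
    exact Finsupp.mapDomain_of_notMem_range _ _ (by rintro ⟨x, rfl⟩; exact hg x.2)
  have hcommι : ∀ (a : MonoidAlgebra R H), IsClassCoeff a → ∀ x ∈ H,
      ∀ g, (ι a).coeff (x * g * x⁻¹) = (ι a).coeff g := by
    intro a ha x hx g
    by_cases hg : g ∈ H
    · have h1 := hιc a (⟨x, hx⟩ * ⟨g, hg⟩ * (⟨x, hx⟩ : H)⁻¹)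
      simp only [Subgroup.coe_mul, Subgroup.coe_inv] at h1
      rw [h1, ha ⟨g, hg⟩ ⟨x, hx⟩, hιc a ⟨g, hg⟩]
    · rw [hι0 _ _ hg, hι0]
      intro h'
      exact hg (by simpa [mul_assoc] using H.mul_mem (H.mul_mem (H.inv_mem hx) h') hx)
  set Z := single z (1 : R) with hZ
  set Z' := single z⁻¹ (1 : R) with hZ'
  -- the idempotent
  set E₀ := ι eb * e' with hE₀
  have hE₀c : ∀ x ∈ H, Commute (single x (1 : R)) E₀ := fun x hx =>
    (commute_single_of_invariant (hcommι eb heb x hx)).mul_right (he'.commute _).symm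
  have hE₀E : E₀ * E₀ = E₀ := by
    rw [hE₀, (he'.commute (ι eb)).mul_mul_mul_comm, ← map_mul, blockIdem_mul_self,
      blockIdem_mul_self]
  set f := eb * resA H e' with hfdef
  have hf : IsClassCoeff f := heb.mul (isClassCoeff_resA H he')
  obtain ⟨m, c, hm, hc, hfm⟩ := exists_pow_eq_smul hM hf (fun ξ => by
    rw [omegaBar_mul ξ.2 heb (isClassCoeff_resA H he'), omegaBar_blockIdem]
    split_ifs with hξ
    · obtain ⟨χ₀, hχ₀⟩ := isPBlock_nonempty hB
      rw [hω ξ hξ χ₀ hχ₀ _ he', omegaBar_blockIdem, if_neg, mul_zero]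
      intro h0
      exact hχ (mem_of_sameBlock hB hχ₀ (sameBlock_symm h0))
    · rw [zero_mul])
  have hzk : z ^ p ^ kz = 1 := by rw [← hkz]; exact pow_orderOf_eq_one z
  obtain ⟨w₀, hw₀, hw₀'⟩ := exists_relTr_eq (R := R) hzk (r := e' - ι (resA H e'))
    (fun g => by
      rw [MonoidAlgebra.coeff_sub, Finsupp.sub_apply, Finsupp.sub_apply, he',
        hcommι _ (isClassCoeff_resA H he') z hzH])
    (fun g hg => by
      have hgH : g ∈ H := hC (Subgroup.mem_centralizer_singleton_iff.2 hg.symm.eq)
      rw [MonoidAlgebra.coeff_sub, Finsupp.sub_apply]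
      have := hιc (resA H e') ⟨g, hgH⟩
      rw [coeff_resA] at this
      rw [this, sub_self])
  have hebz : Commute Z (ι eb) := commute_single_of_invariant (hcommι eb heb z hzH)
  have hfz : Commute Z (ι f) := commute_single_of_invariant (hcommι f hf z hzH)
  have hsplit : E₀ = ι f + relTr Z Z' p (ι eb * w₀) := by
    rw [← mul_relTr_left p w₀ hebz, hw₀', hE₀, hfdef, map_mul, mul_sub, add_sub_cancel]
  have hzE : Commute Z E₀ := hE₀c z hzH
  have hz'E : Commute Z' E₀ := hE₀c z⁻¹ (H.inv_mem hzH)
  obtain ⟨v, hv, hvm⟩ := exists_relTr_pow (X := Z) (X' := Z') (a := ι f) (u := ι eb * w₀) p hfz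
    (hsplit ▸ hzE) (hsplit ▸ hz'E) ((hebz.pow_left p).symm.mul_left hw₀) m
  rw [← hsplit, IsIdempotentElem.pow_eq (show IsIdempotentElem E₀ from hE₀E) hm.ne', ← map_pow,
    hfm] at hvm
  have hcz : Commute Z (ι c) := commute_single_of_invariant (hcommι c hc z hzH)
  have hTr : ι ((p : R) • c) = relTr Z Z' p (ι c) := by
    rw [relTr, Finset.sum_congr rfl (g := fun _ => ι c), Finset.sum_const, Finset.card_range,
      Nat.cast_smul_eq_nsmul, map_nsmul]
    intro j _
    rw [(hcz.pow_left j).eq, mul_assoc, single_pow, single_pow, single_mul_single, inv_pow,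
      mul_inv_cancel, one_pow, one_mul, ← MonoidAlgebra.one_def, mul_one]
  rw [hTr, ← relTr_add] at hvm
  set w := ι c + v with hwdef
  have hw : Commute w (Z ^ p) := (hcz.pow_left p).symm.add_left hv
  -- now evaluate traces
  have key : ∀ y : G, ∑ ψ : IrrCharacter G, (if ψ ∈ B' then
      (∑ k : H, blockCoeff b k * (ψ : G → ℂ) ((k : G) * h)) * conj ((ψ : G → ℂ) y) else 0) =
      0 := by
    intro y
    obtain ⟨y₁, hy₁⟩ := exists_isPPart hp y
    obtain ⟨y₂, hy12, hcy, ⟨ky, hky⟩, hy₂⟩ := hy₁
    obtain ⟨ζ, hζ1, hζ2, hζ3⟩ := exists_rootUnit hM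
    set X := permMat R (biMul z y₁)
    set X' := permMat R (biMul z y₁)⁻¹
    set Y := permMat R (biMul s y₂)
    set E := leftMat E₀
    have hX : X * X' = 1 := by rw [permMat_mul, mul_inv_cancel, permMat_one]
    have hXY : X * Y = Y * X := by
      rw [permMat_mul, permMat_mul, biMul_mul, biMul_mul, hcs.eq, hcy.eq]
    have hinv : ∀ x ∈ H, ∀ g, E₀.coeff (x * g * x⁻¹) = E₀.coeff g := by
      intro x hx g
      have h1 := congrArg (fun a : MonoidAlgebra R G => a.coeff (x * g)) (hE₀c x hx).eq
      simp only [coeff_single_mul_apply, coeff_mul_single_apply, one_mul, mul_one,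
        inv_mul_cancel_left] at h1
      exact h1.symm
    have hXE : Commute X E := commute_biMul_leftMat' (hinv z hzH) y₁
    have hYE : Commute Y E := commute_biMul_leftMat' (hinv s hsH) y₂
    have hwX : leftMat w * X ^ p = X ^ p * leftMat w := by
      rw [permMat_pow, biMul_pow]
      refine (commute_biMul_leftMat' (fun g => ?_) _).eq.symm
      have h1 := congrArg (fun a : MonoidAlgebra R G => a.coeff (z ^ p * g)) hw.eq
      simp only [hZ, single_pow, one_pow, coeff_single_mul_apply, coeff_mul_single_apply, one_mul,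
        mul_one, inv_mul_cancel_left] at h1
      exact h1
    have hsum : ∑ j ∈ Finset.range p, X ^ j * leftMat w * X' ^ j = E := by
      simp only [X, X', biMul_conj_leftMat]
      rw [← leftMat_sum]
      exact congrArg leftMat hvm.symm
    have hN : ¬ p ∣ orderOf s * orderOf y₂ := fun h =>
      (hp.dvd_mul.1 h).elim hs hy₂
    have hNu : IsUnit ((orderOf s * orderOf y₂ : ℕ) : R) := by
      rw [isUnit_loc_iff]
      simpa [← Nat.cast_mul, natCast_memLocalIdeal_iff hM] using hN
    have hYN : Y ^ (orderOf s * orderOf y₂) = 1 := by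
      rw [permMat_pow, biMul_pow, pow_mul, pow_orderOf_eq_one, one_pow, mul_comm, pow_mul,
        pow_orderOf_eq_one, one_pow, show biMul (1 : G) 1 = 1 from Equiv.ext fun i => by simp,
        permMat_one]
    obtain ⟨w', hw1, hw2, hw3⟩ := exists_commuting_relTrace p _ hNu X X' Y E (leftMat w) hX hXY
      hYN hYE.eq hwX hsum
    have h0 := trace_mul_eq_zero_of_relTrace p ζ hζ1 hζ2 hζ3 X X' Y E w' hX hXY hXE.eq hYE.eq
      (by rw [leftMat_mul, hE₀E]) hw1 hw2 hw3
    rw [permMat_mul, biMul_mul, hzs, hy12] at h0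
    have h1 : (permMat R (biMul h y) * E).trace = ∑ k : H, eb.coeff k *
        (permMat R (biMul (h * k) y) * leftMat e').trace := by
      have hE : ∀ g : G, E₀.coeff g = ∑ k : H, eb.coeff k * e'.coeff ((k : G)⁻¹ * g) := by
        intro g
        rw [hE₀, coeff_mul_sum, sum_subgroup H
          (fun x => (ι eb).coeff x * e'.coeff (x⁻¹ * g)) fun x hx => by rw [hι0 _ _ hx, zero_mul]]
        simp only [hιc]
      simp only [Matrix.trace, Matrix.diag, permMat_mul_apply, E, leftMat_apply, biMul_inv_apply,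
        hE, Finset.mul_sum]
      rw [Finset.sum_comm]
      refine Finset.sum_congr rfl fun k _ => Finset.sum_congr rfl fun i _ => ?_
      congr 2
      group
    rw [h1] at h0
    have h2 := congrArg (fun x : R => (x : ℂ)) h0
    simp only [AddSubmonoidClass.coe_finsetSum, Subring.coe_mul, ZeroMemClass.coe_zero] at h2
    rw [Finset.sum_congr rfl fun k _ => by
      rw [trace_biMul_blockIdem hM hB' (h * (k : G)) y, coeff_blockIdem hM hb k,
        Finset.mul_sum]] at h2
    refine Eq.trans ?_ h2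
    conv_rhs => rw [Finset.sum_comm]
    refine Finset.sum_congr rfl fun ψ _ => ?_
    split_ifs
    · rw [Finset.sum_mul]
      refine Finset.sum_congr rfl fun k _ => ?_
      rw [classFun_mul_comm (classFun_of_irr ψ.2) (k : G) h]
      ring
    · simp
  -- linear independence
  have hχB' : χ ∈ B' := sameBlock_refl _
  obtain ⟨C, hC'⟩ : ∃ C : IrrCharacter G → ℂ, ∀ ψ, C ψ = if ψ ∈ B' then
      ∑ k : H, blockCoeff b k * (ψ : G → ℂ) ((k : G) * h) else 0 := ⟨_, fun _ => rfl⟩
  have h3 : ∑ ψ : IrrCharacter G,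
      C ψ * ∑ y : G, (χ : G → ℂ) y * conj ((ψ : G → ℂ) y) = 0 := by
    simp only [Finset.mul_sum]
    rw [Finset.sum_comm]
    refine Finset.sum_eq_zero fun y _ => ?_
    calc ∑ ψ : IrrCharacter G, C ψ * ((χ : G → ℂ) y * conj ((ψ : G → ℂ) y))
        = (∑ ψ : IrrCharacter G, C ψ * conj ((ψ : G → ℂ) y)) * (χ : G → ℂ) y := by
          rw [Finset.sum_mul]
          exact Finset.sum_congr rfl fun ψ _ => by ring
      _ = 0 := by
          rw [Finset.sum_congr rfl fun ψ _ => by rw [hC', ite_mul, zero_mul], key, zero_mul]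
  have h4 : ∀ ψ : IrrCharacter G, ∑ y : G, (χ : G → ℂ) y * conj ((ψ : G → ℂ) y) =
      (Nat.card G : ℂ) * classInner (χ : G → ℂ) (ψ : G → ℂ) := fun ψ => by
    rw [classInner_def, ← mul_assoc, mul_inv_cancel₀ (natCard_ne_zero G), one_mul]
  simp only [h4, irrChar_inner, mul_ite, mul_one, mul_zero, Finset.sum_ite_eq, Finset.mem_univ,
    if_true] at h3
  rw [hC', if_pos hχB'] at h3
  exact (mul_eq_zero.1 h3).resolve_right (natCard_ne_zero G)

theorem sum_blocks_blockCoeff {H : Type u} [Group H] [Fintype H] (hM : IsPModular p M)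
    [Fintype {b : Set (IrrCharacter H) // IsPBlock M b}] [DecidableEq H] (k : H) :
    ∑ b : {b : Set (IrrCharacter H) // IsPBlock M b}, blockCoeff b.1 k = if k = 1 then 1 else 0 := by
  classical
  have h := congrArg (fun a : MonoidAlgebra (locRing M) H => ((a.coeff k : locRing M) : ℂ))
    (sum_blockIdem (G := H) hM)
  simp only [MonoidAlgebra.coeff_sum, Finset.sum_apply', AddSubmonoidClass.coe_finsetSum,
    coeff_blockIdem, MonoidAlgebra.one_def, MonoidAlgebra.coeff_single, Finsupp.single_apply] at h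
  rw [h]
  by_cases hk : k = 1
  · simp [hk]
  · simp [hk, Ne.symm hk]

theorem isPGroup_zpowers {x : G} (hx : ∃ k : ℕ, orderOf x = p ^ k) :
    IsPGroup p (Subgroup.zpowers x) := by
  obtain ⟨k, hk⟩ := hx
  exact IsPGroup.of_card (n := k) (by rw [Nat.card_zpowers, hk])

theorem inducedBlockDefined_centralizer (hM : IsPModular p M) {x : G}
    (hx : ∃ k : ℕ, orderOf x = p ^ k)
    {b : Set (IrrCharacter ↥(Subgroup.centralizer ({x} : Set G)))} (hb : IsPBlock M b) :
    InducedBlockDefined M (Subgroup.centralizer ({x} : Set G)) b := by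
  refine inducedBlockDefined_of_brauer hM (Subgroup.zpowers x) _ (isPGroup_zpowers hx) ?_ ?_ ?_ hb
  · exact Subgroup.zpowers_le.2 (Subgroup.mem_centralizer_singleton_iff.2 rfl)
  · intro c hc
    exact Subgroup.mem_centralizer_singleton_iff.2 (hc x (Subgroup.mem_zpowers x)).symm
  · intro c hc
    rw [Subgroup.mem_centralizer_singleton_iff] at hc
    rw [Subgroup.mem_normalizer_iff]
    intro y
    constructor
    · rintro ⟨i, rfl⟩
      refine ⟨i, ?_⟩
      change x ^ i = c * x ^ i * c⁻¹
      rw [((show Commute c x from hc).zpow_right i).eq, mul_inv_cancel_right]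
    · rintro ⟨i, hi⟩
      refine ⟨i, ?_⟩
      change x ^ i = y
      have hi' : x ^ i = c * y * c⁻¹ := hi
      have h2 := ((show Commute c x from hc).zpow_right i).eq
      calc x ^ i = c⁻¹ * (c * x ^ i) := by group
        _ = c⁻¹ * (x ^ i * c) := by rw [h2]
        _ = c⁻¹ * (c * y * c⁻¹ * c) := by rw [hi']
        _ = y := by group

/-- A character vanishes at an element whose `p`-part is in no defect group of its block. -/
theorem char_eq_zero_of_notMem_defectGroup (hM : IsPModular p M) (χ : IrrCharacter G) {g x : G}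
    (hx : IsPPart p g x)
    (hD : ∀ D : Subgroup G, IsDefectGroup p M (blockOf M (χ : G → ℂ)) D → x ∉ D) :
    (χ : G → ℂ) g = 0 := by
  classical
  haveI := Fintype.ofFinite G
  have hp : p.Prime := Fact.out
  let H := Subgroup.centralizer ({x} : Set G)
  haveI : Fintype H := Fintype.ofFinite _
  haveI : Fintype {b : Set (IrrCharacter H) // IsPBlock M b} := Fintype.ofFinite _
  have hgH : g ∈ H := Subgroup.mem_centralizer_singleton_iff.2
    (isPPart_commute hp hx (Commute.refl g)).symm.eq
  have hxo : ∃ k : ℕ, orderOf x = p ^ k := by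
    obtain ⟨y, -, -, h, -⟩ := hx
    exact h
  have h1 : (χ : G → ℂ) g = ∑ b : {b : Set (IrrCharacter H) // IsPBlock M b},
      ∑ k : H, blockCoeff b.1 k * (χ : G → ℂ) ((k : G) * g) := by
    rw [Finset.sum_comm]
    simp only [← Finset.sum_mul, sum_blocks_blockCoeff hM, ite_mul, one_mul, zero_mul,
      Finset.sum_ite_eq', Finset.mem_univ, if_true, Subgroup.coe_one]
  rw [h1]
  refine Finset.sum_eq_zero fun b _ => ?_
  obtain ⟨B, hind⟩ := inducedBlockDefined_centralizer hM hxo b.2
  refine secondMain hM H hind hgH hx le_rfl fun hχB => ?_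
  obtain ⟨D, hD'⟩ := exists_isDefectGroup hM b.2
  obtain ⟨E, hE, hDE⟩ := exists_defectGroup_ge hM hind hD'
  refine hD E ?_ (hDE ?_)
  · rwa [← eq_blockOf hind.2.1 hχB]
  · have hxH : x ∈ H := Subgroup.mem_centralizer_singleton_iff.2 rfl
    let x' : H := ⟨x, hxH⟩
    haveI : (Subgroup.zpowers x').Normal := by
      refine ⟨fun n hn c => ?_⟩
      obtain ⟨i, rfl⟩ := hn
      refine ⟨i, ?_⟩
      have hc : Commute c x' :=
        Subtype.ext (Subgroup.mem_centralizer_singleton_iff.1 c.2)
      change x' ^ i = c * x' ^ i * c⁻¹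
      rw [(hc.zpow_right i).eq, mul_inv_cancel_right]
    have hP : IsPGroup p (Subgroup.zpowers x') := by
      obtain ⟨k, hk⟩ := hxo
      exact IsPGroup.of_card (n := k) (by rw [Nat.card_zpowers, Subgroup.orderOf_mk, hk])
    exact ⟨x', normal_pgroup_le_defectGroup hM b.2 _ hP hD' (Subgroup.mem_zpowers x'), rfl⟩

end CfsgLib.Blk
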