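import Cfsg.Agent.Blk.Criterion
import Cfsg.Agent.Solv.Basic

/-!
The indicator of the `p`-regular elements, times the `p`-part of the order, is a generalised
character.
-/

set_option autoImplicit false
set_option linter.style.haveILetI false
set_option linter.unusedSectionVars false

namespace CfsgLib.Blk

open Cfsg CfsgLib.Char Finset
open scoped ComplexConjugate

universe u

variable {G : Type u} [Group G] [Finite G]

theorem gen_add {θ θ' : G → ℂ} (h : IsGeneralizedCharacter G θ)
    (h' : IsGeneralizedCharacter G θ') : IsGeneralizedCharacter G (θ + θ') := by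
  obtain ⟨a, b, ha, hb, rfl⟩ := h
  obtain ⟨c, d, hc, hd, rfl⟩ := h'
  exact ⟨a + c, b + d, isCharacter_add ha hc, isCharacter_add hb hd, by abel⟩

theorem gen_of_char {χ : G → ℂ} (h : IsCharacter G χ) : IsGeneralizedCharacter G χ :=
  ⟨χ, 0, h, isCharacter_zero, by simp⟩

theorem gen_zero : IsGeneralizedCharacter G (0 : G → ℂ) := gen_of_char isCharacter_zero

theorem gen_neg {θ : G → ℂ} (h : IsGeneralizedCharacter G θ) : IsGeneralizedCharacter G (-θ) := by
  obtain ⟨a, b, ha, hb, rfl⟩ := h
  exact ⟨b, a, hb, ha, by abel⟩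

theorem gen_sub {θ θ' : G → ℂ} (h : IsGeneralizedCharacter G θ)
    (h' : IsGeneralizedCharacter G θ') : IsGeneralizedCharacter G (θ - θ') := by
  rw [sub_eq_add_neg]
  exact gen_add h (gen_neg h')

theorem gen_mul {θ θ' : G → ℂ} (h : IsGeneralizedCharacter G θ)
    (h' : IsGeneralizedCharacter G θ') : IsGeneralizedCharacter G (θ * θ') := by
  obtain ⟨a, b, ha, hb, rfl⟩ := h
  obtain ⟨c, d, hc, hd, rfl⟩ := h'
  exact ⟨a * c + b * d, a * d + b * c, isCharacter_add (isCharacter_mul ha hc) (isCharacter_mul hb hd),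
    isCharacter_add (isCharacter_mul ha hd) (isCharacter_mul hb hc), by ring⟩

theorem gen_natMul {θ : G → ℂ} (h : IsGeneralizedCharacter G θ) (n : ℕ) :
    IsGeneralizedCharacter G ((n : ℂ) • θ) := by
  obtain ⟨a, b, ha, hb, rfl⟩ := h
  exact ⟨_, _, isCharacter_natMul n ha, isCharacter_natMul n hb, by rw [smul_sub]⟩

theorem gen_intMul {θ : G → ℂ} (h : IsGeneralizedCharacter G θ) (n : ℤ) :
    IsGeneralizedCharacter G ((n : ℂ) • θ) := by
  rcases n.eq_nat_or_neg with ⟨k, rfl | rfl⟩
  · simpa using gen_natMul h k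
  · simpa using gen_neg (gen_natMul h k)

theorem gen_restrict (H : Subgroup G) {θ : G → ℂ} (h : IsGeneralizedCharacter G θ) :
    IsGeneralizedCharacter H (fun x : H => θ x) := by
  obtain ⟨a, b, ha, hb, rfl⟩ := h
  exact ⟨_, _, isCharacter_restrict H ha, isCharacter_restrict H hb, rfl⟩

theorem classFun_of_subgroup_normal (K : Subgroup G) [K.Normal] [Fintype G] (g : G)
    [Decidable (g ∈ K)] :
    indFun K (fun _ : K => (1 : ℂ)) g = if g ∈ K then (K.index : ℂ) else 0 := by
  rw [indFun_apply]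
  have hiff : ∀ x : G, x⁻¹ * g * x ∈ K ↔ g ∈ K := fun x => by
    constructor
    · intro h
      have := (inferInstance : K.Normal).conj_mem _ h x
      simpa [mul_assoc] using this
    · intro h
      have := (inferInstance : K.Normal).conj_mem _ h x⁻¹
      simpa [mul_assoc] using this
  split_ifs with hg
  · rw [Finset.sum_congr rfl fun x _ => extendByZero_mem' K _ ((hiff x).2 hg), Finset.sum_const,
      Finset.card_univ, nsmul_one, Fintype.card_eq_nat_card, ← K.card_mul_index, Nat.cast_mul,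
      ← mul_assoc, inv_mul_cancel₀ (natCard_ne_zero K), one_mul]
  · rw [Finset.sum_eq_zero fun x _ => extendByZero_not_mem K _ fun h => hg ((hiff x).1 h), mul_zero]

/-- The indicator of the `p`-regular elements on a group with a normal subgroup of order prime to
`p` and `p`-power index. -/
theorem gen_regular_of_complement {p n : ℕ} (hp : p.Prime) (K : Subgroup G) [K.Normal]
    (hK : ¬ p ∣ Nat.card K) (hidx : ∃ j : ℕ, K.index = p ^ j) (hn : K.index ∣ n)
    [DecidablePred fun g : G => p ∣ orderOf g] :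
    IsGeneralizedCharacter G (fun g : G => if p ∣ orderOf g then 0 else (n : ℂ)) := by
  classical
  haveI := Fintype.ofFinite G
  obtain ⟨c, rfl⟩ := hn
  have hiff : ∀ g : G, ¬ p ∣ orderOf g ↔ g ∈ K := by
    intro g
    constructor
    · intro hg
      obtain ⟨j, hj⟩ := hidx
      have h1 : orderOf (g : G ⧸ K) ∣ orderOf g := orderOf_map_dvd (QuotientGroup.mk' K) g
      have h2 : orderOf (g : G ⧸ K) ∣ p ^ j := hj ▸ orderOf_dvd_natCard _
      have h3 := Nat.eq_one_of_dvd_coprimes
        (Nat.Coprime.pow_right j ((hp.coprime_iff_not_dvd.2 hg).symm)) h1 h2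
      rwa [orderOf_eq_one_iff, QuotientGroup.eq_one_iff] at h3
    · intro hg h
      exact hK (h.trans (Subgroup.orderOf_dvd_natCard K hg))
  have := gen_natMul (gen_indFun K (gen_of_char (isCharacter_one (G := K)))) c
  convert this using 1
  funext g
  simp only [Pi.smul_apply, smul_eq_mul, classFun_of_subgroup_normal K g]
  by_cases hg : p ∣ orderOf g
  · rw [if_pos hg, if_neg (fun h => (hiff g).2 h hg), mul_zero]
  · rw [if_neg hg, if_pos ((hiff g).1 hg)]
    push_cast
    ring

variable {p : ℕ}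

/-- `p^a` times the indicator of the regular elements is a generalised character. -/
theorem gen_regular [Fact p.Prime] [DecidablePred fun g : G => p ∣ orderOf g] :
    IsGeneralizedCharacter G (fun g : G =>
      if p ∣ orderOf g then 0 else ((p ^ (Nat.card G).factorization p : ℕ) : ℂ)) := by
  classical
  haveI := Fintype.ofFinite G
  have hp : p.Prime := Fact.out
  refine isGeneralized_of_restrict (fun g h => ?_) fun r hr x P hx hP hPC => ?_
  · simp only [isPPart_conj.orderOf_mulAut_conj]
  haveI : Fact r.Prime := ⟨hr⟩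
  set E := Subgroup.zpowers x ⊔ P with hE
  set Z := (Subgroup.zpowers x).subgroupOf E
  set Q := P.subgroupOf E
  have hcomm : ∀ a ∈ E, a * x = x * a := by
    intro a ha
    have h1 : E ≤ Subgroup.centralizer ({x} : Set G) :=
      sup_le (Subgroup.zpowers_le.2 (Subgroup.mem_centralizer_singleton_iff.2 rfl)) hPC
    exact Subgroup.mem_centralizer_singleton_iff.1 (h1 ha)
  have hxE : x ∈ E := Subgroup.mem_sup_left (Subgroup.mem_zpowers x)
  have hQ : IsPGroup r Q := hP.of_equiv (Subgroup.subgroupOfEquivOfLe le_sup_right).symm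
  -- the subgroups of `⟨x⟩` are central
  have hcent : ∀ y : G, y ∈ Subgroup.zpowers x → ∀ hy : y ∈ E,
      (⟨y, hy⟩ : E) ∈ Subgroup.center E := by
    intro y hyx hy
    rw [Subgroup.mem_center_iff]
    intro b
    obtain ⟨i, rfl⟩ := Subgroup.mem_zpowers_iff.1 hyx
    exact Subtype.ext ((Commute.zpow_right (hcomm b b.2) i).eq)
  have hgen : ∀ Y : Subgroup E, Y ≤ Subgroup.center E → Y.Normal := by
    intro Y hY
    refine ⟨fun n hn g => ?_⟩
    rwa [Subgroup.mem_center_iff.1 (hY hn) g, mul_inv_cancel_right]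
  obtain ⟨j, t, ht, hjt⟩ := Nat.exists_eq_pow_mul_and_not_dvd (orderOf_pos x).ne' p hp.ne_one
  set x₀ : E := ⟨x, hxE⟩ ^ p ^ j with hx₀
  have hZ : Z = Subgroup.zpowers (⟨x, hxE⟩ : E) := by
    ext y
    simp only [Z, Subgroup.mem_subgroupOf, Subgroup.mem_zpowers_iff]
    exact exists_congr fun i => by rw [Subtype.ext_iff, Subgroup.coe_zpow]
  have hZc : Z ≤ Subgroup.center E := fun y hy => hcent y (Subgroup.mem_subgroupOf.1 hy) y.2
  haveI := hgen Z hZc
  have hZQ : Z ⊔ Q = ⊤ := by
    rw [← Subgroup.subgroupOf_sup le_sup_left le_sup_right, Subgroup.subgroupOf_self]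
  haveI : Q.Normal := by
    rw [← Subgroup.normalizer_eq_top_iff, eq_top_iff, ← hZQ]
    refine sup_le (fun y hy => ?_) Subgroup.le_normalizer
    rw [Subgroup.mem_normalizer_iff]
    intro n
    rw [show y * n * y⁻¹ = n from by
      rw [← Subgroup.mem_center_iff.1 (hZc hy) n, mul_inv_cancel_right]]
  have hord : orderOf (⟨x, hxE⟩ : E) = p ^ j * t := by rw [Subgroup.orderOf_mk, hjt]
  -- the `p`-complement
  set K₀ : Subgroup E := Subgroup.zpowers x₀
  have hK₀c : Nat.card K₀ = t := by
    rw [Nat.card_zpowers, hx₀, orderOf_pow' _ (pow_ne_zero _ hp.ne_zero), hord,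
      Nat.gcd_mul_right_left, Nat.mul_div_cancel_left _ (pow_pos hp.pos j)]
  haveI hK₀n : K₀.Normal := hgen K₀ (le_trans (Subgroup.zpowers_le.2
    (hZ ▸ Subgroup.pow_mem _ (Subgroup.mem_zpowers _) _)) hZc)
  have hQcard : ∃ i, Nat.card Q = r ^ i := IsPGroup.iff_card.1 hQ
  have hcop : Nat.Coprime (Nat.card Z) (Nat.card Q) := by
    obtain ⟨i, hi⟩ := hQcard
    rw [hi, hZ, Nat.card_zpowers, Subgroup.orderOf_mk]
    exact Nat.Coprime.pow_right i ((hr.coprime_iff_not_dvd.2 hx).symm)
  have hEcard : Nat.card E = (p ^ j * t) * Nat.card Q := by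
    have := CfsgLib.Solv.card_sup_mul_card_inf Z Q
    rw [hZQ, Subgroup.card_top, hZ, Nat.card_zpowers, hord] at this
    rwa [show Nat.card (↥(Subgroup.zpowers (⟨x, hxE⟩ : E) ⊓ Q)) = 1 from
      Nat.eq_one_of_dvd_coprimes (hZ ▸ hcop) (Subgroup.card_dvd_of_le inf_le_left)
        (Subgroup.card_dvd_of_le inf_le_right), mul_one] at this
  have hn : ∀ K : Subgroup E, ∀ i, K.index = p ^ i →
      K.index ∣ p ^ (Nat.card G).factorization p := by
    intro K i hi
    have h1 : p ^ i ∣ Nat.card G := hi ▸ (K.index_dvd_card.trans (Subgroup.card_subgroup_dvd_card E))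
    rw [hi]
    exact pow_dvd_pow p ((hp.pow_dvd_iff_le_factorization Nat.card_pos.ne').1 h1)
  have key : ∀ K : Subgroup E, K.Normal → ¬ p ∣ Nat.card K → ∀ i, K.index = p ^ i →
      IsGeneralizedCharacter E (fun e : E =>
        if p ∣ orderOf (e : G) then 0 else ((p ^ (Nat.card G).factorization p : ℕ) : ℂ)) := by
    intro K hKn hK i hi
    simpa only [Subgroup.orderOf_coe] using
      gen_regular_of_complement hp K hK ⟨i, hi⟩ (hn K i hi)
  obtain ⟨i, hi⟩ := hQcard
  by_cases hrp : r = p
  · subst hrp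
    refine key Z inferInstance ?_ i ?_
    · rwa [hZ, Nat.card_zpowers, Subgroup.orderOf_mk]
    · have := Z.card_mul_index
      rw [hEcard, hZ, Nat.card_zpowers, hord, hi] at this
      rw [hZ]
      exact Nat.eq_of_mul_eq_mul_left (Nat.pos_of_ne_zero (by
        have := (orderOf_pos x).ne'; rwa [hjt] at this)) this
  · have hpQ : ¬ p ∣ Nat.card Q := fun h => hrp
      ((Nat.prime_dvd_prime_iff_eq hp hr).1 (hp.dvd_of_dvd_pow (hi ▸ h))).symm
    have hcop' : Nat.Coprime (Nat.card K₀) (Nat.card Q) := by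
      refine hcop.coprime_dvd_left (Subgroup.card_dvd_of_le (Subgroup.zpowers_le.2 ?_))
      rw [hZ]
      exact Subgroup.pow_mem _ (Subgroup.mem_zpowers _) _
    have hKc : Nat.card (K₀ ⊔ Q : Subgroup E) = t * Nat.card Q := by
      have := CfsgLib.Solv.card_sup_mul_card_inf K₀ Q
      rwa [show Nat.card (↥(K₀ ⊓ Q)) = 1 from Nat.eq_one_of_dvd_coprimes hcop'
        (Subgroup.card_dvd_of_le inf_le_left) (Subgroup.card_dvd_of_le inf_le_right), mul_one,
        hK₀c] at this
    refine key (K₀ ⊔ Q) inferInstance ?_ j ?_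
    · rw [hKc]
      exact fun h => (hp.dvd_mul.1 h).elim ht hpQ
    · have := (K₀ ⊔ Q).card_mul_index
      rw [hKc, hEcard] at this
      refine Nat.eq_of_mul_eq_mul_left (Nat.pos_of_ne_zero (mul_ne_zero ?_ Nat.card_pos.ne')) (this.trans (by ring))
      exact fun h => ht (h ▸ dvd_zero p)

end CfsgLib.Blk
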