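import Cfsg.Agent.Inv.Isolated
import Mathlib.GroupTheory.Focal
import Mathlib.GroupTheory.SpecificGroups.Cyclic
import Mathlib.GroupTheory.Index
import Mathlib.GroupTheory.IndexNormal

/-!
2-groups with one involution, and fusion of the elements of order 4 in a group with quaternion
Sylow 2-subgroups of order 8.
-/

set_option autoImplicit false
set_option linter.style.haveILetI false
set_option linter.unusedSectionVars false

namespace CfsgLib.Blk

open CfsgLib.Inv

universe u

variable {G : Type u} [Group G] [Finite G]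

/-- A subgroup between: a pair `(T, M)` with index two, elementwise. -/
theorem exists_index_two_over {T K : Subgroup G} (hT : IsPGroup 2 T) (hKT : K < T) :
    ∃ M : Subgroup G, K ≤ M ∧ M < T ∧ 2 * Nat.card M = Nat.card T ∧
      (∀ x ∈ T, x ∉ M → ∀ y ∈ T, y ∉ M → x * y ∈ M) ∧
      ∀ x ∈ T, ∀ m ∈ M, x * m * x⁻¹ ∈ M := by
  haveI : Fact (Nat.Prime 2) := ⟨Nat.prime_two⟩
  obtain ⟨t, ht⟩ := IsPGroup.iff_card.1 hT
  obtain ⟨k, hk⟩ := IsPGroup.iff_card.1 (hT.to_le hKT.le)
  have hlt : k < t := by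
    refine (Nat.pow_lt_pow_iff_right one_lt_two).1 ?_
    rw [← hk, ← ht]
    refine lt_of_le_of_ne (Subgroup.card_le_of_le hKT.le) fun he => hKT.ne ?_
    exact Subgroup.eq_of_le_of_card_ge hKT.le he.ge
  obtain ⟨s, rfl⟩ : ∃ s, t = s + 1 := ⟨t - 1, by omega⟩
  have hK' : Nat.card (K.subgroupOf T) = 2 ^ k := by
    rw [Nat.card_congr (Subgroup.subgroupOfEquivOfLe hKT.le).toEquiv, hk]
  obtain ⟨M, hM, hKM⟩ := Sylow.exists_subgroup_card_pow_prime_le (G := T) 2 (m := s)
    (ht.symm ▸ pow_dvd_pow 2 (Nat.le_succ s)) (K.subgroupOf T) hK' (by omega)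
  have hidx : M.index = 2 := by
    have := M.card_mul_index
    rw [hM, ht, pow_succ] at this
    exact Nat.eq_of_mul_eq_mul_left (pow_pos two_pos s) this
  have hcard : Nat.card (M.map T.subtype) = 2 ^ s := by
    rw [← hM]; exact (Nat.card_congr (M.equivMapOfInjective _ T.subtype_injective).toEquiv).symm
  have hmem : ∀ x, ∀ hx : x ∈ T, x ∈ M.map T.subtype ↔ (⟨x, hx⟩ : T) ∈ M := by
    intro x hx
    constructor
    · rintro ⟨m, hm, rfl⟩; exact hm
    · exact fun h => ⟨_, h, rfl⟩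
  refine ⟨M.map T.subtype, fun x hx => (hmem x (hKT.le hx)).2 (hKM hx), ?_, ?_, ?_, ?_⟩
  · refine lt_of_le_of_ne (Subgroup.map_subtype_le M) fun he => ?_
    rw [he, ht, pow_succ] at hcard
    have := Nat.two_pow_pos s
    omega
  · rw [hcard, ht, pow_succ, mul_comm]
  · intro x hx hxM y hy hyM
    rw [hmem _ (mul_mem hx hy)]
    exact (Subgroup.mul_mem_iff_of_index_two hidx (a := ⟨x, hx⟩) (b := ⟨y, hy⟩)).2
      (iff_of_false (fun h => hxM ((hmem x hx).2 h)) fun h => hyM ((hmem y hy).2 h))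
  · rintro x hx _ ⟨m, hm, rfl⟩
    haveI : M.Normal := Subgroup.normal_of_index_eq_two hidx
    exact ⟨⟨x, hx⟩ * m * (⟨x, hx⟩ : T)⁻¹, Subgroup.Normal.conj_mem ‹_› m hm _, rfl⟩

/-- A 2-group with one involution and a central element of order 4 is cyclic. -/
theorem isCyclic_of_central_four {z w : G} (hz : z ≠ 1) (hz2 : z * z = 1) (hw : w * w = z) :
    ∀ T : Subgroup G, IsPGroup 2 T → w ∈ T → (∀ x ∈ T, x * x = 1 → x = 1 ∨ x = z) →
      (∀ x ∈ T, Commute x w) → IsCyclic T := by
  haveI : Fact (Nat.Prime 2) := ⟨Nat.prime_two⟩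
  suffices key : ∀ (n : ℕ) (T : Subgroup G), Nat.card T = n → IsPGroup 2 T → w ∈ T →
      (∀ x ∈ T, x * x = 1 → x = 1 ∨ x = z) → (∀ x ∈ T, Commute x w) → IsCyclic T from
    fun T => key _ T rfl
  intro n
  induction n using Nat.strong_induction_on with
  | _ n ih =>
  intro T hn hT hwT huniq hcent
  rcases eq_or_lt_of_le (Subgroup.zpowers_le.2 hwT) with he | hlt
  · rw [← he]; infer_instance
  obtain ⟨M, hwM, hMT, hcardM, hprod, hnorm⟩ := exists_index_two_over hT hlt
  have hwM' : w ∈ M := hwM (Subgroup.mem_zpowers w)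
  haveI := ih (Nat.card M) (by have := Nat.card_pos (α := M); omega) M rfl (hT.to_le hMT.le) hwM'
    (fun x hx => huniq x (hMT.le hx)) fun x hx => hcent x (hMT.le hx)
  obtain ⟨⟨a, haM⟩, hgen⟩ := IsCyclic.exists_generator (α := M)
  have haz : ∀ x ∈ M, ∃ i : ℤ, a ^ i = x := fun x hx => by
    obtain ⟨i, hi⟩ := Subgroup.mem_zpowers_iff.1 (hgen ⟨x, hx⟩)
    exact ⟨i, by simpa using congrArg (fun y : M => (y : G)) hi⟩
  obtain ⟨b, hbT, hbM⟩ := SetLike.exists_of_lt hMT
  obtain ⟨j, hj⟩ := haz _ (hprod b hbT hbM b hbT hbM)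
  obtain ⟨e, he⟩ := haz _ (hnorm b hbT a haM)
  obtain ⟨l, hl⟩ := haz w hwM'
  obtain ⟨m, hm⟩ := IsPGroup.iff_orderOf.1 hT ⟨a, hMT.le haM⟩
  rw [Subgroup.orderOf_mk] at hm
  set N : ℤ := (2 : ℤ) ^ m with hN
  have hord : ∀ t : ℤ, a ^ t = 1 ↔ N ∣ t := fun t => by
    rw [← orderOf_dvd_iff_zpow_eq_one, hm, hN]; norm_num
  rcases Int.even_or_odd j with ⟨i, rfl⟩ | hjo
  swap
  · -- `b` generates
    obtain ⟨u, v, huv⟩ : IsCoprime j N := by
      refine IsCoprime.pow_right ?_
      obtain ⟨r, rfl⟩ := hjo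
      exact ⟨1, -r, by ring⟩
    have hab : a ∈ Subgroup.zpowers b := by
      refine ⟨2 * u, ?_⟩
      show b ^ (2 * u) = a
      have h0 : a ^ (N * v) = 1 := (hord _).2 (dvd_mul_right _ _)
      calc b ^ (2 * u) = (b * b) ^ u := by rw [zpow_mul, zpow_two]
        _ = a ^ (j * u) * a ^ (N * v) := by rw [← hj, h0, mul_one, zpow_mul]
        _ = a ^ (j * u + N * v) := (zpow_add _ _ _).symm
        _ = a := by rw [show j * u + N * v = 1 by linear_combination huv, zpow_one]
    have hMb : M ≤ Subgroup.zpowers b := fun x hx => by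
      obtain ⟨t, rfl⟩ := haz x hx
      exact zpow_mem hab t
    have : T = Subgroup.zpowers b := by
      refine le_antisymm (fun x hx => ?_) (Subgroup.zpowers_le.2 hbT)
      by_cases hxM : x ∈ M
      · exact hMb hxM
      · have h := hMb (hprod x hx hxM b hbT hbM)
        simpa using mul_mem h (inv_mem (Subgroup.mem_zpowers b))
    rw [this]; infer_instance
  exfalso
  -- `4 ∣ e - 1`
  have h4 : N ∣ 4 * l := (hord _).1 (by
    rw [mul_comm, zpow_mul, hl, show (4 : ℤ) = ((4 : ℕ) : ℤ) from rfl, zpow_natCast,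
      show (4 : ℕ) = 2 * 2 from rfl, pow_mul, pow_two w, hw, pow_two, hz2])
  have h2 : ¬ N ∣ 2 * l := fun h => hz (by
    rw [← hw, ← hl, ← zpow_add]
    exact (hord _).2 (by rwa [← two_mul]))
  have hle : N ∣ l * (e - 1) := (hord _).1 (by
    have h : a ^ (e * l) = w := by
      rw [zpow_mul, he, conj_zpow, hl, (hcent b hbT).eq, mul_inv_cancel_right]
    rw [mul_sub, mul_one, zpow_sub, mul_comm l, h, hl, mul_inv_cancel])
  obtain ⟨c, hc⟩ := h4
  have hco : Odd c := by
    rcases Int.even_or_odd c with ⟨d, rfl⟩ | h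
    · exact absurd ⟨d, by linarith⟩ h2
    · exact h
  have he4 : (4 : ℤ) ∣ e - 1 := by
    obtain ⟨q, hq⟩ := hle
    have h : c * (e - 1) = 4 * q := by
      refine mul_left_cancel₀ (show N ≠ 0 by positivity) ?_
      linear_combination 4 * hq - (e - 1) * hc
    obtain ⟨r, rfl⟩ := hco
    have hcop : IsCoprime (4 : ℤ) (2 * r + 1) := by
      have h'' : IsCoprime (2 : ℤ) (2 * r + 1) := ⟨-r, 1, by ring⟩
      have h' : IsCoprime ((2 : ℤ) ^ 2) (2 * r + 1) := h''.pow_left
      simpa using h'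
    exact hcop.dvd_of_dvd_mul_left ⟨q, h⟩
  obtain ⟨f, hf⟩ := he4
  obtain ⟨u, v, huv⟩ : IsCoprime (2 * f + 1) N :=
    IsCoprime.pow_right ⟨1, -f, by ring⟩
  set k : ℤ := -(i * u) with hk
  have hsq : (b * a ^ k) * (b * a ^ k) = 1 := by
    have hc : b * a ^ k * b⁻¹ = a ^ (e * k) := by rw [zpow_mul, he, conj_zpow]
    calc (b * a ^ k) * (b * a ^ k) = (b * a ^ k * b⁻¹) * (b * b) * a ^ k := by group
      _ = a ^ (e * k + (i + i) + k) := by rw [hc, ← hj, ← zpow_add, ← zpow_add]
      _ = 1 := (hord _).2 ⟨2 * i * v, by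
        rw [hk]; linear_combination (-(i * u)) * hf - 2 * i * huv⟩
  refine hbM ?_
  have hzM : z ∈ M := hw ▸ mul_mem hwM' hwM'
  have hbM' : b * a ^ k ∈ M := by
    rcases huniq _ (mul_mem hbT (zpow_mem (hMT.le haM) k)) hsq with h | h <;> rw [h]
    exacts [M.one_mem, hzM]
  simpa using mul_mem hbM' (inv_mem (zpow_mem haM k))

/-- Data for a noncyclic 2-group with one involution. -/
theorem exists_quaternion_data {P : Subgroup G} (hP : IsPGroup 2 P) {z : G} (hz : orderOf z = 2)
    (hzP : z ∈ P) (huniq : ∀ x ∈ P, x * x = 1 → x = 1 ∨ x = z) (hnc : ¬ IsCyclic P) :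
    ∃ u : G, u ∈ P ∧ u * u = z ∧
      IsCyclic ↥(P ⊓ Subgroup.centralizer ({u} : Set G)) ∧
      2 * Nat.card ↥(P ⊓ Subgroup.centralizer ({u} : Set G)) = Nat.card P ∧
      (∀ x ∈ P, ¬ Commute x u → x * u * x⁻¹ = u⁻¹) ∧ ∃ x ∈ P, ¬ Commute x u := by
  classical
  haveI : Fact (Nat.Prime 2) := ⟨Nat.prime_two⟩
  have hz1 := invol_ne_one hz
  have hz2 := invol_mul_self hz
  have hzc : ∀ g ∈ P, Commute g z := fun g hg => by
    rcases huniq (g * z * g⁻¹) (mul_mem (mul_mem hg hzP) (inv_mem hg))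
      (invol_mul_self (invol_conj hz g)) with h | h
    · exact absurd h (invol_ne_one (invol_conj hz g))
    · exact mul_inv_eq_iff_eq_mul.1 h
  -- the centre is `{1, z}`
  have hcentre : ∀ c ∈ P, (∀ g ∈ P, Commute g c) → c = 1 ∨ c = z := by
    intro c hc hcc
    by_contra hne
    rw [not_or] at hne
    obtain ⟨k, hk⟩ := IsPGroup.iff_orderOf.1 hP ⟨c, hc⟩
    rw [Subgroup.orderOf_mk] at hk
    rcases k with _ | _ | k
    · exact hne.1 (orderOf_eq_one_iff.1 (by simpa using hk))
    · refine (huniq c hc ?_).elim hne.1 hne.2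
      rw [← pow_two, ← pow_one 2, ← hk, pow_orderOf_eq_one]
    · set w := c ^ 2 ^ k with hw
      have hw4 : orderOf w = 4 := by
        rw [hw, orderOf_pow, hk, Nat.gcd_eq_right (pow_dvd_pow 2 (by omega)),
          Nat.pow_div (by omega) two_pos, show k + 1 + 1 - k = 2 by omega]
        rfl
      have hww : w * w = z := by
        refine (huniq _ (mul_mem (pow_mem hc _) (pow_mem hc _)) ?_).resolve_left fun h => ?_
        · have := pow_orderOf_eq_one w
          rw [hw4] at this
          calc w * w * (w * w) = w ^ 4 := by simp [pow_succ, mul_assoc]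
            _ = 1 := this
        · have := orderOf_dvd_of_pow_eq_one (n := 2) (by rw [pow_two, h] : w ^ 2 = 1)
          rw [hw4] at this
          omega
      exact hnc (isCyclic_of_central_four hz1 hz2 hww P hP (pow_mem hc _) huniq
        fun g hg => (hcc g hg).pow_right _)
  set Z := (Subgroup.zpowers z).subgroupOf P with hZ
  have hZmem : ∀ g : P, g ∈ Z ↔ (g : G) = 1 ∨ (g : G) = z := by
    intro g
    rw [hZ, Subgroup.mem_subgroupOf, Subgroup.mem_zpowers_iff]
    constructor
    · rintro ⟨i, hi⟩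
      rw [← zpow_mod_orderOf, hz] at hi
      rcases Int.emod_two_eq_zero_or_one i with h | h <;> rw [Nat.cast_ofNat, h] at hi
      · exact Or.inl (by rw [← hi, zpow_zero])
      · exact Or.inr (by rw [← hi, zpow_one])
    · rintro (h | h)
      · exact ⟨0, by simp [h]⟩
      · exact ⟨1, by simp [h]⟩
  haveI : Z.Normal := ⟨fun n hn g => by
    rw [hZmem] at hn ⊢
    rcases hn with h | h
    · left; simp [h]
    · right; simp [h, (hzc g g.2).eq]⟩
  haveI : Nontrivial (P ⧸ Z) := by
    refine QuotientGroup.nontrivial_iff.2 fun htop => hnc ?_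
    have : P = Subgroup.zpowers z := by
      refine le_antisymm (fun g hg => ?_) (Subgroup.zpowers_le.2 hzP)
      have := (hZmem ⟨g, hg⟩).1 (htop ▸ Subgroup.mem_top _)
      rcases this with h | h <;> simp only at h <;> rw [h]
      exacts [one_mem _, Subgroup.mem_zpowers z]
    rw [this]; infer_instance
  haveI := (hP.to_quotient Z).center_nontrivial
  obtain ⟨⟨q, hq⟩, hq1⟩ := exists_ne (1 : Subgroup.center (P ⧸ Z))
  obtain ⟨⟨u, huP⟩, rfl⟩ := QuotientGroup.mk_surjective q
  have hu1 : u ≠ 1 ∧ u ≠ z := by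
    rw [← not_or, ← hZmem ⟨u, huP⟩, ← QuotientGroup.eq_one_iff]
    exact fun h => hq1 (Subtype.ext h)
  have hconj : ∀ x ∈ P, x * u * x⁻¹ = u ∨ x * u * x⁻¹ = u * z := by
    intro x hx
    have h1 := Subgroup.mem_center_iff.1 hq ((⟨x, hx⟩ : P) : P ⧸ Z)
    rw [← QuotientGroup.mk_mul, ← QuotientGroup.mk_mul, QuotientGroup.eq, hZmem] at h1
    simp only [Subgroup.coe_mul, Subgroup.coe_inv] at h1
    rcases h1 with h | h
    · left
      rw [inv_mul_eq_one] at h
      rw [h, mul_inv_cancel_right]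
    · right
      rw [inv_mul_eq_iff_eq_mul] at h
      have hxz : x * z = z * x := (hzc x hx).eq
      calc x * u * x⁻¹ = x * u * z * z * x⁻¹ := by rw [mul_assoc (x * u), hz2, mul_one]
        _ = u * x * z * x⁻¹ := by rw [← h]
        _ = u * z := by rw [mul_assoc u x z, hxz, ← mul_assoc, mul_inv_cancel_right]
  have huu : u * u = z := by
    refine (hcentre _ (mul_mem huP huP) fun g hg => ?_).resolve_left fun h =>
      (huniq u huP h).elim hu1.1 hu1.2
    have h : g * (u * u) * g⁻¹ = u * u := by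
      calc g * (u * u) * g⁻¹ = (g * u * g⁻¹) * (g * u * g⁻¹) := by group
        _ = u * u := by
          rcases hconj g hg with h | h <;> rw [h]
          calc u * z * (u * z) = u * (z * u) * z := by group
            _ = u * (u * z) * z := by rw [(hzc u huP).eq]
            _ = u * u * (z * z) := by group
            _ = u * u := by rw [hz2, mul_one]
    exact mul_inv_eq_iff_eq_mul.1 h
  have hinv : ∀ x ∈ P, ¬ Commute x u → x * u * x⁻¹ = u⁻¹ := by
    intro x hx hxu
    refine ((hconj x hx).resolve_left fun h => hxu (mul_inv_eq_iff_eq_mul.1 h)).trans ?_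
    refine eq_inv_of_mul_eq_one_left ?_
    rw [mul_assoc, ← (hzc u huP).eq, ← mul_assoc, huu, hz2]
  obtain ⟨x₀, hx₀, hx₀u⟩ : ∃ x ∈ P, ¬ Commute x u := by
    by_contra h
    push Not at h
    exact (hcentre u huP h).elim hu1.1 hu1.2
  set A := P ⊓ Subgroup.centralizer ({u} : Set G) with hA
  have hmemA : ∀ x ∈ P, (x ∈ A ↔ Commute x u) := fun x hx => by
    rw [hA, Subgroup.mem_inf, Subgroup.mem_centralizer_singleton_iff]
    exact ⟨fun h => h.2, fun h => ⟨hx, h⟩⟩
  refine ⟨u, huP, huu, ?_, ?_, hinv, x₀, hx₀, hx₀u⟩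
  · exact isCyclic_of_central_four hz1 hz2 huu A (hP.to_le inf_le_left)
      ((hmemA u huP).2 (Commute.refl u)) (fun x hx => huniq x hx.1) fun x hx =>
        (hmemA x hx.1).1 hx
  · have hidx : (A.subgroupOf P).index = 2 := by
      refine Subgroup.index_eq_two_iff.2 ⟨⟨x₀, hx₀⟩, fun b => ?_⟩
      simp only [Subgroup.mem_subgroupOf, Subgroup.coe_mul]
      rw [hmemA _ (mul_mem b.2 hx₀), hmemA _ b.2]
      by_cases hb : Commute (b : G) u
      · refine Or.inr ⟨hb, fun h => hx₀u ?_⟩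
        simpa using hb.inv_left.mul_left h
      · refine Or.inl ⟨?_, hb⟩
        have e1 := hinv _ hx₀ hx₀u
        have e2 := hinv _ b.2 hb
        refine mul_inv_eq_iff_eq_mul.1 ?_
        calc (b : G) * x₀ * u * ((b : G) * x₀)⁻¹ = b * (x₀ * u * x₀⁻¹) * (b : G)⁻¹ := by group
          _ = ((b : G) * u * (b : G)⁻¹)⁻¹ := by rw [e1]; group
          _ = u := by rw [e2, inv_inv]
    have := (A.subgroupOf P).card_mul_index
    rw [hidx, Nat.card_congr (Subgroup.subgroupOfEquivOfLe (show A ≤ P from inf_le_left)).toEquiv] at this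
    rw [mul_comm]; exact this

/-- In a quaternion Sylow subgroup of order 8 of a perfect group the elements of order 4 are
conjugate. -/
theorem isConj_of_q8 (P : Sylow 2 G) (hperf : commutator G = ⊤) {z : G} (hz : orderOf z = 2)
    (hzP : z ∈ P) (hcard : Nat.card (P : Subgroup G) = 8)
    (hsq : ∀ x ∈ P, x = 1 ∨ x = z ∨ x * x = z)
    (hinv : ∀ x ∈ P, IsConj x x⁻¹) :
    ∀ x ∈ P, ∀ y ∈ P, x * x = z → y * y = z → IsConj x y := by
  classical
  haveI : Fact (Nat.Prime 2) := ⟨Nat.prime_two⟩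
  have hz1 := invol_ne_one hz
  have hz2 := invol_mul_self hz
  have hord : ∀ y : G, y * y = z → orderOf y = 4 := fun y hy =>
    orderOf_eq_prime_pow (p := 2) (n := 1) (by simpa [pow_two, hy] using hz1)
      (by rw [show 2 ^ (1 + 1) = 2 * 2 from rfl, pow_mul, pow_two y, hy, pow_two, hz2])
  have hmemK : ∀ y : G, y * y = z → ∀ v ∈ Subgroup.zpowers y,
      v = 1 ∨ v = z ∨ v = y ∨ v = y⁻¹ := by
    intro y hy v hv
    obtain ⟨i, rfl⟩ := Subgroup.mem_zpowers_iff.1 hv
    rw [← zpow_mod_orderOf, hord y hy]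
    have h0 := Int.emod_nonneg i (show ((4 : ℕ) : ℤ) ≠ 0 by norm_num)
    have h1 := Int.emod_lt_of_pos i (show (0 : ℤ) < ((4 : ℕ) : ℤ) by norm_num)
    have : i % ((4 : ℕ) : ℤ) = 0 ∨ i % ((4 : ℕ) : ℤ) = 1 ∨ i % ((4 : ℕ) : ℤ) = 2 ∨
        i % ((4 : ℕ) : ℤ) = 3 := by omega
    rcases this with h | h | h | h <;> rw [h]
    · simp
    · simp
    · right; left; rw [zpow_two, hy]
    · right; right; right
      refine eq_inv_of_mul_eq_one_left ?_
      rw [← zpow_add_one, show (3 : ℤ) + 1 = 2 * 2 by norm_num, zpow_mul, zpow_two, zpow_two, hy, hz2]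
  -- index two
  have hK2 : ∀ y ∈ P, y * y = z → ∀ a ∈ P, a ∉ Subgroup.zpowers y → ∀ b ∈ P,
      b ∉ Subgroup.zpowers y → a * b ∈ Subgroup.zpowers y := by
    intro y hy hy2 a ha ha' b hb hb'
    have hle : Subgroup.zpowers y ≤ (P : Subgroup G) := Subgroup.zpowers_le.2 hy
    have hidx : ((Subgroup.zpowers y).subgroupOf (P : Subgroup G)).index = 2 := by
      have := ((Subgroup.zpowers y).subgroupOf (P : Subgroup G)).card_mul_index
      rw [Nat.card_congr (Subgroup.subgroupOfEquivOfLe hle).toEquiv, Nat.card_zpowers, hord y hy2,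
        hcard] at this
      omega
    exact (Subgroup.mul_mem_iff_of_index_two hidx (a := ⟨a, ha⟩) (b := ⟨b, hb⟩)).2
      (iff_of_false ha' hb')
  have hout : ∀ y ∈ P, y * y = z → ∃ v ∈ P, v ∉ Subgroup.zpowers y ∧ IsConj y v := by
    intro y hy hy2
    by_contra hcon
    push Not at hcon
    set K := Subgroup.zpowers y
    have hzK : z ∈ K := hy2 ▸ mul_mem (Subgroup.mem_zpowers y) (Subgroup.mem_zpowers y)
    -- conjugates in `P` stay on their side
    have hside : ∀ x ∈ P, ∀ x' ∈ P, x ∈ K → IsConj x x' → x' ∈ K := by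
      intro x hx x' hx' hxK hc
      rcases hmemK y hy2 x hxK with rfl | rfl | rfl | rfl
      · rw [isConj_one_right.1 hc]; exact K.one_mem
      · obtain ⟨g, hg⟩ := isConj_iff.1 hc
        have h2 : orderOf x' = 2 := hg ▸ invol_conj hz g
        rcases hsq x' hx' with h | h | h
        · exact absurd h (invol_ne_one h2)
        · rwa [h]
        · rw [invol_mul_self h2] at h; exact absurd h.symm hz1
      · by_contra h; exact hcon x' hx' h hc
      · by_contra h; exact hcon x' hx' h ((hinv y hy).trans hc)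
    have hle : (P : Subgroup G).focalSubgroup ≤ K := by
      rw [Subgroup.focalSubgroup_def, Subgroup.closure_le]
      rintro g ⟨hg, x, hx, w, rfl⟩
      rw [commutatorElement_def] at hg ⊢
      set x' := w * x⁻¹ * w⁻¹ with hx'
      have e : x * w * x⁻¹ * w⁻¹ = x * x' := by rw [hx']; group
      rw [e] at hg ⊢
      have hx'P : x' ∈ (P : Subgroup G) := by simpa using mul_mem (inv_mem hx) hg
      have hc : IsConj x x' := (hinv x hx).trans (isConj_iff.2 ⟨w, rfl⟩)
      by_cases hxK : x ∈ K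
      · exact mul_mem hxK (hside x hx x' hx'P hxK hc)
      · exact hK2 y hy hy2 x hx hxK x' hx'P fun h => hxK (hside x' hx'P x hx h hc.symm)
    have h1 : (P : Subgroup G) ≤ K := by
      refine le_trans ?_ hle
      rw [← Subgroup.commutator_inf_eq_focalSubgroup P, hperf, top_inf_eq]
    have := Subgroup.card_le_of_le h1
    rw [hcard, Nat.card_zpowers, hord y hy2] at this
    omega
  intro x hx y hy hx2 hy2
  obtain ⟨v, hv, hvx, hxv⟩ := hout x hx hx2
  have hv2 : v * v = z := by
    rcases hsq v hv with h | h | h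
    · exact absurd (h ▸ one_mem _) hvx
    · exact absurd (h ▸ hx2 ▸ mul_mem (Subgroup.mem_zpowers x) (Subgroup.mem_zpowers x)) hvx
    · exact h
  -- every element of order 4 is conjugate to one in the two classes
  have hall : ∀ g ∈ P, g * g = z → (g ∈ Subgroup.zpowers x ∨ g ∈ Subgroup.zpowers v) → IsConj x g := by
    intro g hg hg2 h
    have hg1 : g ≠ 1 ∧ g ≠ z := by
      constructor <;> rintro rfl
      · exact hz1 (by rw [← hg2, mul_one])
      · exact hz1 (by rw [← hg2, hz2])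
    rcases h with h | h
    · rcases hmemK x hx2 g h with h | h | h | h
      exacts [absurd h hg1.1, absurd h hg1.2, h ▸ IsConj.refl x, h ▸ hinv x hx]
    · rcases hmemK v hv2 g h with h | h | h | h
      exacts [absurd h hg1.1, absurd h hg1.2, h ▸ hxv, h ▸ hxv.trans (hinv v hv)]
  by_cases h1 : y ∈ Subgroup.zpowers x ∨ y ∈ Subgroup.zpowers v
  · exact hall y hy hy2 h1
  rw [not_or] at h1
  obtain ⟨w, hw, hwy, hyw⟩ := hout y hy hy2
  refine IsConj.trans ?_ hyw.symm
  have hw2 : w * w = z := by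
    rcases hsq w hw with h | h | h
    · exact absurd (h ▸ one_mem _) hwy
    · exact absurd (h ▸ hy2 ▸ mul_mem (Subgroup.mem_zpowers y) (Subgroup.mem_zpowers y)) hwy
    · exact h
  refine hall w hw hw2 ?_
  by_contra h2
  rw [not_or] at h2
  apply hwy
  have ha := hK2 x hx hx2 y hy h1.1 w hw h2.1
  have hb := hK2 v hv hv2 y hy h1.2 w hw h2.2
  have hcase : y * w = 1 ∨ y * w = z := by
    have hne : ∀ g ∈ Subgroup.zpowers v, g = x ∨ g = x⁻¹ → False := by
      intro g hg hg'
      have hxv' : x ∈ Subgroup.zpowers v := by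
        rcases hg' with rfl | rfl
        · exact hg
        · simpa using inv_mem hg
      rcases hmemK v hv2 x hxv' with h | h | h | h
      · exact hz1 (by rw [← hx2, h, mul_one])
      · exact hz1 (by rw [← hx2, h, hz2])
      · exact hvx (h ▸ Subgroup.mem_zpowers x)
      · exact hvx (by rw [← inv_inv v, ← h]; exact inv_mem (Subgroup.mem_zpowers x))
    rcases hmemK x hx2 _ ha with h | h | h | h
    exacts [Or.inl h, Or.inr h, (hne _ hb (Or.inl h)).elim, (hne _ hb (Or.inr h)).elim]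
  have he : w = y⁻¹ * (y * w) := by group
  rw [he]
  refine mul_mem (inv_mem (Subgroup.mem_zpowers y)) ?_
  rcases hcase with h | h <;> rw [h]
  exacts [one_mem _, hy2 ▸ mul_mem (Subgroup.mem_zpowers y) (Subgroup.mem_zpowers y)]

end CfsgLib.Blk
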