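import Cfsg.Agent.Blk.ZStarBasic
import Cfsg.Agent.Blk.ZStarGroup
import Cfsg.Agent.Blk.RegInd
import Cfsg.Agent.Blk.Criterion
import Mathlib.GroupTheory.NoncommCoprod

/-!
Z* theorem: the centralizer of the involution when the Sylow 2-subgroup is quaternion of order 8.
-/

set_option autoImplicit false
set_option linter.style.haveILetI false
set_option linter.unusedSectionVars false

namespace CfsgLib.Blk

open Cfsg CfsgLib.Char CfsgLib.Inv Finset
open scoped ComplexConjugate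

universe u

variable {Γ : Type u} [Group Γ] [Finite Γ]

theorem gen_comp {H : Type u} [Group H] [Finite H] (f : H →* Γ) {θ : Γ → ℂ}
    (h : IsGeneralizedCharacter Γ θ) : IsGeneralizedCharacter H (fun a => θ (f a)) := by
  obtain ⟨φ, ψ, hφ, hψ, rfl⟩ := h
  exact ⟨_, _, isCharacter_comp f hφ, isCharacter_comp f hψ, rfl⟩

/-- Four squares. -/
theorem sq_eq_one_of_sum_sq_eq_four {ι : Type*} [Fintype ι] [DecidableEq ι] {f : ι → ℤ}
    (h : ∑ i, f i ^ 2 = 4) {a : ι} (ha : f a = 1) :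
    (∀ i, f i ≠ 0 → f i ^ 2 = 1) ∧ (Finset.univ.filter fun i => f i ≠ 0).card = 4 := by
  have hle : ∀ i, f i ≠ 0 → f i ^ 2 = 1 := by
    intro i hi
    by_cases hia : i = a
    · rw [hia, ha, one_pow]
    · have h2 : f i ^ 2 + f a ^ 2 ≤ 4 := by
        rw [← h, ← Finset.sum_pair hia (f := fun j => f j ^ 2)]
        exact Finset.sum_le_sum_of_subset_of_nonneg (Finset.subset_univ _) fun j _ _ => sq_nonneg _
      rw [ha, one_pow] at h2
      have h3 : f i ≤ 1 := by nlinarith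
      have h4 : -1 ≤ f i := by nlinarith
      interval_cases (f i) <;> simp_all
  refine ⟨hle, ?_⟩
  have h1 : ∑ i ∈ Finset.univ.filter (fun i => f i ≠ 0), f i ^ 2 = 4 :=
    (Finset.sum_subset (Finset.subset_univ _) fun i _ hi => by simp at hi; simp [hi]).trans h
  rw [Finset.sum_congr rfl fun i hi => hle i (Finset.mem_filter.1 hi).2, Finset.sum_const,
    nsmul_one] at h1
  exact_mod_cast h1

theorem isConj_pow_of_isConj_inv {y : Γ} (hy4 : orderOf y = 4) (hinv : IsConj y y⁻¹) {m : ℕ}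
    (hm : m.Coprime (Nat.card Γ)) : IsConj (y ^ m) y := by
  have hm2 : ¬ 2 ∣ m := fun h2 => by
    have h4 : 2 ∣ Nat.card Γ := (Dvd.intro 2 rfl : 2 ∣ 4).trans (hy4 ▸ orderOf_dvd_natCard y)
    have h1 := Nat.eq_one_of_dvd_coprimes hm h2 h4
    omega
  rw [← pow_mod_orderOf, hy4]
  have : m % 4 = 1 ∨ m % 4 = 3 := by omega
  rcases this with h | h <;> rw [h]
  · rw [pow_one]
  · have : y ^ 3 = y⁻¹ := eq_inv_of_mul_eq_one_left (by rw [← pow_succ, show 3 + 1 = orderOf y from hy4.symm, pow_orderOf_eq_one])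
    rw [this]; exact hinv.symm

theorem exponent_four_parts {g x : Γ} (hx : IsPPart 2 g x) {n : ℕ} (hxn : x ^ n = 1)
    : orderOf g ∣ n * orderOf (x⁻¹ * g) := by
  obtain ⟨v, hxv, hcom, -, -⟩ := hx
  have hv : x⁻¹ * g = v := by rw [← hxv, inv_mul_cancel_left]
  refine orderOf_dvd_of_pow_eq_one ?_
  rw [hv, ← hxv, hcom.mul_pow, pow_mul, hxn, one_pow, mul_comm n, pow_mul, pow_orderOf_eq_one,
    one_pow, mul_one]

/-- A normal complement of index 4 in the centralizer of an element of order 4. -/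
theorem exists_complement_four {z y : Γ} (hz : orderOf z = 2)
    (huniq : ∀ t : Γ, orderOf t = 2 → Commute t z → t = z)
    (hexp : ∀ w : Γ, (∃ k : ℕ, orderOf w = 2 ^ k) → orderOf w ∣ 4) (hy : y * y = z) :
    ∃ N : Subgroup ↥(Subgroup.centralizer ({y} : Set Γ)),
      N.Normal ∧ ¬ 2 ∣ Nat.card N ∧ N.index = 4 := by
  classical
  haveI : Fact (Nat.Prime 2) := ⟨Nat.prime_two⟩
  set K := Subgroup.centralizer ({y} : Set Γ) with hK
  have hz1 := invol_ne_one hz
  have hz2 := invol_mul_self hz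
  have hy4 : orderOf y = 4 := orderOf_eq_prime_pow (p := 2) (n := 1)
    (by simpa [pow_two, hy] using hz1)
    (by rw [show 2 ^ (1 + 1) = 2 * 2 from rfl, pow_mul, pow_two y, hy, pow_two, hz2])
  let yK : K := ⟨y, Subgroup.mem_centralizer_singleton_iff.2 rfl⟩
  obtain ⟨T, hT⟩ := (show IsPGroup 2 (Subgroup.zpowers yK) from IsPGroup.of_card (n := 2) (by
    rw [Nat.card_zpowers, Subgroup.orderOf_mk, hy4]; rfl)).exists_le_sylow
  have hyT : y ∈ (T : Subgroup K).map K.subtype := ⟨yK, hT (Subgroup.mem_zpowers yK), rfl⟩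
  have hcent : ∀ x ∈ (T : Subgroup K).map K.subtype, Commute x y := fun x hx =>
    Subgroup.mem_centralizer_singleton_iff.1 (Subgroup.map_subtype_le _ hx)
  have hcyc : IsCyclic ↥((T : Subgroup K).map K.subtype) :=
    isCyclic_of_central_four hz1 hz2 hy _ (T.isPGroup'.map _) hyT (fun x hx h2 => by
      by_cases hx1 : x = 1
      · exact Or.inl hx1
      · exact Or.inr (huniq x (invol_iff.2 ⟨hx1, h2⟩) (hy ▸ (hcent x hx).mul_right (hcent x hx)))) hcent
  have hTcyc : IsCyclic (T : Subgroup K) :=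
    isCyclic_of_surjective
      ((T : Subgroup K).equivMapOfInjective _ K.subtype_injective).symm.toMonoidHom
      (MulEquiv.surjective _)
  have hcard : Nat.card (T : Subgroup K) = 4 := by
    haveI := hTcyc
    obtain ⟨g, hg⟩ := IsCyclic.exists_ofOrder_eq_natCard (α := (T : Subgroup K))
    have h1 : orderOf ((g : K) : Γ) = Nat.card (T : Subgroup K) := by
      rw [Subgroup.orderOf_coe, Subgroup.orderOf_coe, hg]
    refine Nat.dvd_antisymm ?_ ?_
    · rw [← h1]
      obtain ⟨k, hk⟩ := IsPGroup.iff_card.1 T.isPGroup'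
      exact hexp _ ⟨k, h1.trans hk⟩
    · rw [← hy4, show orderOf y = orderOf yK from (Subgroup.orderOf_mk _ _).symm]
      exact Subgroup.orderOf_dvd_natCard _ (hT (Subgroup.mem_zpowers yK))
  obtain ⟨N, hN, hN2, hidx, -⟩ := exists_complement_of_cyclic_sylow T hTcyc (by
    rw [even_iff_two_dvd]
    exact ((Dvd.intro 2 rfl : 2 ∣ 4).trans (hcard ▸ Subgroup.card_subgroup_dvd_card _)))
  exact ⟨N, hN, hN2, hidx.trans hcard⟩

variable {M : Ideal AlgInt} [M.IsPrime]

open Classical in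
/-- Values of the principal block at an element of order 4. -/
theorem principal_four_values (hM : IsPModular 2 M) {z y : Γ} (hz : orderOf z = 2)
    (huniq : ∀ t : Γ, orderOf t = 2 → Commute t z → t = z)
    (hexp : ∀ w : Γ, (∃ k : ℕ, orderOf w = 2 ^ k) → orderOf w ∣ 4) (hy : y * y = z)
    (hinv : IsConj y y⁻¹) :
    (∀ χ : IrrCharacter Γ, χ ∈ principalBlock M Γ → (χ : Γ → ℂ) y ≠ 0 →
      ((χ : Γ → ℂ) y = 1 ∨ (χ : Γ → ℂ) y = -1)) ∧
    (Finset.univ.filter fun χ : IrrCharacter Γ =>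
      χ ∈ principalBlock M Γ ∧ (χ : Γ → ℂ) y ≠ 0).card = 4 ∧
    ∀ v : Γ, Commute y v → ¬ 2 ∣ orderOf v → ∀ χ : IrrCharacter Γ, χ ∈ principalBlock M Γ →
      (χ : Γ → ℂ) (y * v) = (χ : Γ → ℂ) y := by
  haveI : Fact (Nat.Prime 2) := ⟨Nat.prime_two⟩
  have hz1 := invol_ne_one hz
  have hz2 := invol_mul_self hz
  have hy4 : orderOf y = 4 := orderOf_eq_prime_pow (p := 2) (n := 1)
    (by simpa [pow_two, hy] using hz1)
    (by rw [show 2 ^ (1 + 1) = 2 * 2 from rfl, pow_mul, pow_two y, hy, pow_two, hz2])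
  have hy2 : ∃ k : ℕ, orderOf y = 2 ^ k := ⟨2, hy4⟩
  obtain ⟨N, hN, hN2, hidx⟩ := exists_complement_four hz huniq hexp hy
  have hsum := principal_column_sum hM hy2 _ rfl N hN2 ⟨2, hidx⟩
  rw [hidx] at hsum
  have hint : ∀ χ : IrrCharacter Γ, ∃ n : ℤ, (χ : Γ → ℂ) y = n := fun χ =>
    char_apply_int_of_pow_conj (isCharacter_of_isIrr χ.2) fun m hm =>
      isConj_pow_of_isConj_inv hy4 hinv hm
  choose n hn using hint
  set f : IrrCharacter Γ → ℤ := fun χ => if χ ∈ principalBlock M Γ then n χ else 0 with hf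
  have hfsum : ∑ χ, f χ ^ 2 = 4 := by
    have h : ((∑ χ, f χ ^ 2 : ℤ) : ℂ) = 4 := by
      rw [show (4 : ℂ) = ((4 : ℕ) : ℂ) by norm_num, ← hsum, Int.cast_sum]
      refine Finset.sum_congr rfl fun χ _ => ?_
      simp only [hf]
      split_ifs with hχ
      · rw [hn, map_intCast, Int.cast_pow, sq]
      · simp
    exact_mod_cast h
  have hone : f ⟨_, isIrr_one⟩ = 1 := by
    have h := hn ⟨_, isIrr_one⟩
    simp only [hf, if_pos one_mem_principalBlock]
    have h' : ((n ⟨_, isIrr_one⟩ : ℤ) : ℂ) = 1 := h.symm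
    exact_mod_cast h'
  obtain ⟨h1, h4⟩ := sq_eq_one_of_sum_sq_eq_four hfsum hone
  refine ⟨fun χ hχ h0 => ?_, ?_, fun v hv hv2 χ hχ => ?_⟩
  · have hfχ : f χ = n χ := if_pos hχ
    have hne : f χ ≠ 0 := fun h => h0 (by rw [hn, ← hfχ, h]; simp)
    have := h1 χ hne
    rw [hfχ, sq_eq_one_iff] at this
    rcases this with h | h <;> simp [hn, h]
  · rw [← h4]
    congr 1
    refine Finset.filter_congr fun χ _ => ?_
    simp only [hf]
    split_ifs with hχ <;> simp [hχ, hn]
  · have hvC : v ∈ Subgroup.centralizer ({y} : Set Γ) :=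
      Subgroup.mem_centralizer_singleton_iff.2 hv.symm.eq
    exact principal_apply_mul_eq hM hy2 N hN2 (v := ⟨v, hvC⟩)
      ((regular_iff_mem_complement N hN2 ⟨2, hidx⟩ _).1 (by rwa [Subgroup.orderOf_mk])) hχ

/-- `1 + s` for the sign-normalised character. -/
def q8One (y : Γ) (ψ : IrrCharacter Γ) : Γ → ℂ := fun g => 1 + (ψ : Γ → ℂ) y * (ψ : Γ → ℂ) g

open Classical in
/-- The function on the centralizer that is induced to `G`. -/
noncomputable def q8Alpha (y : Γ) (ψ : IrrCharacter Γ) : Γ → ℂ := fun g =>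
  if 4 ∣ orderOf g then 2 else if 2 ∣ orderOf g then 2 * q8One y ψ g else 0

variable (M) in
/-- The members of the principal block that are nonzero at `y`. -/
def q8V (y : Γ) (ψ : IrrCharacter Γ) : Prop := ψ ∈ principalBlock M Γ ∧ (ψ : Γ → ℂ) y ≠ 0

/-- Centralizer data for quaternion Sylow 2-subgroups of order 8. -/
structure Q8Data (P : Sylow 2 Γ) (z y : Γ) : Prop where
  hz : orderOf z = 2
  cent : ∀ g : Γ, Commute z g
  uniq : ∀ t : Γ, orderOf t = 2 → t = z
  hy : y * y = z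
  hyP : y ∈ P
  card : Nat.card (P : Subgroup Γ) = 8
  cls : ∀ w : Γ, w * w = z → IsConj y w
  inv : ∃ x ∈ P, x * y * x⁻¹ = y⁻¹

namespace Q8Data

variable {P : Sylow 2 Γ} {z y : Γ} (D : Q8Data P z y)
include D

theorem y_order : orderOf y = 4 := orderOf_eq_prime_pow (p := 2) (n := 1)
  (by simpa [pow_two, D.hy] using invol_ne_one D.hz)
  (by rw [show 2 ^ (1 + 1) = 2 * 2 from rfl, pow_mul, pow_two y, D.hy, pow_two, invol_mul_self D.hz])

theorem exp_four (w : Γ) (hw : ∃ k : ℕ, orderOf w = 2 ^ k) : orderOf w ∣ 4 := by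
  haveI : Fact (Nat.Prime 2) := ⟨Nat.prime_two⟩
  obtain ⟨k, hk⟩ := hw
  obtain ⟨Q, hQ⟩ := (IsPGroup.of_card (p := 2) (n := k)
    (by rw [Nat.card_zpowers, hk]) : IsPGroup 2 (Subgroup.zpowers w)).exists_le_sylow
  have hcQ : Nat.card (Q : Subgroup Γ) = 8 := by
    rw [Q.card_eq_multiplicity, ← P.card_eq_multiplicity, D.card]
  have hdvd : orderOf w ∣ 8 := hcQ ▸ Subgroup.orderOf_dvd_natCard _ (hQ (Subgroup.mem_zpowers w))
  obtain ⟨i, hi, hwi⟩ := (Nat.dvd_prime_pow Nat.prime_two).1 (show orderOf w ∣ 2 ^ 3 from hdvd)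
  rcases Nat.lt_or_ge i 3 with h | h
  · rw [hwi]; exact (pow_dvd_pow 2 (show i ≤ 2 by omega))
  · -- an element of order 8 would make the Sylow subgroup cyclic
    exfalso
    have hw8 : orderOf w = 8 := by rw [hwi, show i = 3 by omega]; rfl
    have hQeq : Subgroup.zpowers w = (Q : Subgroup Γ) :=
      Subgroup.eq_of_le_of_card_ge hQ (by rw [hcQ, Nat.card_zpowers, hw8])
    haveI : IsCyclic (Q : Subgroup Γ) := hQeq ▸ inferInstance
    haveI : IsCyclic (P : Subgroup Γ) :=
      isCyclic_of_surjective (Sylow.equiv Q P).toMonoidHom (Sylow.equiv Q P).surjective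
    obtain ⟨x, hx, hxy⟩ := D.inv
    haveI : IsMulCommutative (P : Subgroup Γ) := IsCyclic.isMulCommutative
    have hc : x * y = y * x :=
      congrArg Subtype.val ((IsMulCommutative.is_comm (M := (P : Subgroup Γ))).comm ⟨x, hx⟩ ⟨y, D.hyP⟩)
    rw [hc, mul_inv_cancel_right] at hxy
    exact invol_ne_one D.hz (by rw [← D.hy]; exact mul_eq_one_iff_eq_inv.2 hxy)

theorem uniq' : ∀ t : Γ, orderOf t = 2 → Commute t z → t = z := fun t ht _ => D.uniq t ht

theorem y_inv : y⁻¹ = z * y := by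
  refine (eq_inv_of_mul_eq_one_left ?_).symm
  rw [mul_assoc, D.hy, invol_mul_self D.hz]

theorem conj_inv : IsConj y y⁻¹ := by
  obtain ⟨x, -, hx⟩ := D.inv
  exact isConj_iff.2 ⟨x, hx⟩

/-- The three kinds of elements. -/
theorem classify (g : Γ) :
    ¬ 2 ∣ orderOf g ∨ (¬ 2 ∣ orderOf (z * g) ∧ 2 ∣ orderOf g ∧ ¬ 4 ∣ orderOf g) ∨
      (4 ∣ orderOf g ∧ ∃ v : Γ, Commute y v ∧ ¬ 2 ∣ orderOf v ∧ IsConj (y * v) g) := by
  haveI : Fact (Nat.Prime 2) := ⟨Nat.prime_two⟩
  by_cases h2 : 2 ∣ orderOf g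
  swap
  · exact Or.inl h2
  right
  obtain ⟨x, hx⟩ := exists_isPPart Nat.prime_two g
  obtain ⟨v, hxv, hcom, ⟨k, hk⟩, hv⟩ := hx
  have hd := D.exp_four x ⟨k, hk⟩
  obtain ⟨i, hi, hxi⟩ := (Nat.dvd_prime_pow Nat.prime_two).1 (show orderOf x ∣ 2 ^ 2 from hd)
  have hord : orderOf g = orderOf x * orderOf v := by
    rw [← hxv]
    refine hcom.orderOf_mul_eq_mul_orderOf_of_coprime ?_
    rw [hk]
    exact Nat.Coprime.pow_left k (Nat.prime_two.coprime_iff_not_dvd.2 hv)
  interval_cases i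
  · exact absurd (by simpa [hord, hxi] using h2) hv
  · left
    have hxz : x = z := D.uniq x (by simpa using hxi)
    refine ⟨by rw [← hxv, hxz, ← mul_assoc, invol_mul_self D.hz, one_mul]; exact hv, h2, fun h4 => ?_⟩
    rw [hord, hxi, pow_one] at h4
    obtain ⟨c, hc⟩ := h4
    exact hv ⟨c, by omega⟩
  · right
    refine ⟨by rw [hord, hxi]; exact dvd_mul_right _ _, ?_⟩
    have hxx : x * x = z := D.uniq _ (by
      rw [← pow_two, orderOf_pow, hxi]; rfl)
    obtain ⟨c, hc⟩ := isConj_iff.1 (D.cls x hxx)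
    refine ⟨c⁻¹ * v * c, ?_, ?_, isConj_iff.2 ⟨c, ?_⟩⟩
    · have h := hcom.map (MulAut.conj c⁻¹).toMonoidHom
      simp only [MulEquiv.coe_toMonoidHom, MulAut.conj_apply, inv_inv] at h
      rwa [show c⁻¹ * x * c = y by rw [← hc]; group] at h
    · rwa [show c⁻¹ * v * c = MulAut.conj c⁻¹ v by simp, MulEquiv.orderOf_eq]
    · rw [← hxv, ← hc]; group

theorem reg_translate {g : Γ} (hg : ¬ 2 ∣ orderOf g) :
    2 ∣ orderOf (z * g) ∧ ¬ 4 ∣ orderOf (z * g) := by
  have h : orderOf (z * g) = 2 * orderOf g := by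
    rw [(D.cent g).orderOf_mul_eq_mul_orderOf_of_coprime, D.hz]
    rw [D.hz]; exact Nat.prime_two.coprime_iff_not_dvd.2 hg
  rw [h]
  refine ⟨dvd_mul_right _ _, ?_⟩
  rintro ⟨c, hc⟩
  exact hg ⟨c, by omega⟩

theorem four_translate {g : Γ} (hg : 4 ∣ orderOf g) : 4 ∣ orderOf (z * g) := by
  by_contra h4
  have hzz : z * (z * g) = g := by rw [← mul_assoc, invol_mul_self D.hz, one_mul]
  rcases D.classify (z * g) with h | ⟨h, -, -⟩ | ⟨h, -⟩
  · have := (D.reg_translate h).2
    rw [hzz] at this; exact this hg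
  · rw [hzz] at h; exact h ((Dvd.intro 2 rfl : 2 ∣ 4).trans hg)
  · exact h4 h

open Classical in
/-- Splitting sums along the sections. -/
theorem sum_split [Fintype Γ] (F : Γ → ℂ) :
    ∑ g : Γ, F g = ∑ g : Γ, (if 2 ∣ orderOf g then 0 else F g + F (z * g)) +
      ∑ g : Γ, (if 4 ∣ orderOf g then F g else 0) := by
  have e : ∑ g : Γ, (if 2 ∣ orderOf g then 0 else F (z * g)) =
      ∑ g : Γ, (if 2 ∣ orderOf g ∧ ¬ 4 ∣ orderOf g then F g else 0) := by
    refine Fintype.sum_equiv (Equiv.mulLeft z) _ _ fun g => ?_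
    simp only [Equiv.coe_mulLeft]
    split_ifs with hg h' h'
    · exfalso
      obtain ⟨h2, h4⟩ := h'
      rcases D.classify g with h | ⟨h, -, -⟩ | ⟨h, -⟩
      · exact h hg
      · exact h h2
      · exact h4 (D.four_translate h)
    · exact (if_neg h').symm
    · exact (if_pos h').symm
    · exact absurd (D.reg_translate hg) h'
  have e2 : ∀ g : Γ, (if 2 ∣ orderOf g then 0 else F g + F (z * g)) =
      (if 2 ∣ orderOf g then 0 else F g) + (if 2 ∣ orderOf g then 0 else F (z * g)) := fun g => by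
    split_ifs <;> simp
  rw [Finset.sum_congr rfl fun g _ => e2 g, Finset.sum_add_distrib, e, ← Finset.sum_add_distrib,
    ← Finset.sum_add_distrib]
  refine Finset.sum_congr rfl fun g _ => ?_
  by_cases h2 : 2 ∣ orderOf g <;> by_cases h4 : 4 ∣ orderOf g <;> simp [h2, h4]
  exact absurd ((Dvd.intro 2 rfl : 2 ∣ 4).trans h4) h2

/-- The central involution acts by a sign. -/
theorem sign (ψ : IrrCharacter Γ) :
    (∀ g, (ψ : Γ → ℂ) (z * g) = (ψ : Γ → ℂ) g) ∨ ∀ g, (ψ : Γ → ℂ) (z * g) = -(ψ : Γ → ℂ) g := by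
  have h1 := center_apply_mul ψ.2 D.cent
  have h := h1 z
  rw [invol_mul_self D.hz] at h
  have h0 := irr_one_ne_zero ψ.2
  have hsq : ((ψ : Γ → ℂ) z / (ψ : Γ → ℂ) 1) * ((ψ : Γ → ℂ) z / (ψ : Γ → ℂ) 1) = 1 := by
    field_simp at h ⊢
    linear_combination -h
  rcases mul_self_eq_one_iff.1 hsq with h' | h'
  · exact Or.inl fun g => by rw [h1, h', one_mul]
  · exact Or.inr fun g => by rw [h1, h', neg_one_mul]

theorem faithful_y (ψ : IrrCharacter Γ) (h : ∀ g, (ψ : Γ → ℂ) (z * g) = -(ψ : Γ → ℂ) g) :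
    (ψ : Γ → ℂ) y = 0 := by
  have h1 := classFun_isConj (classFun_of_irr ψ.2) D.conj_inv
  rw [D.y_inv, h] at h1
  linear_combination h1 / 2

open Classical in
theorem mem_V (hM : IsPModular 2 M) (ψ : IrrCharacter Γ) (hψ : ψ ∈ principalBlock M Γ) :
    (ψ : Γ → ℂ) y ≠ 0 ↔ ∀ g, (ψ : Γ → ℂ) (z * g) = (ψ : Γ → ℂ) g := by
  haveI := Fintype.ofFinite Γ
  haveI : Fact (Nat.Prime 2) := ⟨Nat.prime_two⟩
  constructor
  · intro h
    exact (D.sign ψ).resolve_right fun hf => h (D.faithful_y ψ hf)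
  · intro hu h0
    have hne : (ψ : Γ → ℂ) ≠ fun _ => 1 := fun he => by rw [he] at h0; exact one_ne_zero h0
    have hz0 : ∑ g : Γ, (ψ : Γ → ℂ) g = 0 := by
      have h := irr_inner_ne ψ.2 isIrr_one hne
      rw [classInner_def, mul_eq_zero] at h
      simpa using h.resolve_left (inv_ne_zero (natCard_ne_zero Γ))
    have hY : ∀ g : Γ, 4 ∣ orderOf g → (ψ : Γ → ℂ) g = 0 := by
      intro g hg
      rcases D.classify g with h | ⟨-, -, h⟩ | ⟨-, v, hv, hv2, hc⟩
      · exact absurd ((Dvd.intro 2 rfl : 2 ∣ 4).trans hg) h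
      · exact absurd hg h
      · rw [← classFun_isConj (classFun_of_irr ψ.2) hc,
          (principal_four_values hM D.hz D.uniq' D.exp_four D.hy D.conj_inv).2.2 v hv hv2 ψ hψ, h0]
    rw [D.sum_split, Finset.sum_congr rfl (g := fun g => (2 : ℂ) *
        (if 2 ∣ orderOf g then 0 else (ψ : Γ → ℂ) g)) fun g _ => by rw [hu]; split_ifs <;> ring,
      Finset.sum_eq_zero (s := Finset.univ)
        (f := fun g => if 4 ∣ orderOf g then (ψ : Γ → ℂ) g else 0) fun g _ => by
          split_ifs with h4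
          · exact hY g h4
          · rfl,
      add_zero, ← Finset.mul_sum, mul_eq_zero] at hz0
    have h2 := hz0.resolve_left two_ne_zero
    refine omegaBar_regSum_principal hM hψ ?_
    rw [omegaBar, omega_eq, Finset.sum_congr rfl fun g _ => ?_, h2, zero_div, red_zero]
    rw [coeff_regSum]
    split_ifs <;> simp

theorem alpha_odd (ψ : IrrCharacter Γ) {g : Γ} (hg : ¬ 2 ∣ orderOf g) : q8Alpha y ψ g = 0 := by
  have h4 : ¬ 4 ∣ orderOf g := fun h => hg ((Dvd.intro 2 rfl : 2 ∣ 4).trans h)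
  simp [q8Alpha, hg, h4]

theorem classFun_alpha (ψ : IrrCharacter Γ) : IsClassFunction Γ (q8Alpha y ψ) := fun g h => by
  simp only [q8Alpha, q8One, isPPart_conj.orderOf_mulAut_conj, classFun_of_irr ψ.2 g h]

theorem v_sq (hM : IsPModular 2 M) {ψ : IrrCharacter Γ} (h : q8V M y ψ) :
    (ψ : Γ → ℂ) y * (ψ : Γ → ℂ) y = 1 ∧ conj ((ψ : Γ → ℂ) y) = (ψ : Γ → ℂ) y := by
  classical
  haveI : Fact (Nat.Prime 2) := ⟨Nat.prime_two⟩
  rcases (principal_four_values hM D.hz D.uniq' D.exp_four D.hy D.conj_inv).1 ψ h.1 h.2 with e | e <;>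
    rw [e] <;> simp

theorem onePlus_translate (hM : IsPModular 2 M) {ψ : IrrCharacter Γ} (h : q8V M y ψ) (g : Γ) :
    q8One y ψ (z * g) = q8One y ψ g := by
  simp only [q8One, (D.mem_V hM ψ h.1).1 h.2 g]

theorem onePlus_four (hM : IsPModular 2 M) {ψ : IrrCharacter Γ} (h : q8V M y ψ) {g : Γ}
    (hg : 4 ∣ orderOf g) : q8One y ψ g = 2 := by
  classical
  haveI : Fact (Nat.Prime 2) := ⟨Nat.prime_two⟩
  rcases D.classify g with h' | ⟨-, -, h'⟩ | ⟨-, v, hv, hv2, hc⟩
  · exact absurd ((Dvd.intro 2 rfl : 2 ∣ 4).trans hg) h'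
  · exact absurd hg h'
  · simp only [q8One, ← classFun_isConj (classFun_of_irr ψ.2) hc,
      (principal_four_values hM D.hz D.uniq' D.exp_four D.hy D.conj_inv).2.2 v hv hv2 ψ h.1,
      (D.v_sq hM h).1]
    norm_num

theorem alpha_z (hM : IsPModular 2 M) {ψ : IrrCharacter Γ} (h : q8V M y ψ) {g : Γ}
    (hg : ¬ 2 ∣ orderOf g) : q8Alpha y ψ (z * g) = 2 * q8One y ψ g := by
  obtain ⟨h2, h4⟩ := D.reg_translate hg
  simp [q8Alpha, h2, h4, D.onePlus_translate hM h]

theorem alpha_four (ψ : IrrCharacter Γ) {g : Γ} (hg : 4 ∣ orderOf g) : q8Alpha y ψ g = 2 := by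
  simp [q8Alpha, hg]

open Classical in
/-- The column relation between `y` and regular elements. -/
theorem column_relation (hM : IsPModular 2 M) {g : Γ} (hg : ¬ 2 ∣ orderOf g) :
    ∑ ψ ∈ Finset.univ.filter (q8V M y), (ψ : Γ → ℂ) y * (ψ : Γ → ℂ) g = 0 := by
  haveI : Fact (Nat.Prime 2) := ⟨Nat.prime_two⟩
  have h := block_orth hM (isPBlock_principalBlock (G := Γ)) (isPPart_one_of_regular hg)
    (isPPart_self (g := y) ⟨2, D.y_order⟩ Nat.prime_two) (fun hc => by
      have := D.y_order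
      rw [isConj_one_right.1 hc, orderOf_one] at this
      omega)
  rw [finsum_mem_eq_sum_ite] at h
  rw [Finset.sum_filter]
  refine Eq.trans ?_ h
  refine Finset.sum_congr rfl fun ψ _ => ?_
  by_cases hψ : ψ ∈ principalBlock M Γ
  swap
  · rw [if_neg hψ, if_neg fun hh : q8V M y ψ => hψ hh.1]
  rw [if_pos hψ]
  by_cases h0 : (ψ : Γ → ℂ) y = 0
  · simp [q8V, h0]
  · rw [if_pos (show q8V M y ψ from ⟨hψ, h0⟩), (D.v_sq hM ⟨hψ, h0⟩).2, mul_comm]

open Classical in
theorem card_V (hM : IsPModular 2 M) : (Finset.univ.filter (q8V M y)).card = 4 := by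
  haveI : Fact (Nat.Prime 2) := ⟨Nat.prime_two⟩
  rw [← (principal_four_values hM D.hz D.uniq' D.exp_four D.hy D.conj_inv).2.1]
  congr 1
  exact Finset.filter_congr fun _ _ => Iff.rfl

theorem one_inV : q8V M y (⟨_, isIrr_one⟩ : IrrCharacter Γ) :=
  ⟨one_mem_principalBlock, one_ne_zero⟩

open Classical in
/-- The degree squares in the principal block. -/
theorem deg_sq (hM : IsPModular 2 M) :
    ∑ ψ : IrrCharacter Γ, (if ψ ∈ principalBlock M Γ then (ψ : Γ → ℂ) 1 ^ 2 else 0) =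
      2 * ∑ ψ ∈ Finset.univ.filter (q8V M y), (ψ : Γ → ℂ) 1 ^ 2 := by
  haveI : Fact (Nat.Prime 2) := ⟨Nat.prime_two⟩
  have h := block_orth hM (isPBlock_principalBlock (G := Γ))
    (isPPart_self (g := z) ⟨1, D.hz⟩ Nat.prime_two)
    (isPPart_one_of_regular (p := 2) (g := (1 : Γ)) (by simp))
    (fun hc => invol_ne_one D.hz (isConj_one_left.1 hc))
  rw [finsum_mem_eq_sum_ite] at h
  rw [← add_zero (∑ ψ : IrrCharacter Γ, _), Finset.sum_filter, Finset.mul_sum]
  refine (congrArg _ h.symm).trans ?_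
  rw [← Finset.sum_add_distrib]
  refine Finset.sum_congr rfl fun ψ _ => ?_
  by_cases hψ : ψ ∈ principalBlock M Γ
  swap
  · rw [if_neg hψ, if_neg hψ, if_neg fun hh : q8V M y ψ => hψ hh.1]; ring
  rw [if_pos hψ, if_pos hψ, irr_one_eq ψ.2, Complex.conj_natCast, ← irr_one_eq ψ.2]
  rcases D.sign ψ with hs | hs
  · rw [if_pos (show q8V M y ψ from ⟨hψ, (D.mem_V hM ψ hψ).2 hs⟩)]
    have := hs 1
    rw [mul_one] at this
    rw [this]; ring
  · rw [if_neg fun hh : q8V M y ψ => hh.2 (D.faithful_y ψ hs)]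
    have := hs 1
    rw [mul_one] at this
    rw [this]; ring

open Classical in
theorem four_count (hM : IsPModular 2 M) [Fintype Γ] :
    4 * ∑ g : Γ, (if 4 ∣ orderOf g then (1 : ℂ) else 0) = (Nat.card Γ : ℂ) := by
  haveI : Fact (Nat.Prime 2) := ⟨Nat.prime_two⟩
  have h : ∑ g : Γ, ∑ ψ ∈ Finset.univ.filter (q8V M y), (ψ : Γ → ℂ) y * (ψ : Γ → ℂ) g =
      (Nat.card Γ : ℂ) := by
    rw [Finset.sum_comm, Finset.sum_eq_single (⟨_, isIrr_one⟩ : IrrCharacter Γ)]
    · simp [← Nat.card_eq_fintype_card]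
    · intro ψ _ hne
      rw [← Finset.mul_sum]
      have h := irr_inner_ne ψ.2 isIrr_one (fun he => hne (Subtype.ext he))
      rw [classInner_def, mul_eq_zero] at h
      have h0 := h.resolve_left (inv_ne_zero (natCard_ne_zero Γ))
      simp only [map_one, mul_one] at h0
      rw [h0, mul_zero]
    · exact fun h' => absurd (Finset.mem_filter.2 ⟨Finset.mem_univ _, D.one_inV⟩) h'
  rw [← h, D.sum_split (fun g => ∑ ψ ∈ Finset.univ.filter (q8V M y), (ψ : Γ → ℂ) y * (ψ : Γ → ℂ) g),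
    Finset.mul_sum]
  rw [Finset.sum_eq_zero (s := Finset.univ) (f := fun g : Γ => if 2 ∣ orderOf g then (0 : ℂ) else _)
    fun g _ => ?_, zero_add]
  · refine Finset.sum_congr rfl fun g _ => ?_
    split_ifs with hg
    · rw [Finset.sum_congr rfl (g := fun _ => (1 : ℂ)) fun ψ hψ => ?_, Finset.sum_const, D.card_V hM,
        nsmul_one]
      · norm_num
      · have h1 := D.onePlus_four hM (Finset.mem_filter.1 hψ).2 hg
        simp only [q8One] at h1
        linear_combination h1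
    · simp
  · split_ifs with hg
    · rfl
    · rw [D.column_relation hM hg, zero_add,
        Finset.sum_congr rfl (g := fun ψ : IrrCharacter Γ => (ψ : Γ → ℂ) y * (ψ : Γ → ℂ) g)
          fun ψ hψ => by rw [(D.mem_V hM ψ (Finset.mem_filter.1 hψ).2.1).1 (Finset.mem_filter.1 hψ).2.2 g],
        D.column_relation hM hg]

open Classical in
theorem inner_onePlus (hM : IsPModular 2 M) [Fintype Γ] {k l : IrrCharacter Γ} (hk : q8V M y k)
    (hl : q8V M y l) (hk1 : (k : Γ → ℂ) ≠ fun _ => 1) (hl1 : (l : Γ → ℂ) ≠ fun _ => 1) :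
    classInner (q8One y k) (q8One y l) = if k = l then 2 else 1 := by
  have ek : q8One y k = (fun _ => 1) + (k : Γ → ℂ) y • (k : Γ → ℂ) := rfl
  have el : q8One y l = (fun _ => 1) + (l : Γ → ℂ) y • (l : Γ → ℂ) := rfl
  rw [ek, el, classInner_add_left, classInner_add_right, classInner_add_right,
    classInner_smul_left, classInner_smul_right, classInner_smul_right, classInner_smul_left,
    classInner_one_one, irr_inner_ne isIrr_one l.2 (Ne.symm hl1),
    irr_inner_ne k.2 isIrr_one hk1, irrChar_inner, (D.v_sq hM hl).2]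
  split_ifs with h
  · subst h
    simp only [mul_zero, mul_one, zero_add, add_zero, (D.v_sq hM hk).1]; norm_num
  · ring

open Classical in
/-- Inner products of the functions `alpha`. -/
theorem inner_alpha (hM : IsPModular 2 M) [Fintype Γ] {k l : IrrCharacter Γ} (hk : q8V M y k)
    (hl : q8V M y l) (hk1 : (k : Γ → ℂ) ≠ fun _ => 1) (hl1 : (l : Γ → ℂ) ≠ fun _ => 1) :
    classInner (q8Alpha y k) (q8Alpha y l) = if k = l then 3 else 1 := by
  set R := ∑ g : Γ, (if 2 ∣ orderOf g then (0 : ℂ) else q8One y k g * conj (q8One y l g)) with hR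
  set Y := ∑ g : Γ, (if 4 ∣ orderOf g then (1 : ℂ) else 0) with hY
  have hc := D.four_count hM
  rw [← hY] at hc
  have h1 : ∑ g : Γ, q8One y k g * conj (q8One y l g) = 2 * R + 4 * Y := by
    rw [D.sum_split, hR, hY, Finset.mul_sum, Finset.mul_sum]
    congr 1
    · refine Finset.sum_congr rfl fun g _ => ?_
      rw [D.onePlus_translate hM hk, D.onePlus_translate hM hl]; split_ifs <;> ring
    · refine Finset.sum_congr rfl fun g _ => ?_
      split_ifs with hg
      · rw [D.onePlus_four hM hk hg, D.onePlus_four hM hl hg, map_ofNat]; norm_num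
      · simp
  have h2 : ∑ g : Γ, q8Alpha y k g * conj (q8Alpha y l g) = 4 * R + 4 * Y := by
    rw [D.sum_split, hR, hY, Finset.mul_sum, Finset.mul_sum]
    congr 1
    · refine Finset.sum_congr rfl fun g _ => ?_
      split_ifs with hg
      · simp
      · rw [D.alpha_odd k hg, D.alpha_odd l hg, D.alpha_z hM hk hg, D.alpha_z hM hl hg, map_mul,
          map_ofNat]; ring
    · refine Finset.sum_congr rfl fun g _ => ?_
      split_ifs with hg
      · rw [D.alpha_four k hg, D.alpha_four l hg, map_ofNat]; norm_num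
      · simp
  have h3 := D.inner_onePlus hM hk hl hk1 hl1
  rw [classInner_def, h1] at h3
  rw [classInner_def, h2]
  have hN := natCard_ne_zero Γ
  rw [inv_mul_eq_iff_eq_mul₀ hN] at h3 ⊢
  split_ifs with h
  · rw [if_pos h] at h3; linear_combination 2 * h3 - hc
  · rw [if_neg h] at h3; linear_combination 2 * h3 - hc

open Classical in
theorem inner_alpha_one (hM : IsPModular 2 M) [Fintype Γ] {k : IrrCharacter Γ} (hk : q8V M y k)
    (hk1 : (k : Γ → ℂ) ≠ fun _ => 1) : classInner (q8Alpha y k) (fun _ => 1) = 1 := by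
  have h0 : classInner (q8One y k) (fun _ => 1) = 1 := by
    have ek : q8One y k = (fun _ => 1) + (k : Γ → ℂ) y • (k : Γ → ℂ) := rfl
    rw [ek, classInner_add_left, classInner_smul_left, classInner_one_one,
      irr_inner_ne k.2 isIrr_one hk1, mul_zero, add_zero]
  refine Eq.trans ?_ h0
  rw [classInner_def, classInner_def]
  congr 1
  rw [D.sum_split, D.sum_split (fun g => q8One y k g * _)]
  congr 1
  · refine Finset.sum_congr rfl fun g _ => ?_
    simp only [map_one, mul_one]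
    split_ifs with hg
    · rfl
    · rw [D.alpha_odd k hg, D.alpha_z hM hk hg, D.onePlus_translate hM hk]; ring
  · refine Finset.sum_congr rfl fun g _ => ?_
    split_ifs with hg
    · rw [D.alpha_four k hg, D.onePlus_four hM hk hg]
    · rfl

open Classical in
theorem inner_alpha_notMem (hM : IsPModular 2 M) [Fintype Γ] {k : IrrCharacter Γ} (hk : q8V M y k)
    {η : IrrCharacter Γ} (hη : η ∉ principalBlock M Γ) :
    classInner (q8Alpha y k) (η : Γ → ℂ) = 0 := by
  haveI : Fact (Nat.Prime 2) := ⟨Nat.prime_two⟩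
  have hη1 : (η : Γ → ℂ) ≠ fun _ => 1 := fun he => hη (by
    rw [show η = (⟨_, isIrr_one⟩ : IrrCharacter Γ) from Subtype.ext he]; exact one_mem_principalBlock)
  have hA : ∑ g : Γ, (if 2 ∣ orderOf g then (0 : ℂ) else conj ((η : Γ → ℂ) g)) = 0 := by
    have h := regular_orth hM (χ := (⟨_, isIrr_one⟩ : IrrCharacter Γ)) (ψ := η) fun hs => hη hs
    refine Eq.trans (Finset.sum_congr rfl fun g _ => ?_) h
    by_cases hg : 2 ∣ orderOf g
    · rw [if_pos hg, if_neg (not_not_intro hg)]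
    · rw [if_neg hg, if_pos hg, one_mul]
  have hB : ∑ g : Γ, (if 2 ∣ orderOf g then (0 : ℂ) else (k : Γ → ℂ) g * conj ((η : Γ → ℂ) g)) = 0 := by
    have h := regular_orth hM (χ := k) (ψ := η) fun hs => hη (mem_of_sameBlock isPBlock_principalBlock hk.1 hs)
    refine Eq.trans (Finset.sum_congr rfl fun g _ => ?_) h
    by_cases hg : 2 ∣ orderOf g
    · rw [if_pos hg, if_neg (not_not_intro hg)]
    · rw [if_neg hg, if_pos hg]
  obtain ⟨ω, hω⟩ : ∃ ω : ℂ, ∀ g, conj ((η : Γ → ℂ) (z * g)) = ω * conj ((η : Γ → ℂ) g) := by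
    rcases D.sign η with h | h
    · exact ⟨1, fun g => by rw [h, one_mul]⟩
    · exact ⟨-1, fun g => by rw [h, map_neg, neg_one_mul]⟩
  have hsum : ∑ g : Γ, conj ((η : Γ → ℂ) g) = 0 := by
    have h := irr_inner_ne isIrr_one η.2 (Ne.symm hη1)
    rw [classInner_def, mul_eq_zero] at h
    simpa using h.resolve_left (inv_ne_zero (natCard_ne_zero Γ))
  rw [D.sum_split, Finset.sum_congr rfl (g := fun g => (1 + ω) *
    (if 2 ∣ orderOf g then 0 else conj ((η : Γ → ℂ) g))) fun g _ => by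
      rw [hω]; split_ifs <;> ring, ← Finset.mul_sum, hA, mul_zero, zero_add] at hsum
  rw [classInner_def, D.sum_split, Finset.sum_congr rfl (g := fun g => (2 * ω) *
      (if 2 ∣ orderOf g then 0 else conj ((η : Γ → ℂ) g)) + (2 * ω * (k : Γ → ℂ) y) *
      (if 2 ∣ orderOf g then 0 else (k : Γ → ℂ) g * conj ((η : Γ → ℂ) g))) fun g _ => by
        split_ifs with hg
        · ring
        · rw [D.alpha_odd k hg, D.alpha_z hM hk hg, hω, q8One]; ring,
    Finset.sum_add_distrib, ← Finset.mul_sum, ← Finset.mul_sum, hA, hB,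
    Finset.sum_congr rfl (g := fun g => 2 * (if 4 ∣ orderOf g then conj ((η : Γ → ℂ) g) else 0))
      fun g _ => by
        split_ifs with hg
        · rw [D.alpha_four k hg]
        · ring,
    ← Finset.mul_sum, hsum]
  ring

end Q8Data

/-- Powers with exponent killing or fixing a complement of a central cyclic group are
multiplicative. -/
theorem mul_pow_of_central_sup {x : Γ} {Q : Subgroup Γ}
    (hQ : Q ≤ Subgroup.centralizer ({x} : Set Γ)) {e : ℕ}
    (he : (∀ q ∈ Q, q ^ e = 1) ∨ ∀ q ∈ Q, q ^ e = q) {a b : Γ}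
    (ha : a ∈ Subgroup.zpowers x ⊔ Q) (hb : b ∈ Subgroup.zpowers x ⊔ Q) :
    (a * b) ^ e = a ^ e * b ^ e := by
  have hc : ∀ q ∈ Q, Commute x q := fun q hq =>
    (Subgroup.mem_centralizer_singleton_iff.1 (hQ hq)).symm
  have hform : ∀ c ∈ Subgroup.zpowers x ⊔ Q, ∃ i : ℤ, ∃ q ∈ Q, c = x ^ i * q := by
    intro c hc'
    rw [Subgroup.sup_eq_closure] at hc'
    induction hc' using Subgroup.closure_induction with
    | mem c hc' =>
      rcases hc' with ⟨i, rfl⟩ | hc'
      · exact ⟨i, 1, Q.one_mem, (mul_one _).symm⟩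
      · exact ⟨0, c, hc', by simp⟩
    | one => exact ⟨0, 1, Q.one_mem, by simp⟩
    | mul c d _ _ hc₁ hd₁ =>
      obtain ⟨i, q, hq, rfl⟩ := hc₁
      obtain ⟨j, r, hr, rfl⟩ := hd₁
      refine ⟨i + j, q * r, Q.mul_mem hq hr, ?_⟩
      rw [zpow_add, ((hc q hq).zpow_left j).symm.mul_mul_mul_comm]
    | inv c _ hc₁ =>
      obtain ⟨i, q, hq, rfl⟩ := hc₁
      refine ⟨-i, q⁻¹, Q.inv_mem hq, ?_⟩
      rw [mul_inv_rev, zpow_neg, (((hc q hq).zpow_left i).inv_left.inv_right).eq]
  obtain ⟨i, q, hq, rfl⟩ := hform a ha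
  obtain ⟨j, r, hr, rfl⟩ := hform b hb
  have h1 : x ^ i * q * (x ^ j * r) = x ^ (i + j) * (q * r) := by
    rw [zpow_add, ((hc q hq).zpow_left j).symm.mul_mul_mul_comm]
  have hqr := Q.mul_mem hq hr
  rw [h1, ((hc _ hqr).zpow_left _).mul_pow, ((hc q hq).zpow_left i).mul_pow,
    ((hc r hr).zpow_left j).mul_pow]
  have h2 : (x ^ (i + j)) ^ e = (x ^ i) ^ e * (x ^ j) ^ e := by
    rw [zpow_add, ((Commute.refl x).zpow_zpow i j).mul_pow]
  rw [h2]
  rcases he with he | he
  · rw [he _ hqr, he q hq, he r hr, mul_one, mul_one, mul_one]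
  · rw [he _ hqr, he q hq, he r hr,
      (((hc q hq).zpow_left j).pow_left e).symm.mul_mul_mul_comm]

/-- The sign function on 2-elements. -/
noncomputable def signPart (z : Γ) : Γ → ℂ := by
  classical exact fun w => if w = 1 then 1 else if w = z then -1 else 0

namespace Q8Data

variable {P : Sylow 2 Γ} {z y : Γ} (D : Q8Data P z y)
include D

theorem classFun_signPart : IsClassFunction Γ (signPart z) := fun g h => by
  classical
  have hz : h * z * h⁻¹ = z := by rw [(D.cent h).symm.eq, mul_inv_cancel_right]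
  have h1 : h * g * h⁻¹ = 1 ↔ g = 1 :=
    ⟨fun he => by simpa [mul_inv_eq_one] using he, fun he => by simp [he]⟩
  have h2 : h * g * h⁻¹ = z ↔ g = z :=
    ⟨fun he => by rw [← hz] at he; simpa using he, fun he => by rw [he, hz]⟩
  simp only [signPart, h1, h2]

theorem signPart_two (W : Subgroup Γ) (hW : ∀ w ∈ W, w = 1 ∨ w = z) :
    IsGeneralizedCharacter W (fun w => signPart z w) := by
  classical
  have hz1 := invol_ne_one D.hz
  let μ : W →* ℂˣ :=
    { toFun := fun w => if (w : Γ) = 1 then 1 else -1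
      map_one' := if_pos rfl
      map_mul' := fun a b => by
        simp only [Subgroup.coe_mul]
        rcases hW a a.2 with ha | ha <;> rcases hW b b.2 with hb | hb <;>
          simp [ha, hb, hz1, invol_mul_self D.hz] }
  convert gen_of_char (isCharacter_linear μ) using 1
  funext w
  change signPart z (w : Γ) = ((if (w : Γ) = 1 then (1 : ℂˣ) else -1 : ℂˣ) : ℂ)
  rcases hW w w.2 with h | h <;> rw [h] <;> simp [signPart, hz1]

/-- Twice the sign function is generalised on the Sylow subgroup. -/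
theorem signPart_sylow : IsGeneralizedCharacter (P : Subgroup Γ) (fun w => 2 * signPart z w) := by
  classical
  haveI : Fact (Nat.Prime 2) := ⟨Nat.prime_two⟩
  haveI : Fintype (P : Subgroup Γ) := Fintype.ofFinite _
  have hz1 := invol_ne_one D.hz
  have hzP : z ∈ (P : Subgroup Γ) := D.hy ▸ mul_mem D.hyP D.hyP
  refine isGeneralized_iff.2 ⟨fun g h => congrArg (2 * ·) (D.classFun_signPart g h), fun η => ?_⟩
  set zP : (P : Subgroup Γ) := ⟨z, hzP⟩
  have hsum : classInner (fun w : (P : Subgroup Γ) => 2 * signPart z w) (η : ↥(P : Subgroup Γ) → ℂ) =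
      (4 : ℂ)⁻¹ * conj ((η : ↥(P : Subgroup Γ) → ℂ) 1 - (η : ↥(P : Subgroup Γ) → ℂ) zP) := by
    rw [classInner_def, D.card, ← Finset.sum_subset (Finset.subset_univ ({1, zP} : Finset _)),
      Finset.sum_pair]
    · simp [signPart, zP, hz1, map_sub]; ring
    · exact fun h => hz1 (congrArg Subtype.val h).symm
    · intro w _ hw
      simp only [Finset.mem_insert, Finset.mem_singleton, not_or] at hw
      have h1 : (w : Γ) ≠ 1 := fun h => hw.1 (Subtype.ext h)
      have h2 : (w : Γ) ≠ z := fun h => hw.2 (Subtype.ext h)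
      simp [signPart, h1, h2]
  obtain ⟨n, hn⟩ : ∃ n : ℕ, (η : ↥(P : Subgroup Γ) → ℂ) 1 = n := ⟨_, irr_one_eq η.2⟩
  have hzc : ∀ g : (P : Subgroup Γ), Commute zP g := fun g => Subtype.ext (D.cent g).eq
  have hzz : zP * zP = 1 := Subtype.ext (invol_mul_self D.hz)
  have h := center_apply_mul η.2 hzc zP
  rw [hzz] at h
  have h0 := irr_one_ne_zero η.2
  field_simp at h
  have hsq : (η : ↥(P : Subgroup Γ) → ℂ) zP = (η : ↥(P : Subgroup Γ) → ℂ) 1 ∨
      (η : ↥(P : Subgroup Γ) → ℂ) zP = -(η : ↥(P : Subgroup Γ) → ℂ) 1 := by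
    rw [← sq_eq_sq_iff_eq_or_eq_neg]
    linear_combination -h
  rcases hsq with e | e
  · exact ⟨0, by rw [hsum, e, sub_self, map_zero, mul_zero]; simp⟩
  · -- a faithful character has even degree
    have hd : 2 ∣ charDegree (η : ↥(P : Subgroup Γ) → ℂ) := by
      have hdvd := degree_dvd_card η.2
      rw [D.card] at hdvd
      obtain ⟨i, -, hi⟩ := (Nat.dvd_prime_pow Nat.prime_two).1 (show _ ∣ 2 ^ 3 from hdvd)
      rcases i with _ | i
      swap
      · exact hi ▸ dvd_pow_self 2 (Nat.succ_ne_zero i)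
      exfalso
      have h1 : (η : ↥(P : Subgroup Γ) → ℂ) 1 = 1 := by rw [irr_one_eq η.2, hi]; simp
      obtain ⟨μ, hμ⟩ := exists_hom_of_degree_one (isCharacter_of_isIrr η.2) h1
      obtain ⟨x, hx, hxy⟩ := D.inv
      have hcomm : zP = ((⟨x, hx⟩ : (P : Subgroup Γ)) * ⟨y, D.hyP⟩ * ⟨x, hx⟩⁻¹ * ⟨y, D.hyP⟩⁻¹) :=
        Subtype.ext (by
          simp only [Subgroup.coe_mul, Subgroup.coe_inv, zP]
          rw [hxy, ← mul_inv_rev, D.hy, invol_inv D.hz])
      have hμz : μ zP = 1 := by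
        rw [hcomm, map_mul, map_mul, map_mul, map_inv, map_inv, mul_inv_cancel_comm, mul_inv_cancel]
      have hz' : (η : ↥(P : Subgroup Γ) → ℂ) zP = 1 := by
        rw [hμ]; simp [hμz]
      rw [hz', h1] at e
      norm_num at e
    obtain ⟨k, hk⟩ := hd
    refine ⟨(k : ℤ), ?_⟩
    rw [hsum, e, irr_one_eq η.2, hk]
    push_cast
    simp only [sub_neg_eq_add, map_add, map_mul, map_ofNat, Complex.conj_natCast]
    ring

open Classical in
/-- The function induced to `G` is a generalised character. -/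
theorem gen_alpha (hM : IsPModular 2 M) {k : IrrCharacter Γ} (hk : q8V M y k) :
    IsGeneralizedCharacter Γ (q8Alpha y k) := by
  haveI : Fact (Nat.Prime 2) := ⟨Nat.prime_two⟩
  haveI := Fintype.ofFinite Γ
  have hz1 := invol_ne_one D.hz
  obtain ⟨c, hc⟩ : ∃ c : ℤ, (k : Γ → ℂ) y = c :=
    char_apply_int_of_pow_conj (isCharacter_of_isIrr k.2) fun m hm =>
      isConj_pow_of_isConj_inv D.y_order D.conj_inv hm
  have hfgen : IsGeneralizedCharacter Γ (q8One y k) := by
    have h := gen_add (gen_of_char (isCharacter_one (G := Γ)))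
      (gen_intMul (gen_of_char (isCharacter_of_isIrr k.2)) c)
    convert h using 1
    funext g
    simp [q8One, hc]
  set ξ : Γ → ℂ := fun g => if 4 ∣ orderOf g then 0 else if 2 ∣ orderOf g then -q8One y k g
    else q8One y k g with hξdef
  have hα : q8Alpha y k = fun g => q8One y k g - ξ g := by
    funext g
    simp only [q8Alpha, hξdef]
    split_ifs with h4 h2
    · rw [D.onePlus_four hM hk h4, sub_zero]
    · ring
    · ring
  rw [hα]
  refine gen_sub hfgen ?_
  refine isGeneralized_of_restrict (fun g h => ?_) fun r hr x Q hxr hQ hQC => ?_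
  · simp only [hξdef, q8One, isPPart_conj.orderOf_mulAut_conj, classFun_of_irr k.2 g h]
  set E := Subgroup.zpowers x ⊔ Q with hE
  obtain ⟨a, m, hm, hcard⟩ :=
    Nat.exists_eq_pow_mul_and_not_dvd (Nat.card_pos (α := Γ)).ne' 2 Nat.prime_two.ne_one
  obtain ⟨e₂, he21, he20⟩ := exists_exponent Nat.prime_two a m hm
  have hco : (2 ^ a).Coprime m := Nat.Coprime.pow_left a (Nat.prime_two.coprime_iff_not_dvd.2 hm)
  obtain ⟨e₁, he11, he10⟩ : ∃ e : ℕ, e ≡ 1 [MOD m] ∧ e ≡ 0 [MOD 2 ^ a] :=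
    ⟨_, (Nat.chineseRemainder hco.symm 1 0).2.1, (Nat.chineseRemainder hco.symm 1 0).2.2⟩
  -- powers
  have hsplit : ∀ g : Γ, g ^ e₁ * g ^ e₂ = g := by
    intro g
    rw [← pow_add]
    conv_rhs => rw [← pow_one g]
    rw [pow_eq_pow_iff_modEq]
    refine Nat.ModEq.of_dvd (hcard ▸ orderOf_dvd_natCard g) ?_
    rw [← Nat.modEq_and_modEq_iff_modEq_mul hco]
    exact ⟨by simpa using he10.add he21, by simpa using he11.add he20⟩
  have hord₁ : ∀ g : Γ, ¬ 2 ∣ orderOf (g ^ e₁) := by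
    intro g h
    refine hm (h.trans (orderOf_dvd_of_pow_eq_one ?_))
    obtain ⟨d, hd⟩ := Nat.modEq_zero_iff_dvd.1 he10
    rw [← pow_mul, hd, mul_right_comm, pow_mul, ← hcard, pow_card_eq_one', one_pow]
  have hord₂ : ∀ g : Γ, ∃ i : ℕ, orderOf (g ^ e₂) = 2 ^ i := by
    intro g
    obtain ⟨d, hd⟩ := Nat.modEq_zero_iff_dvd.1 he20
    have h1 : (g ^ e₂) ^ 2 ^ a = 1 := by
      rw [← pow_mul, hd, mul_comm m d, mul_assoc, mul_comm d, pow_mul, mul_comm m, ← hcard,
        pow_card_eq_one', one_pow]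
    obtain ⟨i, -, hi⟩ := (Nat.dvd_prime_pow Nat.prime_two).1 (orderOf_dvd_of_pow_eq_one h1)
    exact ⟨i, hi⟩
  -- the two homomorphisms on `E`
  have hQord : ∀ q ∈ Q, ∃ i : ℕ, orderOf q = r ^ i := by
    haveI : Fact r.Prime := ⟨hr⟩
    intro q hq
    obtain ⟨i, hi⟩ := IsPGroup.iff_orderOf.1 hQ ⟨q, hq⟩
    exact ⟨i, by rw [← hi, Subgroup.orderOf_mk]⟩
  have hkill : ((∀ q ∈ Q, q ^ e₁ = 1) ∧ ∀ q ∈ Q, q ^ e₂ = q) ∨
      ((∀ q ∈ Q, q ^ e₁ = q) ∧ ∀ q ∈ Q, q ^ e₂ = 1) := by
    by_cases h2 : r = 2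
    · left
      subst h2
      have hdiv : ∀ q ∈ Q, orderOf q ∣ 2 ^ a := fun q hq => by
        obtain ⟨i, hi⟩ := hQord q hq
        have h := hcard ▸ orderOf_dvd_natCard q
        rw [hi] at h ⊢
        exact (Nat.Coprime.pow_left i (Nat.prime_two.coprime_iff_not_dvd.2 hm)).dvd_of_dvd_mul_right h
      refine ⟨fun q hq => ?_, fun q hq => ?_⟩
      · rw [← pow_zero q, pow_eq_pow_iff_modEq]; exact he10.of_dvd (hdiv q hq)
      · conv_rhs => rw [← pow_one q]
        rw [pow_eq_pow_iff_modEq]; exact he21.of_dvd (hdiv q hq)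
    · right
      have hdiv : ∀ q ∈ Q, orderOf q ∣ m := fun q hq => by
        obtain ⟨i, hi⟩ := hQord q hq
        have h := hcard ▸ orderOf_dvd_natCard q
        rw [hi] at h ⊢
        exact (Nat.Coprime.pow i a ((Nat.coprime_primes hr Nat.prime_two).2 h2)).dvd_of_dvd_mul_left h
      refine ⟨fun q hq => ?_, fun q hq => ?_⟩
      · conv_rhs => rw [← pow_one q]
        rw [pow_eq_pow_iff_modEq]; exact he11.of_dvd (hdiv q hq)
      · rw [← pow_zero q, pow_eq_pow_iff_modEq]; exact he20.of_dvd (hdiv q hq)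
  have hxE : x ∈ E := Subgroup.mem_sup_left (Subgroup.mem_zpowers x)
  have hcomm : ∀ b ∈ E, Commute x b := by
    intro b hb
    have h1 : E ≤ Subgroup.centralizer ({x} : Set Γ) :=
      sup_le (Subgroup.zpowers_le.2 (Subgroup.mem_centralizer_singleton_iff.2 rfl)) hQC
    exact (Subgroup.mem_centralizer_singleton_iff.1 (h1 hb)).symm
  let π₁ : E →* E :=
    { toFun := fun b => b ^ e₁
      map_one' := one_pow _
      map_mul' := fun b c => Subtype.ext (mul_pow_of_central_sup hQC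
        (hkill.imp (fun h => h.1) fun h => h.1) b.2 c.2) }
  let π₂ : E →* E :=
    { toFun := fun b => b ^ e₂
      map_one' := one_pow _
      map_mul' := fun b c => Subtype.ext (mul_pow_of_central_sup hQC
        (hkill.symm.imp (fun h => h.2) fun h => h.2) b.2 c.2) }
  set V : Subgroup Γ := (π₁.range).map E.subtype with hV
  set W : Subgroup Γ := (π₂.range).map E.subtype with hW
  have hmemV : ∀ b : E, (b : Γ) ^ e₁ ∈ V := fun b => ⟨π₁ b, ⟨b, rfl⟩, rfl⟩
  have hmemW : ∀ b : E, (b : Γ) ^ e₂ ∈ W := fun b => ⟨π₂ b, ⟨b, rfl⟩, rfl⟩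
  let pV : E →* V :=
    { toFun := fun b => ⟨(b : Γ) ^ e₁, hmemV b⟩
      map_one' := Subtype.ext (one_pow _)
      map_mul' := fun b c => Subtype.ext (mul_pow_of_central_sup hQC
        (hkill.imp (fun h => h.1) fun h => h.1) b.2 c.2) }
  let pW : E →* W :=
    { toFun := fun b => ⟨(b : Γ) ^ e₂, hmemW b⟩
      map_one' := Subtype.ext (one_pow _)
      map_mul' := fun b c => Subtype.ext (mul_pow_of_central_sup hQC
        (hkill.symm.imp (fun h => h.2) fun h => h.2) b.2 c.2) }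
  have hV2 : ∀ v ∈ V, ¬ 2 ∣ orderOf v := by
    rintro v ⟨_, ⟨b, rfl⟩, rfl⟩; exact hord₁ (b : Γ)
  have hWp : IsPGroup 2 W := IsPGroup.iff_orderOf.2 fun w => by
    obtain ⟨_, ⟨b, rfl⟩, he⟩ := w.2
    obtain ⟨i, hi⟩ := hord₂ (b : Γ)
    exact ⟨i, by rw [← Subgroup.orderOf_coe, ← he]; exact hi⟩
  have hVW : ∀ v ∈ V, ∀ w ∈ W, Commute v w := by
    rintro v ⟨_, ⟨b, rfl⟩, rfl⟩ w ⟨_, ⟨c', rfl⟩, rfl⟩
    have hform : ∀ b : E, ∀ e : ℕ, (∀ q ∈ Q, q ^ e = 1) → (b : Γ) ^ e ∈ Subgroup.zpowers x := by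
      intro b e he
      have key : ∀ d ∈ E, d ^ e ∈ Subgroup.zpowers x := by
        intro d hd
        have hmul := fun {u v : Γ} hu hv => mul_pow_of_central_sup (a := u) (b := v) hQC (Or.inl he) hu hv
        rw [hE, Subgroup.sup_eq_closure] at hd
        induction hd using Subgroup.closure_induction with
        | mem d hd =>
          rcases hd with hd | hd
          · exact pow_mem hd e
          · rw [he d hd]; exact one_mem _
        | one => rw [one_pow]; exact one_mem _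
        | mul d d' hd₀ hd₀' h₁ h₁' =>
          rw [hmul (by rw [Subgroup.sup_eq_closure]; exact hd₀) (by rw [Subgroup.sup_eq_closure]; exact hd₀')]
          exact mul_mem h₁ h₁'
        | inv d _ h₁ => rw [inv_pow]; exact inv_mem h₁
      exact key b b.2
    rcases hkill with h | h
    · obtain ⟨i, hi⟩ := hform b e₁ h.1
      change Commute ((b : Γ) ^ e₁) ((c' : Γ) ^ e₂)
      rw [← show x ^ i = (b : Γ) ^ e₁ from hi]
      exact ((hcomm _ (pow_mem c'.2 e₂)).zpow_left i)
    · obtain ⟨i, hi⟩ := hform c' e₂ h.2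
      change Commute ((b : Γ) ^ e₁) ((c' : Γ) ^ e₂)
      rw [← show x ^ i = (c' : Γ) ^ e₂ from hi]
      exact ((hcomm _ (pow_mem b.2 e₁)).zpow_left i).symm
  -- values
  have hval : ∀ b : E, ξ b = q8One y k (pV b : Γ) * signPart z (pW b : Γ) := by
    intro b
    set g : Γ := (b : Γ)
    change ξ g = q8One y k (g ^ e₁) * signPart z (g ^ e₂)
    have hcom : Commute (g ^ e₁) (g ^ e₂) := (Commute.refl g).pow_pow _ _
    have hmulord : orderOf g = orderOf (g ^ e₁) * orderOf (g ^ e₂) := by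
      conv_lhs => rw [← hsplit g]
      obtain ⟨i, hi⟩ := hord₂ g
      refine hcom.orderOf_mul_eq_mul_orderOf_of_coprime ?_
      rw [hi]
      exact (Nat.Coprime.pow_left i (Nat.prime_two.coprime_iff_not_dvd.2 (hord₁ g))).symm
    obtain ⟨i, hi⟩ := hord₂ g
    have hi2 := D.exp_four _ ⟨i, hi⟩
    obtain ⟨j, hj, hij⟩ := (Nat.dvd_prime_pow Nat.prime_two).1 (show _ ∣ 2 ^ 2 from hi2)
    interval_cases j
    · have h1 : g ^ e₂ = 1 := orderOf_eq_one_iff.1 (by simpa using hij)
      have hg : g ^ e₁ = g := by simpa [h1] using hsplit g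
      have h2 : ¬ 2 ∣ orderOf g := hg ▸ hord₁ g
      have h4 : ¬ 4 ∣ orderOf g := fun h => h2 ((Dvd.intro 2 rfl : 2 ∣ 4).trans h)
      simp [hξdef, signPart, h1, hg, h2, h4]
    · have h1 : g ^ e₂ = z := D.uniq _ (by simpa using hij)
      have h2 : 2 ∣ orderOf g := by rw [hmulord, hij]; exact dvd_mul_left _ _
      have h4 : ¬ 4 ∣ orderOf g := by
        rw [hmulord, hij, pow_one]; rintro ⟨d, hd⟩; exact hord₁ g ⟨d, by omega⟩
      have hg : g = z * g ^ e₁ := by
        conv_lhs => rw [← hsplit g, h1]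
        exact (D.cent _).symm.eq
      simp only [hξdef, signPart, h1, h2, h4, hz1, if_true, if_false, mul_neg, mul_one]
      conv_lhs => rw [hg, D.onePlus_translate hM hk]
    · have h4 : 4 ∣ orderOf g := by rw [hmulord, hij]; exact dvd_mul_left _ _
      have h1 : g ^ e₂ ≠ 1 := fun h => by rw [h, orderOf_one] at hij; norm_num at hij
      have h1' : g ^ e₂ ≠ z := fun h => by rw [h, D.hz] at hij; norm_num at hij
      simp [hξdef, signPart, h1, h1', h4]
  have hfV : IsGeneralizedCharacter V (fun v => q8One y k v) := gen_restrict V hfgen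
  by_cases hsmall : ∀ w ∈ W, w = 1 ∨ w = z
  · convert gen_mul (gen_comp pV hfV) (gen_comp pW (D.signPart_two W hsmall)) using 1
    funext b
    exact hval b
  push Not at hsmall
  obtain ⟨w₁, hw₁, hw₁1, hw₁z⟩ := hsmall
  obtain ⟨w₀, hw₀, hw₀z⟩ : ∃ w₀ ∈ W, w₀ * w₀ = z := by
    obtain ⟨i, hi⟩ := IsPGroup.iff_orderOf.1 hWp ⟨w₁, hw₁⟩
    rw [Subgroup.orderOf_mk] at hi
    obtain ⟨j, hj, hij⟩ :=
      (Nat.dvd_prime_pow Nat.prime_two).1 (show _ ∣ 2 ^ 2 from D.exp_four _ ⟨i, hi⟩)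
    interval_cases j
    · exact absurd (orderOf_eq_one_iff.1 (by simpa using hij)) hw₁1
    · exact absurd (D.uniq _ (by simpa using hij)) hw₁z
    · exact ⟨w₁, hw₁, D.uniq _ (by rw [← pow_two, orderOf_pow, hij]; rfl)⟩
  have hhalf : IsGeneralizedCharacter V (fun v => (2 : ℂ)⁻¹ * q8One y k v) := by
    haveI : Fintype V := Fintype.ofFinite _
    haveI : Fintype (Subgroup.zpowers w₀) := Fintype.ofFinite _
    let φ : V × Subgroup.zpowers w₀ →* Γ := MonoidHom.noncommCoprod V.subtype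
      (Subgroup.zpowers w₀).subtype fun v w => by
        obtain ⟨i, hi⟩ := w.2
        change Commute (v : Γ) (w : Γ)
        rw [← show w₀ ^ i = (w : Γ) from hi]
        exact (hVW _ v.2 _ hw₀).zpow_right i
    have hF : IsGeneralizedCharacter (V × Subgroup.zpowers w₀) (fun p => q8One y k (φ p)) :=
      gen_comp φ hfgen
    refine isGeneralized_iff.2 ⟨fun g h => ?_, fun η => ?_⟩
    · exact congrArg ((2 : ℂ)⁻¹ * ·) (classFun_of_gen hfV g h)
    have hη' : IsCharacter (V × Subgroup.zpowers w₀) ((η : V → ℂ) ∘ MonoidHom.fst _ _) :=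
      isCharacter_comp _ (isCharacter_of_isIrr η.2)
    obtain ⟨φ', ψ', hφ', hψ', heq⟩ := hF
    obtain ⟨n₁, hn₁⟩ := inner_char_char hφ' hη'
    obtain ⟨n₂, hn₂⟩ := inner_char_char hψ' hη'
    have hw4 : orderOf w₀ = 4 := orderOf_eq_prime_pow (p := 2) (n := 1)
      (by simpa [pow_two, hw₀z] using hz1)
      (by rw [show 2 ^ (1 + 1) = 2 * 2 from rfl, pow_mul, pow_two w₀, hw₀z, pow_two,
        invol_mul_self D.hz])
    have hfour : ∀ v : V, ∑ w : Subgroup.zpowers w₀, q8One y k (φ (v, w)) =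
        2 * q8One y k v + 4 := by
      intro v
      rw [← (finEquivZPowers (isOfFinOrder_of_finite w₀)).sum_comp]
      have hv1 : ∀ i : ℕ, i % 2 = 1 → q8One y k ((v : Γ) * w₀ ^ i) = 2 := by
        intro i hi
        refine D.onePlus_four hM hk ?_
        have hoi : orderOf (w₀ ^ i) = 4 := by
          rw [orderOf_pow, hw4]
          have : Nat.gcd 4 i = 1 := by
            have hc : Nat.Coprime (2 ^ 2) i :=
              Nat.Coprime.pow_left 2 (Nat.prime_two.coprime_iff_not_dvd.2 (by omega))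
            exact hc
          rw [this]
        have hc : Commute (v : Γ) (w₀ ^ i) := (hVW _ v.2 _ hw₀).pow_right i
        rw [hc.orderOf_mul_eq_mul_orderOf_of_coprime, hoi]
        · exact dvd_mul_left _ _
        · rw [hoi]
          exact (Nat.Coprime.pow_left 2 (Nat.prime_two.coprime_iff_not_dvd.2 (hV2 _ v.2))).symm
      have hv0 : q8One y k ((v : Γ) * w₀ ^ 2) = q8One y k v := by
        rw [pow_two, hw₀z, ← (D.cent (v : Γ)).eq, D.onePlus_translate hM hk]
      have e : ∀ i : Fin (orderOf w₀), φ (v, finEquivZPowers (isOfFinOrder_of_finite w₀) i) =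
          (v : Γ) * w₀ ^ (i : ℕ) := fun i => by
        rw [finEquivZPowers_apply]; rfl
      rw [Finset.sum_congr rfl fun i _ => congrArg (q8One y k) (e i),
        Fin.sum_univ_eq_sum_range (fun i => q8One y k ((v : Γ) * w₀ ^ i)), hw4,
        Finset.sum_range_succ, Finset.sum_range_succ, Finset.sum_range_succ, Finset.sum_range_one,
        pow_zero, mul_one, hv1 1 rfl, hv1 3 rfl, hv0]
      ring
    have hN : (Nat.card (V × Subgroup.zpowers w₀) : ℂ) = 4 * Nat.card V := by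
      rw [Nat.card_prod, Nat.card_zpowers, hw4]; push_cast; ring
    have h2 : classInner (fun p : V × Subgroup.zpowers w₀ => q8One y k (φ p))
        ((η : V → ℂ) ∘ MonoidHom.fst _ _) =
        classInner (fun v : V => (2 : ℂ)⁻¹ * q8One y k v) (η : V → ℂ) +
          classInner (fun _ : V => (1 : ℂ)) (η : V → ℂ) := by
      rw [classInner_def, classInner_def, classInner_def, hN, Fintype.sum_prod_type]
      simp only [Function.comp_apply, MonoidHom.coe_fst, ← Finset.sum_mul, hfour]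
      have := natCard_ne_zero V
      rw [Finset.mul_sum, Finset.mul_sum, Finset.mul_sum, ← Finset.sum_add_distrib]
      refine Finset.sum_congr rfl fun v _ => ?_
      field_simp
      ring
    obtain ⟨n₃, hn₃⟩ := inner_char_irr (isCharacter_one (G := V)) η.2
    refine ⟨(n₁ : ℤ) - n₂ - n₃, ?_⟩
    have h3 : classInner (fun v : V => (2 : ℂ)⁻¹ * q8One y k v) (η : V → ℂ) =
        classInner (fun p : V × Subgroup.zpowers w₀ => q8One y k (φ p))
          ((η : V → ℂ) ∘ MonoidHom.fst _ _) - classInner (fun _ : V => (1 : ℂ)) (η : V → ℂ) := by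
      rw [h2]; ring
    rw [h3, heq, classInner_sub_left, hn₁, hn₂, hn₃]
    push_cast
    ring
  -- move `W` into the Sylow subgroup
  obtain ⟨R, hR⟩ := hWp.exists_le_sylow
  obtain ⟨t, rfl⟩ := MulAction.exists_smul_eq Γ P R
  have hWP : ∀ w ∈ W, t⁻¹ * w * t ∈ (P : Subgroup Γ) := fun w hw => by
    have h2 := hR hw
    change w ∈ (P : Subgroup Γ).map (MulAut.conj t).toMonoidHom at h2
    obtain ⟨p, hp, rfl⟩ := Subgroup.mem_map.1 h2
    simpa [MulAut.conj_apply, mul_assoc] using hp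
  let f : W →* (P : Subgroup Γ) :=
    { toFun := fun w => ⟨t⁻¹ * w * t, hWP w w.2⟩
      map_one' := Subtype.ext (by simp)
      map_mul' := fun a b => Subtype.ext (by simp [mul_assoc]) }
  have h2W : IsGeneralizedCharacter W (fun w => 2 * signPart z (w : Γ)) := by
    convert gen_comp f D.signPart_sylow using 1
    funext w
    have := D.classFun_signPart (w : Γ) t⁻¹
    rw [inv_inv] at this
    exact congrArg (2 * ·) this.symm
  convert gen_mul (gen_comp pV hhalf) (gen_comp pW h2W) using 1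
  funext b
  rw [hval b]
  simp only [Pi.mul_apply]
  ring

end Q8Data

end CfsgLib.Blk
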