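import Cfsg.Agent.Blk.NormalP
import Cfsg.Agent.Blk.Criterion
import Cfsg.Agent.Blk.Bounds
import Cfsg.Agent.Blk.ZStarQ8C
import Cfsg.Agent.Char.Clifford

/-!
Characters of a group `G = P C(P)` supported on the sections of the normal `p`-subgroup `P`.
-/

set_option autoImplicit false
set_option linter.style.haveILetI false
set_option linter.unusedSectionVars false

namespace CfsgLib.Blk

open Cfsg CfsgLib.Char MonoidAlgebra Finset
open scoped ComplexConjugate

universe u

section pp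

variable {G : Type u} [Group G] [Finite G] (p : ℕ) [Fact p.Prime]

/-- The `p`-part of an element. -/
noncomputable def ppOf (g : G) : G := (exists_isPPart (Fact.out : p.Prime) g).choose

theorem ppOf_spec (g : G) : IsPPart p g (ppOf p g) :=
  (exists_isPPart (Fact.out : p.Prime) g).choose_spec

variable {p} in
theorem ppOf_eq {g x : G} (h : IsPPart p g x) : ppOf p g = x :=
  isPPart_unique Fact.out (ppOf_spec p g) h

theorem ppOf_conj (g h : G) : ppOf p (h * g * h⁻¹) = h * ppOf p g * h⁻¹ :=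
  ppOf_eq (isPPart_conj (ppOf_spec p g) h)

theorem ppOf_inv_mul_regular (g : G) : ¬ p ∣ orderOf ((ppOf p g)⁻¹ * g) := by
  obtain ⟨s, hs, -, -, hs'⟩ := ppOf_spec p g
  generalize ppOf p g = y at hs
  rw [← hs, inv_mul_cancel_left]; exact hs'

end pp

/-- The function `ζ(y) χ(x)` on the elements `y x` with `p`-part `y` in `P`. -/
noncomputable def secFun {G : Type u} [Group G] [Finite G] (p : ℕ) [Fact p.Prime] (P : Subgroup G)
    (χ : G → ℂ) (ζ : P → ℂ) (g : G) : ℂ := by
  classical exact if h : ppOf p g ∈ P then ζ ⟨_, h⟩ * χ ((ppOf p g)⁻¹ * g) else 0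

variable {G : Type u} [Group G] [Finite G] {M : Ideal AlgInt} [M.IsPrime] {p : ℕ} [Fact p.Prime]
variable {P : Subgroup G}

theorem sec_index (hP : IsPGroup p P) [P.Normal] (hG : P ⊔ Subgroup.centralizer (P : Set G) = ⊤) :
    ∃ k : ℕ, (Subgroup.centralizer (P : Set G)).index = p ^ k := by
  have hs : Function.Surjective
      ((QuotientGroup.mk' (Subgroup.centralizer (P : Set G))).comp P.subtype) := by
    intro x
    obtain ⟨g, rfl⟩ := QuotientGroup.mk'_surjective _ x
    obtain ⟨y, hy, c, hc, rfl⟩ := Subgroup.mem_sup_of_normal_left.1 (hG ▸ Subgroup.mem_top g :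
      g ∈ P ⊔ Subgroup.centralizer (P : Set G))
    refine ⟨⟨y, hy⟩, ?_⟩
    rw [map_mul, MonoidHom.comp_apply, Subgroup.coe_subtype]
    rw [show QuotientGroup.mk' (Subgroup.centralizer (P : Set G)) c = 1 from
      (QuotientGroup.eq_one_iff c).2 hc, mul_one]
  obtain ⟨k, hk⟩ := IsPGroup.iff_card.1 (hP.of_surjective _ hs)
  exact ⟨k, hk⟩

theorem sec_inner (hG : P ⊔ Subgroup.centralizer (P : Set G) = ⊤) [P.Normal] {ζ : P → ℂ}
    (hζ : IsClassFunction P ζ) (c : G) (y : P) (hy : c * (y : G) * c⁻¹ ∈ P) :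
    ζ ⟨c * (y : G) * c⁻¹, hy⟩ = ζ y := by
  obtain ⟨u, hu, w, hw, rfl⟩ := Subgroup.mem_sup_of_normal_left.1 (hG ▸ Subgroup.mem_top c :
    c ∈ P ⊔ Subgroup.centralizer (P : Set G))
  have e : u * w * (y : G) * (u * w)⁻¹ = u * (y : G) * u⁻¹ := by
    rw [mul_inv_rev, mul_assoc u w, ← hw (y : G) y.2]; group
  rw [show (⟨u * w * (y : G) * (u * w)⁻¹, hy⟩ : P) = ⟨u, hu⟩ * y * ⟨u, hu⟩⁻¹ from Subtype.ext e]
  exact hζ y ⟨u, hu⟩

theorem sec_pElem (hP : IsPGroup p P) (y : P) : ∃ k : ℕ, orderOf (y : G) = p ^ k := by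
  obtain ⟨k, hk⟩ := IsPGroup.iff_orderOf.1 hP y
  exact ⟨k, by rw [Subgroup.orderOf_coe, hk]⟩

variable [P.Normal] (hP : IsPGroup p P) (hG : P ⊔ Subgroup.centralizer (P : Set G) = ⊤)
include hP hG

theorem sec_commute (y : P) {x : G} (hx : ¬ p ∣ orderOf x) : Commute (y : G) x :=
  regular_mem_centralizer P (sec_index hP hG) hx _ y.2

theorem secFun_mul (χ : G → ℂ) (ζ : P → ℂ) (y : P) {x : G} (hx : ¬ p ∣ orderOf x) :
    secFun p P χ ζ ((y : G) * x) = ζ y * χ x := by
  classical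
  have h := ppOf_eq (isPPart_mul (sec_pElem hP y) hx (sec_commute hP hG y hx))
  have hm : ppOf p ((y : G) * x) ∈ P := by rw [h]; exact y.2
  rw [secFun, dif_pos hm]
  simp only [h, Subtype.coe_eta, inv_mul_cancel_left]

omit hP hG in
theorem secFun_out (χ : G → ℂ) (ζ : P → ℂ) {g : G} (hg : ppOf p g ∉ P) :
    secFun p P χ ζ g = 0 := by
  classical
  rw [secFun, dif_neg hg]

omit hP in
theorem classFun_secFun {χ : G → ℂ} (hχ : IsClassFunction G χ) {ζ : P → ℂ}
    (hζ : IsClassFunction P ζ) : IsClassFunction G (secFun p P χ ζ) := by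
  classical
  intro g h
  have hiff : ppOf p (h * g * h⁻¹) ∈ P ↔ ppOf p g ∈ P := by
    rw [ppOf_conj]
    refine ⟨fun hh => ?_, fun hh => (inferInstance : P.Normal).conj_mem _ hh h⟩
    simpa [mul_assoc] using (inferInstance : P.Normal).conj_mem _ hh h⁻¹
  by_cases hg : ppOf p g ∈ P
  · rw [secFun, secFun, dif_pos (hiff.2 hg), dif_pos hg]
    congr 1
    · rw [← sec_inner hG hζ h ⟨_, hg⟩ ((inferInstance : P.Normal).conj_mem _ hg h)]
      congr 1
      exact Subtype.ext (ppOf_conj p g h)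
    · rw [ppOf_conj, show (h * ppOf p g * h⁻¹)⁻¹ * (h * g * h⁻¹) =
        h * ((ppOf p g)⁻¹ * g) * h⁻¹ by group]
      exact hχ _ h
  · rw [secFun_out χ ζ hg, secFun_out χ ζ (fun h' => hg (hiff.1 h'))]

open Classical in
theorem sum_sections [Fintype G] [Fintype P] (F : G → ℂ) :
    ∑ g : G, (if ppOf p g ∈ P then F g else 0) =
      ∑ y : P, ∑ x : G, (if p ∣ orderOf x then 0 else F ((y : G) * x)) := by
  classical
  rw [← Finset.sum_filter, ← Fintype.sum_prod_type' (f := fun (y : P) (x : G) =>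
    if p ∣ orderOf x then (0 : ℂ) else F ((y : G) * x))]
  rw [Finset.sum_congr rfl (g := fun q : P × G => if ¬ p ∣ orderOf q.2 then F ((q.1 : G) * q.2) else 0)
    (fun q _ => by by_cases h : p ∣ orderOf q.2 <;> simp [h]), ← Finset.sum_filter]
  symm
  refine Finset.sum_bij' (fun q _ => (q.1 : G) * q.2)
    (fun g hg => (⟨ppOf p g, (Finset.mem_filter.1 hg).2⟩, (ppOf p g)⁻¹ * g))
    (fun q hq => ?_) (fun g hg => ?_) (fun q hq => ?_) (fun g hg => ?_) (fun q hq => rfl)
  · have h := (Finset.mem_filter.1 hq).2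
    refine Finset.mem_filter.2 ⟨Finset.mem_univ _, ?_⟩
    rw [ppOf_eq (isPPart_mul (sec_pElem hP q.1) h (sec_commute hP hG q.1 h))]
    exact q.1.2
  · exact Finset.mem_filter.2 ⟨Finset.mem_univ _, ppOf_inv_mul_regular p g⟩
  · have h := (Finset.mem_filter.1 hq).2
    have e := ppOf_eq (isPPart_mul (sec_pElem hP q.1) h (sec_commute hP hG q.1 h))
    refine Prod.ext (Subtype.ext e) ?_
    simp only [e, inv_mul_cancel_left]
  · simp

/-- Inner products with a function supported on the sections. -/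
theorem inner_secFun [Fintype G] [Fintype P] (ψ : G → ℂ) (χ : G → ℂ) (ζ : P → ℂ) :
    classInner ψ (secFun p P χ ζ) = (Nat.card G : ℂ)⁻¹ *
      ∑ y : P, conj (ζ y) *
        ∑ x : G, (if p ∣ orderOf x then 0 else ψ ((y : G) * x) * conj (χ x)) := by
  classical
  rw [classInner_def]
  congr 1
  have e : ∀ g, ψ g * conj (secFun p P χ ζ g) =
      if ppOf p g ∈ P then ψ g * conj (secFun p P χ ζ g) else 0 := fun g => by
    split_ifs with h
    · rfl
    · rw [secFun_out χ ζ h, map_zero, mul_zero]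
  rw [Finset.sum_congr rfl fun g _ => e g, sum_sections hP hG]
  refine Finset.sum_congr rfl fun y _ => ?_
  rw [Finset.mul_sum]
  refine Finset.sum_congr rfl fun x _ => ?_
  split_ifs with hx
  · simp
  · rw [secFun_mul hP hG χ ζ y hx, map_mul]; ring

/-- Divisibility of the values at `p'`-elements. -/
theorem sec_value_div (hM : IsPModular p M) (χ : IrrCharacter G)
    (hdeg : (charDegree (χ : G → ℂ)).factorization p = P.index.factorization p)
    {v : G} (hv : ¬ p ∣ orderOf v) {W : Subgroup G} (hW : IsPGroup p W)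
    (hWv : W ≤ Subgroup.centralizer ({v} : Set G)) :
    ((P.relIndex W : ℕ) : ℂ)⁻¹ * (χ : G → ℂ) v ∈ locRing M := by
  have hp : p.Prime := Fact.out
  have hPv : P ≤ Subgroup.centralizer ({v} : Set G) := fun y hy =>
    Subgroup.mem_centralizer_singleton_iff.2 (sec_commute hP hG ⟨y, hy⟩ hv).eq
  obtain ⟨t, ht⟩ : P.relIndex W * Nat.card P ∣ Nat.card (Subgroup.centralizer ({v} : Set G)) := by
    have h : Nat.card (W ⊔ P : Subgroup G) = P.relIndex W * Nat.card P := by
      rw [← Subgroup.relIndex_sup_right W P, ← Subgroup.card_mul_index (P.subgroupOf (W ⊔ P)),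
        Nat.card_congr (Subgroup.subgroupOfEquivOfLe le_sup_right).toEquiv, mul_comm]
      rfl
    rw [← h]
    exact Subgroup.card_dvd_of_le (sup_le hWv hPv)
  obtain ⟨n, hn, hnp⟩ : ∃ n, charDegree (χ : G → ℂ) =
      p ^ (P.index.factorization p) * n ∧ ¬ p ∣ n :=
    ⟨charDegree (χ : G → ℂ) / p ^ (P.index.factorization p),
      by rw [← hdeg, Nat.mul_div_cancel' (Nat.ordProj_dvd _ _)],
      by rw [← hdeg]; exact Nat.not_dvd_ordCompl hp (charDegree_pos χ.2).ne'⟩
  obtain ⟨m, hm, hmp⟩ : ∃ m, P.index = p ^ (P.index.factorization p) * m ∧ ¬ p ∣ m :=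
    ⟨P.index / p ^ (P.index.factorization p), (Nat.mul_div_cancel' (Nat.ordProj_dvd _ _)).symm,
      Nat.not_dvd_ordCompl hp Subgroup.index_ne_zero_of_finite⟩
  have hunit : ((n : ℂ) * (m : ℂ)⁻¹) ∈ locRing M :=
    mul_mem (natCast_mem _ n) (natCast_inv_mem hM hmp)
  have hrel : ((P.relIndex W : ℕ) : ℂ) ≠ 0 := Nat.cast_ne_zero.2 Subgroup.index_ne_zero_of_finite
  have key : ((P.relIndex W : ℕ) : ℂ)⁻¹ * (χ : G → ℂ) v =
      centralChar (χ : G → ℂ) v * (t : ℂ) * ((n : ℂ) * (m : ℂ)⁻¹) := by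
    have h1 : (Nat.card (Subgroup.centralizer ({v} : Set G)) : ℂ) *
        (Subgroup.centralizer ({v} : Set G)).index = (Nat.card P : ℂ) * P.index := by
      exact_mod_cast (Subgroup.card_mul_index _).trans (Subgroup.card_mul_index P).symm
    rw [ht, hm] at h1
    push_cast at h1
    have hd : (χ : G → ℂ) 1 = (p : ℂ) ^ (P.index.factorization p) * (n : ℂ) := by
      rw [irr_one_eq χ.2, hn]; push_cast; rfl
    have hm0 : (m : ℂ) ≠ 0 := natCast_ne_zero_of_not_dvd hmp
    have hn0 : (n : ℂ) ≠ 0 := natCast_ne_zero_of_not_dvd hnp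
    have hP0 : (Nat.card P : ℂ) ≠ 0 := natCard_ne_zero P
    have hpp : ((p : ℂ) ^ (P.index.factorization p)) ≠ 0 := pow_ne_zero _ prime_cast_ne_zero
    have h2 : ((P.relIndex W : ℕ) : ℂ) * (t : ℂ) *
        ((Subgroup.centralizer ({v} : Set G)).index : ℂ) =
        (p : ℂ) ^ (P.index.factorization p) * m := by
      refine mul_left_cancel₀ hP0 ?_
      linear_combination h1
    rw [centralChar, hd]
    field_simp
    linear_combination -(χ : G → ℂ) v * h2
  rw [key]
  exact mul_mem (mul_mem (centralChar_mem χ.2 v) (natCast_mem _ t)) hunit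

/-- The functions `secFun` are generalised characters. -/
theorem gen_secFun (hM : IsPModular p M) [Fintype G] [Fintype P] (χ : IrrCharacter G)
    (hdeg : (charDegree (χ : G → ℂ)).factorization p = P.index.factorization p)
    {ζ : P → ℂ} (hζ : IsGeneralizedCharacter P ζ) :
    IsGeneralizedCharacter G (secFun p P (χ : G → ℂ) ζ) := by
  classical
  have hp : p.Prime := Fact.out
  refine isGeneralized_of_restrict (classFun_secFun hG (classFun_of_irr χ.2) (classFun_of_gen hζ))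
    fun r hr x Q hxr hQ hQC => ?_
  set E := Subgroup.zpowers x ⊔ Q with hE
  obtain ⟨a, m, hm, hcard⟩ :=
    Nat.exists_eq_pow_mul_and_not_dvd (Nat.card_pos (α := G)).ne' p hp.ne_one
  have hco : (p ^ a).Coprime m := Nat.Coprime.pow_left a (hp.coprime_iff_not_dvd.2 hm)
  obtain ⟨e₂, he21, he20⟩ := exists_exponent hp a m hm
  obtain ⟨e₁, he11, he10⟩ : ∃ e : ℕ, e ≡ 1 [MOD m] ∧ e ≡ 0 [MOD p ^ a] :=
    ⟨_, (Nat.chineseRemainder hco.symm 1 0).2.1, (Nat.chineseRemainder hco.symm 1 0).2.2⟩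
  have hsplit : ∀ g : G, g ^ e₁ * g ^ e₂ = g := by
    intro g
    rw [← pow_add]
    conv_rhs => rw [← pow_one g]
    rw [pow_eq_pow_iff_modEq]
    refine Nat.ModEq.of_dvd (hcard ▸ orderOf_dvd_natCard g) ?_
    rw [← Nat.modEq_and_modEq_iff_modEq_mul hco]
    exact ⟨by simpa using he10.add he21, by simpa using he11.add he20⟩
  have hord₁ : ∀ g : G, ¬ p ∣ orderOf (g ^ e₁) := by
    intro g h
    refine hm (h.trans (orderOf_dvd_of_pow_eq_one ?_))
    obtain ⟨d, hd⟩ := Nat.modEq_zero_iff_dvd.1 he10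
    rw [← pow_mul, hd, mul_right_comm, pow_mul, ← hcard, pow_card_eq_one', one_pow]
  have hord₂ : ∀ g : G, ∃ i : ℕ, orderOf (g ^ e₂) = p ^ i := by
    intro g
    obtain ⟨d, hd⟩ := Nat.modEq_zero_iff_dvd.1 he20
    have h1 : (g ^ e₂) ^ p ^ a = 1 := by
      rw [← pow_mul, hd, mul_comm m d, mul_assoc, mul_comm d, pow_mul, mul_comm m, ← hcard,
        pow_card_eq_one', one_pow]
    obtain ⟨i, -, hi⟩ := (Nat.dvd_prime_pow hp).1 (orderOf_dvd_of_pow_eq_one h1)
    exact ⟨i, hi⟩
  have hpp : ∀ g : G, ppOf p g = g ^ e₂ := fun g =>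
    ppOf_eq ⟨g ^ e₁, by rw [((Commute.refl g).pow_pow e₂ e₁).eq, hsplit],
      (Commute.refl g).pow_pow e₂ e₁, hord₂ g, hord₁ g⟩
  have hQord : ∀ q ∈ Q, ∃ i : ℕ, orderOf q = r ^ i := by
    haveI : Fact r.Prime := ⟨hr⟩
    intro q hq
    obtain ⟨i, hi⟩ := IsPGroup.iff_orderOf.1 hQ ⟨q, hq⟩
    exact ⟨i, by rw [← hi, Subgroup.orderOf_mk]⟩
  have hkill : ((∀ q ∈ Q, q ^ e₁ = 1) ∧ ∀ q ∈ Q, q ^ e₂ = q) ∨
      ((∀ q ∈ Q, q ^ e₁ = q) ∧ ∀ q ∈ Q, q ^ e₂ = 1) := by
    by_cases h2 : r = p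
    · left
      subst h2
      have hdiv : ∀ q ∈ Q, orderOf q ∣ r ^ a := fun q hq => by
        obtain ⟨i, hi⟩ := hQord q hq
        have h := hcard ▸ orderOf_dvd_natCard q
        rw [hi] at h ⊢
        exact (Nat.Coprime.pow_left i (hp.coprime_iff_not_dvd.2 hm)).dvd_of_dvd_mul_right h
      refine ⟨fun q hq => ?_, fun q hq => ?_⟩
      · rw [← pow_zero q, pow_eq_pow_iff_modEq]; exact he10.of_dvd (hdiv q hq)
      · conv_rhs => rw [← pow_one q]
        rw [pow_eq_pow_iff_modEq]; exact he21.of_dvd (hdiv q hq)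
    · right
      have hdiv : ∀ q ∈ Q, orderOf q ∣ m := fun q hq => by
        obtain ⟨i, hi⟩ := hQord q hq
        have h := hcard ▸ orderOf_dvd_natCard q
        rw [hi] at h ⊢
        exact (Nat.Coprime.pow i a ((Nat.coprime_primes hr hp).2 h2)).dvd_of_dvd_mul_left h
      refine ⟨fun q hq => ?_, fun q hq => ?_⟩
      · conv_rhs => rw [← pow_one q]
        rw [pow_eq_pow_iff_modEq]; exact he11.of_dvd (hdiv q hq)
      · rw [← pow_zero q, pow_eq_pow_iff_modEq]; exact he20.of_dvd (hdiv q hq)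
  let π₁ : E →* E :=
    { toFun := fun b => b ^ e₁
      map_one' := one_pow _
      map_mul' := fun b c => Subtype.ext (mul_pow_of_central_sup hQC
        (hkill.imp (fun h => h.1) fun h => h.1) b.2 c.2) }
  let π₂ : E →* E :=
    { toFun := fun b => b ^ e₂
      map_one' := one_pow _
      map_mul' := fun b c => Subtype.ext (mul_pow_of_central_sup hQC
        (hkill.symm.imp (fun h => h.2) fun h => h.2) b.2 c.2) }
  have hπ₁ : ∀ b : E, ((π₁ b : E) : G) = (b : G) ^ e₁ := fun b => rfl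
  have hπ₂ : ∀ b : E, ((π₂ b : E) : G) = (b : G) ^ e₂ := fun b => rfl
  -- the two projections commute
  have hcommπ : ∀ b c : E, Commute ((b : G) ^ e₁) ((c : G) ^ e₂) := by
    intro b c
    have hcx : ∀ d ∈ E, Commute x d := by
      intro d hd
      have h1 : E ≤ Subgroup.centralizer ({x} : Set G) :=
        sup_le (Subgroup.zpowers_le.2 (Subgroup.mem_centralizer_singleton_iff.2 rfl)) hQC
      exact (Subgroup.mem_centralizer_singleton_iff.1 (h1 hd)).symm
    have key : ∀ e : ℕ, (∀ q ∈ Q, q ^ e = 1) → ∀ d ∈ E, d ^ e ∈ Subgroup.zpowers x := by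
      intro e he d hd
      have hmul := fun {u v : G} hu hv => mul_pow_of_central_sup (a := u) (b := v) hQC (Or.inl he) hu hv
      rw [hE, Subgroup.sup_eq_closure] at hd
      induction hd using Subgroup.closure_induction with
      | mem d hd =>
        rcases hd with hd | hd
        · exact pow_mem hd e
        · rw [he d hd]; exact one_mem _
      | one => rw [one_pow]; exact one_mem _
      | mul d d' hd₀ hd₀' h₁ h₁' =>
        rw [hmul (by rw [Subgroup.sup_eq_closure]; exact hd₀) (by rw [Subgroup.sup_eq_closure]; exact hd₀')]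
        exact mul_mem h₁ h₁'
      | inv d _ h₁ => rw [inv_pow]; exact inv_mem h₁
    rcases hkill with h | h
    · obtain ⟨i, hi⟩ := key e₁ h.1 b b.2
      rw [← show x ^ i = (b : G) ^ e₁ from hi]
      exact (hcx _ (pow_mem c.2 e₂)).zpow_left i
    · obtain ⟨i, hi⟩ := key e₂ h.2 c c.2
      rw [← show x ^ i = (c : G) ^ e₂ from hi]
      exact ((hcx _ (pow_mem b.2 e₁)).zpow_left i).symm
  set W : Subgroup G := π₂.range.map E.subtype with hWdef
  set V : Subgroup G := π₁.range.map E.subtype with hVdef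
  have hVmem : ∀ b : E, (b : G) ^ e₁ ∈ V := fun b => ⟨π₁ b, ⟨b, rfl⟩, rfl⟩
  have hVE : V ≤ E := Subgroup.map_subtype_le _
  have hWE : W ≤ E := Subgroup.map_subtype_le _
  let pV : E →* V :=
    { toFun := fun b => ⟨(b : G) ^ e₁, hVmem b⟩
      map_one' := Subtype.ext (one_pow _)
      map_mul' := fun b c => Subtype.ext (mul_pow_of_central_sup hQC
        (hkill.imp (fun h => h.1) fun h => h.1) b.2 c.2) }
  have hV' : ∀ v ∈ V, ¬ p ∣ orderOf v ∧ ∃ b : E, (b : G) ^ e₁ = v := by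
    rintro v ⟨_, ⟨b, rfl⟩, rfl⟩; exact ⟨hord₁ (b : G), b, rfl⟩
  have hW' : ∀ w ∈ W, (∃ i, orderOf w = p ^ i) ∧ ∃ b : E, (b : G) ^ e₂ = w := by
    rintro w ⟨_, ⟨b, rfl⟩, rfl⟩; exact ⟨hord₂ (b : G), b, rfl⟩
  have hWp : IsPGroup p W := IsPGroup.iff_orderOf.2 fun w => by
    obtain ⟨i, hi⟩ := (hW' w w.2).1
    exact ⟨i, by rw [← Subgroup.orderOf_coe, hi]⟩
  -- the inverse image of `P`
  set E₁ : Subgroup E := (P.subgroupOf E).comap π₂ with hE₁def
  haveI : Fintype E₁ := Fintype.ofFinite _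
  haveI : Fintype V := Fintype.ofFinite _
  haveI : Fintype E := Fintype.ofFinite _
  have hE₁mem : ∀ b : E, b ∈ E₁ ↔ ppOf p (b : G) ∈ P := fun b => by
    rw [hE₁def, Subgroup.mem_comap, Subgroup.mem_subgroupOf, hπ₂, hpp]
  haveI : E₁.Normal := by
    rw [hE₁def]; infer_instance
  set n : ℕ := E₁.index with hndef
  have hn0 : (n : ℂ) ≠ 0 := Nat.cast_ne_zero.2 Subgroup.index_ne_zero_of_finite
  have hnW : n = P.relIndex W := by
    rw [hndef, hE₁def, Subgroup.index_comap, hWdef]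
    conv_rhs => rw [← Subgroup.relIndex_comap]
    rfl
  -- the function on the `p'`-part
  obtain ⟨φ, hφdef⟩ : ∃ φ : V → ℂ, ∀ v, φ v = (n : ℂ)⁻¹ * (χ : G → ℂ) v := ⟨_, fun _ => rfl⟩
  have hres := isCharacter_restrict V (isCharacter_of_isIrr χ.2)
  have hφ : IsGeneralizedCharacter V φ := by
    refine isGeneralized_iff.2 ⟨fun g h => ?_, fun η => ?_⟩
    · rw [hφdef, hφdef]; exact congrArg ((n : ℂ)⁻¹ * ·) (classFun_of_char hres g h)
    obtain ⟨k, hk⟩ := inner_char_char hres (isCharacter_of_isIrr η.2)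
    rw [classInner_def] at hk
    have hloc : ∀ v : V, (n : ℂ)⁻¹ * (χ : G → ℂ) v * conj ((η : V → ℂ) v) ∈ locRing M := by
      intro v
      refine mul_mem ?_ (conj_irr_mem η v)
      rw [hnW]
      refine sec_value_div hP hG hM χ hdeg (hV' v v.2).1 hWp fun w hw => ?_
      obtain ⟨b, hb⟩ := (hV' v v.2).2
      obtain ⟨c, hc⟩ := (hW' w hw).2
      rw [← hb, ← hc]
      exact Subgroup.mem_centralizer_singleton_iff.2 (hcommπ b c).symm.eq
    have hVcard : ¬ p ∣ Nat.card V := fun h => by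
      obtain ⟨v, hv⟩ := exists_prime_orderOf_dvd_card' (G := V) p h
      exact (hV' v v.2).1 (by rw [Subgroup.orderOf_coe, hv])
    obtain ⟨j, hj⟩ : ∃ j, n = p ^ j := by
      rw [hnW, Subgroup.relIndex]
      obtain ⟨i, hi⟩ := IsPGroup.iff_card.1 hWp
      obtain ⟨j, -, hj⟩ := (Nat.dvd_prime_pow hp).1 (hi ▸ (P.subgroupOf W).index_dvd_card)
      exact ⟨j, hj⟩
    have hmemk : (n : ℂ)⁻¹ * (k : ℂ) ∈ locRing M := by
      rw [← hk, mul_left_comm, Finset.mul_sum]
      refine mul_mem (natCast_inv_mem hM hVcard) (sum_mem fun v _ => ?_)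
      rw [← mul_assoc]; exact hloc v
    have hdvd : (p : ℤ) ^ j ∣ (k : ℤ) := by
      refine pow_dvd_of_eq hM hmemk ?_
      rw [hj]
      push_cast
      field_simp [prime_cast_ne_zero (p := p)]
    obtain ⟨q, hq⟩ := hdvd
    refine ⟨q, ?_⟩
    rw [classInner_def]
    have e : ∑ v : V, φ v * conj ((η : V → ℂ) v) =
        (n : ℂ)⁻¹ * ∑ v : V, (χ : G → ℂ) v * conj ((η : V → ℂ) v) := by
      rw [Finset.mul_sum]
      exact Finset.sum_congr rfl fun v _ => by rw [hφdef]; ring
    rw [e, mul_left_comm, hk]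
    have hq' : (k : ℂ) = (n : ℂ) * (q : ℂ) := by
      rw [hj]
      have := congrArg (fun z : ℤ => (z : ℂ)) hq
      push_cast at this
      rw [this]; push_cast; ring
    rw [hq', inv_mul_cancel_left₀ hn0]
  -- the function on `E₁`
  let pW : E₁ →* P :=
    { toFun := fun b => ⟨((π₂ b.1 : E) : G), Subgroup.mem_subgroupOf.1 b.2⟩
      map_one' := Subtype.ext (by simp)
      map_mul' := fun b c => Subtype.ext (by simp) }
  obtain ⟨h, hhdef⟩ : ∃ h : E₁ → ℂ, ∀ b, h b = ζ (pW b) * φ (pV b.1) := ⟨_, fun _ => rfl⟩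
  have hh : IsGeneralizedCharacter E₁ h := by
    convert gen_mul (gen_comp pW hζ) (gen_comp (pV.comp E₁.subtype) hφ) using 1
    funext b
    exact hhdef b
  have hval : ∀ b : E₁, secFun p P (χ : G → ℂ) ζ ((b : E) : G) = (n : ℂ) * h b := by
    intro b
    set g : G := ((b : E) : G) with hg
    have hy : g ^ e₂ ∈ P := Subgroup.mem_subgroupOf.1 b.2
    have hs : g = (g ^ e₂) * (g ^ e₁) := by
      rw [((Commute.refl g).pow_pow e₂ e₁).eq, hsplit]
    conv_lhs => rw [hs]
    rw [show g ^ e₂ * g ^ e₁ = ((⟨_, hy⟩ : P) : G) * g ^ e₁ from rfl,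
      secFun_mul hP hG _ ζ ⟨_, hy⟩ (hord₁ g), hhdef, hφdef, ← mul_assoc, mul_comm _ (ζ (pW b)),
      mul_assoc (ζ (pW b)), mul_inv_cancel_left₀ hn0]
    rfl
  convert gen_indFun E₁ hh using 1
  funext b
  by_cases hb : b ∈ E₁
  swap
  · rw [indFun_outside h hb]
    exact secFun_out _ ζ fun h' => hb ((hE₁mem b).2 h')
  have hterm : ∀ c : E, extendByZero E₁ h (c⁻¹ * b * c) =
      (n : ℂ)⁻¹ * secFun p P (χ : G → ℂ) ζ (b : G) := by
    intro c
    have hcb : c⁻¹ * b * c ∈ E₁ := by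
      simpa using (inferInstance : E₁.Normal).conj_mem b hb c⁻¹
    rw [extendByZero_mem' E₁ h hcb]
    have := hval ⟨_, hcb⟩
    simp only [Subgroup.coe_mul, Subgroup.coe_inv] at this
    have hcf := classFun_secFun (p := p) hG (classFun_of_irr χ.2) (classFun_of_gen hζ) (b : G) (c : G)⁻¹
    rw [inv_inv] at hcf
    rw [hcf] at this
    rw [this, inv_mul_cancel_left₀ hn0]
  rw [indFun_apply, Finset.sum_congr rfl fun c _ => hterm c, Finset.sum_const, Finset.card_univ,
    ← Nat.card_eq_fintype_card, nsmul_eq_mul, ← Subgroup.card_mul_index E₁, ← hndef]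
  have := natCard_ne_zero E₁
  push_cast
  field_simp

end CfsgLib.Blk

namespace CfsgLib.Blk

open Cfsg CfsgLib.Char MonoidAlgebra Finset
open scoped ComplexConjugate

universe v

variable {G : Type v} [Group G] [Finite G] {M : Ideal AlgInt} [M.IsPrime] {p : ℕ} [Fact p.Prime]
variable {P : Subgroup G} [P.Normal] (hP : IsPGroup p P)
  (hG : P ⊔ Subgroup.centralizer (P : Set G) = ⊤)
include hP hG

/-- A character with the sections rule vanishes off the sections; its regular norm. -/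
theorem sec_norm (hM : IsPModular p M) [Fintype G] [Fintype P] (χ : IrrCharacter G)
    (hdeg : (charDegree (χ : G → ℂ)).factorization p = P.index.factorization p)
    (η : IrrCharacter P)
    (hχη : ∀ (y : P) (x : G), ¬ p ∣ orderOf x →
      (χ : G → ℂ) ((y : G) * x) = (η : P → ℂ) y * (χ : G → ℂ) x) :
    (∀ g, ppOf p g ∉ P → (χ : G → ℂ) g = 0) ∧
    ∑ x : G, (if p ∣ orderOf x then 0 else (χ : G → ℂ) x * conj ((χ : G → ℂ) x)) =
      (Nat.card G : ℂ) / (Nat.card P : ℂ) := by
  classical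
  set f := secFun p P (χ : G → ℂ) (η : P → ℂ) with hf
  have hgen : IsGeneralizedCharacter G f :=
    gen_secFun hP hG hM χ hdeg (gen_of_char (isCharacter_of_isIrr η.2))
  have hfg : ∀ g, ppOf p g ∈ P → f g = (χ : G → ℂ) g := by
    intro g hg
    have h := hχη ⟨_, hg⟩ _ (ppOf_inv_mul_regular p g)
    have h2 := secFun_mul hP hG (χ : G → ℂ) (η : P → ℂ) ⟨_, hg⟩ (ppOf_inv_mul_regular p g)
    simp only [mul_inv_cancel_left] at h h2
    rw [hf, h2, h]
  have h1f : f 1 = (χ : G → ℂ) 1 := hfg 1 (by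
    rw [ppOf_eq (isPPart_one_of_regular (by simpa using (Fact.out : p.Prime).ne_one))]
    exact P.one_mem)
  -- the inner product with `χ`
  obtain ⟨c, hc⟩ := (isGeneralized_iff.1 hgen).2 χ
  obtain ⟨R, hR⟩ : ∃ R : ℝ, R = ∑ g : G, (if ppOf p g ∈ P then ‖(χ : G → ℂ) g‖ ^ 2 else 0) :=
    ⟨_, rfl⟩
  have hc' : (c : ℂ) * (Nat.card G : ℂ) = (R : ℂ) := by
    rw [← hc, classInner_def, mul_comm, mul_inv_cancel_left₀ (natCard_ne_zero G), hR,
      Complex.ofReal_sum]
    refine Finset.sum_congr rfl fun g _ => ?_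
    split_ifs with h
    · rw [hfg g h, Complex.mul_conj', Complex.ofReal_pow]
    · rw [hf, secFun_out _ _ h, zero_mul, Complex.ofReal_zero]
  have hc'' : (c : ℝ) * (Nat.card G : ℝ) = R := by exact_mod_cast hc'
  have hall : ∑ g : G, ‖(χ : G → ℂ) g‖ ^ 2 = (Nat.card G : ℝ) := by
    have h := irr_inner_self χ.2
    rw [classInner_def, inv_mul_eq_iff_eq_mul₀ (natCard_ne_zero G), mul_one] at h
    apply Complex.ofReal_injective
    rw [Complex.ofReal_sum, Complex.ofReal_natCast, ← h]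
    exact Finset.sum_congr rfl fun g _ => by rw [Complex.mul_conj', Complex.ofReal_pow]
  have hle : R ≤ (Nat.card G : ℝ) := by
    rw [hR, ← hall]
    exact Finset.sum_le_sum fun g _ => by split_ifs <;> [exact le_rfl; exact sq_nonneg _]
  have hN : (0 : ℝ) < (Nat.card G : ℝ) := by exact_mod_cast Nat.card_pos
  have hpos : 0 < R := by
    rw [hR]
    refine Finset.sum_pos' (fun g _ => by split_ifs <;> [exact sq_nonneg _; exact le_rfl])
      ⟨1, Finset.mem_univ _, ?_⟩
    rw [if_pos (by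
      rw [ppOf_eq (isPPart_one_of_regular (by simpa using (Fact.out : p.Prime).ne_one))]
      exact P.one_mem)]
    exact pow_pos (norm_pos_iff.2 (irr_one_ne_zero χ.2)) 2
  have hc1 : c = 1 := by
    have h1 : (0 : ℝ) < (c : ℝ) := by
      by_contra h
      rw [not_lt] at h
      nlinarith
    have h2 : (c : ℝ) ≤ 1 := by
      by_contra h
      rw [not_le] at h
      nlinarith
    have h1' : 0 < c := by exact_mod_cast h1
    have h2' : c ≤ 1 := by exact_mod_cast h2
    omega
  rw [hc1, Int.cast_one, one_mul] at hc''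
  have hvan : ∀ g, ppOf p g ∉ P → (χ : G → ℂ) g = 0 := by
    have h0 : ∑ g : G, (if ppOf p g ∈ P then 0 else ‖(χ : G → ℂ) g‖ ^ 2) = 0 := by
      have h1 : ∑ g : G, ((if ppOf p g ∈ P then 0 else ‖(χ : G → ℂ) g‖ ^ 2) +
          (if ppOf p g ∈ P then ‖(χ : G → ℂ) g‖ ^ 2 else 0)) = (Nat.card G : ℝ) := by
        rw [← hall]; exact Finset.sum_congr rfl fun g _ => by split_ifs <;> simp
      rw [Finset.sum_add_distrib, ← hR, ← hc''] at h1
      linarith
    intro g hg
    have := (Finset.sum_eq_zero_iff_of_nonneg fun x _ => by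
      split_ifs <;> [exact le_rfl; exact sq_nonneg _]).1 h0 g (Finset.mem_univ _)
    rwa [if_neg hg, sq_eq_zero_iff, norm_eq_zero] at this
  refine ⟨hvan, ?_⟩
  have hirr : classInner (χ : G → ℂ) f = 1 := by
    rw [show f = (χ : G → ℂ) from funext fun g => by
      by_cases hg : ppOf p g ∈ P
      · exact hfg g hg
      · rw [hf, secFun_out _ _ hg, hvan g hg]]
    exact irr_inner_self χ.2
  rw [hf, inner_secFun hP hG] at hirr
  have hη : ∑ y : P, (η : P → ℂ) y * conj ((η : P → ℂ) y) = (Nat.card P : ℂ) := by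
    have h := irr_inner_self η.2
    rwa [classInner_def, inv_mul_eq_iff_eq_mul₀ (natCard_ne_zero P), mul_one] at h
  have e : ∀ y : P, ∑ x : G, (if p ∣ orderOf x then (0 : ℂ) else
      (χ : G → ℂ) ((y : G) * x) * conj ((χ : G → ℂ) x)) = (η : P → ℂ) y *
      ∑ x : G, (if p ∣ orderOf x then 0 else (χ : G → ℂ) x * conj ((χ : G → ℂ) x)) := by
    intro y
    rw [Finset.mul_sum]
    refine Finset.sum_congr rfl fun x _ => ?_
    split_ifs with hx
    · simp
    · rw [hχη y x hx, mul_assoc]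
  simp only [e, ← mul_assoc] at hirr
  rw [← Finset.sum_mul, Finset.sum_congr rfl fun y _ => mul_comm (conj ((η : P → ℂ) y)) _, hη] at hirr
  have := natCard_ne_zero G
  have := natCard_ne_zero P
  field_simp at hirr ⊢
  linear_combination hirr

/-- Every irreducible character of `P` gives one in the block. -/
theorem sec_irr (hM : IsPModular p M) [Fintype G] [Fintype P] (χ : IrrCharacter G)
    (hdeg : (charDegree (χ : G → ℂ)).factorization p = P.index.factorization p)
    (hreg : ∑ x : G, (if p ∣ orderOf x then 0 else (χ : G → ℂ) x * conj ((χ : G → ℂ) x)) =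
      (Nat.card G : ℂ) / (Nat.card P : ℂ))
    (ζ : IrrCharacter P) :
    IsIrrCharacter G (secFun p P (χ : G → ℂ) (ζ : P → ℂ)) ∧
      SameBlock M (χ : G → ℂ) (secFun p P (χ : G → ℂ) (ζ : P → ℂ)) := by
  classical
  set f := secFun p P (χ : G → ℂ) (ζ : P → ℂ) with hf
  have hgen : IsGeneralizedCharacter G f :=
    gen_secFun hP hG hM χ hdeg (gen_of_char (isCharacter_of_isIrr ζ.2))
  have hval : ∀ x, ¬ p ∣ orderOf x → f x = (ζ : P → ℂ) 1 * (χ : G → ℂ) x := fun x hx => by
    have := secFun_mul hP hG (χ : G → ℂ) (ζ : P → ℂ) 1 hx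
    rwa [Subgroup.coe_one, one_mul] at this
  have hnorm : classInner f f = 1 := by
    conv_lhs => arg 2; rw [hf]
    rw [inner_secFun hP hG]
    have e : ∀ y : P, ∑ x : G, (if p ∣ orderOf x then (0 : ℂ) else
        f ((y : G) * x) * conj ((χ : G → ℂ) x)) = (ζ : P → ℂ) y *
        ∑ x : G, (if p ∣ orderOf x then 0 else (χ : G → ℂ) x * conj ((χ : G → ℂ) x)) := by
      intro y
      rw [Finset.mul_sum]
      refine Finset.sum_congr rfl fun x _ => ?_
      split_ifs with hx
      · simp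
      · rw [hf, secFun_mul hP hG _ _ y hx, mul_assoc]
    simp only [e, hreg, ← mul_assoc]
    have hζ : ∑ y : P, conj ((ζ : P → ℂ) y) * (ζ : P → ℂ) y = (Nat.card P : ℂ) := by
      have h := irr_inner_self ζ.2
      rw [classInner_def, inv_mul_eq_iff_eq_mul₀ (natCard_ne_zero P), mul_one] at h
      rw [← h]; exact Finset.sum_congr rfl fun y _ => mul_comm _ _
    rw [← Finset.sum_mul, hζ]
    have := natCard_ne_zero G
    have := natCard_ne_zero P
    field_simp
  have h1 : f 1 = (ζ : P → ℂ) 1 * (χ : G → ℂ) 1 :=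
    hval 1 (by simpa using (Fact.out : p.Prime).ne_one)
  have hirr : IsIrrCharacter G f := by
    rcases isIrr_or_neg_of_norm hgen hnorm with h | h
    · exact h
    · exfalso
      have e := irr_one_eq h
      rw [Pi.neg_apply, h1, irr_one_eq ζ.2, irr_one_eq χ.2] at e
      have e' : ((charDegree (-f) + charDegree (ζ : P → ℂ) * charDegree (χ : G → ℂ) : ℕ) : ℂ) = 0 := by
        push_cast; linear_combination -e
      have hd := charDegree_pos h
      rw [Nat.cast_eq_zero] at e'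
      omega
  refine ⟨hirr, sameBlock_of_regular hM (ψ := ⟨f, hirr⟩) fun g hg => ?_⟩
  have hc : centralChar f g = centralChar (χ : G → ℂ) g := by
    have := irr_one_ne_zero ζ.2
    have := irr_one_ne_zero χ.2
    rw [centralChar, centralChar, hval g hg, h1]
    field_simp
  rw [hc]

omit hG in
/-- Evaluation of an orthogonality over all characters of `P`. -/
theorem sec_orth [Fintype P] {g : P → ℂ} (hg : IsClassFunction P g)
    (h : ∀ ζ : IrrCharacter P, ∑ y : P, conj ((ζ : P → ℂ) y) * g y = 0) : g = 0 := by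
  refine classFun_ext hg (classFun_of_gen (gen_of_char isCharacter_zero)) fun ζ => ?_
  rw [classInner_def, classInner_zero_left, Finset.sum_congr rfl fun y _ => mul_comm (g y) _, h ζ,
    mul_zero]

/-- The block consists of the sections characters. -/
theorem sec_exhaust_of_ne (hM : IsPModular p M) [Fintype G] [Fintype P] (χ : IrrCharacter G)
    (hdeg : (charDegree (χ : G → ℂ)).factorization p = P.index.factorization p)
    (hreg : ∑ x : G, (if p ∣ orderOf x then 0 else (χ : G → ℂ) x * conj ((χ : G → ℂ) x)) =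
      (Nat.card G : ℂ) / (Nat.card P : ℂ))
    {ψ : IrrCharacter G} (hψne : omega (ψ : G → ℂ) (regElt M p χ) ≠ 0) :
    ∃ ζ : IrrCharacter P, (ψ : G → ℂ) = secFun p P (χ : G → ℂ) (ζ : P → ℂ) := by
  classical
  by_contra hcon
  push Not at hcon
  obtain ⟨g, hgdef⟩ : ∃ g : P → ℂ, ∀ y, g y = ∑ x : G,
      (if p ∣ orderOf x then (0 : ℂ) else (ψ : G → ℂ) ((y : G) * x) * conj ((χ : G → ℂ) x)) :=
    ⟨_, fun _ => rfl⟩
  have hg : IsClassFunction P g := by
    intro y u
    rw [hgdef, hgdef]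
    refine Fintype.sum_equiv (MulAut.conj ((u : G)⁻¹)).toEquiv _ _ fun x => ?_
    rw [MulEquiv.toEquiv_eq_coe, MulEquiv.coe_toEquiv, MulAut.conj_apply, inv_inv,
      show orderOf ((u : G)⁻¹ * x * (u : G)) = orderOf x by
        simpa using isPPart_conj.orderOf_mulAut_conj ((u : G)⁻¹) x]
    split_ifs with hx
    · rfl
    · have e1 := classFun_of_irr ψ.2 (((u * y * u⁻¹ : P) : G) * x) ((u : G)⁻¹)
      have e2 := classFun_of_irr χ.2 x ((u : G)⁻¹)
      rw [inv_inv] at e1 e2
      rw [← e1, e2]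
      congr 2
      simp only [Subgroup.coe_mul, Subgroup.coe_inv]
      group
  have hgz : g = 0 := by
    refine sec_orth hP hg fun ζ => ?_
    have hirr := sec_irr hP hG hM χ hdeg hreg ζ
    have h := irr_inner_ne ψ.2 hirr.1 (hcon ζ)
    rw [inner_secFun hP hG, mul_eq_zero] at h
    have h2 := h.resolve_left (inv_ne_zero (natCard_ne_zero G))
    simpa only [hgdef] using h2
  have h1 := congrFun hgz 1
  rw [hgdef, Pi.zero_apply] at h1
  simp only [Subgroup.coe_one, one_mul] at h1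
  refine hψne ?_
  rw [omega_eq]
  have e : ∑ x : G, (((regElt M p χ).coeff x : locRing M) : ℂ) * (ψ : G → ℂ) x = 0 := by
    refine Eq.trans (Finset.sum_congr rfl fun x _ => ?_) h1
    rw [coeff_regElt]
    split_ifs <;> simp [mul_comm]
  rw [e, zero_div]

theorem sec_exhaust (hM : IsPModular p M) [Fintype G] [Fintype P] (χ : IrrCharacter G)
    (hdeg : (charDegree (χ : G → ℂ)).factorization p = P.index.factorization p)
    (hreg : ∑ x : G, (if p ∣ orderOf x then 0 else (χ : G → ℂ) x * conj ((χ : G → ℂ) x)) =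
      (Nat.card G : ℂ) / (Nat.card P : ℂ))
    (h0 : blockHeight p (blockOf M (χ : G → ℂ)) (χ : G → ℂ) = 0)
    {ψ : IrrCharacter G} (hψ : ψ ∈ blockOf M (χ : G → ℂ)) :
    ∃ ζ : IrrCharacter P, (ψ : G → ℂ) = secFun p P (χ : G → ℂ) (ζ : P → ℂ) :=
  sec_exhaust_of_ne hP hG hM χ hdeg hreg fun h =>
    omega_regElt_unit (M := M) (p := p) hM (blockOf_isPBlock χ) (ψ := χ) (sameBlock_refl _) h0 hψ
      (h ▸ memLocalIdeal_zero)

/-- The sections character has height zero. -/
theorem sec_height_zero (hM : IsPModular p M) [Fintype G] [Fintype P] (χ : IrrCharacter G)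
    (hdeg : (charDegree (χ : G → ℂ)).factorization p = P.index.factorization p)
    (hreg : ∑ x : G, (if p ∣ orderOf x then 0 else (χ : G → ℂ) x * conj ((χ : G → ℂ) x)) =
      (Nat.card G : ℂ) / (Nat.card P : ℂ)) :
    blockHeight p (blockOf M (χ : G → ℂ)) (χ : G → ℂ) = 0 := by
  have hB : IsPBlock M (blockOf M (χ : G → ℂ)) := blockOf_isPBlock χ
  obtain ⟨ψ, hψ, h0⟩ := exists_height_zero (p := p) hM hB
  have hne : omega (ψ : G → ℂ) (regElt M p χ) ≠ 0 := by
    intro h
    have h1 : classInner (regPart p (ψ : G → ℂ)) (χ : G → ℂ) = 0 := by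
      rw [inner_regPart (M := M), h, mul_zero, mul_zero]
    have h2 := inner_regPart_conj (p := p) χ ψ
    rw [h1, map_zero, inner_regPart (M := M), mul_eq_zero, mul_eq_zero] at h2
    refine omega_regElt_unit hM hB hψ h0 (χ := χ) (sameBlock_refl _) ?_
    rw [(h2.resolve_left (inv_ne_zero (natCard_ne_zero G))).resolve_left (irr_one_ne_zero χ.2)]
    exact memLocalIdeal_zero
  obtain ⟨ζ, hζ⟩ := sec_exhaust_of_ne hP hG hM χ hdeg hreg hne
  have hdvd : charDegree (χ : G → ℂ) ∣ charDegree (ψ : G → ℂ) := by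
    refine Dvd.intro_left (charDegree (ζ : P → ℂ)) (Eq.symm ?_)
    refine charDegree_eq ?_
    rw [Nat.cast_mul, ← irr_one_eq ζ.2, ← irr_one_eq χ.2, hζ]
    have := secFun_mul hP hG (χ : G → ℂ) (ζ : P → ℂ) 1 (x := (1 : G))
      (by simpa using (Fact.out : p.Prime).ne_one)
    simpa using this
  have hle : degExp p (χ : G → ℂ) ≤ degExp p (ψ : G → ℂ) :=
    (Nat.factorization_le_iff_dvd (charDegree_pos χ.2).ne' (charDegree_pos ψ.2).ne').2 hdvd p
  have e1 := degExp_eq_height_add hM hB (χ := χ) (sameBlock_refl _)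
  have e2 := degExp_eq_height_add hM hB hψ
  omega

end CfsgLib.Blk
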