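import Cfsg.Agent.Blk.Regular
import Cfsg.Agent.Blk.Sections
import Cfsg.Prelude.Def_BlockRank
import Mathlib.LinearAlgebra.Trace

/-!
Splitting of class functions on a `p`-section by the blocks of the centraliser.
-/

set_option autoImplicit false
set_option linter.style.haveILetI false
set_option linter.unusedSectionVars false

namespace CfsgLib.SectionSplit

open Cfsg CfsgLib.Char CfsgLib.Blk
open scoped CfsgLib.Char ComplexConjugate

universe u

variable {G : Type u} [Group G] [Finite G] {M : Ideal AlgInt} [M.IsPrime] {p : ℕ} [Fact p.Prime]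

/-- The span of the regular restrictions of a block. -/
noncomputable def regSpan (p : ℕ) {G : Type u} [Group G] (B : Set (IrrCharacter G)) :
    Submodule ℂ (G → ℂ) :=
  Submodule.span ℂ ((fun χ : IrrCharacter G => pRegularPart p (χ : G → ℂ)) '' B)

theorem blockRank_eq (B : Set (IrrCharacter G)) :
    blockRank p B = Module.finrank ℂ (regSpan p B) := rfl

/-- The restriction to the regular elements, as a linear map. -/
noncomputable def regL (p : ℕ) (G : Type u) [Group G] : (G → ℂ) →ₗ[ℂ] (G → ℂ) where
  toFun f := pRegularPart p f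
  map_add' f g := by
    funext x
    simp only [pRegularPart, Pi.add_apply]
    split_ifs <;> simp
  map_smul' c f := by
    funext x
    simp only [pRegularPart, Pi.smul_apply, smul_eq_mul, RingHom.id_apply]
    split_ifs <;> simp

theorem regL_apply (f : G → ℂ) : regL p G f = pRegularPart p f := rfl

theorem regL_val (f : G → ℂ) (x : G) (hx : ¬ p ∣ orderOf x) : regL p G f x = f x := by
  simp [regL, pRegularPart, IsPRegular, hx]

theorem regL_val' (f : G → ℂ) (x : G) (hx : p ∣ orderOf x) : regL p G f x = 0 := by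
  simp [regL, pRegularPart, IsPRegular, hx]

theorem regSpan_orth [Fintype G] (hM : IsPModular p M) {B B' : Set (IrrCharacter G)}
    (hB : IsPBlock M B) (hB' : IsPBlock M B') (hne : B ≠ B') {v w : G → ℂ}
    (hv : v ∈ regSpan p B) (hw : w ∈ regSpan p B') : ∑ x : G, v x * conj (w x) = 0 := by
  induction hw using Submodule.span_induction with
  | mem w hw =>
    obtain ⟨ψ, hψ, rfl⟩ := hw
    induction hv using Submodule.span_induction with
    | mem v hv =>
      obtain ⟨χ, hχ, rfl⟩ := hv
      refine (Finset.sum_congr rfl fun x _ => ?_).trans (regular_orth (χ := χ) (ψ := ψ) hM fun h =>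
        hne (eq_of_mem_of_mem hB hB' (mem_of_sameBlock hB hχ h) hψ))
      by_cases hx : p ∣ orderOf x <;> simp [pRegularPart, IsPRegular, hx]
    | zero => simp
    | add a b _ _ ha hb => simp [add_mul, Finset.sum_add_distrib, ha, hb]
    | smul c a _ ha => simp [mul_assoc, ← Finset.mul_sum, ha]
  | zero => simp
  | add a b _ _ ha hb => simp [mul_add, Finset.sum_add_distrib, ha, hb]
  | smul c a _ ha => simp [mul_left_comm _ (conj c), ← Finset.mul_sum, ha]

theorem eq_zero_of_norm [Fintype G] {v : G → ℂ} (h : ∑ x : G, v x * conj (v x) = 0) : v = 0 := by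
  funext x
  simp only [Complex.mul_conj] at h
  rw [← Complex.ofReal_sum, Complex.ofReal_eq_zero,
    Finset.sum_eq_zero_iff_of_nonneg fun i _ => Complex.normSq_nonneg _] at h
  exact Complex.normSq_eq_zero.1 (h x (Finset.mem_univ x))

/-- Regular parts from different blocks are independent. -/
theorem regSpan_indep (hM : IsPModular p M) [Fintype {B : Set (IrrCharacter G) // IsPBlock M B}]
    (v : {B : Set (IrrCharacter G) // IsPBlock M B} → G → ℂ) (hv : ∀ B, v B ∈ regSpan p B.1)
    (h : ∑ B, v B = 0) (B : {B : Set (IrrCharacter G) // IsPBlock M B}) : v B = 0 := by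
  classical
  haveI := Fintype.ofFinite G
  refine eq_zero_of_norm ?_
  have h1 : ∑ x : G, (∑ B' : {B : Set (IrrCharacter G) // IsPBlock M B}, v B') x * conj (v B x) = 0 := by
    rw [h]; simp
  simp only [Finset.sum_apply, Finset.sum_mul] at h1
  rw [Finset.sum_comm, Finset.sum_eq_single B] at h1
  · exact h1
  · exact fun B' _ hne => regSpan_orth hM B'.2 B.2 (fun e => hne (Subtype.ext e)) (hv B') (hv B)
  · simp

/-- Multiplying by a block idempotent, as a linear map. -/
noncomputable def bmul (B : Set (IrrCharacter G)) : (G → ℂ) →ₗ[ℂ] (G → ℂ) :=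
  letI := Fintype.ofFinite G
  { toFun := fun f y => ∑ g : G, blockCoeff B g * f (g * y)
    map_add' := fun f g => by funext y; simp [mul_add, Finset.sum_add_distrib]
    map_smul' := fun c f => by funext y; simp [Finset.mul_sum, mul_left_comm c] }

theorem bmul_apply [Fintype G] (B : Set (IrrCharacter G)) (f : G → ℂ) (y : G) :
    bmul B f y = ∑ g : G, blockCoeff B g * f (g * y) := by
  unfold bmul
  exact Finset.sum_congr (Finset.ext fun _ => by simp) fun _ _ => rfl

theorem regL_bmul_mem (hM : IsPModular p M) {B : Set (IrrCharacter G)} (hB : IsPBlock M B)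
    {f : G → ℂ} (hf : IsClassFunction G f) : regL p G (bmul B f) ∈ regSpan p B := by
  classical
  haveI := Fintype.ofFinite G
  have h : bmul B f = ∑ χ ∈ Finset.univ.filter (fun χ : IrrCharacter G => χ ∈ B),
      classInner f (χ : G → ℂ) • (χ : G → ℂ) := by
    funext y
    rw [bmul_apply, ← blockPart_eq_sum hM hB hf, blockPart, finsum_mem_eq_sum_ite,
      Finset.sum_filter, Finset.sum_apply]
    refine Finset.sum_congr rfl fun χ _ => ?_
    split_ifs <;> simp
    exact Or.inl (classInner_congr_inst _ _ _ _)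
  rw [h, map_sum]
  refine Submodule.sum_mem _ fun χ hχ => ?_
  rw [map_smul]
  exact Submodule.smul_mem _ _ (Submodule.subset_span ⟨χ, (Finset.mem_filter.1 hχ).2, rfl⟩)

theorem sum_bmul (hM : IsPModular p M) [Fintype {B : Set (IrrCharacter G) // IsPBlock M B}]
    (f : G → ℂ) : ∑ B : {B : Set (IrrCharacter G) // IsPBlock M B}, bmul B.1 f = f := by
  classical
  haveI := Fintype.ofFinite G
  funext y
  simp only [Finset.sum_apply, bmul_apply]
  rw [Finset.sum_comm]
  simp [← Finset.sum_mul, sum_blocks_blockCoeff hM]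

/-- The function `c ↦ f (x c)` on a subgroup. -/
def shiftL (x : G) (H : Subgroup G) : (G → ℂ) →ₗ[ℂ] (H → ℂ) where
  toFun f c := f (x * c)
  map_add' _ _ := rfl
  map_smul' _ _ := rfl

theorem classFun_shiftL {x : G} {H : Subgroup G} (hH : Subgroup.centralizer ({x} : Set G) = H)
    {f : G → ℂ} (hf : IsClassFunction G f) : IsClassFunction H (shiftL x H f) := by
  intro a b
  have hb : (b : G) * x = x * b := Subgroup.mem_centralizer_singleton_iff.1 (hH.symm ▸ b.2)
  show f (x * ((b * a * b⁻¹ : H) : G)) = f (x * a)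
  rw [← hf (x * a) b]
  congr 1
  rw [Subgroup.coe_mul, Subgroup.coe_mul, Subgroup.coe_inv]
  simp only [← mul_assoc, hb]

/-- The component of `f` at the section of `x` and the block `b`. -/
noncomputable def compL (p : ℕ) (x : G) (H : Subgroup G) (b : Set (IrrCharacter H)) :
    (G → ℂ) →ₗ[ℂ] (H → ℂ) :=
  (regL p H).comp ((bmul b).comp (shiftL x H))

theorem compL_mem (hM : IsPModular p M) {x : G} {H : Subgroup G}
    (hH : Subgroup.centralizer ({x} : Set G) = H) {b : Set (IrrCharacter H)} (hb : IsPBlock M b)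
    {f : G → ℂ} (hf : IsClassFunction G f) : compL p x H b f ∈ regSpan p b :=
  regL_bmul_mem hM hb (classFun_shiftL hH hf)

theorem sum_compL (hM : IsPModular p M) (x : G) (H : Subgroup G)
    [Fintype {b : Set (IrrCharacter H) // IsPBlock M b}] (f : G → ℂ) :
    ∑ b : {b : Set (IrrCharacter H) // IsPBlock M b}, compL p x H b.1 f =
      regL p H (shiftL x H f) := by
  simp only [compL, LinearMap.comp_apply]
  rw [← map_sum, sum_bmul hM]

/-- Second main theorem: components vanish outside the inducing blocks. -/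
theorem compL_char_eq_zero (hM : IsPModular p M) {x : G} (hx : ∃ k : ℕ, orderOf x = p ^ k)
    {H : Subgroup G} (hH : Subgroup.centralizer ({x} : Set G) = H) {b : Set (IrrCharacter H)}
    {B : Set (IrrCharacter G)} (hind : IsInducedBlock M H b B) {χ : IrrCharacter G} (hχ : χ ∉ B) :
    compL p x H b (χ : G → ℂ) = 0 := by
  classical
  haveI := Fintype.ofFinite H
  funext c
  by_cases hc : p ∣ orderOf c
  · exact regL_val' _ _ hc
  rw [compL, LinearMap.comp_apply, regL_val _ _ hc, LinearMap.comp_apply, bmul_apply,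
    Pi.zero_apply]
  have hcx : ∀ d : H, (d : G) * x = x * d := fun d =>
    Subgroup.mem_centralizer_singleton_iff.1 (hH.symm ▸ d.2)
  have hxH : x ∈ H := hH ▸ Subgroup.mem_centralizer_singleton_iff.2 rfl
  rw [← secondMain hM H hind (h := x * (c : G)) (z := x) (H.mul_mem hxH c.2)
    ⟨c, rfl, (hcx c).symm, hx, by rwa [Subgroup.orderOf_coe]⟩ hH.le hχ]
  refine Finset.sum_congr rfl fun k _ => ?_
  show _ * (χ : G → ℂ) (x * ((k * c : H) : G)) = _
  rw [Subgroup.coe_mul, ← mul_assoc, ← hcx, mul_assoc]

/-- Components of functions in the span of a block vanish off the inducing blocks. -/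
theorem compL_eq_zero (hM : IsPModular p M) {x : G} (hx : ∃ k : ℕ, orderOf x = p ^ k)
    {H : Subgroup G} (hH : Subgroup.centralizer ({x} : Set G) = H) {b : Set (IrrCharacter H)}
    {B : Set (IrrCharacter G)} (hind : IsInducedBlock M H b B) {S : Set (IrrCharacter G)}
    (hS : ∀ χ ∈ S, χ ∉ B) {f : G → ℂ}
    (hf : f ∈ Submodule.span ℂ ((fun χ : IrrCharacter G => (χ : G → ℂ)) '' S)) :
    compL p x H b f = 0 := by
  induction hf using Submodule.span_induction with
  | mem f hf =>
    obtain ⟨χ, hχ, rfl⟩ := hf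
    exact compL_char_eq_zero hM hx hH hind (hS χ hχ)
  | zero => simp
  | add a c _ _ ha hc => simp [ha, hc]
  | smul r a _ ha => simp [ha]

theorem regSpan_facts {e : Set (IrrCharacter G)} {w : G → ℂ} (hw : w ∈ regSpan p e) :
    IsClassFunction G w ∧ ∀ s, p ∣ orderOf s → w s = 0 := by
  induction hw using Submodule.span_induction with
  | mem w hw =>
    obtain ⟨θ, -, rfl⟩ := hw
    refine ⟨fun g h => ?_, fun s hs => by simp [pRegularPart, IsPRegular, hs]⟩
    have ho : orderOf (h * g * h⁻¹) = orderOf g := orderOf_injective (MulAut.conj h).toMonoidHom (MulEquiv.injective _) g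
    simp only [pRegularPart, IsPRegular, ho, classFun_of_irr θ.2 g h]
    by_cases hg : p ∣ orderOf g <;> simp [hg]
  | zero => exact ⟨fun _ _ => rfl, fun _ _ => rfl⟩
  | add a c _ _ ha hc => exact ⟨fun g h => by simp [ha.1 g h, hc.1 g h], fun s hs => by simp [ha.2 s hs, hc.2 s hs]⟩
  | smul r a _ ha => exact ⟨fun g h => by simp [ha.1 g h], fun s hs => by simp [ha.2 s hs]⟩

/-- Pairing with the regular span of a block sees only its component. -/
theorem inner_compL (hM : IsPModular p M) [Fintype G] {u : G} {H : Subgroup G} [Fintype H]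
    (hH : Subgroup.centralizer ({u} : Set G) = H) {e : Set (IrrCharacter H)} (he : IsPBlock M e)
    {w : H → ℂ} (hw : w ∈ regSpan p e) (χ : IrrCharacter G) :
    ∑ s : H, w s * conj (compL p u H e (χ : G → ℂ) s) = ∑ s : H, w s * conj ((χ : G → ℂ) (u * s)) := by
  classical
  haveI : Fintype {b : Set (IrrCharacter H) // IsPBlock M b} := Fintype.ofFinite _
  have h := sum_compL hM u H (χ : G → ℂ)
  calc _ = ∑ b : {b : Set (IrrCharacter H) // IsPBlock M b}, ∑ s : H, w s * conj (compL p u H b.1 (χ : G → ℂ) s) := by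
        rw [Finset.sum_eq_single ⟨e, he⟩ (fun b _ hne => regSpan_orth hM he b.2 (fun h => hne (Subtype.ext h.symm)) hw
          (compL_mem hM hH b.2 (classFun_of_irr χ.2))) (by simp)]
    _ = ∑ s : H, w s * conj (regL p H (shiftL u H (χ : G → ℂ)) s) := by
        rw [Finset.sum_comm, ← h]
        simp [Finset.mul_sum]
    _ = _ := Finset.sum_congr rfl fun s _ => by
        by_cases hs : p ∣ orderOf s
        · simp [(regSpan_facts hw).2 s hs]
        · rw [regL_val _ _ hs]; rfl

/-- The columns of a block of `C(u)` reproduce its regular span. -/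
theorem frame_op (hM : IsPModular p M) [Fintype G] {u : G}
    (hu : ∃ k : ℕ, orderOf u = p ^ k) {H : Subgroup G} [Fintype H]
    (hH : Subgroup.centralizer ({u} : Set G) = H) {e : Set (IrrCharacter H)} (he : IsPBlock M e)
    {v : H → ℂ} (hv' : v ∈ regSpan p e) :
    ∑ χ : IrrCharacter G, (∑ s : H, v s * conj (compL p u H e (χ : G → ℂ) s)) • compL p u H e (χ : G → ℂ) =
      (Nat.card H : ℂ) • v := by
  classical
  let S := regSpan p e
  let w : S := ⟨v, hv'⟩
  let φ : IrrCharacter G → S → ℂ := fun χ w => ∑ s : H, w.1 s * conj (compL p u H e (χ : G → ℂ) s)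
  have hclass : ∀ w ∈ S, IsClassFunction H w ∧ ∀ s, p ∣ orderOf s → w s = 0 := fun w hw => regSpan_facts hw
  have hφ : ∀ χ (w : S), φ χ w = ∑ s : H, w.1 s * conj ((χ : G → ℂ) (u * s)) :=
    fun χ w => inner_compL hM hH he w.2 χ
  haveI : Fintype {b : Set (IrrCharacter H) // IsPBlock M b} := Fintype.ofFinite _
  have e1 : (∑ χ : IrrCharacter G, φ χ w • compL p u H e (χ : G → ℂ)) = compL p u H e (∑ χ : IrrCharacter G, φ χ w • (χ : G → ℂ)) := by
    simp only [map_sum, map_smul]
  set F : G → ℂ := ∑ χ : IrrCharacter G, φ χ w • (χ : G → ℂ) with hF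
  have hFc : IsClassFunction G F := fun g h => by
    simp only [hF, Finset.sum_apply, Pi.smul_apply, classFun_of_irr (Subtype.prop _) g h]
  have e2 : regL p H (shiftL u H F) = (Nat.card H : ℂ) • w.1 := by
    funext t
    by_cases ht : p ∣ orderOf t
    · rw [regL_val' _ _ ht, Pi.smul_apply, (hclass _ w.2).2 t ht, smul_zero]
    rw [regL_val _ _ ht]
    show F (u * t) = _
    have hcnt : ∀ a b : G, ∑ χ : IrrCharacter G, (χ : G → ℂ) a * conj ((χ : G → ℂ) b) = ((Finset.univ.filter fun g : G => g * b * g⁻¹ = a).card : ℂ) := by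
      intro a b
      rw [second_orth]
      split_ifs with hab
      · obtain ⟨c, hc⟩ := isConj_iff.1 hab.symm
        rw [Nat.cast_inj, ← Fintype.card_subtype, ← Nat.card_eq_fintype_card]
        refine Nat.card_congr
          { toFun := fun d => ⟨d.1 * c, ?_⟩, invFun := fun g => ⟨g.1 * c⁻¹, ?_⟩, left_inv := fun d => by simp, right_inv := fun g => by simp }
        · calc d.1 * c * b * (d.1 * c)⁻¹ = d.1 * (c * b * c⁻¹) * (d.1)⁻¹ := by group
            _ = a := by rw [hc, Subgroup.mem_centralizer_singleton_iff.1 d.2, mul_inv_cancel_right]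
        · rw [Subgroup.mem_centralizer_singleton_iff]
          calc g.1 * c⁻¹ * a = g.1 * c⁻¹ * (c * b * c⁻¹) := by rw [hc]
            _ = g.1 * b * g.1⁻¹ * (g.1 * c⁻¹) := by group
            _ = a * (g.1 * c⁻¹) := by rw [g.2]
      · rw [Finset.filter_false_of_mem (fun g _ h => hab (isConj_iff.2 ⟨g, h⟩).symm), Finset.card_empty, Nat.cast_zero]
    calc F (u * t) = ∑ s : H, w.1 s * ∑ χ : IrrCharacter G, (χ : G → ℂ) (u * t) * conj ((χ : G → ℂ) (u * s)) := by
          simp only [hF, Finset.sum_apply, Pi.smul_apply, smul_eq_mul, hφ, Finset.sum_mul, Finset.mul_sum]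
          rw [Finset.sum_comm]
          exact Finset.sum_congr rfl fun _ _ => Finset.sum_congr rfl fun _ _ => by ring
      _ = ∑ s : H, w.1 s * ((Finset.univ.filter fun h : H => h * s * h⁻¹ = t).card : ℂ) := by
          refine Finset.sum_congr rfl fun s _ => ?_
          by_cases hs : p ∣ orderOf s
          · simp [(hclass _ w.2).2 s hs]
          rw [hcnt]
          congr 2
          symm
          have hps : ∀ r : H, ¬ p ∣ orderOf r → IsPPart p (u * (r : G)) u := fun r hr => ⟨r, rfl, (Subgroup.mem_centralizer_singleton_iff.1 (hH.symm ▸ r.2)).symm, hu, by rwa [Subgroup.orderOf_coe]⟩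
          refine Finset.card_bij (fun h _ => (h : G)) (fun h hh => ?_) (fun a _ b _ h => Subtype.ext h) fun g hg => ?_
          · rw [Finset.mem_filter] at hh ⊢
            refine ⟨Finset.mem_univ _, ?_⟩
            have hu' : (h : G) * u = u * h := Subgroup.mem_centralizer_singleton_iff.1 (hH.symm ▸ h.2)
            rw [← hh.2, Subgroup.coe_mul, Subgroup.coe_mul, Subgroup.coe_inv, ← mul_assoc, hu', mul_assoc u, mul_assoc u]
          · rw [Finset.mem_filter] at hg
            have h1 := isPPart_conj (hps s hs) g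
            rw [hg.2] at h1
            have hgu : g * u * g⁻¹ = u := isPPart_unique (Fact.out : p.Prime) h1 (hps t ht)
            have hgH : g ∈ H := hH ▸ Subgroup.mem_centralizer_singleton_iff.2 (mul_inv_eq_iff_eq_mul.1 hgu)
            refine ⟨⟨g, hgH⟩, Finset.mem_filter.2 ⟨Finset.mem_univ _, Subtype.ext ?_⟩, rfl⟩
            have := hg.2
            rw [← mul_assoc, mul_inv_eq_iff_eq_mul.1 hgu, mul_assoc u, mul_assoc u] at this
            simpa using mul_left_cancel this
      _ = ∑ h : H, w.1 (h⁻¹ * t * h) := by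
          simp only [Finset.card_filter, Nat.cast_sum, Finset.mul_sum]
          rw [Finset.sum_comm]
          refine Finset.sum_congr rfl fun h _ => ?_
          rw [Finset.sum_eq_single (h⁻¹ * t * h)]
          · simp [mul_assoc]
          · intro s _ hne
            rw [if_neg]
            · simp
            · rintro rfl; exact hne (by group)
          · simp
      _ = _ := by
          have hw : ∀ h : H, w.1 (h⁻¹ * t * h) = w.1 t := fun h => by simpa using (hclass _ w.2).1 t h⁻¹
          simp [hw]
  show (∑ χ : IrrCharacter G, φ χ w • compL p u H e (χ : G → ℂ)) = (Nat.card H : ℂ) • w.1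
  rw [e1]
  rw [← e2]
  let y : {b : Set (IrrCharacter H) // IsPBlock M b} → H → ℂ := fun b =>
    compL p u H b.1 F - if b.1 = e then regL p H (shiftL u H F) else 0
  have hy : ∀ b, y b ∈ regSpan p b.1 := fun b => by
    refine Submodule.sub_mem _ (compL_mem hM hH b.2 hFc) ?_
    split_ifs with h
    · rw [e2, h]; exact Submodule.smul_mem _ _ w.2
    · exact Submodule.zero_mem _
  have hy0 : ∑ b, y b = 0 := by
    simp only [y, Finset.sum_sub_distrib, sum_compL hM]
    rw [Finset.sum_eq_single ⟨e, he⟩ (fun b _ hne => if_neg fun h => hne (Subtype.ext h)) (by simp), if_pos rfl, sub_self]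
  simpa [y, sub_eq_zero] using regSpan_indep hM y hy hy0 ⟨e, he⟩

/-- The columns of a block of `C(u)` form a tight frame. -/
theorem frame (hM : IsPModular p M) [Fintype G] {u : G}
    (hu : ∃ k : ℕ, orderOf u = p ^ k) {H : Subgroup G} [Fintype H]
    (hH : Subgroup.centralizer ({u} : Set G) = H) {e : Set (IrrCharacter H)} (he : IsPBlock M e) :
    ∑ χ : IrrCharacter G, ∑ s : H,
        compL p u H e (χ : G → ℂ) s * conj (compL p u H e (χ : G → ℂ) s) =
      (Nat.card H : ℂ) * (blockRank p e : ℂ) := by
  classical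
  let S := regSpan p e
  let φ : IrrCharacter G → S →ₗ[ℂ] ℂ := fun χ =>
    { toFun := fun w => ∑ s : H, w.1 s * conj (compL p u H e (χ : G → ℂ) s)
      map_add' := fun a b => by simp [add_mul, Finset.sum_add_distrib]
      map_smul' := fun c a => by simp [Finset.mul_sum, mul_assoc] }
  let L : S →ₗ[ℂ] S := ∑ χ : IrrCharacter G,
    (φ χ).smulRight ⟨_, compL_mem hM hH he (classFun_of_irr χ.2)⟩
  have hL : L = (Nat.card H : ℂ) • LinearMap.id := by
    ext w : 1
    apply Subtype.ext
    simp only [L, LinearMap.sum_apply, LinearMap.smulRight_apply, Submodule.coe_smul, AddSubmonoidClass.coe_finsetSum]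
    exact frame_op hM hu hH he w.2
  have htr := congrArg (LinearMap.trace ℂ S) hL
  rw [map_smul, LinearMap.trace_id, smul_eq_mul] at htr
  simp only [L, map_sum, LinearMap.trace_smulRight] at htr
  rw [show blockRank p e = Module.finrank ℂ S from rfl]
  exact htr

end CfsgLib.SectionSplit
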