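import Cfsg.Agent.Blk.Canonical
import Cfsg.Agent.Blk.SectionSplit
import Cfsg.Agent.Blk.MinMax
import Cfsg.Agent.Blk.Kernel
import Cfsg.Agent.Blk.SecondMain

/-!
Blocks with central defect group.
-/

set_option autoImplicit false
set_option linter.style.haveILetI false
set_option linter.unusedSectionVars false

namespace CfsgLib.Blk

open Cfsg CfsgLib.Char CfsgLib.SectionSplit
open scoped CfsgLib.Char ComplexConjugate

universe u

variable {G : Type u} [Group G] [Finite G] {M : Ideal AlgInt} [M.IsPrime] {p : ℕ} [Fact p.Prime]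
variable {P : Subgroup G} {B : Set (IrrCharacter G)}

theorem pc_top_of_central (hPZ : P ≤ Subgroup.center G) :
    P ⊔ Subgroup.centralizer (P : Set G) = ⊤ := by
  rw [eq_top_iff]
  exact fun g _ => Subgroup.mem_sup_right fun y hy => (Subgroup.mem_center_iff.1 (hPZ hy) g).symm

/-- The members of a block with central defect group. -/
theorem central_defect_members (hM : IsPModular p M) (hB : IsPBlock M B)
    (hD : IsDefectGroup p M B P) (hPZ : P ≤ Subgroup.center G) :
    ∃ θ ∈ B, (∀ y ∈ P, (θ : G → ℂ) y = (θ : G → ℂ) 1) ∧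
      ∀ ψ ∈ B, ∃ c : ℂ, c ≠ 0 ∧ ∀ g, ¬ p ∣ orderOf g → (ψ : G → ℂ) g = c * (θ : G → ℂ) g := by
  classical
  haveI : Fintype G := Fintype.ofFinite G
  haveI : Fintype P := Fintype.ofFinite P
  haveI : P.Normal := ⟨fun y hy g => by
    rw [Subgroup.mem_center_iff.1 (hPZ hy) g, mul_inv_cancel_right]; exact hy⟩
  have hP := IsDefectGroup.isPGroup hD
  have hG := pc_top_of_central hPZ
  obtain ⟨θ, hθ, htriv⟩ := exists_trivial_on hM hB P hP
  obtain ⟨F, hF, hsurj, -⟩ := canonical_param hP hG hM hB hD hθ htriv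
  refine ⟨θ, hθ, htriv, fun ψ hψ => ?_⟩
  obtain ⟨ζ, rfl⟩ := hsurj ψ hψ
  refine ⟨(ζ : P → ℂ) 1, irr_one_ne_zero ζ.2, fun g hg => ?_⟩
  have h := secFun_mul hP hG (θ : G → ℂ) (ζ : P → ℂ) 1 hg
  rw [← (hF ζ).2] at h
  simpa using h

/-- A block with central defect group has regular rank one. -/
theorem regSpan_central (hM : IsPModular p M) (hB : IsPBlock M B) (hD : IsDefectGroup p M B P)
    (hPZ : P ≤ Subgroup.center G) {θ : IrrCharacter G} (hθ : θ ∈ B)
    (h : ∀ ψ ∈ B, ∃ c : ℂ, c ≠ 0 ∧ ∀ g, ¬ p ∣ orderOf g → (ψ : G → ℂ) g = c * (θ : G → ℂ) g) :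
    regSpan p B = ℂ ∙ pRegularPart p (θ : G → ℂ) := by
  refine le_antisymm (Submodule.span_le.2 ?_) (Submodule.span_mono ?_)
  · rintro _ ⟨ψ, hψ, rfl⟩
    obtain ⟨c, -, hc⟩ := h ψ hψ
    refine Submodule.mem_span_singleton.2 ⟨c, funext fun g => ?_⟩
    by_cases hg : p ∣ orderOf g
    · simp [pRegularPart, IsPRegular, hg]
    · simp only [Pi.smul_apply, smul_eq_mul, pRegularPart, IsPRegular, hg, not_false_eq_true, if_pos, hc g hg]
  · rintro _ rfl
    exact ⟨θ, hθ, rfl⟩

theorem regularPart_ne_zero (θ : IrrCharacter G) : pRegularPart p (θ : G → ℂ) ≠ 0 := fun h => by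
  have h1 := congrFun h 1
  simp [pRegularPart, IsPRegular, (Fact.out : p.Prime).ne_one, irr_one_ne_zero θ.2] at h1

theorem blockRank_central (hM : IsPModular p M) (hB : IsPBlock M B) (hD : IsDefectGroup p M B P)
    (hPZ : P ≤ Subgroup.center G) : blockRank p B = 1 := by
  obtain ⟨θ, hθ, -, h⟩ := central_defect_members hM hB hD hPZ
  rw [blockRank_eq, regSpan_central hM hB hD hPZ hθ h,
    finrank_span_singleton (regularPart_ne_zero θ)]

end CfsgLib.Blk
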