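import Cfsg.Agent.Blk.MinMax
import Cfsg.Agent.Blk.Defect
import Cfsg.Agent.Char.Induce

/-! Blocks of a quotient dominated by a block. -/

set_option autoImplicit false
set_option linter.style.haveILetI false
set_option linter.unusedSectionVars false

namespace CfsgLib.Blk

open Cfsg CfsgLib.Char MonoidAlgebra IsLocalRing
open scoped ComplexConjugate CfsgLib.Char

universe u

variable {G : Type u} [Group G] [Finite G] {M : Ideal AlgInt} [M.IsPrime] {p : ℕ} [Fact p.Prime]
  (N : Subgroup G) [N.Normal]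

/-- The inflation of a character of the quotient. -/
noncomputable def inflIrr (χ : IrrCharacter (G ⧸ N)) : IrrCharacter G :=
  haveI := Fintype.ofFinite G
  haveI := Fintype.ofFinite (G ⧸ N)
  ⟨(χ : G ⧸ N → ℂ) ∘ QuotientGroup.mk' N,
    irr_comp (QuotientGroup.mk' N) (QuotientGroup.mk'_surjective N) χ.2⟩

open Classical in
/-- The image in the quotient. -/
noncomputable def quotA {R : Type*} [CommRing R] [Fintype G] (a : MonoidAlgebra R G) :
    MonoidAlgebra R (G ⧸ N) :=
  MonoidAlgebra.ofCoeff (Finsupp.ofSupportFinite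
    (fun q : G ⧸ N => ∑ g : G, if QuotientGroup.mk' N g = q then a.coeff g else 0) (Set.toFinite _))

open Classical in
theorem coeff_quotA {R : Type*} [CommRing R] [Fintype G] (a : MonoidAlgebra R G) (q : G ⧸ N) :
    (quotA N a).coeff q = ∑ g : G, if QuotientGroup.mk' N g = q then a.coeff g else 0 := rfl

theorem isClassCoeff_quotA {R : Type*} [CommRing R] [Fintype G] {a : MonoidAlgebra R G}
    (ha : IsClassCoeff a) : IsClassCoeff (quotA N a) := by
  classical
  intro q r
  obtain ⟨x, rfl⟩ := QuotientGroup.mk'_surjective N r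
  rw [coeff_quotA, coeff_quotA]
  refine (Fintype.sum_equiv (MulAut.conj x).toEquiv _ _ fun g => ?_).symm
  change _ = ite (QuotientGroup.mk' N (x * g * x⁻¹) = _) (a.coeff (x * g * x⁻¹)) 0
  rw [ha g x, map_mul, map_mul, map_inv]
  refine ite_congr (propext ?_) (fun _ => rfl) (fun _ => rfl)
  constructor
  · intro h; rw [h]
  · intro h; exact mul_left_cancel (mul_right_cancel h)

variable {B : Set (IrrCharacter G)}

theorem omega_quotA [Fintype G] [Fintype (G ⧸ N)] (χ : IrrCharacter (G ⧸ N))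
    (a : MonoidAlgebra (locRing M) G) :
    omega (χ : G ⧸ N → ℂ) (quotA N a) = omega (inflIrr N χ : G → ℂ) a := by
  classical
  rw [omega_eq, omega_eq, show (inflIrr N χ : G → ℂ) 1 = (χ : G ⧸ N → ℂ) 1 from
    congrArg (χ : G ⧸ N → ℂ) (map_one (QuotientGroup.mk' N))]
  congr 1
  simp only [coeff_quotA, AddSubmonoidClass.coe_finsetSum, Finset.sum_mul]
  rw [Finset.sum_comm]
  refine Finset.sum_congr rfl fun g _ => ?_
  rw [Finset.sum_eq_single (QuotientGroup.mk' N g)]
  · rw [if_pos rfl]; rfl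
  · intro q _ hq
    rw [if_neg (Ne.symm hq)]; simp
  · simp

theorem mem_inflIrr_iff (hM : IsPModular p M) (hB : IsPBlock M B) {χ ψ : IrrCharacter (G ⧸ N)}
    (h : SameBlock M (χ : G ⧸ N → ℂ) (ψ : G ⧸ N → ℂ)) :
    inflIrr N χ ∈ B ↔ inflIrr N ψ ∈ B := by
  classical
  haveI := Fintype.ofFinite G
  haveI := Fintype.ofFinite (G ⧸ N)
  have e := omegaBar_congr χ.2 ψ.2 h (isClassCoeff_quotA N (isClassCoeff_blockIdem hM hB))
  rw [omegaBar, omegaBar, omega_quotA, omega_quotA, omega_blockIdem, omega_blockIdem] at e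
  split_ifs at e with h1 h2 h2
  · exact iff_of_true h1 h2
  · rw [red_one, red_zero] at e; exact absurd e one_ne_zero
  · rw [red_one, red_zero] at e; exact absurd e.symm one_ne_zero
  · exact iff_of_false h1 h2

/-- The block `Bbar` is dominated by `B`. -/
def Dominated (B : Set (IrrCharacter G)) (Bbar : Set (IrrCharacter (G ⧸ N))) : Prop :=
  ∀ χ ∈ Bbar, inflIrr N χ ∈ B

open Classical in
theorem quotA_blockIdem [Fintype G] (hM : IsPModular p M) (hB : IsPBlock M B)
    [Fintype {b : Set (IrrCharacter (G ⧸ N)) // IsPBlock M b}] :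
    quotA N (blockIdem hM hB) =
      ∑ b ∈ (Finset.univ : Finset {b : Set (IrrCharacter (G ⧸ N)) // IsPBlock M b}).filter
        (fun b => Dominated N B b.1), blockIdem hM b.2 := by
  haveI := Fintype.ofFinite (G ⧸ N)
  refine eq_of_omega_eq (isClassCoeff_quotA N (isClassCoeff_blockIdem hM hB))
    (isClassCoeff_sum _ _ fun b _ => isClassCoeff_blockIdem hM b.2) fun χ => ?_
  rw [omega_quotA, omega_blockIdem, omega_sum, Finset.sum_congr rfl
    (fun b _ => omega_blockIdem hM b.2 χ), Finset.sum_ite, Finset.sum_const_zero, add_zero,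
    Finset.sum_const, nsmul_eq_mul, mul_one]
  let b₀ : {b : Set (IrrCharacter (G ⧸ N)) // IsPBlock M b} := ⟨_, blockOf_isPBlock χ⟩
  split_ifs with h
  · rw [Finset.card_eq_one.2 ⟨b₀, ?_⟩, Nat.cast_one]
    ext b
    simp only [Finset.mem_filter, Finset.mem_univ, true_and, Finset.mem_singleton]
    refine ⟨fun hb => Subtype.ext (eq_blockOf b.2 hb.2), ?_⟩
    rintro rfl
    exact ⟨fun ψ hψ => (mem_inflIrr_iff N hM hB (mem_blockOf.1 hψ)).1 h, sameBlock_refl _⟩
  · rw [Finset.card_eq_zero.2 ?_, Nat.cast_zero]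
    refine Finset.eq_empty_iff_forall_notMem.2 fun b hb => h ?_
    simp only [Finset.mem_filter] at hb
    exact hb.1.2 χ hb.2

open Classical in
theorem redA_quotA [Fintype G] (a : MonoidAlgebra (locRing M) G) (q : G ⧸ N) :
    (redA (quotA N a)).coeff q =
      ∑ g : G, if QuotientGroup.mk' N g = q then residue (locRing M) (a.coeff g) else 0 := by
  rw [coeff_redA, coeff_quotA, map_sum]
  exact Finset.sum_congr rfl fun g _ => by split_ifs <;> simp

open Classical in
/-- The coefficient of the image at a point fixed by `S` only sees the centralizer of `S`. -/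
theorem redA_quotA_fixed [Fintype G] (hM : IsPModular p M) {a : MonoidAlgebra (locRing M) G}
    (ha : IsClassCoeff a) {S : Subgroup G} (hS : IsPGroup p S) {q : G ⧸ N}
    (hq : ∀ s ∈ S, QuotientGroup.mk' N s * q = q * QuotientGroup.mk' N s) :
    (redA (quotA N a)).coeff q = ∑ g ∈ Finset.univ.filter
        (fun g => g ∈ Subgroup.centralizer (S : Set G) ∧ QuotientGroup.mk' N g = q),
        residue (locRing M) (a.coeff g) := by
  haveI : CharP (Res M) p := charP_res hM
  letI : MulAction S G := MulAction.compHom G ((MulAut.conj).comp S.subtype)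
  rw [redA_quotA, sum_eq_sum_fixedPoints hS]
  · rw [← Finset.sum_filter]
    refine Finset.sum_congr ?_ fun _ _ => rfl
    ext g
    simp only [Finset.mem_filter, Finset.mem_univ, true_and, MulAction.mem_fixedPoints]
    exact and_congr_left fun _ => ⟨fun h s hs => mul_inv_eq_iff_eq_mul.1
      (h ⟨s, hs⟩ : s * g * s⁻¹ = g), fun h s => mul_inv_eq_iff_eq_mul.2 (h s s.2)⟩
  · intro s g
    change (if QuotientGroup.mk' N ((s : G) * g * (s : G)⁻¹) = q then
      residue (locRing M) (a.coeff ((s : G) * g * (s : G)⁻¹)) else 0) = _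
    rw [ha g (s : G), map_mul, map_mul, map_inv]
    refine ite_congr (propext ?_) (fun _ => rfl) (fun _ => rfl)
    constructor
    · intro h
      exact mul_left_cancel (a := QuotientGroup.mk' N (s : G))
        ((mul_inv_eq_iff_eq_mul.1 h).trans (hq s s.2).symm)
    · intro h
      rw [h, mul_inv_eq_iff_eq_mul, hq s s.2]

open Classical in
theorem exists_lift_pgroup {Dbar : Subgroup (G ⧸ N)} (hD : IsPGroup p Dbar) :
    ∃ S : Subgroup G, IsPGroup p S ∧ S.map (QuotientGroup.mk' N) = Dbar := by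
  let T := Dbar.comap (QuotientGroup.mk' N)
  obtain ⟨S⟩ := (inferInstance : Nonempty (Sylow p T))
  refine ⟨(S : Subgroup T).map T.subtype, S.isPGroup'.map _, ?_⟩
  have hle : ((S : Subgroup T).map T.subtype).map (QuotientGroup.mk' N) ≤ Dbar := by
    rw [Subgroup.map_le_iff_le_comap]; exact Subgroup.map_subtype_le _
  refine Subgroup.eq_of_le_of_card_ge hle ?_
  let f : T →* Dbar := ((QuotientGroup.mk' N).comp T.subtype).codRestrict Dbar fun x => x.2
  have hf : Function.Surjective f := fun d => by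
    obtain ⟨g, hg⟩ := QuotientGroup.mk'_surjective N (d : G ⧸ N)
    exact ⟨⟨g, by show QuotientGroup.mk' N g ∈ Dbar; rw [hg]; exact d.2⟩, Subtype.ext hg⟩
  have h1 : (S : Subgroup T).map f = ⊤ := by
    have h3 : ((S : Subgroup T).map f).index ∣ (S : Subgroup T).index :=
      Subgroup.index_map_dvd _ hf
    obtain ⟨k, hk⟩ := IsPGroup.iff_card.1 hD
    have h4 : ((S : Subgroup T).map f).index ∣ p ^ k := hk ▸ Subgroup.index_dvd_card _
    refine Subgroup.index_eq_one.1 (Nat.eq_one_of_dvd_coprimes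
      (Nat.Coprime.pow_left k ((Fact.out : p.Prime).coprime_iff_not_dvd.2 S.not_dvd_index)) h4 h3)
  have h2 : ((S : Subgroup T).map T.subtype).map (QuotientGroup.mk' N) =
      ((S : Subgroup T).map f).map Dbar.subtype := by
    rw [Subgroup.map_map, Subgroup.map_map]; rfl
  rw [h2, h1, Subgroup.card_map_of_injective Subtype.val_injective, Subgroup.card_top]

/-- A defect group of a dominated block lies in the image of one of the dominating block. -/
theorem exists_defectGroup_map_ge (hM : IsPModular p M) (hB : IsPBlock M B)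
    {Bbar : Set (IrrCharacter (G ⧸ N))} (hBbar : IsPBlock M Bbar) (hdom : Dominated N B Bbar)
    {Dbar : Subgroup (G ⧸ N)} (hD : IsDefectGroup p M Bbar Dbar) :
    ∃ P : Subgroup G, IsDefectGroup p M B P ∧ Dbar ≤ P.map (QuotientGroup.mk' N) := by
  classical
  haveI := Fintype.ofFinite G
  haveI := Fintype.ofFinite (G ⧸ N)
  haveI : CharP (Res M) p := charP_res hM
  haveI : Fintype {b : Set (IrrCharacter (G ⧸ N)) // IsPBlock M b} := Fintype.ofFinite _
  have hDp := IsDefectGroup.isPGroup hD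
  have hne : brMap Dbar (redA (quotA N (blockIdem hM hB))) ≠ 0 := by
    intro h0
    refine brMap_blockIdem_defectGroup_ne_zero hM hBbar hD ?_
    have hprod : redA (quotA N (blockIdem hM hB)) * redA (blockIdem hM hBbar) =
        redA (blockIdem hM hBbar) := by
      rw [← map_mul, quotA_blockIdem, Finset.sum_mul, Finset.sum_eq_single ⟨Bbar, hBbar⟩,
        blockIdem_mul_self]
      · intro b _ hb
        exact blockIdem_mul_ne hM b.2 hBbar fun e => hb (Subtype.ext e)
      · intro h
        exact absurd (Finset.mem_filter.2 ⟨Finset.mem_univ (⟨Bbar, hBbar⟩ : {b // IsPBlock M b}), hdom⟩) h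
    rw [← hprod, brMap_mul_class Dbar hDp
      (isClassCoeff_quotA N (isClassCoeff_blockIdem hM hB)).redA
      (isClassCoeff_blockIdem hM hBbar).redA, h0, zero_mul]
  obtain ⟨q, hq⟩ : ∃ q, (brMap Dbar (redA (quotA N (blockIdem hM hB)))).coeff q ≠ 0 := by
    by_contra! h
    exact hne (MonoidAlgebra.coeff_injective (Finsupp.ext fun q => by rw [h q]; rfl))
  rw [coeff_brMap] at hq
  split_ifs at hq with hqC
  swap
  · exact absurd rfl hq
  obtain ⟨S, hS, hSD⟩ := exists_lift_pgroup N hDp
  rw [redA_quotA_fixed N hM (isClassCoeff_blockIdem hM hB) hS (fun s hs => hqC _ (hSD ▸ ⟨s, hs, rfl⟩))] at hq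
  obtain ⟨g, hg, hg0⟩ := Finset.exists_ne_zero_of_sum_ne_zero hq
  obtain ⟨hgC, -⟩ := (Finset.mem_filter.1 hg).2
  obtain ⟨D, hDD⟩ := exists_isDefectGroup hM hB
  have hgu : ¬ MemLocalIdeal M (blockCoeff B g) := by
    rw [← residue_blockIdem_ne_zero_iff hM hB g, coeff_redA]; exact hg0
  obtain ⟨x, hx⟩ := minmax_le hM hB hDD g hgu hS
    fun s hs => Subgroup.mem_centralizer_singleton_iff.2 (hgC s hs)
  refine ⟨D.map (MulAut.conj x⁻¹).toMonoidHom, IsDefectGroup.conj hDD x⁻¹, hSD ▸ Subgroup.map_mono fun s hs => ?_⟩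
  exact ⟨x * s * x⁻¹, hx ⟨s, hs, rfl⟩, by simp [mul_assoc]⟩

/-- A normal `p`-subgroup: some dominated block has the images as defect groups. -/
theorem exists_dominated_defect (hM : IsPModular p M) (hB : IsPBlock M B) (hN : IsPGroup p N) :
    ∃ Bbar : Set (IrrCharacter (G ⧸ N)), IsPBlock M Bbar ∧ Dominated N B Bbar ∧
      ∀ Dbar : Subgroup (G ⧸ N), IsDefectGroup p M Bbar Dbar ↔
        ∃ P : Subgroup G, IsDefectGroup p M B P ∧ Dbar = P.map (QuotientGroup.mk' N) := by
  classical
  haveI := Fintype.ofFinite G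
  haveI := Fintype.ofFinite (G ⧸ N)
  haveI : CharP (Res M) p := charP_res hM
  haveI : Fintype {b : Set (IrrCharacter (G ⧸ N)) // IsPBlock M b} := Fintype.ofFinite _
  obtain ⟨P, hP⟩ := exists_isDefectGroup hM hB
  obtain ⟨c, hc, hs⟩ := isDefectGroup_iff.1 hP
  have hPp := IsDefectGroup.isPGroup hP
  have hNP : N ≤ P := normal_pgroup_le_defectGroup hM hB N hN hP
  have hcC : c ∈ Subgroup.centralizer (P : Set G) := fun y hy =>
    Subgroup.mem_centralizer_singleton_iff.1 (hs.le hy)
  set Pb := P.map (QuotientGroup.mk' N) with hPb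
  have hqC : QuotientGroup.mk' N c ∈ Subgroup.centralizer (Pb : Set (G ⧸ N)) := by
    rintro _ ⟨y, hy, rfl⟩
    rw [← map_mul, ← map_mul, hcC y hy]
  have hcoef : (brMap Pb (redA (quotA N (blockIdem hM hB)))).coeff (QuotientGroup.mk' N c) ≠ 0 := by
    rw [coeff_brMap, if_pos hqC, redA_quotA_fixed N hM (isClassCoeff_blockIdem hM hB) hPp
      (fun s hs => hqC _ ⟨s, hs, rfl⟩), Finset.sum_eq_single c]
    · rw [← coeff_redA, residue_blockIdem_ne_zero_iff hM hB c]
      exact hc.2.1
    · intro g hg hgc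
      obtain ⟨hgC, hgq⟩ := (Finset.mem_filter.1 hg).2
      by_contra h0
      have hgu : ¬ MemLocalIdeal M (blockCoeff B g) := by
        rw [← residue_blockIdem_ne_zero_iff hM hB g, coeff_redA]; exact h0
      have hgr : ¬ p ∣ orderOf g := fun h =>
        hgu (by rw [blockCoeff_eq_zero_of_singular hM hB h]; exact memLocalIdeal_zero)
      have hzN : c⁻¹ * g ∈ N := QuotientGroup.eq.1 hgq.symm
      obtain ⟨j, hj⟩ := hN ⟨_, hzN⟩
      have hj' : (c⁻¹ * g) ^ p ^ j = 1 := by simpa using congrArg Subtype.val hj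
      have hcomm : Commute c (c⁻¹ * g) := ((hcC _ (hNP hzN)).symm)
      have hgz : g = c * (c⁻¹ * g) := (mul_inv_cancel_left c g).symm
      have hcr : ¬ p ∣ orderOf c := isDefectClass_regular hM hB hc
      have hcg : Commute c g := by rw [hgz]; exact (Commute.refl c).mul_right hcomm
      have hd : orderOf (c⁻¹ * g) ∣ Nat.lcm (orderOf c⁻¹) (orderOf g) :=
        hcg.inv_left.orderOf_mul_dvd_lcm
      rw [orderOf_inv] at hd
      obtain ⟨i, -, hi⟩ := (Nat.dvd_prime_pow (Fact.out : p.Prime)).1 (orderOf_dvd_of_pow_eq_one hj')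
      rcases Nat.eq_zero_or_pos i with rfl | hi0
      · exact hgc (inv_mul_eq_one.1 (orderOf_eq_one_iff.1 (by rw [hi, pow_zero]))).symm
      · have : p ∣ orderOf c * orderOf g :=
          ((hi ▸ dvd_pow_self p hi0.ne').trans hd).trans (Nat.lcm_dvd_mul _ _)
        exact ((Fact.out : p.Prime).dvd_mul.1 this).elim hcr hgr
    · intro h
      exact absurd (Finset.mem_filter.2 ⟨Finset.mem_univ _, hcC, rfl⟩) h
  obtain ⟨b, hb, hbne⟩ : ∃ b ∈ (Finset.univ : Finset {b : Set (IrrCharacter (G ⧸ N)) //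
      IsPBlock M b}).filter (fun b => Dominated N B b.1),
      brMap Pb (redA (blockIdem hM b.2)) ≠ 0 := by
    by_contra! h
    refine hcoef ?_
    rw [quotA_blockIdem, map_sum, brMap_sum, Finset.sum_eq_zero h]
    simp
  have hdom := (Finset.mem_filter.1 hb).2
  refine ⟨b.1, b.2, hdom, ?_⟩
  have hPbp : IsPGroup p Pb := hPp.map _
  obtain ⟨D0, hD0⟩ := exists_isDefectGroup hM b.2
  obtain ⟨x, hx⟩ := (brMap_blockIdem_ne_zero_iff hM b.2 hD0 Pb hPbp).1 hbne
  have key : ∀ Dbar, IsDefectGroup p M b.1 Dbar →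
      Nat.card Dbar = Nat.card Pb ∧ ∃ P', IsDefectGroup p M B P' ∧ Dbar ≤ P'.map (QuotientGroup.mk' N) ∧
        Nat.card (P'.map (QuotientGroup.mk' N)) = Nat.card Pb := by
    intro Dbar hDbar
    obtain ⟨P', hP', hle⟩ := exists_defectGroup_map_ge N hM hB b.2 hdom hDbar
    obtain ⟨y, hy⟩ := isDefectGroup_conj_eq hM hB hP' hP
    have hcard : Nat.card (P'.map (QuotientGroup.mk' N)) = Nat.card Pb := by
      rw [← hy, hPb]
      rw [show (P.map (MulAut.conj y).toMonoidHom).map (QuotientGroup.mk' N) =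
        (P.map (QuotientGroup.mk' N)).map (MulAut.conj (QuotientGroup.mk' N y)).toMonoidHom by
          rw [Subgroup.map_map, Subgroup.map_map]; rfl]
      exact Subgroup.card_map_of_injective (MulAut.conj _).injective
    refine ⟨le_antisymm (hcard ▸ Nat.le_of_dvd Nat.card_pos (Subgroup.card_dvd_of_le hle)) ?_,
      P', hP', hle, hcard⟩
    rw [card_defectGroup hM b.2 hDbar, ← card_defectGroup hM b.2 hD0]
    have := Nat.le_of_dvd Nat.card_pos (Subgroup.card_dvd_of_le hx)
    rwa [Subgroup.card_map_of_injective (MulAut.conj x).injective] at this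
  intro Dbar
  constructor
  · intro hDbar
    obtain ⟨h1, P', hP', hle, hcard⟩ := key Dbar hDbar
    exact ⟨P', hP', Subgroup.eq_of_le_of_card_ge hle (by omega)⟩
  · rintro ⟨P', hP', rfl⟩
    obtain ⟨h1, -⟩ := key D0 hD0
    obtain ⟨y, hy⟩ := isDefectGroup_conj_eq hM hB hP hP'
    have hP0 : Pb.map (MulAut.conj x).toMonoidHom = D0 :=
      Subgroup.eq_of_le_of_card_ge hx (by
        rw [Subgroup.card_map_of_injective (MulAut.conj x).injective]; omega)
    have : P'.map (QuotientGroup.mk' N) =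
        D0.map (MulAut.conj (QuotientGroup.mk' N y⁻¹ * x⁻¹)).toMonoidHom := by
      rw [← hP0, hPb, ← hy]
      simp only [Subgroup.map_map]
      congr 1
      ext g
      simp [mul_assoc]
    rw [this]
    exact IsDefectGroup.conj hD0 _

end CfsgLib.Blk
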