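import Cfsg.Agent.Blk.FirstMain
import Cfsg.Agent.Blk.Principal

/-!
Blocks and a normal `p`-subgroup centralised by all `p'`-elements.
-/

set_option autoImplicit false
set_option linter.style.haveILetI false
set_option linter.unusedSectionVars false

namespace CfsgLib.Blk

open Cfsg CfsgLib.Char MonoidAlgebra Finset
open scoped ComplexConjugate

universe u

variable {G : Type u} [Group G] [Finite G] {M : Ideal AlgInt} [M.IsPrime] {p : ℕ} [Fact p.Prime]

/-- On a normal subgroup a character is orthogonal to `1` or trivial. -/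
theorem sum_normal_eq_zero_or (χ : IrrCharacter G) (N : Subgroup G) [N.Normal] [Fintype N] :
    ∑ y : N, (χ : G → ℂ) (y : G) = 0 ∨ ∀ y ∈ N, (χ : G → ℂ) y = (χ : G → ℂ) 1 := by
  classical
  haveI := Fintype.ofFinite G
  obtain ⟨M, hM⟩ := exists_isPModular (q := 2) Nat.prime_two
  haveI := CfsgLib.Blk.IsPModular.isPrime hM
  set a : MonoidAlgebra (locRing M) G := MonoidAlgebra.ofCoeff (Finsupp.ofSupportFinite
    (fun g : G => if g ∈ N then (1 : locRing M) else 0) (Set.toFinite _)) with hadef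
  have hac : ∀ g, a.coeff g = if g ∈ N then (1 : locRing M) else 0 := fun g => rfl
  have ha : IsClassCoeff a := fun g h => by
    rw [hac, hac]
    refine if_congr ⟨fun hh => ?_, fun hh => (inferInstance : N.Normal).conj_mem g hh h⟩ rfl rfl
    simpa [mul_assoc] using (inferInstance : N.Normal).conj_mem _ hh h⁻¹
  set S := Finset.univ.filter (fun g : G => g ∈ N) with hSdef
  have hS : S.card = Nat.card N := by
    rw [Nat.card_eq_fintype_card, Fintype.card_subtype]
  have hsub : ∑ y : N, (χ : G → ℂ) (y : G) = ∑ g ∈ S, (χ : G → ℂ) g :=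
    (Finset.sum_subtype S (fun g => by simp [hSdef]) _).symm
  have hω : omega (χ : G → ℂ) a = (∑ g ∈ S, (χ : G → ℂ) g) / (χ : G → ℂ) 1 := by
    rw [omega_eq, Finset.sum_filter]
    congr 1
    refine Finset.sum_congr rfl fun g _ => ?_
    rw [hac]; split_ifs <;> simp
  have haa : a * a = (Nat.card N : locRing M) • a := by
    refine MonoidAlgebra.coeff_injective (Finsupp.ext fun g => ?_)
    rw [coeff_mul_sum, MonoidAlgebra.coeff_smul, Finsupp.smul_apply, smul_eq_mul, hac g]
    rw [Finset.sum_congr rfl (g := fun x => (if x ∈ N then (1 : locRing M) else 0) *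
      (if g ∈ N then 1 else 0)) fun x _ => ?_, ← Finset.sum_mul, Finset.sum_boole, hS]
    rw [hac, hac]
    by_cases hx : x ∈ N
    · rw [if_congr (N.mul_mem_cancel_left (inv_mem hx)) rfl rfl]
    · rw [if_neg hx, zero_mul, zero_mul]
  have hsq : omega (χ : G → ℂ) a * (omega (χ : G → ℂ) a - (Nat.card N : ℂ)) = 0 := by
    have h := congrArg (omega (χ : G → ℂ)) haa
    rw [omega_mul χ.2 ha, omega_smul] at h
    simp only [SubringClass.coe_natCast] at h
    rw [mul_sub, h]; ring
  rcases mul_eq_zero.1 hsq with h | h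
  · left
    rw [hω, div_eq_zero_iff] at h
    rw [hsub]; exact h.resolve_right (irr_one_ne_zero χ.2)
  · right
    intro y hy
    rw [sub_eq_zero, hω, div_eq_iff (irr_one_ne_zero χ.2), ← hS] at h
    exact eq_deg_of_sum_eq (isCharacter_of_isIrr χ.2) S id h (by simp [hSdef, hy])

/-- Every block has a character trivial on a given normal `p`-subgroup. -/
theorem exists_trivial_on (hM : IsPModular p M) {B : Set (IrrCharacter G)} (hB : IsPBlock M B)
    (P : Subgroup G) [P.Normal] (hP : IsPGroup p P) :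
    ∃ χ ∈ B, ∀ y ∈ P, (χ : G → ℂ) y = (χ : G → ℂ) 1 := by
  classical
  haveI := Fintype.ofFinite G
  haveI : Fintype P := Fintype.ofFinite _
  by_contra hcon
  push Not at hcon
  have h1 : ∀ y : P, (y : G) ≠ 1 → blockCoeff B (y : G) = 0 := by
    intro y hy
    refine blockCoeff_eq_zero_of_singular hM hB ?_
    obtain ⟨k, hk⟩ := IsPGroup.iff_orderOf.1 hP y
    rw [Subgroup.orderOf_coe, hk]
    refine dvd_pow_self p fun hk0 => hy ?_
    rw [hk0, pow_zero, orderOf_eq_one_iff] at hk
    rw [hk, Subgroup.coe_one]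
  have h0 : ∑ y : P, blockCoeff B (y : G) = 0 := by
    simp only [blockCoeff, finsum_mem_eq_sum_ite, ← Finset.mul_sum]
    rw [Finset.sum_comm, Finset.sum_eq_zero fun χ _ => ?_, mul_zero]
    by_cases hχ : χ ∈ B
    · simp only [if_pos hχ, ← Finset.mul_sum, ← map_sum]
      rcases sum_normal_eq_zero_or χ P with h | h
      · rw [h, map_zero, mul_zero]
      · obtain ⟨y, hy, hy'⟩ := hcon χ hχ
        exact absurd (h y hy) hy'
    · simp [hχ]
  rw [Finset.sum_eq_single (1 : P) (fun y _ hy => h1 y fun h => hy (Subtype.ext h))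
    (fun h => absurd (Finset.mem_univ _) h), Subgroup.coe_one, blockCoeff, mul_eq_zero,
    finsum_mem_eq_sum_ite] at h0
  have h2 := h0.resolve_left (inv_ne_zero (natCard_ne_zero G))
  have h3 : ∑ χ : IrrCharacter G,
      (if χ ∈ B then ((charDegree (χ : G → ℂ) : ℕ) : ℂ) * (charDegree (χ : G → ℂ) : ℂ) else 0) =
      ((∑ χ : IrrCharacter G,
        (if χ ∈ B then charDegree (χ : G → ℂ) * charDegree (χ : G → ℂ) else 0) : ℕ) : ℂ) := by
    push_cast
    rfl
  rw [Finset.sum_congr rfl (g := fun χ : IrrCharacter G =>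
      if χ ∈ B then ((charDegree (χ : G → ℂ) : ℕ) : ℂ) * (charDegree (χ : G → ℂ) : ℂ) else 0)
      fun χ _ => by split_ifs <;> simp [irr_one_eq χ.2], h3, Nat.cast_eq_zero,
    Finset.sum_eq_zero_iff] at h2
  obtain ⟨χ, hχ⟩ := isPBlock_nonempty hB
  have h4 := h2 χ (Finset.mem_univ _)
  rw [if_pos hχ, mul_self_eq_zero] at h4
  exact (charDegree_pos χ.2).ne' h4

/-- Blocks are separated by the central characters on the `p'`-elements. -/
theorem sameBlock_of_regular (hM : IsPModular p M) {χ ψ : IrrCharacter G}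
    (h : ∀ g : G, ¬ p ∣ orderOf g →
      red M (centralChar (χ : G → ℂ) g) = red M (centralChar (ψ : G → ℂ) g)) :
    SameBlock M (χ : G → ℂ) (ψ : G → ℂ) := by
  classical
  haveI : Fintype (ConjClasses G) := Fintype.ofFinite _
  have hB : IsPBlock M (blockOf M (χ : G → ℂ)) := blockOf_isPBlock χ
  have he := isClassCoeff_blockIdem hM hB
  have e : omegaBar (χ : G → ℂ) (blockIdem hM hB) = omegaBar (ψ : G → ℂ) (blockIdem hM hB) := by
    rw [omegaBar_eq_sum χ.2 he, omegaBar_eq_sum ψ.2 he]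
    refine Finset.sum_congr rfl fun C _ => ?_
    by_cases hC : p ∣ orderOf C.out
    · have h0 : IsLocalRing.residue (locRing M) ((blockIdem hM hB).coeff C.out) = 0 := by
        rw [residue_eq_zero_iff, coeff_blockIdem, blockCoeff_eq_zero_of_singular hM hB hC]
        exact memLocalIdeal_zero
      rw [h0, zero_mul, zero_mul]
    · rw [h C.out hC]
  rw [omegaBar_blockIdem, omegaBar_blockIdem,
    if_pos (show χ ∈ blockOf M (χ : G → ℂ) from sameBlock_refl _)] at e
  by_contra hne
  rw [if_neg (show ψ ∉ blockOf M (χ : G → ℂ) from hne)] at e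
  exact one_ne_zero e

section quotient

variable (P : Subgroup G) [P.Normal]

theorem regular_mem_centralizer (hC : ∃ k : ℕ, (Subgroup.centralizer (P : Set G)).index = p ^ k)
    {g : G} (hg : ¬ p ∣ orderOf g) : g ∈ Subgroup.centralizer (P : Set G) := by
  obtain ⟨k, hk⟩ := hC
  have hp : p.Prime := Fact.out
  have h1 : orderOf (g : G ⧸ Subgroup.centralizer (P : Set G)) ∣ p ^ k := hk ▸ orderOf_dvd_natCard _
  have h2 : orderOf (g : G ⧸ Subgroup.centralizer (P : Set G)) ∣ orderOf g :=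
    orderOf_map_dvd (QuotientGroup.mk' (Subgroup.centralizer (P : Set G))) g
  rw [← QuotientGroup.eq_one_iff, ← orderOf_eq_one_iff]
  exact Nat.eq_one_of_dvd_coprimes (Nat.Coprime.pow_left k (hp.coprime_iff_not_dvd.2 hg)) h1 h2

/-- Centralisers of `p'`-elements centralising `P` correspond. -/
theorem centralizer_mk_eq_of_mem (hP : IsPGroup p P) {g : G}
    (hgC : g ∈ Subgroup.centralizer (P : Set G)) (hg : ¬ p ∣ orderOf g) :
    (Subgroup.centralizer ({(g : G ⧸ P)} : Set (G ⧸ P))).comap (QuotientGroup.mk' P) =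
      Subgroup.centralizer ({g} : Set G) := by
  ext x
  rw [Subgroup.mem_comap, Subgroup.mem_centralizer_singleton_iff,
    Subgroup.mem_centralizer_singleton_iff, QuotientGroup.mk'_apply, ← QuotientGroup.mk_mul,
    ← QuotientGroup.mk_mul]
  refine ⟨fun h => ?_, fun h => congrArg _ h⟩
  have hy : x * g * x⁻¹ * g⁻¹ ∈ P := by
    rw [← QuotientGroup.eq_one_iff]
    rw [QuotientGroup.mk_mul, QuotientGroup.mk_mul, h, QuotientGroup.mk_mul, QuotientGroup.mk_inv,
      QuotientGroup.mk_inv]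
    group
  have hreg : ¬ p ∣ orderOf (x * g * x⁻¹) := by rwa [isPPart_conj.orderOf_mulAut_conj]
  have hpe : ∃ k : ℕ, orderOf (x * g * x⁻¹ * g⁻¹) = p ^ k := by
    obtain ⟨k, hk⟩ := IsPGroup.iff_orderOf.1 hP ⟨_, hy⟩
    exact ⟨k, by rw [← Subgroup.orderOf_mk _ hy, hk]⟩
  have hpart : IsPPart p (x * g * x⁻¹) (x * g * x⁻¹ * g⁻¹) :=
    ⟨g, by group, hgC _ hy, hpe, hg⟩
  have h1 := isPPart_unique Fact.out hpart (isPPart_one_of_regular hreg)
  exact mul_inv_eq_iff_eq_mul.1 (mul_inv_eq_one.1 h1)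

variable (hP : IsPGroup p P) (hC : ∃ k : ℕ, (Subgroup.centralizer (P : Set G)).index = p ^ k)
include hP hC

/-- Centralisers of `p'`-elements correspond. -/
theorem centralizer_mk_eq {g : G} (hg : ¬ p ∣ orderOf g) :
    (Subgroup.centralizer ({(g : G ⧸ P)} : Set (G ⧸ P))).comap (QuotientGroup.mk' P) =
      Subgroup.centralizer ({g} : Set G) :=
  centralizer_mk_eq_of_mem P hP (regular_mem_centralizer P hC hg) hg

theorem centralChar_inflation {g : G} (hg : ¬ p ∣ orderOf g) (ψ : G ⧸ P → ℂ) :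
    centralChar (ψ ∘ QuotientGroup.mk) g = centralChar ψ (g : G ⧸ P) := by
  have h := Subgroup.index_comap_of_surjective
    (Subgroup.centralizer ({(g : G ⧸ P)} : Set (G ⧸ P)))
    (f := QuotientGroup.mk' P) (QuotientGroup.mk'_surjective P)
  rw [centralizer_mk_eq P hP hC hg] at h
  simp [centralChar, h]

omit hC in
theorem exists_regular_lift (x : G ⧸ P) (hx : ¬ p ∣ orderOf x) :
    ∃ g : G, ¬ p ∣ orderOf g ∧ (g : G ⧸ P) = x := by
  have hp : p.Prime := Fact.out
  obtain ⟨g, rfl⟩ := QuotientGroup.mk'_surjective P x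
  obtain ⟨y, hy⟩ := exists_isPPart hp g
  obtain ⟨s, hys, hc, ⟨k, hk⟩, hs⟩ := hy
  refine ⟨s, hs, ?_⟩
  have h : IsPPart p (QuotientGroup.mk' P g) (QuotientGroup.mk' P y) := by
    refine ⟨QuotientGroup.mk' P s, by rw [← map_mul, hys], hc.map _, ?_, ?_⟩
    · obtain ⟨i, -, hi⟩ := (Nat.dvd_prime_pow hp).1
        (hk ▸ orderOf_map_dvd (QuotientGroup.mk' P) y)
      exact ⟨i, hi⟩
    · exact fun h => hs (h.trans (orderOf_map_dvd _ s))
  have h1 := isPPart_unique hp h (isPPart_one_of_regular hx)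
  rw [← hys, map_mul, h1, one_mul]
  rfl

theorem sameBlock_inflation_iff (hM : IsPModular p M) (χ ψ : IrrCharacter (G ⧸ P)) :
    SameBlock M (χ : G ⧸ P → ℂ) (ψ : G ⧸ P → ℂ) ↔
      SameBlock M ((χ : G ⧸ P → ℂ) ∘ QuotientGroup.mk) ((ψ : G ⧸ P → ℂ) ∘ QuotientGroup.mk) := by
  have hinf : ∀ θ : IrrCharacter (G ⧸ P), IsIrrCharacter G ((θ : G ⧸ P → ℂ) ∘ QuotientGroup.mk) :=
    fun θ => by
      haveI := Fintype.ofFinite G
      haveI : Fintype (G ⧸ P) := Fintype.ofFinite _
      exact irr_comp (QuotientGroup.mk' P) (QuotientGroup.mk'_surjective P) θ.2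
  constructor
  · intro h
    refine sameBlock_of_regular hM (χ := ⟨_, hinf χ⟩) (ψ := ⟨_, hinf ψ⟩) fun g hg => ?_
    rw [centralChar_inflation P hP hC hg, centralChar_inflation P hP hC hg]
    exact (sameBlock_iff_red χ.2 ψ.2).1 h _
  · intro h
    refine sameBlock_of_regular hM fun x hx => ?_
    obtain ⟨g, hg, rfl⟩ := exists_regular_lift P hP x hx
    rw [← centralChar_inflation P hP hC hg, ← centralChar_inflation P hP hC hg]
    exact (sameBlock_iff_red (hinf χ) (hinf ψ)).1 h g

end quotient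

end CfsgLib.Blk
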