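import Cfsg.Agent.Blk.NormalDefect
import Cfsg.Agent.Blk.SecondMain

/-!
Elements at which a central character is a unit.
-/

set_option autoImplicit false
set_option linter.style.haveILetI false
set_option linter.unusedSectionVars false

namespace CfsgLib.Blk

open Cfsg CfsgLib.Char MonoidAlgebra Finset

universe u

variable {G : Type u} [Group G] [Finite G] {M : Ideal AlgInt} [M.IsPrime] {p : ℕ} [Fact p.Prime]

theorem isPPart_coe {H : Subgroup G} {g x : H} (h : IsPPart p g x) : IsPPart p (g : G) (x : G) := by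
  obtain ⟨y, hxy, hc, ⟨k, hk⟩, hy⟩ := h
  exact ⟨y, congrArg Subtype.val hxy, congrArg Subtype.val hc.eq,
    ⟨k, by rw [Subgroup.orderOf_coe, hk]⟩, by rwa [Subgroup.orderOf_coe]⟩

/-- A unit central character at `g` forces a conjugate in `C(P)` with `p`-part in `Z(P)`. -/
theorem exists_conj_central_part (hM : IsPModular p M) {B : Set (IrrCharacter G)}
    (hB : IsPBlock M B) {P : Subgroup G} (hP : IsDefectGroup p M B P) {χ : IrrCharacter G}
    (hχ : χ ∈ B) {g : G} (hu : ¬ MemLocalIdeal M (centralChar (χ : G → ℂ) g)) :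
    ∃ x : G, IsConj g x ∧ x ∈ Subgroup.centralizer (P : Set G) ∧
      ∀ z : G, IsPPart p x z → z ∈ P ∧ ∀ w ∈ P, z * w = w * z := by
  classical
  set H := P ⊔ Subgroup.centralizer (P : Set G) with hH
  have hPH : P ≤ H := le_sup_left
  have hHN : H ≤ Subgroup.normalizer (P : Set G) := le_normalizer_pc P
  haveI : Fintype H := Fintype.ofFinite _
  haveI : Fintype (ConjClasses H) := Fintype.ofFinite _
  haveI : (P.subgroupOf H).Normal := Subgroup.normal_subgroupOf_of_le_normalizer hHN
  have hPp := IsDefectGroup.isPGroup hP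
  obtain ⟨b, hb, hbD⟩ := exists_induced_of_defectGroup hM hPH le_sup_right hHN hB hP
  obtain ⟨hbB, -, hω⟩ := (isInducedBlock_iff H).1 hb
  obtain ⟨ξ, hξ⟩ := isPBlock_nonempty hbB
  have hcl := isClassCoeff_resA_brMap P H hHN (isClassCoeff_classSum (locRing M) g)
  have h1 : omegaBar (ξ : H → ℂ) (resA H (brMap P (classSum (locRing M) g))) ≠ 0 := by
    rw [← omegaBar_resA_brMap hM P H hPp hPH hHN ξ.2 (isClassCoeff_classSum _ g),
      hω ξ hξ χ hχ _ (isClassCoeff_classSum _ g), omegaBar_classSum χ.2]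
    exact (red_centralChar_ne_zero_iff χ.2 g).2 hu
  rw [omegaBar_eq_sum ξ.2 hcl] at h1
  obtain ⟨C, -, hC⟩ := Finset.exists_ne_zero_of_sum_ne_zero h1
  obtain ⟨h2, h3⟩ := mul_ne_zero_iff.1 hC
  rw [coeff_resA, coeff_brMap, coeff_classSum] at h2
  have hCP : ((C.out : H) : G) ∈ Subgroup.centralizer (P : Set G) := by
    by_contra h; rw [if_neg h, map_zero] at h2; exact h2 rfl
  rw [if_pos hCP] at h2
  have hconj : IsConj g ((C.out : H) : G) := by
    by_contra h; rw [if_neg h, map_zero] at h2; exact h2 rfl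
  refine ⟨_, hconj, hCP, fun z hz => ⟨?_, fun w hw => ?_⟩⟩
  swap
  · exact (isPPart_commute Fact.out hz (show Commute ((C.out : H) : G) w from (hCP w hw).symm)).eq
  obtain ⟨zH, hzH⟩ := exists_isPPart (Fact.out : p.Prime) (C.out : H)
  have he : (zH : G) = z := isPPart_unique Fact.out (isPPart_coe hzH) hz
  rw [← he]
  by_contra hzP
  refine (red_centralChar_ne_zero_iff ξ.2 C.out).1 h3 ?_
  have h0 : (ξ : H → ℂ) C.out = 0 := by
    refine char_eq_zero_of_notMem_defectGroup hM ξ hzH fun D hD hmem => hzP ?_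
    have hbeq : b = blockOf M (ξ : H → ℂ) := eq_blockOf hbB hξ
    have hle := normal_pgroup_le_defectGroup hM (blockOf_isPBlock ξ) _
      (hPp.of_equiv (Subgroup.subgroupOfEquivOfLe hPH).symm) hD
    have hcard : Nat.card D ≤ Nat.card (P.subgroupOf H) := by
      rw [card_defectGroup hM (blockOf_isPBlock ξ) hD,
        card_defectGroup hM (blockOf_isPBlock ξ) (hbeq ▸ hbD)]
    rw [← Subgroup.eq_of_le_of_card_ge hle hcard] at hmem
    exact Subgroup.mem_subgroupOf.1 hmem
  rw [centralChar, h0, mul_zero, zero_div]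
  exact memLocalIdeal_zero

end CfsgLib.Blk
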