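import Cfsg.Agent.Blk.Cover
import Cfsg.Agent.Blk.Pair.Principal
import Cfsg.Agent.Blk.Principal
import Mathlib.GroupTheory.Transfer

/-!
The principal block and a normal subgroup: every character of the principal block of the subgroup
lies under one of the principal block of the group.
-/

set_option autoImplicit false
set_option linter.style.haveILetI false
set_option linter.unusedSectionVars false

namespace CfsgLib.Blk

open Cfsg CfsgLib.Char CfsgLib.Blk.Pair MonoidAlgebra Finset
open scoped ComplexConjugate

universe u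

variable {G : Type u} [Group G] [Finite G] {M : Ideal AlgInt} [M.IsPrime] {p : ℕ} [Fact p.Prime]

/-- The centralizer of a Sylow subgroup has a normal `p`-complement. -/
theorem exists_complement_centralizer (P : Sylow p G) :
    ∃ O : Subgroup (Cn (P : Subgroup G)), O.Normal ∧ ¬ p ∣ Nat.card O ∧
      ∃ k, O.index = p ^ k := by
  obtain ⟨Q⟩ := (inferInstance : Nonempty (Sylow p (Cn (P : Subgroup G))))
  have hle : ∀ q : Cn (P : Subgroup G), q ∈ (Q : Subgroup _) → (q : G) ∈ (P : Subgroup G) := by
    intro q hq
    have hQ' : IsPGroup p ((Q : Subgroup _).map (Cn (P : Subgroup G)).subtype) := Q.2.map _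
    have hn : ((Q : Subgroup _).map (Cn (P : Subgroup G)).subtype) ≤
        Subgroup.normalizer ((P : Subgroup G) : Set G) :=
      (Subgroup.map_subtype_le _).trans (Subgroup.centralizer_le_normalizer _)
    have h1 := hQ'.to_sup_of_normal_right' P.2 hn
    exact (P.is_maximal' h1 le_sup_right).le (Subgroup.mem_sup_left ⟨q, hq, rfl⟩)
  have hP : Subgroup.normalizer ((Q : Subgroup (Cn (P : Subgroup G))) : Set _) ≤
      Subgroup.centralizer (Q : Set (Cn (P : Subgroup G))) := by
    intro x _
    rw [Subgroup.mem_centralizer_iff]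
    intro q hq
    exact Subtype.ext (Subgroup.mem_centralizer_iff.1 x.2 (q : G) (hle q hq))
  refine ⟨(MonoidHom.transferSylow Q hP).ker, inferInstance,
    MonoidHom.not_dvd_card_ker_transferSylow Q hP, ?_⟩
  obtain ⟨k, hk⟩ := IsPGroup.iff_card.1 Q.2
  exact ⟨k, by rw [(MonoidHom.ker_transferSylow_isComplement' Q hP).symm.index_eq_card, hk]⟩

/-- The Brauer image of the principal block idempotent at a Sylow subgroup. -/
theorem resA_bid_principal (hM : IsPModular p M) (P : Sylow p G)
    (O : Subgroup (Cn (P : Subgroup G))) [O.Normal] (hO : ¬ p ∣ Nat.card O)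
    (hidx : ∃ k, O.index = p ^ k) :
    resA (Cn (P : Subgroup G)) (bid M (principalBlock M G)) = hatA M O := by
  classical
  have hB : IsPBlock M (principalBlock M G) := isPBlock_principalBlock
  have hb := isClassCoeff_bid hM hB
  have hfix := fix_of_classCoeff (P : Subgroup G) hb
  refine eq_of_idem_lam hM (isClassCoeff_resA _ hb) (isClassCoeff_hatA O) ?_
    (hatA_mul_self hM O hO) fun ξ => ?_
  · rw [← resA_Cn_mul hM P.2 hfix hfix, bid_mul_self hM hB]
  · have hiff : val (P : Subgroup G) (ξ : Cn (P : Subgroup G) → ℂ) (bid M (principalBlock M G)) = 1 ↔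
        ξ ∈ principalBlock M (Cn (P : Subgroup G)) := by
      constructor
      · intro h1
        have h2 := isBrauerPairOf_of_mem hM hB ⟨P.2, blockOf_isPBlock ξ⟩
          (sameBlock_refl (ξ : Cn (P : Subgroup G) → ℂ)) h1
        rw [← (principal_pairOf_iff hM P.2).1 h2]
        exact sameBlock_refl _
      · intro h1
        haveI := Fintype.ofFinite G
        rw [val_congr (isPBlock_principal _) h1 (triv_mem_principal _) (fix_of_classCoeff _ hb),
          val_triv hM P.2 hfix, ← lam_trivial, lam_bid hM hB ⟨_, isIrr_one⟩,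
          if_pos (show (⟨_, isIrr_one⟩ : IrrCharacter G) ∈ principalBlock M G from sameBlock_refl _)]
    have h3 : val (P : Subgroup G) (ξ : Cn (P : Subgroup G) → ℂ) (bid M (principalBlock M G)) = 1 ↔
        lam (ξ : Cn (P : Subgroup G) → ℂ) (hatA M O) = 1 := by
      rw [hiff, mem_principal_iff_of_complement hM O hO hidx, lam_hatA hM O hO]
    rcases val_idem (ξ := ξ) hM P.2 (adm_of_classCoeff hb) (bid_mul_self hM hB) with h4 | h4
    · rcases lam_idem ξ.2 (isClassCoeff_hatA O) (hatA_mul_self hM O hO) with h5 | h5
      · exact h4.trans h5.symm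
      · exact absurd (h3.2 h5) (by rw [h4]; exact zero_ne_one)
    · exact h4.trans (h3.1 h4).symm

/-- The principal block idempotent has nonzero augmentation on every normal subgroup. -/
theorem sum_bid_principal_ne_zero (hM : IsPModular p M) (H : Subgroup G) [H.Normal] [Fintype H] :
    ∑ h : H, (bid M (principalBlock M G)).coeff (h : G) ≠ 0 := by
  classical
  haveI := charP_res (M := M) hM
  obtain ⟨P⟩ := (inferInstance : Nonempty (Sylow p G))
  obtain ⟨O, hOn, hO, hidx⟩ := exists_complement_centralizer P
  have hB : IsPBlock M (principalBlock M G) := isPBlock_principalBlock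
  have hb := isClassCoeff_bid hM hB
  letI : MulAction (P : Subgroup G) H :=
    { smul := fun q x => ⟨(q : G) * x * (q : G)⁻¹, (inferInstance : H.Normal).conj_mem _ x.2 _⟩
      one_smul := fun x => Subtype.ext (by
        show ((1 : (P : Subgroup G)) : G) * x * ((1 : (P : Subgroup G)) : G)⁻¹ = x
        simp)
      mul_smul := fun q r x => Subtype.ext (by
        show ((q * r : (P : Subgroup G)) : G) * x * ((q * r : (P : Subgroup G)) : G)⁻¹ =
          (q : G) * ((r : G) * x * (r : G)⁻¹) * (q : G)⁻¹
        simp [mul_assoc]) }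
  rw [sum_eq_sum_fixedPoints P.2 (fun h : H => (bid M (principalBlock M G)).coeff (h : G))
    fun q x => hb (x : G) (q : G)]
  have hfix : ∀ x : H, x ∈ MulAction.fixedPoints (P : Subgroup G) H ↔
      (x : G) ∈ Cn (P : Subgroup G) := by
    intro x
    rw [MulAction.mem_fixedPoints, Subgroup.mem_centralizer_iff]
    constructor
    · intro h q hq
      exact mul_inv_eq_iff_eq_mul.1 (congrArg Subtype.val (h ⟨q, hq⟩))
    · intro h q
      refine Subtype.ext ?_
      show (q : G) * x * (q : G)⁻¹ = x
      rw [h q q.2, mul_inv_cancel_right]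
  let L : Subgroup G := O.map (Cn (P : Subgroup G)).subtype ⊓ H
  have hcoef : ∀ x : H, x ∈ MulAction.fixedPoints (P : Subgroup G) H →
      (bid M (principalBlock M G)).coeff (x : G) =
        if (x : G) ∈ L then (Nat.card O : Res M)⁻¹ else 0 := by
    intro x hx
    have h1 := congrArg (fun z => MonoidAlgebra.coeff z (⟨(x : G), (hfix x).1 hx⟩ : Cn (P : Subgroup G)))
      (resA_bid_principal hM P O hO hidx)
    simp only [coeff_resA, coeff_hatA] at h1
    rw [h1]
    refine if_congr ⟨fun h => ⟨⟨_, h, rfl⟩, x.2⟩, fun h => ?_⟩ rfl rfl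
    obtain ⟨o, ho, e⟩ := h.1
    rwa [show (⟨(x : G), (hfix x).1 hx⟩ : Cn (P : Subgroup G)) = o from Subtype.ext e.symm]
  rw [Finset.sum_congr rfl fun x hx => hcoef x (Finset.mem_filter.1 hx).2, Finset.sum_ite,
    Finset.sum_const, Finset.sum_const_zero, add_zero, nsmul_eq_mul]
  have hcard : ((Finset.univ.filter (· ∈ MulAction.fixedPoints (P : Subgroup G) H)).filter
      fun x : H => (x : G) ∈ L).card = Nat.card L := by
    rw [Finset.filter_filter, ← Fintype.card_subtype, ← Nat.card_eq_fintype_card]
    refine Nat.card_congr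
      { toFun := fun x => ⟨(x.1 : G), x.2.2⟩
        invFun := fun y => ⟨⟨y.1, y.2.2⟩, (hfix _).2 (Subgroup.map_subtype_le O y.2.1), y.2⟩
        left_inv := fun x => rfl
        right_inv := fun y => rfl }
  rw [hcard]
  have hdvd : Nat.card L ∣ Nat.card O := by
    refine (Subgroup.card_dvd_of_le inf_le_left).trans ?_
    rw [Subgroup.card_map_of_injective (Subgroup.subtype_injective _)]
  refine mul_ne_zero (fun h => hO ?_) (inv_ne_zero fun h => hO ?_)
  · exact ((CharP.cast_eq_zero_iff (Res M) p _).1 h).trans hdvd
  · exact (CharP.cast_eq_zero_iff (Res M) p _).1 h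

/-- Every character of the principal block of a normal subgroup lies under the principal
block. -/
theorem exists_principal_over [Fintype G] (hM : IsPModular p M) (H : Subgroup G) [H.Normal]
    [Fintype H] {θ : IrrCharacter H} (hθ : θ ∈ principalBlock M H) :
    ∃ χ ∈ principalBlock M G, classInner (fun n : H => (χ : G → ℂ) n) (θ : H → ℂ) ≠ 0 := by
  classical
  by_contra hne
  push Not at hne
  refine sum_bid_principal_ne_zero hM H ?_
  have hB : IsPBlock M (principalBlock M G) := isPBlock_principalBlock
  have hb := isClassCoeff_bid hM hB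
  rw [show ∑ h : H, (bid M (principalBlock M G)).coeff (h : G) =
      ∑ h : H, (resA H (bid M (principalBlock M G))).coeff h from
    Finset.sum_congr rfl fun h _ => (coeff_resA _ _ _).symm, ← lam_trivial,
    lam_congr isIrr_one θ.2 hθ (isClassCoeff_resA H hb), bid_eq hM hB, ← redA_resA,
    lam_redA θ.2 (isClassCoeff_resA H (isClassCoeff_blockIdem hM hB)), omegaBar,
    ← omega_indFun H (θ : H → ℂ) (isClassCoeff_blockIdem hM hB), omega_eq]
  simp only [coeff_blockIdem]
  have hz : ∀ χ ∈ principalBlock M G, classInner (indFun H (θ : H → ℂ)) (χ : G → ℂ) = 0 :=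
    fun χ hχ => by rw [frobenius H _ (classFun_of_irr χ.2), ← classInner_conj, hne χ hχ, map_zero]
  have h0 : ∑ g : G, blockCoeff (principalBlock M G) g * indFun H (θ : H → ℂ) g = 0 := by
    have e : indFun H (θ : H → ℂ) = ∑ χ : IrrCharacter G,
        classInner (indFun H (θ : H → ℂ)) (χ : G → ℂ) • (χ : G → ℂ) :=
      classFun_eq_sum (indFun_classFun H _)
    calc ∑ g : G, blockCoeff (principalBlock M G) g * indFun H (θ : H → ℂ) g
        = ∑ χ : IrrCharacter G, classInner (indFun H (θ : H → ℂ)) (χ : G → ℂ) *
            ∑ g : G, blockCoeff (principalBlock M G) g * (χ : G → ℂ) g := by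
          simp only [Finset.mul_sum]
          rw [Finset.sum_comm]
          refine Finset.sum_congr rfl fun g _ => ?_
          conv_lhs => rw [e]
          simp only [Finset.sum_apply, Pi.smul_apply, smul_eq_mul, Finset.mul_sum]
          exact Finset.sum_congr rfl fun χ _ => by ring
      _ = 0 := Finset.sum_eq_zero fun χ _ => by
          rw [sum_blockCoeff_mul]
          by_cases hχ : χ ∈ principalBlock M G
          · rw [hz χ hχ, zero_mul]
          · rw [if_neg hχ, mul_zero]
  rw [h0, zero_div, red_zero]

end CfsgLib.Blk
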