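import Cfsg.Agent.Blk.MinMax
import Cfsg.Agent.Blk.PrincipalNormal

/-!
Numbers of blocks and numbers of `p`-regular classes of given defect.
-/

set_option autoImplicit false
set_option linter.style.haveILetI false
set_option linter.unusedSectionVars false

namespace CfsgLib.Blk

open Cfsg CfsgLib.Char CfsgLib.Blk.Pair MonoidAlgebra Finset IsLocalRing

universe u

variable {G : Type u} [Group G] [Finite G] {M : Ideal AlgInt} [M.IsPrime] {p : ℕ} [Fact p.Prime]

/-- Blocks whose central characters vanish on the regular classes outside `X` are at most as many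
as the classes in `X`. -/
theorem card_block_le_classes (hM : IsPModular p M) (Q : Set (IrrCharacter G) → Prop)
    (X : Set (ConjClasses G))
    (hX : ∀ B, IsPBlock M B → Q B → ∀ χ ∈ B, ∀ g : G, ¬ p ∣ orderOf g → ConjClasses.mk g ∉ X →
      red M (centralChar (χ : G → ℂ) g) = 0) :
    Nat.card {B : Set (IrrCharacter G) // IsPBlock M B ∧ Q B} ≤ Nat.card X := by
  classical
  haveI := Fintype.ofFinite G
  haveI : Fintype (ConjClasses G) := Fintype.ofFinite _
  haveI : Fintype {B : Set (IrrCharacter G) // IsPBlock M B ∧ Q B} := Fintype.ofFinite _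
  choose rep hrep using fun B : {B : Set (IrrCharacter G) // IsPBlock M B ∧ Q B} =>
    isPBlock_nonempty B.2.1
  let v : {B : Set (IrrCharacter G) // IsPBlock M B ∧ Q B} → (X → Res M) :=
    fun B C => red M (centralChar (rep B : G → ℂ) C.1.out)
  have hli : LinearIndependent (Res M) v := by
    rw [Fintype.linearIndependent_iff]
    intro c hc B'
    have hb := isClassCoeff_bid hM B'.2.1
    have h1 : ∑ B, c B * lam (rep B : G → ℂ) (bid M B'.1) = 0 := by
      simp only [lam_eq_sum (rep _).2 hb, Finset.mul_sum]
      rw [Finset.sum_comm]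
      refine Finset.sum_eq_zero fun C _ => ?_
      by_cases hC : C ∈ X
      · have h2 := congrFun hc ⟨C, hC⟩
        simp only [Finset.sum_apply, Pi.smul_apply, smul_eq_mul, v, Pi.zero_apply] at h2
        calc ∑ B, c B * ((bid M B'.1).coeff C.out * red M (centralChar (rep B : G → ℂ) C.out))
            = (bid M B'.1).coeff C.out * ∑ B, c B * red M (centralChar (rep B : G → ℂ) C.out) := by
              rw [Finset.mul_sum]
              exact Finset.sum_congr rfl fun B _ => by ring
          _ = 0 := by rw [h2, mul_zero]
      · by_cases hr : p ∣ orderOf C.out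
        · refine Finset.sum_eq_zero fun B _ => ?_
          rw [coeff_bid, blockCoeff_eq_zero_of_singular hM B'.2.1 hr, red_zero, zero_mul, mul_zero]
        · refine Finset.sum_eq_zero fun B _ => ?_
          rw [hX B.1 B.2.1 B.2.2 (rep B) (hrep B) C.out hr
            (by rwa [show ConjClasses.mk C.out = C from Quotient.out_eq C]), mul_zero, mul_zero]
    rw [Finset.sum_eq_single B'] at h1
    · rwa [lam_bid hM B'.2.1, if_pos (hrep B'), mul_one] at h1
    · intro B _ hne
      rw [lam_bid hM B'.2.1, if_neg, mul_zero]
      exact fun h => hne (Subtype.ext (eq_of_mem_of_mem B.2.1 B'.2.1 (hrep B) h))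
    · simp
  haveI := Fintype.ofFinite X
  have h := hli.fintype_card_le_finrank
  rwa [Module.finrank_fintype_fun_eq_card, ← Nat.card_eq_fintype_card,
    ← Nat.card_eq_fintype_card] at h

/-- Classes inside a subgroup of order prime to `p` are at most as many as the blocks. -/
theorem card_classes_le_block (hM : IsPModular p M) (O : Subgroup G) (hO : ¬ p ∣ Nat.card O)
    (X : Set (ConjClasses G)) (hX : ∀ g : G, ConjClasses.mk g ∈ X → g ∈ O) :
    Nat.card X ≤ Nat.card {B : Set (IrrCharacter G) // IsPBlock M B} := by
  classical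
  haveI := Fintype.ofFinite G
  haveI := Fintype.ofFinite O
  haveI : Fintype (ConjClasses G) := Fintype.ofFinite _
  haveI : Fintype {B : Set (IrrCharacter G) // IsPBlock M B} := Fintype.ofFinite _
  haveI : Fintype X := Fintype.ofFinite _
  choose rep hrep using fun B : {B : Set (IrrCharacter G) // IsPBlock M B} =>
    isPBlock_nonempty B.2
  let T : (X → Res M) →ₗ[Res M] ({B : Set (IrrCharacter G) // IsPBlock M B} → Res M) :=
    { toFun := fun f B => ∑ C : X, f C * red M (centralChar (rep B : G → ℂ) C.1.out)
      map_add' := fun f g => funext fun B => by simp [add_mul, Finset.sum_add_distrib]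
      map_smul' := fun r f => funext fun B => by simp [mul_assoc, Finset.mul_sum] }
  have hinj : Function.Injective T := by
    rw [← LinearMap.ker_eq_bot, LinearMap.ker_eq_bot']
    intro f hf
    let F : ConjClasses G → Res M := fun C => if h : C ∈ X then f ⟨C, h⟩ else 0
    let a : KA M G := MonoidAlgebra.ofCoeff (Finsupp.ofSupportFinite
      (fun g => F (ConjClasses.mk g)) (Set.toFinite _))
    have hac : ∀ g, a.coeff g = F (ConjClasses.mk g) := fun _ => rfl
    have ha : IsClassCoeff a := fun g h => by
      rw [hac, hac]
      exact congrArg F (ConjClasses.mk_eq_mk_iff_isConj.2 (isConj_iff.2 ⟨h⁻¹, by group⟩))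
    have hsupp : ∀ g, g ∉ O → a.coeff g = 0 := fun g hg => by
      rw [hac]; exact dif_neg fun h => hg (hX g h)
    have hnil : IsNilpotent a := by
      refine isNilpotent_of_lam hM ha fun χ => ?_
      let B : {B : Set (IrrCharacter G) // IsPBlock M B} := ⟨_, blockOf_isPBlock χ⟩
      rw [lam_congr χ.2 (rep B).2 (hrep B) ha, lam_eq_sum (rep B).2 ha]
      refine Eq.trans ?_ (congrFun hf B)
      simp only [T, LinearMap.coe_mk, AddHom.coe_mk, hac,
        show ∀ C : ConjClasses G, ConjClasses.mk C.out = C from fun C => Quotient.out_eq C]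
      rw [← Finset.sum_subset (Finset.subset_univ (Finset.univ.filter (· ∈ X))) (fun C _ hC => by
        simp only [F, dif_neg (by simpa using hC), zero_mul])]
      rw [Finset.sum_subtype (p := fun C => C ∈ X) _ (fun C => by simp)]
      exact Finset.sum_congr rfl fun C _ => by simp only [F, dif_pos C.2]
    have ha' := isClassCoeff_resA O ha
    have hnil' : IsNilpotent (resA O a) := by
      obtain ⟨n, hn⟩ := hnil
      refine ⟨n, inA_injective O ?_⟩
      rw [map_pow, show inA O (resA O a) = a from mapDomain_resA O hsupp, hn, map_zero]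
    have hz : ∀ x : O, (resA O a).coeff x = 0 := by
      intro x
      have hA := isClassCoeff_liftA ha'
      have hc : residue (locRing M) ((liftA (resA O a)).coeff x) = 0 := by
        rw [residue_eq_zero_iff, omega_inversion hA x]
        refine memLocalIdeal_mul_left (natCast_inv_mem hM hO) (memLocalIdeal_sum _ _ fun θ _ => ?_)
        refine memLocalIdeal_mul_right (memLocalIdeal_mul_right ?_ (irr_mem θ 1)) (conj_irr_mem θ x)
        rw [← red_eq_zero_iff (omega_mem θ.2 hA)]
        exact lam_eq_zero_of_isNilpotent θ.2 ha' hnil'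
      rwa [← coeff_redA, redA_liftA] at hc
    funext C
    have h := hz ⟨C.1.out, hX _ (by rw [show ConjClasses.mk C.1.out = C.1 from Quotient.out_eq _]; exact C.2)⟩
    rw [coeff_resA, hac] at h
    simp only [F, show ConjClasses.mk C.1.out = C.1 from Quotient.out_eq _, dif_pos C.2] at h
    exact h
  have h := LinearMap.finrank_le_finrank_of_injective hinj
  rwa [Module.finrank_fintype_fun_eq_card, Module.finrank_fintype_fun_eq_card,
    ← Nat.card_eq_fintype_card, ← Nat.card_eq_fintype_card] at h

/-- The central character of a block vanishes on classes of smaller defect. -/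
theorem red_centralChar_eq_zero_of_defect (hM : IsPModular p M) {B : Set (IrrCharacter G)}
    (hB : IsPBlock M B) {χ : IrrCharacter G} (hχ : χ ∈ B) {g : G}
    (hg : (Nat.card (Subgroup.centralizer ({g} : Set G))).factorization p < blockDefect p B) :
    red M (centralChar (χ : G → ℂ) g) = 0 := by
  by_contra hne
  obtain ⟨D, hD⟩ := exists_isDefectGroup hM hB
  obtain ⟨Q, hQ⟩ := exists_isSylowIn (p := p) (Subgroup.centralizer ({g} : Set G))
  obtain ⟨x, hx⟩ := minmax_ge hM hB hD hχ g ((red_centralChar_ne_zero_iff χ.2 g).1 hne) hQ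
  have h := Subgroup.card_dvd_of_le hx
  rw [Subgroup.card_map_of_injective (MulAut.conj x).injective, card_defectGroup hM hB hD,
    hQ.card] at h
  exact absurd ((Nat.pow_dvd_pow_iff_le_right (Fact.out : p.Prime).one_lt).1 h) (not_le.2 hg)

end CfsgLib.Blk
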