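import Cfsg.Agent.Blk.Contrib
import Mathlib.RingTheory.Polynomial.Cyclotomic.Roots
import Mathlib.RingTheory.Polynomial.Cyclotomic.Eval
import Mathlib.RingTheory.PowerBasis

/-!
Coefficients with respect to the powers of a root of unity of 2-power order.
-/

set_option autoImplicit false
set_option linter.style.haveILetI false
set_option linter.unusedSectionVars false

namespace CfsgLib.TwoCyc

open Cfsg CfsgLib.Char CfsgLib.Blk Polynomial
open scoped ComplexConjugate

variable {k : ℕ} {ζ : ℂ} (hζ : IsPrimitiveRoot ζ (2 ^ (k + 1)))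

/-- A combination of the first `2 ^ k` powers of `ζ`. -/
noncomputable def ev (k : ℕ) (ζ : ℂ) (r : ℕ → ℤ) : ℂ :=
  ∑ i ∈ Finset.range (2 ^ k), (r i : ℂ) * ζ ^ i

/-- The numbers with a reduced expression. -/
noncomputable def IsRep (k : ℕ) (ζ : ℂ) (x : ℂ) : Prop := ∃ r : ℕ → ℤ, x = ev k ζ r

include hζ

theorem pow_half : ζ ^ (2 ^ k) = -1 := by
  have h1 : (ζ ^ (2 ^ k)) ^ 2 = 1 := by rw [← pow_mul, ← pow_succ, hζ.pow_eq_one]
  refine (sq_eq_one_iff.1 h1).resolve_left fun h => ?_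
  have := Nat.le_of_dvd (by positivity) (hζ.dvd_of_pow_eq_one _ h)
  rw [pow_succ] at this
  have := Nat.one_le_two_pow (n := k)
  omega

theorem ne_zero : ζ ≠ 0 := hζ.ne_zero (by positivity)

theorem conj_zeta : conj ζ = ζ⁻¹ := conj_root (by positivity) hζ.pow_eq_one

theorem conj_pow {i : ℕ} (hi : i ≤ 2 ^ k) : conj (ζ ^ i) = -ζ ^ (2 ^ k - i) := by
  rw [map_pow, conj_zeta hζ, inv_pow, eq_comm, neg_eq_iff_eq_neg, pow_sub₀ _ (ne_zero hζ) hi,
    pow_half hζ]
  ring

theorem eq_zero_of_ev {r : ℕ → ℤ} (h : ev k ζ r = 0) : ∀ i < 2 ^ k, r i = 0 := by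
  have hpos : 0 < 2 ^ (k + 1) := by positivity
  have hmin := cyclotomic_eq_minpoly_rat hζ hpos
  have hdeg : (minpoly ℚ ζ).natDegree = 2 ^ k := by
    rw [← hmin, natDegree_cyclotomic, Nat.totient_prime_pow Nat.prime_two (Nat.succ_pos k)]
    simp
  have hli := linearIndependent_pow (K := ℚ) ζ
  rw [Fintype.linearIndependent_iff] at hli
  intro i hi
  have h2 := hli (fun j => (r j : ℚ)) ?_ ⟨i, hdeg.symm ▸ hi⟩
  · exact_mod_cast h2
  rw [← h, ev, ← hdeg]
  rw [← Fin.sum_univ_eq_sum_range]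
  refine Finset.sum_congr rfl fun j _ => ?_
  rw [Algebra.smul_def]
  simp

theorem ev_congr_iff {r s : ℕ → ℤ} (h : ev k ζ r = ev k ζ s) : ∀ i < 2 ^ k, r i = s i := by
  intro i hi
  have h0 : ev k ζ (fun i => r i - s i) = 0 := by
    rw [← sub_eq_zero] at h
    rw [← h, ev, ev, ev, ← Finset.sum_sub_distrib]
    exact Finset.sum_congr rfl fun j _ => by push_cast; ring
  exact sub_eq_zero.1 (eq_zero_of_ev hζ h0 i hi)

omit hζ in
theorem rep_zero : IsRep k ζ 0 := ⟨0, by simp [ev]⟩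

omit hζ in
theorem rep_add {x y : ℂ} (hx : IsRep k ζ x) (hy : IsRep k ζ y) : IsRep k ζ (x + y) := by
  obtain ⟨r, rfl⟩ := hx
  obtain ⟨s, rfl⟩ := hy
  exact ⟨r + s, by simp [ev, add_mul, Finset.sum_add_distrib]⟩

omit hζ in
theorem rep_int_mul (n : ℤ) {x : ℂ} (hx : IsRep k ζ x) : IsRep k ζ ((n : ℂ) * x) := by
  obtain ⟨r, rfl⟩ := hx
  exact ⟨fun i => n * r i, by simp [ev, Finset.mul_sum, mul_assoc]⟩

omit hζ in
theorem rep_sum {ι : Type*} (s : Finset ι) (f : ι → ℂ) (h : ∀ i ∈ s, IsRep k ζ (f i)) :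
    IsRep k ζ (∑ i ∈ s, f i) :=
  Finset.sum_induction f (IsRep k ζ) (fun _ _ => rep_add) rep_zero h

theorem rep_pow (e : ℕ) : IsRep k ζ (ζ ^ e) := by
  have hsmall : ∀ i < 2 ^ k, IsRep k ζ (ζ ^ i) := fun i hi =>
    ⟨fun j => if j = i then 1 else 0, by simp [ev, hi]⟩
  rw [pow_eq_pow_mod e hζ.pow_eq_one]
  by_cases h : e % 2 ^ (k + 1) < 2 ^ k
  · exact hsmall _ h
  · have hlt := Nat.mod_lt e (show 0 < 2 ^ (k + 1) by positivity)
    obtain ⟨j, hj⟩ := Nat.exists_eq_add_of_le (not_lt.1 h)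
    rw [hj, pow_add, pow_half hζ]
    have := rep_int_mul (-1) (hsmall j (by rw [pow_succ] at hlt; omega))
    simpa using this

/-- The coefficient reversal of complex conjugation. -/
theorem conj_ev (r : ℕ → ℤ) :
    conj (ev k ζ r) = ev k ζ (fun i => if i = 0 then r 0 else -r (2 ^ k - i)) := by
  obtain ⟨m, hm⟩ : ∃ m, 2 ^ k = m + 1 := ⟨2 ^ k - 1, by have := Nat.one_le_two_pow (n := k); omega⟩
  rw [ev, ev, map_sum, hm, Finset.sum_range_succ' _ m, Finset.sum_range_succ' _ m]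
  congr 1
  · rw [← Finset.sum_range_reflect]
    refine Finset.sum_congr rfl fun i hi => ?_
    rw [Finset.mem_range] at hi
    rw [map_mul, map_intCast, conj_pow hζ (by omega), hm, if_neg (by omega)]
    rw [show m + 1 - (i + 1) = m - 1 - i + 1 by omega, show m + 1 - (m - 1 - i + 1) = i + 1 by omega]
    push_cast
    ring
  · simp

/-- A real combination: the constant coefficient is the sum of all coefficients. -/
theorem eval_one_of_real {r : ℕ → ℤ} (h : conj (ev k ζ r) = ev k ζ r) :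
    ∑ i ∈ Finset.range (2 ^ k), r i = r 0 := by
  rw [conj_ev hζ] at h
  have h1 := ev_congr_iff hζ h
  obtain ⟨m, hm⟩ : ∃ m, 2 ^ k = m + 1 := ⟨2 ^ k - 1, by have := Nat.one_le_two_pow (n := k); omega⟩
  rw [hm, Finset.sum_range_succ' _ m]
  have h2 : ∑ i ∈ Finset.range m, r (i + 1) = -∑ i ∈ Finset.range m, r (i + 1) := by
    conv_lhs => rw [← Finset.sum_range_reflect]
    rw [← Finset.sum_neg_distrib]
    refine Finset.sum_congr rfl fun i hi => ?_
    rw [Finset.mem_range] at hi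
    have := h1 (m - 1 - i + 1) (by omega)
    rw [if_neg (by omega), hm, show m + 1 - (m - 1 - i + 1) = i + 1 by omega] at this
    exact this.symm
  omega

/-- The span of the nonconstant powers. -/
theorem const_eq_zero {c : ℤ}
    (h : (c : ℂ) ∈ Submodule.span ℤ ((fun i => ζ ^ i) '' {i : ℕ | 1 ≤ i ∧ i < 2 ^ k})) : c = 0 := by
  have key : ∀ x ∈ Submodule.span ℤ ((fun i => ζ ^ i) '' {i : ℕ | 1 ≤ i ∧ i < 2 ^ k}),
      ∃ r : ℕ → ℤ, x = ev k ζ r ∧ r 0 = 0 := by
    intro x hx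
    induction hx using Submodule.span_induction with
    | mem x hx =>
      obtain ⟨i, ⟨h1, h2⟩, rfl⟩ := hx
      exact ⟨fun j => if j = i then 1 else 0, by simp [ev, h2], if_neg (by omega)⟩
    | zero => exact ⟨0, by simp [ev], rfl⟩
    | add a b _ _ ha hb =>
      obtain ⟨r, rfl, hr⟩ := ha
      obtain ⟨s, rfl, hs⟩ := hb
      exact ⟨r + s, by simp [ev, add_mul, Finset.sum_add_distrib], by simp [hr, hs]⟩
    | smul n a _ ha =>
      obtain ⟨r, rfl, hr⟩ := ha
      exact ⟨fun i => n * r i, by simp [ev, Finset.mul_sum, mul_assoc], by simp [hr]⟩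
  obtain ⟨r, hr, hr0⟩ := key _ h
  have h2 : ev k ζ (fun i => if i = 0 then c else 0) = ev k ζ r := by
    rw [← hr]; simp [ev]
  have := ev_congr_iff hζ h2 0 (by positivity)
  simpa [hr0] using this

/-- The constant coefficient of a product with a conjugate. -/
theorem mul_conj_ev (r s : ℕ → ℤ) :
    ev k ζ r * conj (ev k ζ s) - ((∑ i ∈ Finset.range (2 ^ k), r i * s i : ℤ) : ℂ) ∈
      Submodule.span ℤ ((fun i => ζ ^ i) '' {i : ℕ | 1 ≤ i ∧ i < 2 ^ k}) := by
  classical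
  have e : ev k ζ r * conj (ev k ζ s) - ((∑ i ∈ Finset.range (2 ^ k), r i * s i : ℤ) : ℂ) =
      ∑ i ∈ Finset.range (2 ^ k), ∑ j ∈ Finset.range (2 ^ k),
        if i = j then 0 else (r i * s j : ℤ) • (ζ ^ i * conj (ζ ^ j)) := by
    rw [ev, ev, map_sum, Finset.sum_mul_sum, Int.cast_sum, ← Finset.sum_sub_distrib]
    refine Finset.sum_congr rfl fun i hi => ?_
    rw [show ((r i * s i : ℤ) : ℂ) = ∑ j ∈ Finset.range (2 ^ k), if i = j then ((r i * s i : ℤ) : ℂ) else 0 by
      simp [hi], ← Finset.sum_sub_distrib]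
    refine Finset.sum_congr rfl fun j _ => ?_
    split_ifs with h
    · subst h
      have h1 : ζ ^ i * conj (ζ ^ i) = 1 := by
        rw [map_pow, conj_zeta hζ, ← mul_pow, mul_inv_cancel₀ (ne_zero hζ), one_pow]
      rw [map_mul, map_intCast, sub_eq_zero]
      push_cast
      linear_combination (r i : ℂ) * (s i : ℂ) * h1
    · rw [map_mul, map_intCast, zsmul_eq_mul]
      push_cast
      ring
  rw [e]
  refine Submodule.sum_mem _ fun i hi => Submodule.sum_mem _ fun j hj => ?_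
  rw [Finset.mem_range] at hi hj
  split_ifs with h
  · exact Submodule.zero_mem _
  refine Submodule.smul_mem _ _ ?_
  rcases Nat.lt_or_gt_of_ne h with h | h
  · rw [conj_pow hζ hj.le, mul_neg, ← pow_add]
    exact Submodule.neg_mem _ (Submodule.subset_span ⟨_, ⟨by omega, by omega⟩, rfl⟩)
  · rw [map_pow, conj_zeta hζ, inv_pow, ← pow_sub₀ _ (ne_zero hζ) h.le]
    exact Submodule.subset_span ⟨_, ⟨by omega, by omega⟩, rfl⟩

/-- A diagonal relation gives the relation of constant coefficients. -/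
theorem const_sq {ι : Type*} [Fintype ι] (r : ι → ℕ → ℤ) (c : ℤ) (s : ℕ → ℤ)
    (h : ∑ x : ι, ev k ζ (r x) * conj (ev k ζ (r x)) = (c : ℂ) * ev k ζ s) :
    ∑ x : ι, ∑ i ∈ Finset.range (2 ^ k), r x i ^ 2 = c * s 0 := by
  set S := Submodule.span ℤ ((fun i => ζ ^ i) '' {i : ℕ | 1 ≤ i ∧ i < 2 ^ k})
  refine sub_eq_zero.1 (const_eq_zero hζ ?_)
  have h1 := Submodule.sum_mem S (t := Finset.univ) (fun x _ => mul_conj_ev hζ (r x) (r x))
  rw [Finset.sum_sub_distrib, h] at h1
  have h2 : (c : ℂ) * ev k ζ s - ((c * s 0 : ℤ) : ℂ) ∈ S := by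
    obtain ⟨m, hm⟩ : ∃ m, 2 ^ k = m + 1 := ⟨2 ^ k - 1, by have := Nat.one_le_two_pow (n := k); omega⟩
    rw [ev, hm, Finset.sum_range_succ' _ m]
    have e : (c : ℂ) * (∑ i ∈ Finset.range m, (s (i + 1) : ℂ) * ζ ^ (i + 1) + (s 0 : ℂ) * ζ ^ 0) - ((c * s 0 : ℤ) : ℂ) =
        ∑ i ∈ Finset.range m, (c * s (i + 1) : ℤ) • ζ ^ (i + 1) := by
      rw [pow_zero, mul_one, mul_add, Finset.mul_sum]
      push_cast
      simp only [zsmul_eq_mul, Int.cast_mul]
      rw [add_sub_cancel_right]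
      exact Finset.sum_congr rfl fun i _ => by ring
    rw [e]
    refine Submodule.sum_mem _ fun i hi => Submodule.smul_mem _ _ ?_
    rw [Finset.mem_range] at hi
    exact Submodule.subset_span ⟨_, ⟨by omega, by omega⟩, rfl⟩
  have h3 := Submodule.sub_mem S h2 h1
  have e3 : ((∑ x : ι, ∑ i ∈ Finset.range (2 ^ k), r x i ^ 2 - c * s 0 : ℤ) : ℂ) =
      ((c : ℂ) * ev k ζ s - ((c * s 0 : ℤ) : ℂ)) -
        ((c : ℂ) * ev k ζ s - ∑ x : ι, ((∑ i ∈ Finset.range (2 ^ k), r x i * r x i : ℤ) : ℂ)) := by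
    simp only [pow_two]
    push_cast
    ring
  rw [e3]
  exact h3

variable {M : Ideal AlgInt} [M.IsPrime] (hM : IsPModular 2 M)
include hM

theorem red_ev (r : ℕ → ℤ) :
    ev k ζ r ∈ locRing M ∧ red M (ev k ζ r) = ((∑ i ∈ Finset.range (2 ^ k), r i : ℤ) : Res M) := by
  haveI : Fact (Nat.Prime 2) := ⟨Nat.prime_two⟩
  have hm : ∀ i, ζ ^ i ∈ locRing M := fun i =>
    pow_mem (integral_mem (IsPrimitiveRoot.isIntegral hζ (by positivity))) i
  have hr : ∀ i, red M (ζ ^ i) = 1 := by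
    intro i
    have h := red_aeval_root hM hζ.pow_eq_one ((X : ℤ[X]) ^ i)
    simpa using h
  refine ⟨sum_mem fun i _ => mul_mem (intCast_mem _ _) (hm i), ?_⟩
  rw [ev, red_sum _ _ fun i _ => mul_mem (intCast_mem _ _) (hm i), Int.cast_sum]
  exact Finset.sum_congr rfl fun i _ => by rw [red_mul (intCast_mem _ _) (hm i), hr, mul_one, red_intCast]

theorem exists_two_eq : ∃ w ∈ locRing M, (2 : ℂ) = (ζ - 1) ^ (2 ^ k) * w := by
  classical
  haveI : Fact (Nat.Prime 2) := ⟨Nat.prime_two⟩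
  have hev := congrArg (fun P : ℂ[X] => P.eval 1) (cyclotomic_eq_prod_X_sub_primitiveRoots hζ)
  simp only [eval_one_cyclotomic_prime_pow, eval_prod, eval_sub, eval_X, eval_C] at hev
  have hcard : (primitiveRoots (2 ^ (k + 1)) ℂ).card = 2 ^ k := by
    rw [hζ.card_primitiveRoots, Nat.totient_prime_pow Nat.prime_two (Nat.succ_pos k)]
    simp
  have hfac : ∀ μ ∈ primitiveRoots (2 ^ (k + 1)) ℂ, ∃ g ∈ locRing M, 1 - μ = (ζ - 1) * g := by
    intro μ hμ
    obtain ⟨i, -, rfl⟩ := hζ.eq_pow_of_pow_eq_one (isPrimitiveRoot_of_mem_primitiveRoots hμ).pow_eq_one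
    refine ⟨-∑ j ∈ Finset.range i, ζ ^ j, neg_mem (sum_mem fun j _ =>
      pow_mem (integral_mem (IsPrimitiveRoot.isIntegral hζ (by positivity))) j), ?_⟩
    rw [mul_neg, mul_geom_sum]
    ring
  choose! g hg hgeq using hfac
  refine ⟨∏ μ ∈ primitiveRoots (2 ^ (k + 1)) ℂ, g μ, prod_mem hg, ?_⟩
  rw [← hcard, ← Finset.prod_const, ← Finset.prod_mul_distrib, ← Finset.prod_congr rfl hgeq, ← hev]
  norm_num

/-- A small polynomial highly divisible at `ζ` has even coefficients. -/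
theorem even_coeff : ∀ j ≤ 2 ^ k, ∀ P : ℤ[X], (∀ i, j ≤ i → P.coeff i = 0) →
    (∃ y ∈ locRing M, aeval ζ P = (ζ - 1) ^ j * y) → ∀ i, (2 : ℤ) ∣ P.coeff i := by
  haveI : Fact (Nat.Prime 2) := ⟨Nat.prime_two⟩
  obtain ⟨w, hw, hw2⟩ := exists_two_eq hζ hM
  have hπ : ζ - 1 ∈ locRing M :=
    sub_mem (integral_mem (IsPrimitiveRoot.isIntegral hζ (by positivity))) (one_mem _)
  have hπ0 : ζ - 1 ≠ 0 := fun h => by
    rw [h, zero_pow (by positivity), zero_mul] at hw2
    exact two_ne_zero hw2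
  intro j
  induction j with
  | zero => intro _ P hP _ i; rw [hP i (Nat.zero_le i)]; exact dvd_zero _
  | succ j ih =>
    intro hj P hP ⟨y, hy, hyP⟩
    have h1 : ((P.eval 1 : ℤ) : Res M) = 0 := by
      rw [← red_aeval_root hM hζ.pow_eq_one P, hyP, red_mul (pow_mem hπ _) hy]
      have hr1 : red M (ζ - 1) = 0 := by
        have := red_aeval_root hM hζ.pow_eq_one ((X : ℤ[X]) - 1)
        simpa using this
      rw [pow_succ, red_mul (pow_mem hπ _) hπ, hr1, mul_zero, zero_mul]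
    haveI := charP_res (M := M) hM
    obtain ⟨c, hc⟩ := (CharP.intCast_eq_zero_iff (Res M) 2 _).1 h1
    obtain ⟨Q, hQ⟩ := X_sub_C_dvd_sub_C_eval (a := (1 : ℤ)) (p := P)
    have hQc : ∀ i, P.coeff (i + 1) = Q.coeff i - Q.coeff (i + 1) := by
      intro i
      have := congrArg (fun R : ℤ[X] => R.coeff (i + 1)) hQ
      simp only [coeff_sub, sub_mul, coeff_X_mul, coeff_C, coeff_C_mul, Nat.add_eq_zero_iff, one_ne_zero, and_false, if_false, sub_zero, one_mul] at this
      exact this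
    have hQz : ∀ i, j ≤ i → Q.coeff i = 0 := by
      intro i hi
      have key : ∀ m i, j ≤ i → Q.natDegree < i + m → Q.coeff i = 0 := by
        intro m
        induction m with
        | zero => intro i _ h; exact coeff_eq_zero_of_natDegree_lt (by omega)
        | succ m ihm =>
          intro i hi h
          have := hQc i
          rw [hP (i + 1) (by omega), ihm (i + 1) (by omega) (by omega)] at this
          simpa using this.symm
      exact key (Q.natDegree + 1) i hi (by omega)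
    have hev : aeval ζ P = (ζ - 1) * aeval ζ Q + ((P.eval 1 : ℤ) : ℂ) := by
      have := congrArg (aeval ζ) hQ
      simp only [map_sub, map_mul, aeval_X, aeval_C] at this
      simp only [algebraMap_int_eq, Int.coe_castRingHom, Int.cast_one] at this
      linear_combination this
    have hQy : ∃ z ∈ locRing M, aeval ζ Q = (ζ - 1) ^ j * z := by
      refine ⟨y - (ζ - 1) ^ (2 ^ k - (j + 1)) * (w * c),
        sub_mem hy (mul_mem (pow_mem hπ _) (mul_mem hw (intCast_mem _ _))), ?_⟩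
      refine mul_left_cancel₀ hπ0 ?_
      have e : (ζ - 1) ^ (2 ^ k) = (ζ - 1) ^ (j + 1) * (ζ - 1) ^ (2 ^ k - (j + 1)) := by
        rw [← pow_add]; congr 1; omega
      rw [hyP, hc] at hev
      push_cast at hev
      rw [hw2, e] at hev
      rw [pow_succ] at hev
      linear_combination -hev
    have hQe := ih (by omega) Q hQz hQy
    intro i
    rcases i with _ | i
    · have := congrArg (fun R : ℤ[X] => R.coeff 0) hQ
      simp [sub_mul, coeff_C] at this
      rw [show P.coeff 0 = P.eval 1 - Q.coeff 0 by linarith]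
      exact dvd_sub ⟨c, hc⟩ (hQe 0)
    · rw [hQc]; exact dvd_sub (hQe i) (hQe (i + 1))

/-- Divisibility by a power of two in the local ring gives divisibility of the coefficients. -/
theorem dvd_coeff : ∀ (n : ℕ) (r : ℕ → ℤ), (∃ y ∈ locRing M, ev k ζ r = (2 : ℂ) ^ n * y) →
    ∀ i < 2 ^ k, (2 : ℤ) ^ n ∣ r i := by
  intro n
  induction n with
  | zero => intro r _ i _; simp
  | succ n ih =>
    intro r ⟨y, hy, he⟩
    have heven : ∀ i < 2 ^ k, (2 : ℤ) ∣ r i := by
      obtain ⟨w, hw, hw2⟩ := exists_two_eq hζ hM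
      intro i hi
      let P : ℤ[X] := ∑ j ∈ Finset.range (2 ^ k), Polynomial.C (r j) * X ^ j
      have hc : ∀ j, P.coeff j = if j < 2 ^ k then r j else 0 := fun j => by
        simp [P]
      have := even_coeff hζ hM _ le_rfl P (fun j hj => by rw [hc, if_neg (by omega)])
        ⟨w * ((2 : ℂ) ^ n * y), mul_mem hw (mul_mem (pow_mem (natCast_mem _ 2) n) hy), ?_⟩ i
      · rwa [hc, if_pos hi] at this
      · simp only [P, map_sum, map_mul, aeval_C, map_pow, aeval_X]
        rw [show (∑ j ∈ Finset.range (2 ^ k), (algebraMap ℤ ℂ) (r j) * ζ ^ j) = ev k ζ r from rfl, he, pow_succ]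
        linear_combination ((2 : ℂ) ^ n * y) * hw2
    intro i hi
    have hih := ih (fun j => r j / 2) ⟨y, hy, ?_⟩ i hi
    · obtain ⟨t, ht⟩ := hih
      obtain ⟨t', ht'⟩ := heven i hi
      refine ⟨t, ?_⟩
      rw [pow_succ]
      have : r i / 2 * 2 = r i := Int.ediv_mul_cancel ⟨t', ht'⟩
      rw [← this, ht]
      ring
    · refine mul_left_cancel₀ (two_ne_zero (α := ℂ)) ?_
      rw [← mul_assoc, ← pow_succ', ← he, ev, ev, Finset.mul_sum]
      refine Finset.sum_congr rfl fun j hj => ?_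
      obtain ⟨t', ht'⟩ := heven j (Finset.mem_range.1 hj)
      rw [ht', Int.mul_ediv_cancel_left _ (two_ne_zero)]
      push_cast
      ring

end CfsgLib.TwoCyc
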