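import Cfsg.Agent.Blk.Contribution
import Cfsg.Agent.Blk.TwoCyc

/-!
Constant coefficients of the contributions of a subsection for the prime two.
-/

set_option autoImplicit false
set_option linter.style.haveILetI false
set_option linter.unusedSectionVars false

namespace CfsgLib.ContribTwo

open Cfsg CfsgLib.Char CfsgLib.Blk CfsgLib.Contribution CfsgLib.TwoCyc
open scoped CfsgLib.Char ComplexConjugate

universe u

variable {G : Type u} [Group G] [Fintype G] {M : Ideal AlgInt} [M.IsPrime]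
variable {u : G} {H : Subgroup G} [Fintype H]
variable (hM : IsPModular 2 M) (hu : ∃ k : ℕ, orderOf u = 2 ^ k)
  (hH : Subgroup.centralizer ({u} : Set G) = H) {b : Set (IrrCharacter H)}
  {B : Set (IrrCharacter G)} (hind : IsInducedBlock M H b B)
include hM hu hH hind

/-- The constant coefficients of the diagonal contributions. -/
theorem exists_const :
    ∃ (N : ℕ) (R : IrrCharacter G → IrrCharacter G → ℕ → ℤ), 0 < N ∧
      (∀ χ, ∑ χ' : IrrCharacter G, ∑ i ∈ Finset.range N, R χ' χ i ^ 2 =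
        2 ^ blockDefect 2 b * R χ χ 0) ∧
      (∑ χ : IrrCharacter G, R χ χ 0 = 2 ^ blockDefect 2 b * (blockRank 2 b : ℤ)) ∧
      (∀ χ, χ ∉ B → R χ χ 0 = 0) ∧
      (∀ χ ∈ B, ∀ ψ ∈ B, blockHeight 2 B (χ : G → ℂ) = 0 → blockHeight 2 B (ψ : G → ℂ) = 0 →
        (∃ i < N, R χ ψ i ≠ 0) ∧ (χ = ψ → Odd (R χ χ 0))) ∧
      (blockDefect 2 b = blockDefect 2 B → ∀ χ ∈ B, ∀ ψ ∈ B, blockHeight 2 B (ψ : G → ℂ) = 0 →
        (∀ i < N, (2 : ℤ) ^ blockHeight 2 B (χ : G → ℂ) ∣ R χ ψ i) ∧ (∃ i < N, R χ ψ i ≠ 0) ∧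
        (0 < blockHeight 2 B (χ : G → ℂ) → (2 : ℤ) ^ (blockHeight 2 B (χ : G → ℂ) + 1) ∣ R χ χ 0)) ∧
      (∀ χ ψ, (∃ i < N, R χ ψ i ≠ 0) → ∃ i < N, R ψ χ i ≠ 0) := by
  classical
  haveI : Fact (Nat.Prime 2) := ⟨Nat.prime_two⟩
  obtain ⟨k, hk⟩ := hu
  have hu' : ∃ k : ℕ, orderOf u = 2 ^ k := ⟨k, hk⟩
  set ζ : ℂ := Complex.exp (2 * Real.pi * Complex.I / ((2 ^ (k + 1) : ℕ) : ℂ)) with hζdef
  have hζ : IsPrimitiveRoot ζ (2 ^ (k + 1)) := Complex.isPrimitiveRoot_exp _ (by positivity)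
  obtain ⟨n, a, z, -, -, hz, hmm⟩ := mm_expand hM hu' hH hind.1
  have hrep : ∀ χ χ', IsRep k ζ (mm 2 u H b χ χ') := by
    intro χ χ'
    rw [hmm]
    refine rep_sum _ _ fun η _ => rep_sum _ _ fun η' _ => ?_
    split_ifs
    · refine rep_int_mul _ ?_
      have h1 : z η ^ (2 ^ (k + 1)) = 1 := by rw [pow_succ, pow_mul, ← hk, hz, one_pow]
      have h2 : conj (z η') ^ (2 ^ (k + 1)) = 1 := by
        rw [← map_pow, pow_succ, pow_mul, ← hk, hz, one_pow, map_one]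
      obtain ⟨i, -, hi⟩ := hζ.eq_pow_of_pow_eq_one h1
      obtain ⟨j, -, hj⟩ := hζ.eq_pow_of_pow_eq_one h2
      rw [← hi, ← hj, ← pow_add]
      exact rep_pow hζ _
    all_goals exact rep_zero
  choose R hR using hrep
  have hreal : ∀ χ, conj (ev k ζ (R χ χ)) = ev k ζ (R χ χ) := fun χ => by
    rw [← hR, conj_mm]
  have hev0 : ∀ c : ℤ, ev k ζ (fun i => if i = 0 then c else 0) = (c : ℂ) := fun c => by simp [ev]
  obtain ⟨r, hrs, hr, hru⟩ := mm_red hM hu' hH hind.1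
  have hpar : ∀ χ χ', ((∑ i ∈ Finset.range (2 ^ k), R χ χ' i : ℤ) : Res M) = (r χ χ' : Res M) := by
    intro χ χ'
    rw [← (red_ev hζ hM (R χ χ')).2, ← hR, (hr χ χ').2]
  haveI := charP_res (M := M) hM
  have hsum_odd : ∀ χ ∈ B, ∀ ψ ∈ B, blockHeight 2 B (χ : G → ℂ) = 0 → blockHeight 2 B (ψ : G → ℂ) = 0 →
      ¬ (2 : ℤ) ∣ ∑ i ∈ Finset.range (2 ^ k), R χ ψ i := by
    intro χ hχ ψ hψ h0 h0' hd
    refine hru B hind χ hχ ψ hψ h0 h0' ?_
    rw [← CharP.intCast_eq_zero_iff (Res M) 2, ← hpar, CharP.intCast_eq_zero_iff (Res M) 2]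
    exact hd
  refine ⟨2 ^ k, R, by positivity, fun χ => ?_, ?_, fun χ hχ => ?_, fun χ hχ ψ hψ h0 h0' => ⟨?_, ?_⟩,
    fun hd χ hχ ψ hψ h0 => ?_, fun χ ψ hne => ?_⟩
  · refine const_sq hζ (fun χ' => R χ' χ) (2 ^ blockDefect 2 b) (R χ χ) ?_
    have h := mm_idem hM hu' hH hind.1 χ χ
    push_cast
    push_cast at h
    rw [← hR, ← h]
    refine Finset.sum_congr rfl fun χ' _ => ?_
    rw [← hR, conj_mm, mul_comm]
  · have h := mm_trace hM hu' hH hind.1 (b := b)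
    have h2 : ev k ζ (fun i => ∑ χ : IrrCharacter G, R χ χ i) =
        ev k ζ (fun i => if i = 0 then (2 ^ blockDefect 2 b * (blockRank 2 b : ℤ)) else 0) := by
      rw [hev0]
      push_cast
      push_cast at h
      rw [← h]
      simp only [hR, ev]
      push_cast
      simp only [Finset.sum_mul]
      rw [Finset.sum_comm]
    simpa using ev_congr_iff hζ h2 0 (by positivity)
  · have h2 : ev k ζ (R χ χ) = ev k ζ (fun i => if i = 0 then 0 else 0) := by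
      rw [← hR, (mm_eq_zero hM hu' hH hind hχ χ).1]
      simp [ev]
    simpa using ev_congr_iff hζ h2 0 (by positivity)
  · by_contra hcon
    push Not at hcon
    refine hsum_odd χ hχ ψ hψ h0 h0' ?_
    rw [Finset.sum_eq_zero fun i hi => hcon i (Finset.mem_range.1 hi)]
    exact dvd_zero _
  · rintro rfl
    rw [← eval_one_of_real hζ (hreal χ), ← Int.not_even_iff_odd, even_iff_two_dvd]
    exact hsum_odd χ hχ χ hχ h0 h0
  · obtain ⟨⟨x, hx, hxu, hxe⟩, hpos⟩ := mm_major hM hu' hH hind hd hχ hψ h0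
    push_cast at hxe
    have h1 := dvd_coeff hζ hM _ (R χ ψ) ⟨x, hx, by rw [← hR, hxe]⟩
    refine ⟨h1, ?_, fun hh => ?_⟩
    · by_contra hcon
      push Not at hcon
      refine hxu ?_
      have h2 : (2 : ℂ) ^ blockHeight 2 B (χ : G → ℂ) * x = 0 := by
        rw [← hxe, hR, ev, Finset.sum_eq_zero fun i hi => by rw [hcon i (Finset.mem_range.1 hi)]; simp]
      rw [(mul_eq_zero.1 h2).resolve_left (pow_ne_zero _ two_ne_zero)]
      exact memLocalIdeal_zero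
    · obtain ⟨y, hy, hye⟩ := hpos hh
      push_cast at hye
      have h3 := dvd_coeff hζ hM _ (R χ χ) ⟨y, memLocalIdeal_mem hy, by rw [← hR, hye]⟩
      have h4 : ∀ i < 2 ^ k, ∃ t : ℤ, R χ χ i = 2 ^ blockHeight 2 B (χ : G → ℂ) * t := h3
      choose! t ht using h4
      have hyt : y = ev k ζ t := by
        refine mul_left_cancel₀ (pow_ne_zero (blockHeight 2 B (χ : G → ℂ)) (two_ne_zero (α := ℂ))) ?_
        rw [← hye, hR, ev, ev, Finset.mul_sum]
        refine Finset.sum_congr rfl fun i hi => ?_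
        rw [ht i (Finset.mem_range.1 hi)]
        push_cast
        ring
      have h5 : (2 : ℤ) ∣ ∑ i ∈ Finset.range (2 ^ k), t i := by
        refine (CharP.intCast_eq_zero_iff (Res M) 2 _).1 ?_
        rw [← (red_ev hζ hM t).2, ← hyt]
        exact (red_eq_zero_iff (memLocalIdeal_mem hy)).2 hy
      rw [← eval_one_of_real hζ (hreal χ), Finset.sum_congr rfl fun i hi => ht i (Finset.mem_range.1 hi),
        ← Finset.mul_sum, pow_succ]
      exact mul_dvd_mul_left _ h5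
  · by_contra hcon
    push Not at hcon
    obtain ⟨i, hi, hne⟩ := hne
    refine hne (eq_zero_of_ev hζ ?_ i hi)
    rw [← hR, ← conj_mm, hR, ev, map_sum]
    exact Finset.sum_eq_zero fun j hj => by rw [hcon j (Finset.mem_range.1 hj)]; simp

/-- The diagonal coefficients: total, parity and row inequality. -/
theorem exists_mu :
    ∃ μ : IrrCharacter G → ℤ, (∀ χ, 0 ≤ μ χ) ∧ (∀ χ, χ ∉ B → μ χ = 0) ∧
      (∑ χ : IrrCharacter G, μ χ = 2 ^ blockDefect 2 b * (blockRank 2 b : ℤ)) ∧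
      (∀ ψ ∈ B, blockHeight 2 B (ψ : G → ℂ) = 0 → Odd (μ ψ) ∧
        μ ψ ^ 2 + ((Nat.card {χ : IrrCharacter G // χ ∈ B ∧ blockHeight 2 B (χ : G → ℂ) = 0} : ℤ) - 1) ≤
          2 ^ blockDefect 2 b * μ ψ) ∧
      (blockDefect 2 b = blockDefect 2 B →
        (∀ ψ ∈ B, blockHeight 2 B (ψ : G → ℂ) = 0 →
          μ ψ ^ 2 + ((∑ᶠ χ ∈ B, (4 : ℤ) ^ blockHeight 2 B (χ : G → ℂ)) - 1) ≤ 2 ^ blockDefect 2 b * μ ψ) ∧
        ∀ χ ∈ B, 0 < blockHeight 2 B (χ : G → ℂ) →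
          (2 : ℤ) ^ (blockHeight 2 B (χ : G → ℂ) + 1) ∣ μ χ ∧ 0 < μ χ ∧ μ χ < 2 ^ blockDefect 2 b) := by
  classical
  haveI : Fact (Nat.Prime 2) := ⟨Nat.prime_two⟩
  obtain ⟨N, R, hN, hrow, htr, hout, hzero, hmaj, hsymne⟩ := exists_const hM hu hH hind
  have hμ0 : ∀ χ, 0 ≤ R χ χ 0 := by
    intro χ
    have h := hrow χ
    have h2 : 0 ≤ ∑ χ' : IrrCharacter G, ∑ i ∈ Finset.range N, R χ' χ i ^ 2 :=
      Finset.sum_nonneg fun _ _ => Finset.sum_nonneg fun _ _ => sq_nonneg _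
    rw [h] at h2
    exact nonneg_of_mul_nonneg_right h2 (by positivity)
  have hlow : ∀ (χ ψ : IrrCharacter G) (h : ℕ), (∀ i < N, (2 : ℤ) ^ h ∣ R χ ψ i) →
      (∃ i < N, R χ ψ i ≠ 0) → (4 : ℤ) ^ h ≤ ∑ i ∈ Finset.range N, R χ ψ i ^ 2 := by
    intro χ ψ h hd ⟨i, hi, hne⟩
    refine le_trans ?_ (Finset.single_le_sum (fun j _ => sq_nonneg (R χ ψ j)) (Finset.mem_range.2 hi))
    obtain ⟨t, ht⟩ := hd i hi
    rw [ht, mul_pow, ← pow_mul, mul_comm h 2, pow_mul, show (2 : ℤ) ^ 2 = 4 by norm_num]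
    refine le_mul_of_one_le_right (by positivity) (Int.add_one_le_iff.2 (sq_pos_of_ne_zero ?_))
    rintro rfl
    exact hne (by rw [ht, mul_zero])
  have hrowle : ∀ (ψ : IrrCharacter G) (T : Finset (IrrCharacter G)) (f : IrrCharacter G → ℤ), ψ ∉ T →
      (∀ χ ∈ T, f χ ≤ ∑ i ∈ Finset.range N, R χ ψ i ^ 2) →
      R ψ ψ 0 ^ 2 + ∑ χ ∈ T, f χ ≤ 2 ^ blockDefect 2 b * R ψ ψ 0 := by
    intro ψ T f hψ hf
    rw [← hrow ψ]
    refine le_trans ?_ (Finset.sum_le_univ_sum_of_nonneg (s := insert ψ T)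
      fun χ => Finset.sum_nonneg fun _ _ => sq_nonneg _)
    rw [Finset.sum_insert hψ]
    exact add_le_add (Finset.single_le_sum (fun j _ => sq_nonneg (R ψ ψ j)) (Finset.mem_range.2 hN))
      (Finset.sum_le_sum hf)
  refine ⟨fun χ => R χ χ 0, hμ0, hout, htr, fun ψ hψ h0 => ⟨(hzero ψ hψ ψ hψ h0 h0).2 rfl, ?_⟩,
    fun hd => ⟨fun ψ hψ h0 => ?_, fun χ hχ hpos => ?_⟩⟩
  · set T := (Finset.univ.filter fun χ : IrrCharacter G => χ ∈ B ∧ blockHeight 2 B (χ : G → ℂ) = 0).erase ψ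
    have h := hrowle ψ T (fun _ => 1) (Finset.notMem_erase _ _) fun χ hχ => by
      simp only [T, Finset.mem_erase, Finset.mem_filter] at hχ
      simpa using hlow χ ψ 0 (fun i _ => by simp) (hzero χ hχ.2.2.1 ψ hψ hχ.2.2.2 h0).1
    have hc : (T.card : ℤ) = (Nat.card {χ : IrrCharacter G // χ ∈ B ∧ blockHeight 2 B (χ : G → ℂ) = 0} : ℤ) - 1 := by
      rw [Finset.card_erase_of_mem (by simp [hψ, h0]), Nat.card_eq_fintype_card, Fintype.card_subtype,
        Nat.cast_sub (Finset.one_le_card.2 ⟨ψ, by simp [hψ, h0]⟩)]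
      simp
    simpa [hc] using h
  · set T := (Finset.univ.filter fun χ : IrrCharacter G => χ ∈ B).erase ψ
    have h := hrowle ψ T (fun χ => (4 : ℤ) ^ blockHeight 2 B (χ : G → ℂ)) (Finset.notMem_erase _ _) fun χ hχ => by
      simp only [T, Finset.mem_erase, Finset.mem_filter] at hχ
      obtain ⟨h1, h2, -⟩ := hmaj hd χ hχ.2.2 ψ hψ h0
      exact hlow χ ψ _ h1 h2
    have hc : ∑ χ ∈ T, (4 : ℤ) ^ blockHeight 2 B (χ : G → ℂ) = (∑ᶠ χ ∈ B, (4 : ℤ) ^ blockHeight 2 B (χ : G → ℂ)) - 1 := by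
      rw [finsum_mem_eq_sum_ite, ← Finset.sum_filter,
        ← Finset.add_sum_erase _ _ (show ψ ∈ Finset.univ.filter (fun χ : IrrCharacter G => χ ∈ B) by simp [hψ]),
        h0, pow_zero]
      simp [T]
    rwa [hc] at h
  · obtain ⟨ψ, hψ, h0⟩ := exists_height_zero hM hind.2.1
    obtain ⟨-, hne, hdvd⟩ := hmaj hd χ hχ ψ hψ h0
    obtain ⟨-, hne', -⟩ := hmaj hd χ hχ ψ hψ h0
    have hψχ : ψ ≠ χ := fun e => by rw [← e, h0] at hpos; exact lt_irrefl 0 hpos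
    have hrc : ∃ i < N, R ψ χ i ≠ 0 := hsymne χ ψ hne'
    have h1 := hrowle χ {ψ} (fun _ => 1) (by simpa using hψχ.symm) fun θ hθ => by
      rw [Finset.mem_singleton] at hθ
      subst hθ
      simpa using hlow θ χ 0 (fun i _ => by simp) hrc
    rw [Finset.sum_singleton] at h1
    have h2 := hμ0 χ
    have hpos' : 0 < R χ χ 0 := by
      refine lt_of_le_of_ne h2 fun e => ?_
      rw [← e] at h1; norm_num at h1
    refine ⟨hdvd hpos, hpos', ?_⟩
    by_contra hle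
    push Not at hle
    nlinarith

end CfsgLib.ContribTwo
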