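import Cfsg.Agent.Blk.ContribTwo

/-!
Consequences of the constant coefficients: numbers of characters of a 2-block.
-/

set_option autoImplicit false
set_option linter.style.haveILetI false
set_option linter.unusedSectionVars false

namespace CfsgLib.ContribTwo

open Cfsg CfsgLib.Char CfsgLib.Blk
open scoped CfsgLib.Char ComplexConjugate

universe u

variable {G : Type u} [Group G] [Fintype G] {M : Ideal AlgInt} [M.IsPrime]

theorem blockDefect_major (hM : IsPModular 2 M) {H : Subgroup G} [Fintype H]
    {b : Set (IrrCharacter H)} {B : Set (IrrCharacter G)} (hb : IsPBlock M b) (hB : IsPBlock M B)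
    {D : Subgroup G} (hD : IsDefectGroup 2 M B D) (hDH : D ≤ H)
    (hbD : IsDefectGroup 2 M b (D.subgroupOf H)) : blockDefect 2 b = blockDefect 2 B := by
  haveI : Fact (Nat.Prime 2) := ⟨Nat.prime_two⟩
  refine Nat.pow_right_injective le_rfl ?_
  show 2 ^ blockDefect 2 b = 2 ^ blockDefect 2 B
  rw [← card_defectGroup hM hb hbD, ← card_defectGroup hM hB hD,
    Nat.card_congr (Subgroup.subgroupOfEquivOfLe hDH).toEquiv]

/-- At most the defect group order when one diagonal coefficient is one or one less than that. -/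
theorem card_le_of_extreme {Q m : ℤ} {n : ℕ} (h : m ^ 2 + ((n : ℤ) - 1) ≤ Q * m)
    (hm : m = 1 ∨ m = Q - 1) : (n : ℤ) ≤ Q := by
  rcases hm with rfl | rfl <;> nlinarith

theorem card_le_finsum_four {B : Set (IrrCharacter G)} :
    (Nat.card B : ℤ) ≤ ∑ᶠ χ ∈ B, (4 : ℤ) ^ blockHeight 2 B (χ : G → ℂ) := by
  classical
  rw [finsum_mem_eq_sum_ite, ← Finset.sum_filter, Nat.card_eq_fintype_card,
    ← Fintype.card_coe (Finset.univ.filter fun χ : IrrCharacter G => χ ∈ B) |>.symm.trans
      (Fintype.card_congr (Equiv.subtypeEquivRight fun χ => by simp)), Finset.card_eq_sum_ones,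
    Nat.cast_sum]
  exact Finset.sum_le_sum fun χ _ => by
    push_cast
    exact one_le_pow₀ (by norm_num)

end CfsgLib.ContribTwo
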