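import Mathlib.Algebra.MonoidAlgebra.MapDomain
import Mathlib.Algebra.MonoidAlgebra.Module
import Mathlib.Algebra.MonoidAlgebra.Basic
import Mathlib.RingTheory.Artinian.Ring
import Mathlib.RingTheory.SimpleModule.Basic
import Mathlib.LinearAlgebra.FiniteDimensional.Basic
import Mathlib.GroupTheory.PGroup
import Mathlib.GroupTheory.Subgroup.Centralizer
import Mathlib.GroupTheory.QuotientGroup.Basic
import Mathlib.GroupTheory.GroupAction.ConjAct
import Mathlib.Data.ZMod.Basic

/-!
Group algebras of finite groups: central elements, the Brauer map in characteristic `p`, and the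
nilpotency of the kernel of the reduction modulo a normal `p`-subgroup.
-/

set_option autoImplicit false

namespace CfsgLib.Blk

open MonoidAlgebra

universe u

variable {G : Type u} [Group G] {R : Type*} [CommRing R]

/-- Coefficients constant on conjugacy classes. -/
def IsClassCoeff (a : MonoidAlgebra R G) : Prop := ∀ g h : G, a.coeff (h * g * h⁻¹) = a.coeff g

theorem coeff_mul_sum [Fintype G] (a b : MonoidAlgebra R G) (g : G) :
    (a * b).coeff g = ∑ x : G, a.coeff x * b.coeff (x⁻¹ * g) := by
  rw [coeff_mul_apply_left, Finsupp.sum_fintype]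
  intro i
  simp

theorem coeff_mul_sum_right [Fintype G] (a b : MonoidAlgebra R G) (g : G) :
    (a * b).coeff g = ∑ x : G, a.coeff (g * x⁻¹) * b.coeff x := by
  rw [coeff_mul_apply_right, Finsupp.sum_fintype]
  intro i
  simp

theorem isClassCoeff_iff_commute {a : MonoidAlgebra R G} :
    IsClassCoeff a ↔ ∀ b, Commute a b := by
  constructor
  · intro h b
    induction b using MonoidAlgebra.induction_linear with
    | zero => exact Commute.zero_right a
    | add x y hx hy => exact hx.add_right hy
    | single g r =>
      refine MonoidAlgebra.coeff_injective (Finsupp.ext fun x => ?_)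
      rw [coeff_mul_single_apply, coeff_single_mul_apply, mul_comm r]
      congr 1
      have := h (g⁻¹ * x) g
      rw [← this]
      congr 1
      group
  · intro h g x
    have := congrArg (fun z : MonoidAlgebra R G => z.coeff (x * g)) (h (single x 1)).eq
    simpa [coeff_mul_single_apply, coeff_single_mul_apply, mul_assoc] using this

theorem IsClassCoeff.commute {a : MonoidAlgebra R G} (h : IsClassCoeff a) (b : MonoidAlgebra R G) :
    Commute a b :=
  isClassCoeff_iff_commute.1 h b

theorem IsClassCoeff.mul {a b : MonoidAlgebra R G} (ha : IsClassCoeff a) (hb : IsClassCoeff b) :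
    IsClassCoeff (a * b) :=
  isClassCoeff_iff_commute.2 fun c => (ha.commute c).mul_left (hb.commute c)

theorem IsClassCoeff.sub {a b : MonoidAlgebra R G} (ha : IsClassCoeff a) (hb : IsClassCoeff b) :
    IsClassCoeff (a - b) :=
  isClassCoeff_iff_commute.2 fun c => (ha.commute c).sub_left (hb.commute c)

theorem IsClassCoeff.add {a b : MonoidAlgebra R G} (ha : IsClassCoeff a) (hb : IsClassCoeff b) :
    IsClassCoeff (a + b) :=
  isClassCoeff_iff_commute.2 fun c => (ha.commute c).add_left (hb.commute c)

theorem isClassCoeff_one : IsClassCoeff (1 : MonoidAlgebra R G) :=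
  isClassCoeff_iff_commute.2 Commute.one_left

theorem IsClassCoeff.pow {a : MonoidAlgebra R G} (ha : IsClassCoeff a) (n : ℕ) :
    IsClassCoeff (a ^ n) :=
  isClassCoeff_iff_commute.2 fun c => (ha.commute c).pow_left n

theorem IsClassCoeff.smul {a : MonoidAlgebra R G} (ha : IsClassCoeff a) (r : R) :
    IsClassCoeff (r • a) := fun g h => by simp [ha g h]

/-- In characteristic `p`, a sum over a set with an action of a `p`-group of an invariant function
is the sum over the fixed points. -/
theorem sum_eq_sum_fixedPoints {p : ℕ} [Fact p.Prime] [CharP R p] {Q α : Type*} [Group Q]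
    (hQ : IsPGroup p Q) [Fintype α] [MulAction Q α] [DecidablePred (· ∈ MulAction.fixedPoints Q α)]
    (f : α → R) (hf : ∀ (q : Q) (x : α), f (q • x) = f x) :
    ∑ x, f x = ∑ x ∈ Finset.univ.filter (· ∈ MulAction.fixedPoints Q α), f x := by
  classical
  rw [← Finset.sum_fiberwise_of_maps_to (fun x _ => Finset.mem_image_of_mem f (Finset.mem_univ x)),
    ← Finset.sum_fiberwise_of_maps_to (t := Finset.univ.image f) (g := f)
      (s := Finset.univ.filter (· ∈ MulAction.fixedPoints Q α))
      (fun x _ => Finset.mem_image_of_mem f (Finset.mem_univ x))]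
  refine Finset.sum_congr rfl fun c _ => ?_
  rw [Finset.sum_congr rfl (g := fun _ => c) (fun x hx => (Finset.mem_filter.1 hx).2),
    Finset.sum_congr rfl (g := fun _ => c) (fun x hx => (Finset.mem_filter.1 hx).2),
    Finset.sum_const, Finset.sum_const]
  let S := {x : α // f x = c}
  letI : MulAction Q S :=
    { smul := fun q x => ⟨q • x.1, (hf q x.1).trans x.2⟩
      one_smul := fun x => Subtype.ext (one_smul Q x.1)
      mul_smul := fun q r x => Subtype.ext (mul_smul q r x.1) }
  have h := hQ.card_modEq_card_fixedPoints S
  have h1 : Nat.card S = (Finset.univ.filter fun x => f x = c).card := by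
    rw [Nat.card_eq_fintype_card, Fintype.card_subtype]
  have h2 : Nat.card (MulAction.fixedPoints Q S) =
      ((Finset.univ.filter (· ∈ MulAction.fixedPoints Q α)).filter fun x => f x = c).card := by
    rw [Finset.filter_filter, ← Fintype.card_subtype, ← Nat.card_eq_fintype_card]
    exact Nat.card_congr
      { toFun := fun x => ⟨x.1.1, fun q => congrArg Subtype.val (x.2 q), x.1.2⟩
        invFun := fun x => ⟨⟨x.1, x.2.2⟩, fun q => Subtype.ext (x.2.1 q)⟩
        left_inv := fun x => rfl
        right_inv := fun x => rfl }
  rw [h1, h2, ← CharP.natCast_eq_natCast R p] at h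
  rw [← Nat.cast_smul_eq_nsmul R, ← Nat.cast_smul_eq_nsmul R, h]

/-- The truncation of an element of the group algebra to the centralizer of `Q`. -/
noncomputable def brMap (Q : Subgroup G) (a : MonoidAlgebra R G) : MonoidAlgebra R G :=
  letI := Classical.decPred (fun g => g ∈ Subgroup.centralizer (Q : Set G))
  MonoidAlgebra.ofCoeff (a.coeff.filter (fun g => g ∈ Subgroup.centralizer (Q : Set G)))

theorem coeff_brMap (Q : Subgroup G) (a : MonoidAlgebra R G) (g : G)
    [Decidable (g ∈ Subgroup.centralizer (Q : Set G))] :
    (brMap Q a).coeff g = if g ∈ Subgroup.centralizer (Q : Set G) then a.coeff g else 0 := by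
  classical
  simp only [brMap, MonoidAlgebra.coeff_ofCoeff, Finsupp.filter_apply]
  split_ifs <;> simp_all

theorem brMap_add (Q : Subgroup G) (a b : MonoidAlgebra R G) :
    brMap Q (a + b) = brMap Q a + brMap Q b := by
  classical
  refine MonoidAlgebra.coeff_injective (Finsupp.ext fun g => ?_)
  simp only [coeff_brMap, MonoidAlgebra.coeff_add, Finsupp.add_apply]
  split_ifs <;> simp

theorem brMap_one (Q : Subgroup G) : brMap Q (1 : MonoidAlgebra R G) = 1 := by
  classical
  refine MonoidAlgebra.coeff_injective (Finsupp.ext fun g => ?_)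
  rw [coeff_brMap, MonoidAlgebra.one_def, MonoidAlgebra.coeff_single]
  by_cases hg : g = 1
  · subst hg; simp [one_mem]
  · simp [Ne.symm hg]

theorem brMap_smul (Q : Subgroup G) (r : R) (a : MonoidAlgebra R G) :
    brMap Q (r • a) = r • brMap Q a := by
  classical
  refine MonoidAlgebra.coeff_injective (Finsupp.ext fun g => ?_)
  simp only [coeff_brMap, MonoidAlgebra.coeff_smul, Finsupp.smul_apply]
  split_ifs <;> simp

/-- The Brauer map is multiplicative on `Q`-invariant elements in characteristic `p`. -/
theorem brMap_mul [Finite G] {p : ℕ} [Fact p.Prime] [CharP R p] (Q : Subgroup G) (hQ : IsPGroup p Q)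
    {a b : MonoidAlgebra R G} (ha : ∀ q ∈ Q, ∀ g, a.coeff (q * g * q⁻¹) = a.coeff g)
    (hb : ∀ q ∈ Q, ∀ g, b.coeff (q * g * q⁻¹) = b.coeff g) :
    brMap Q (a * b) = brMap Q a * brMap Q b := by
  classical
  haveI := Fintype.ofFinite G
  refine MonoidAlgebra.coeff_injective (Finsupp.ext fun c => ?_)
  rw [coeff_brMap, coeff_mul_sum (brMap Q a)]
  by_cases hc : c ∈ Subgroup.centralizer (Q : Set G)
  · rw [if_pos hc, coeff_mul_sum]
    letI : MulAction Q G :=
      { smul := fun q x => (q : G) * x * (q : G)⁻¹
        one_smul := fun x => by change (1 : G) * x * (1 : G)⁻¹ = x; group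
        mul_smul := fun q r x => by
          change ((q * r : Q) : G) * x * ((q * r : Q) : G)⁻¹ = q * (r * x * (r : G)⁻¹) * (q : G)⁻¹
          rw [Subgroup.coe_mul]; group }
    rw [sum_eq_sum_fixedPoints hQ (fun x => a.coeff x * b.coeff (x⁻¹ * c))]
    · rw [Finset.sum_filter]
      refine Finset.sum_congr rfl fun x _ => ?_
      have hfix : x ∈ MulAction.fixedPoints Q G ↔ x ∈ Subgroup.centralizer (Q : Set G) := by
        simp only [MulAction.mem_fixedPoints, Subgroup.mem_centralizer_iff, SetLike.mem_coe]
        constructor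
        · intro h q hq
          exact mul_inv_eq_iff_eq_mul.1 (h ⟨q, hq⟩)
        · intro h q
          change (q : G) * x * (q : G)⁻¹ = x
          rw [h q q.2, mul_inv_cancel_right]
      rw [coeff_brMap, coeff_brMap]
      by_cases hx : x ∈ Subgroup.centralizer (Q : Set G)
      · rw [if_pos (hfix.2 hx), if_pos hx, if_pos (mul_mem (inv_mem hx) hc)]
      · rw [if_neg (fun h => hx (hfix.1 h)), if_neg hx, zero_mul]
    · intro q x
      change a.coeff ((q : G) * x * (q : G)⁻¹) * b.coeff (((q : G) * x * (q : G)⁻¹)⁻¹ * c) = _
      rw [ha q q.2]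
      congr 1
      have : ((q : G) * x * (q : G)⁻¹)⁻¹ * c = (q : G) * (x⁻¹ * c) * (q : G)⁻¹ := by
        have hcq : (q : G) * c = c * q := hc q q.2
        calc _ = (q : G) * x⁻¹ * ((q : G)⁻¹ * (c * q)) * (q : G)⁻¹ := by group
          _ = _ := by rw [← hcq]; group
      rw [this, hb q q.2]
  · rw [if_neg hc, Finset.sum_eq_zero]
    intro x _
    rw [coeff_brMap, coeff_brMap]
    by_cases hx : x ∈ Subgroup.centralizer (Q : Set G)
    · rw [if_pos hx, if_neg (fun h : x⁻¹ * c ∈ _ => hc (by simpa using mul_mem hx h)), mul_zero]
    · rw [if_neg hx, zero_mul]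

/-- An element of `k[G]` killed by the reduction modulo a normal `p`-subgroup is nilpotent. -/
theorem isNilpotent_of_mapDomain_eq_zero [Finite G] {k : Type*} [Field k] {p : ℕ} [Fact p.Prime]
    [CharP k p] (P : Subgroup G) [P.Normal] (hP : IsPGroup p P) (a : MonoidAlgebra k G)
    (ha : MonoidAlgebra.mapDomainRingHom k (QuotientGroup.mk' P) a = 0) : IsNilpotent a := by
  classical
  haveI := Fintype.ofFinite G
  haveI : IsArtinianRing (MonoidAlgebra k G) :=
    IsArtinianRing.of_finite k (MonoidAlgebra k G)
  obtain ⟨n, hn⟩ := IsArtinianRing.isNilpotent_jacobson_bot (R := MonoidAlgebra k G)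
  suffices hJ : a ∈ Ideal.jacobson (⊥ : Ideal (MonoidAlgebra k G)) by
    refine ⟨n, ?_⟩
    have := Ideal.pow_mem_pow hJ n
    rw [hn] at this
    exact this
  rw [Ideal.jacobson, Ideal.mem_sInf]
  rintro I ⟨-, hI⟩
  -- the left ideal of vectors fixed by `P` modulo `I`
  let e : G → MonoidAlgebra k G := fun g => single g 1
  have he : ∀ g h, e g * e h = e (g * h) := fun g h => by simp [e, single_mul_single]
  let J : Ideal (MonoidAlgebra k G) :=
    { carrier := {x | ∀ y ∈ P, e y * x - x ∈ I}
      zero_mem' := fun y _ => by simp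
      add_mem' := fun {x z} hx hz y hy => by
        have : e y * (x + z) - (x + z) = (e y * x - x) + (e y * z - z) := by rw [mul_add]; abel
        rw [this]
        exact I.add_mem (hx y hy) (hz y hy)
      smul_mem' := fun c x hx => by
        induction c using MonoidAlgebra.induction_linear with
        | zero => intro y _; simp
        | add c d hc hd =>
          intro y hy
          have : e y * ((c + d) • x) - (c + d) • x =
              (e y * (c • x) - c • x) + (e y * (d • x) - d • x) := by
            rw [add_smul, mul_add]; abel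
          rw [this]
          exact I.add_mem (hc y hy) (hd y hy)
        | single g r =>
          intro y hy
          have hy' : g⁻¹ * y * g ∈ P := by simpa using Subgroup.Normal.conj_mem ‹P.Normal› y hy g⁻¹
          have : e y * (single g r • x) - single g r • x =
              single g r * (e (g⁻¹ * y * g) * x - x) := by
            rw [smul_eq_mul, mul_sub, ← mul_assoc, ← mul_assoc, single_mul_single, single_mul_single]
            simp [mul_assoc]
          rw [this]
          exact I.mul_mem_left _ (hx _ hy') }
  have hIJ : I ≤ J := fun x hx y _ => I.sub_mem (I.mul_mem_left _ hx) hx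
  have hJI : ¬ J ≤ I := by
    intro hle
    let Φ : (P → ZMod p) →+ (MonoidAlgebra k G) ⧸ I :=
      { toFun := fun f => Submodule.Quotient.mk
          (∑ y : P, single (y : G) (ZMod.castHom dvd_rfl k (f y)))
        map_zero' := by simp
        map_add' := fun f f' => by
          rw [← Submodule.Quotient.mk_add, ← Finset.sum_add_distrib]
          simp [MonoidAlgebra.single_add] }
    have hmem : ∀ (q : P) (v : Φ.range), e (q : G) • (v : (MonoidAlgebra k G) ⧸ I) ∈ Φ.range := by
      rintro q ⟨_, f, rfl⟩
      refine ⟨fun y => f (q⁻¹ * y), ?_⟩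
      change Submodule.Quotient.mk _ = e (q : G) • Submodule.Quotient.mk _
      rw [← Submodule.Quotient.mk_smul, smul_eq_mul, Finset.mul_sum]
      congr 1
      refine (Fintype.sum_equiv (Equiv.mulLeft q) _ _ fun y => ?_).symm
      simp [e, single_mul_single]
    letI : MulAction P Φ.range :=
      { smul := fun q v => ⟨e (q : G) • v.1, hmem q v⟩
        one_smul := fun v => Subtype.ext (by
          change e ((1 : P) : G) • v.1 = v.1
          simp [e, ← MonoidAlgebra.one_def])
        mul_smul := fun q r v => Subtype.ext (by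
          change e ((q * r : P) : G) • v.1 = e (q : G) • e (r : G) • v.1
          rw [← mul_smul, he, Subgroup.coe_mul]) }
    haveI : Finite Φ.range := Set.finite_range Φ |>.to_subtype
    have h0 : (0 : Φ.range) ∈ MulAction.fixedPoints P Φ.range := fun q => Subtype.ext (smul_zero _)
    have hone : Submodule.Quotient.mk (1 : MonoidAlgebra k G) ∈ Φ.range := by
      refine ⟨Pi.single 1 1, ?_⟩
      change Submodule.Quotient.mk _ = _
      congr 1
      rw [Finset.sum_eq_single (1 : P)]
      · rw [Pi.single_eq_same, map_one, Subgroup.coe_one, MonoidAlgebra.one_def]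
      · intro y _ hy
        simp [Pi.single_eq_of_ne hy]
      · simp
    have h1 : (⟨_, hone⟩ : Φ.range) ≠ 0 := by
      intro h
      exact hI.ne_top ((Ideal.eq_top_iff_one I).2
        ((Submodule.Quotient.mk_eq_zero I).1 (congrArg Subtype.val h)))
    have hdvd : p ∣ Nat.card Φ.range := by
      have h := AddSubgroup.card_range_dvd Φ
      rw [Nat.card_fun, Nat.card_zmod] at h
      obtain ⟨i, -, hi⟩ := (Nat.dvd_prime_pow Fact.out).1 h
      have : Nontrivial Φ.range := ⟨⟨_, _, h1⟩⟩
      have hlt : 1 < Nat.card Φ.range := Finite.one_lt_card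
      rcases i with _ | i
      · rw [pow_zero] at hi
        exact absurd hi (ne_of_gt hlt)
      · exact hi ▸ dvd_pow_self p (Nat.succ_ne_zero i)
    obtain ⟨⟨v, hv'⟩, hv, hvne⟩ := hP.exists_fixed_point_of_prime_dvd_card_of_fixed_point
      Φ.range hdvd h0
    obtain ⟨x, rfl⟩ := Submodule.Quotient.mk_surjective _ v
    have hxJ : x ∈ J := fun y hy => by
      have := congrArg Subtype.val (hv ⟨y, hy⟩)
      change e y • Submodule.Quotient.mk x = Submodule.Quotient.mk x at this
      rwa [← Submodule.Quotient.mk_smul, Submodule.Quotient.eq] at this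
    exact hvne (Subtype.ext ((Submodule.Quotient.mk_eq_zero I).2 (hle hxJ)).symm)
  have hJtop : J = ⊤ := hI.out.2 J (lt_of_le_not_ge hIJ hJI)
  let rep : G → G := fun g => (QuotientGroup.mk' P g).out
  have hrep : ∀ g, ∃ y ∈ P, g = y * rep g := by
    intro g
    refine ⟨g * (rep g)⁻¹, ?_, by group⟩
    rw [← QuotientGroup.eq_one_iff, QuotientGroup.mk_mul, QuotientGroup.mk_inv]
    simp [rep]
  have hdec : a = ∑ g : G, single g (a.coeff g) - ∑ g : G, single (rep g) (a.coeff g) := by
    have h1 : ∑ g : G, single g (a.coeff g) = a := by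
      conv_rhs => rw [← MonoidAlgebra.sum_coeff_single a, Finsupp.sum_fintype _ _ (by simp)]
    have h2 : ∑ g : G, single (rep g) (a.coeff g) = 0 := by
      let F : MonoidAlgebra k G →+ MonoidAlgebra k G :=
        AddMonoidHom.mk' (MonoidAlgebra.mapDomain rep) (MonoidAlgebra.mapDomain_add rep)
      have hF : ∀ z, F z = MonoidAlgebra.mapDomain Quotient.out
          (MonoidAlgebra.mapDomainRingHom k (QuotientGroup.mk' P) z) := by
        intro z
        induction z using MonoidAlgebra.induction_linear with
        | zero => simp [F]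
        | add u v hu hv => rw [map_add, hu, hv, map_add, MonoidAlgebra.mapDomain_add]
        | single g r => simp [F, rep]
      have := hF a
      rw [ha, MonoidAlgebra.mapDomain_zero] at this
      conv at this => lhs; rw [← h1, map_sum]
      simpa [F] using this
    rw [h1, h2, sub_zero]
  rw [hdec, ← Finset.sum_sub_distrib]
  refine I.sum_mem fun g _ => ?_
  obtain ⟨y, hy, hg⟩ := hrep g
  have : single g (a.coeff g) - single (rep g) (a.coeff g) =
      e y * single (rep g) (a.coeff g) - single (rep g) (a.coeff g) := by
    simp [e, single_mul_single, ← hg]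
  rw [this]
  exact (hJtop ▸ Submodule.mem_top : single (rep g) (a.coeff g) ∈ J) y hy

end CfsgLib.Blk
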