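import Cfsg.Agent.Blk.Local
import Cfsg.Agent.Blk.GAlg
import Cfsg.Agent.Char.Central
import Cfsg.Agent.Char.Classes

/-!
The central characters as homomorphisms on the centre of the group algebra over the local ring at
`M`, block idempotents and their integrality.
-/

set_option autoImplicit false
set_option linter.style.haveILetI false
set_option linter.unusedSectionVars false

namespace CfsgLib.Blk

open Cfsg CfsgLib.Char MonoidAlgebra Finset
open scoped ComplexConjugate

universe u

variable {G : Type u} [Group G] [Finite G]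

theorem finsum_mem_eq_sum_ite {ι : Type*} [Fintype ι] {A : Type*} [AddCommMonoid A] (s : Set ι)
    [DecidablePred (· ∈ s)] (f : ι → A) : ∑ᶠ i ∈ s, f i = ∑ i, if i ∈ s then f i else 0 := by
  rw [finsum_mem_eq_finite_toFinset_sum f (Set.toFinite s), ← Finset.sum_filter]
  exact Finset.sum_congr (by ext; simp) fun _ _ => rfl

theorem centralChar_one {χ : G → ℂ} (h : χ 1 ≠ 0) : centralChar χ 1 = 1 := by
  have : Subgroup.centralizer ({(1 : G)} : Set G) = ⊤ := by
    ext x; simp [Subgroup.mem_centralizer_singleton_iff]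
  rw [centralChar, this, Subgroup.index_top, Nat.cast_one, one_mul, div_self h]

variable {M : Ideal AlgInt} [M.IsPrime]

/-- The evaluation `∑ a(g) χ(g) / χ(1)`. -/
noncomputable def omega (χ : G → ℂ) (a : MonoidAlgebra (locRing M) G) : ℂ :=
  (a.coeff.sum fun g r => (r : ℂ) * χ g) / χ 1

theorem omega_eq [Fintype G] (χ : G → ℂ) (a : MonoidAlgebra (locRing M) G) :
    omega χ a = (∑ g : G, ((a.coeff g : locRing M) : ℂ) * χ g) / χ 1 := by
  rw [omega, Finsupp.sum_fintype]
  intro g
  simp

theorem omega_zero (χ : G → ℂ) : omega χ (0 : MonoidAlgebra (locRing M) G) = 0 := by simp [omega]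

theorem omega_add (χ : G → ℂ) (a b : MonoidAlgebra (locRing M) G) :
    omega χ (a + b) = omega χ a + omega χ b := by
  haveI := Fintype.ofFinite G
  simp only [omega_eq, ← add_div, ← Finset.sum_add_distrib]
  congr 1
  exact Finset.sum_congr rfl fun g _ => by simp [add_mul]

theorem omega_sub (χ : G → ℂ) (a b : MonoidAlgebra (locRing M) G) :
    omega χ (a - b) = omega χ a - omega χ b := by
  have h := omega_add χ (a - b) b
  rw [sub_add_cancel] at h
  rw [h]; ring

theorem omega_smul (χ : G → ℂ) (r : locRing M) (a : MonoidAlgebra (locRing M) G) :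
    omega χ (r • a) = (r : ℂ) * omega χ a := by
  haveI := Fintype.ofFinite G
  simp only [omega_eq, mul_div_assoc', Finset.mul_sum]
  congr 1
  exact Finset.sum_congr rfl fun g _ => by simp [mul_assoc]

theorem omega_sum {ι : Type*} (χ : G → ℂ) (s : Finset ι) (f : ι → MonoidAlgebra (locRing M) G) :
    omega χ (∑ i ∈ s, f i) = ∑ i ∈ s, omega χ (f i) := by
  classical
  induction s using Finset.induction_on with
  | empty => simp [omega_zero]
  | insert a s ha ih => rw [Finset.sum_insert ha, Finset.sum_insert ha, omega_add, ih]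

theorem omega_single (χ : G → ℂ) (g : G) (r : locRing M) :
    omega χ (single g r) = (r : ℂ) * χ g / χ 1 := by
  rw [omega, MonoidAlgebra.coeff_single, Finsupp.sum_single_index]
  simp

theorem omega_one {χ : G → ℂ} (h : χ 1 ≠ 0) : omega χ (1 : MonoidAlgebra (locRing M) G) = 1 := by
  rw [MonoidAlgebra.one_def, omega_single]
  simp [h]

/-- A class coefficient element acts by a scalar. -/
theorem omega_mul {χ : G → ℂ} (hχ : IsIrrCharacter G χ) {a : MonoidAlgebra (locRing M) G}
    (ha : IsClassCoeff a) (b : MonoidAlgebra (locRing M) G) :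
    omega χ (a * b) = omega χ a * omega χ b := by
  haveI := Fintype.ofFinite G
  obtain ⟨n, ρ, hirr, rfl⟩ := hχ
  haveI := hirr
  have hf : IsClassFunction G (fun x => ((a.coeff x : locRing M) : ℂ)) :=
    fun g h => congrArg Subtype.val (ha g h)
  have hs := classFun_scalar ρ hf
  rw [← Representation.char_one ρ] at hs
  have key : ∀ y : G, ∑ x : G, ((a.coeff x : locRing M) : ℂ) * ρ.character (x * y) =
      omega ρ.character a * ρ.character y := by
    intro y
    have h := congrArg (fun f => LinearMap.trace ℂ (Fin n → ℂ) (f * ρ y)) hs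
    simp only [Finset.sum_mul, map_sum, smul_mul_assoc, map_smul, smul_eq_mul, ← map_mul] at h
    rw [omega_eq]
    simpa [Representation.character, ← Module.End.one_eq_id] using h
  rw [omega_eq, omega_eq (a := b), mul_div_assoc', Finset.mul_sum]
  congr 1
  simp only [coeff_mul_sum, AddSubmonoidClass.coe_finsetSum, Subring.coe_mul, Finset.sum_mul]
  rw [Finset.sum_comm]
  calc ∑ x, ∑ g, ((a.coeff x : locRing M) : ℂ) * (b.coeff (x⁻¹ * g) : locRing M) * ρ.character g
      = ∑ x, ∑ y, ((a.coeff x : locRing M) : ℂ) * (b.coeff y : locRing M) * ρ.character (x * y) := by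
        refine Finset.sum_congr rfl fun x _ => ?_
        refine (Fintype.sum_equiv (Equiv.mulLeft x) _ _ fun y => ?_).symm
        simp
    _ = ∑ y, (b.coeff y : locRing M) * (omega ρ.character a * ρ.character y) := by
        rw [Finset.sum_comm]
        refine Finset.sum_congr rfl fun y _ => ?_
        rw [← key, Finset.mul_sum]
        exact Finset.sum_congr rfl fun x _ => by ring
    _ = _ := Finset.sum_congr rfl fun y _ => by ring

theorem omega_pow {χ : G → ℂ} (hχ : IsIrrCharacter G χ) {a : MonoidAlgebra (locRing M) G}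
    (ha : IsClassCoeff a) (n : ℕ) : omega χ (a ^ n) = omega χ a ^ n := by
  induction n with
  | zero => simp [omega_one (irr_one_ne_zero hχ)]
  | succ n ih => rw [pow_succ, pow_succ, omega_mul hχ (ha.pow n), ih]

/-- The sum of the class of `g`. -/
noncomputable def classSum (R : Type*) [CommRing R] (g : G) : MonoidAlgebra R G :=
  letI := Fintype.ofFinite G
  letI := Classical.decRel (IsConj (α := G))
  ∑ x ∈ Finset.univ.filter (fun x => IsConj g x), single x 1

theorem coeff_classSum (R : Type*) [CommRing R] (g x : G) [Decidable (IsConj g x)] :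
    (classSum R g).coeff x = if IsConj g x then 1 else 0 := by
  classical
  simp [classSum, MonoidAlgebra.coeff_sum, Finsupp.single_apply]

theorem isClassCoeff_classSum (R : Type*) [CommRing R] (g : G) : IsClassCoeff (classSum R g) := by
  classical
  intro x h
  rw [coeff_classSum, coeff_classSum]
  have : IsConj x (h * x * h⁻¹) := isConj_iff.mpr ⟨h, rfl⟩
  exact if_congr ⟨fun hh => hh.trans this.symm, fun hh => hh.trans this⟩ rfl rfl

theorem omega_classSum {χ : G → ℂ} (hχ : IsClassFunction G χ) (g : G) :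
    omega χ (classSum (locRing M) g) = centralChar χ g := by
  classical
  haveI := Fintype.ofFinite G
  rw [omega_eq, centralChar_eq hχ, Finset.sum_filter]
  congr 1
  refine Finset.sum_congr rfl fun x _ => ?_
  rw [coeff_classSum]
  split_ifs <;> simp

theorem eq_sum_classSum [Fintype (ConjClasses G)] {R : Type*} [CommRing R] {a : MonoidAlgebra R G}
    (ha : IsClassCoeff a) :
    a = ∑ C : ConjClasses G, a.coeff C.out • classSum R C.out := by
  classical
  refine MonoidAlgebra.coeff_injective (Finsupp.ext fun x => ?_)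
  simp only [MonoidAlgebra.coeff_sum, Finset.sum_apply', MonoidAlgebra.coeff_smul,
    Finsupp.smul_apply, coeff_classSum, smul_eq_mul]
  have hout : ∀ C : ConjClasses G, ConjClasses.mk C.out = C := fun C => Quotient.out_eq C
  rw [Finset.sum_eq_single (ConjClasses.mk x)]
  · have h : IsConj (ConjClasses.mk x).out x :=
      ConjClasses.mk_eq_mk_iff_isConj.1 (hout _)
    obtain ⟨c, hc⟩ := isConj_iff.1 h
    rw [if_pos h, mul_one]
    calc a.coeff x = a.coeff (c * (ConjClasses.mk x).out * c⁻¹) := by rw [hc]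
      _ = _ := ha _ _
  · intro C _ hC
    rw [if_neg, mul_zero]
    intro h
    exact hC (by rw [← hout C, ConjClasses.mk_eq_mk_iff_isConj.2 h])
  · simp

theorem omega_eq_sum_classes [Fintype (ConjClasses G)] {χ : G → ℂ} (hχ : IsClassFunction G χ)
    {a : MonoidAlgebra (locRing M) G} (ha : IsClassCoeff a) :
    omega χ a = ∑ C : ConjClasses G, (a.coeff C.out : ℂ) * centralChar χ C.out := by
  conv_lhs => rw [eq_sum_classSum ha]
  simp [omega_sum, omega_smul, omega_classSum hχ]

theorem centralChar_mem {χ : G → ℂ} (hχ : IsIrrCharacter G χ) (g : G) :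
    centralChar χ g ∈ locRing M := by
  haveI := Fintype.ofFinite G
  exact integral_mem (centralChar_isIntegral hχ g)

theorem char_mem {χ : G → ℂ} (hχ : IsCharacter G χ) (g : G) : χ g ∈ locRing M :=
  integral_mem (char_isIntegral hχ g)

theorem irr_mem (χ : IrrCharacter G) (g : G) : (χ : G → ℂ) g ∈ locRing M :=
  char_mem (isCharacter_of_isIrr χ.2) g

theorem conj_irr_mem (χ : IrrCharacter G) (g : G) : conj ((χ : G → ℂ) g) ∈ locRing M := by
  rw [← char_conj_eq (isCharacter_of_isIrr χ.2)]
  exact irr_mem χ _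

theorem omega_mem {χ : G → ℂ} (hχ : IsIrrCharacter G χ) {a : MonoidAlgebra (locRing M) G}
    (ha : IsClassCoeff a) : omega χ a ∈ locRing M := by
  haveI := Fintype.ofFinite G
  haveI : Fintype (ConjClasses G) := Fintype.ofFinite _
  rw [omega_eq_sum_classes (classFun_of_irr hχ) ha]
  exact sum_mem fun C _ => mul_mem (a.coeff C.out).2 (centralChar_mem hχ _)

/-- The reduced central character. -/
noncomputable def omegaBar (χ : G → ℂ) (a : MonoidAlgebra (locRing M) G) : Res M :=
  red M (omega χ a)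

section bar

variable {χ : G → ℂ} (hχ : IsIrrCharacter G χ) {a b : MonoidAlgebra (locRing M) G}
include hχ

theorem omegaBar_add (ha : IsClassCoeff a) (hb : IsClassCoeff b) :
    omegaBar χ (a + b) = omegaBar χ a + omegaBar χ b := by
  rw [omegaBar, omega_add, red_add (omega_mem hχ ha) (omega_mem hχ hb)]; rfl

theorem omegaBar_sub (ha : IsClassCoeff a) (hb : IsClassCoeff b) :
    omegaBar χ (a - b) = omegaBar χ a - omegaBar χ b := by
  rw [omegaBar, omega_sub, red_sub (omega_mem hχ ha) (omega_mem hχ hb)]; rfl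

theorem omegaBar_mul (ha : IsClassCoeff a) (hb : IsClassCoeff b) :
    omegaBar χ (a * b) = omegaBar χ a * omegaBar χ b := by
  rw [omegaBar, omega_mul hχ ha, red_mul (omega_mem hχ ha) (omega_mem hχ hb)]; rfl

theorem omegaBar_smul (r : locRing M) (ha : IsClassCoeff a) :
    omegaBar χ (r • a) = IsLocalRing.residue (locRing M) r * omegaBar χ a := by
  rw [omegaBar, omega_smul, red_mul r.2 (omega_mem hχ ha), red_coe]; rfl

theorem omegaBar_one : omegaBar χ (1 : MonoidAlgebra (locRing M) G) = 1 := by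
  rw [omegaBar, omega_one (irr_one_ne_zero hχ), red_one]

theorem omegaBar_pow (ha : IsClassCoeff a) (n : ℕ) : omegaBar χ (a ^ n) = omegaBar χ a ^ n := by
  induction n with
  | zero => simp [omegaBar_one hχ]
  | succ n ih => rw [pow_succ, pow_succ, omegaBar_mul hχ (ha.pow n) ha, ih]

theorem omegaBar_eq_sum [Fintype (ConjClasses G)] (ha : IsClassCoeff a) :
    omegaBar χ a = ∑ C : ConjClasses G,
      IsLocalRing.residue (locRing M) (a.coeff C.out) * red M (centralChar χ C.out) := by
  rw [omegaBar, omega_eq_sum_classes (classFun_of_irr hχ) ha]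
  refine (red_sum _ _ fun C _ => mul_mem (a.coeff C.out).2 (centralChar_mem hχ _)).trans ?_
  exact Finset.sum_congr rfl fun C _ => by
    rw [red_mul (a.coeff C.out).2 (centralChar_mem hχ _), red_coe]

theorem omegaBar_classSum (g : G) :
    omegaBar χ (classSum (locRing M) g) = red M (centralChar χ g) := by
  rw [omegaBar, omega_classSum (classFun_of_irr hχ)]

end bar

theorem isClassCoeff_sum {ι R : Type*} [CommRing R] (s : Finset ι) (f : ι → MonoidAlgebra R G)
    (h : ∀ i ∈ s, IsClassCoeff (f i)) : IsClassCoeff (∑ i ∈ s, f i) :=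
  isClassCoeff_iff_commute.2 fun b => Commute.sum_left _ _ _ fun i hi => (h i hi).commute b

theorem omega_inversion {a : MonoidAlgebra (locRing M) G} (ha : IsClassCoeff a) (g : G) :
    ((a.coeff g : locRing M) : ℂ) =
      (Nat.card G : ℂ)⁻¹ * ∑ χ : IrrCharacter G,
        omega (χ : G → ℂ) a * (χ : G → ℂ) 1 * conj ((χ : G → ℂ) g) := by
  classical
  haveI := Fintype.ofFinite G
  have h1 : ∀ χ : IrrCharacter G, omega (χ : G → ℂ) a * (χ : G → ℂ) 1 * conj ((χ : G → ℂ) g) =
      ∑ x : G, ((a.coeff x : locRing M) : ℂ) * ((χ : G → ℂ) x * conj ((χ : G → ℂ) g)) := by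
    intro χ
    rw [omega_eq, div_mul_cancel₀ _ (irr_one_ne_zero χ.2), Finset.sum_mul]
    exact Finset.sum_congr rfl fun x _ => by ring
  simp only [h1]
  rw [Finset.sum_comm]
  simp only [← Finset.mul_sum, second_orth, mul_ite, mul_zero]
  rw [← Finset.sum_filter, Finset.sum_congr rfl
    (g := fun _ => ((a.coeff g : locRing M) : ℂ) *
      (Nat.card (Subgroup.centralizer ({g} : Set G)) : ℂ))]
  · rw [Finset.sum_const, nsmul_eq_mul]
    have hc : (Finset.univ.filter fun x : G => IsConj x g) =
        Finset.univ.filter fun x : G => IsConj g x := by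
      ext x; simp only [Finset.mem_filter]; exact and_congr_right fun _ => ⟨IsConj.symm, IsConj.symm⟩
    rw [hc, card_filter_isConj, ← mul_assoc, ← index_mul_card_centralizer g]
    have h2 : ((Subgroup.centralizer ({g} : Set G)).index : ℂ) ≠ 0 := by
      exact_mod_cast Subgroup.index_ne_zero_of_finite
    have h3 : (Nat.card (Subgroup.centralizer ({g} : Set G)) : ℂ) ≠ 0 := natCard_ne_zero _
    push_cast
    field_simp
  · intro x hx
    obtain ⟨c, hc⟩ := isConj_iff.1 (Finset.mem_filter.1 hx).2
    have e1 : a.coeff x = a.coeff g := by rw [← hc, ha]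
    have e2 : Nat.card (Subgroup.centralizer ({x} : Set G)) =
        Nat.card (Subgroup.centralizer ({g} : Set G)) := by
      have h1 := index_mul_card_centralizer x
      have h2 := index_mul_card_centralizer g
      have hi : (Subgroup.centralizer ({x} : Set G)).index =
          (Subgroup.centralizer ({g} : Set G)).index := by
        rw [← card_isConj, ← card_isConj]
        have hxg := (Finset.mem_filter.1 hx).2
        exact Nat.card_congr (Equiv.subtypeEquivRight fun y =>
          ⟨fun hh => hxg.symm.trans hh, fun hh => hxg.trans hh⟩)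
      rw [hi, ← h2] at h1
      exact Nat.eq_of_mul_eq_mul_left (Nat.pos_of_ne_zero Subgroup.index_ne_zero_of_finite) h1
    rw [e1, e2]

theorem eq_of_omega_eq {a b : MonoidAlgebra (locRing M) G} (ha : IsClassCoeff a)
    (hb : IsClassCoeff b) (h : ∀ χ : IrrCharacter G, omega (χ : G → ℂ) a = omega (χ : G → ℂ) b) :
    a = b := by
  refine MonoidAlgebra.coeff_injective (Finsupp.ext fun g => Subtype.ext ?_)
  rw [omega_inversion ha, omega_inversion hb]
  simp only [h]

/-! ### Blocks -/

theorem sameBlock_iff_red {χ ψ : G → ℂ} (hχ : IsIrrCharacter G χ) (hψ : IsIrrCharacter G ψ) :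
    SameBlock M χ ψ ↔ ∀ g, red M (centralChar χ g) = red M (centralChar ψ g) := by
  refine forall_congr' fun g => ?_
  rw [← red_eq_zero_iff (sub_mem (centralChar_mem hχ g) (centralChar_mem hψ g)),
    red_sub (centralChar_mem hχ g) (centralChar_mem hψ g), sub_eq_zero]

theorem sameBlock_refl (χ : G → ℂ) : SameBlock M χ χ := fun g => by
  rw [sub_self]; exact memLocalIdeal_zero

theorem sameBlock_symm {χ ψ : G → ℂ} (h : SameBlock M χ ψ) : SameBlock M ψ χ := fun g => by
  rw [← neg_sub]; exact memLocalIdeal_neg (h g)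

theorem sameBlock_trans {χ ψ θ : G → ℂ} (h : SameBlock M χ ψ) (h' : SameBlock M ψ θ) :
    SameBlock M χ θ := fun g => by
  have := memLocalIdeal_add (h g) (h' g)
  rwa [sub_add_sub_cancel] at this

theorem isPBlock_iff {B : Set (IrrCharacter G)} :
    IsPBlock M B ↔ ∃ χ : IrrCharacter G, B = blockOf M (χ : G → ℂ) := Iff.rfl

theorem blockOf_isPBlock (χ : IrrCharacter G) : IsPBlock M (blockOf M (χ : G → ℂ)) := ⟨χ, rfl⟩

theorem mem_blockOf {χ : G → ℂ} {ψ : IrrCharacter G} :
    ψ ∈ blockOf M χ ↔ SameBlock M χ (ψ : G → ℂ) := Iff.rfl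

theorem isPBlock_nonempty {B : Set (IrrCharacter G)} (hB : IsPBlock M B) : B.Nonempty := by
  obtain ⟨χ, rfl⟩ := hB
  exact ⟨χ, sameBlock_refl _⟩

theorem eq_blockOf {B : Set (IrrCharacter G)} (hB : IsPBlock M B) {χ : IrrCharacter G}
    (hχ : χ ∈ B) : B = blockOf M (χ : G → ℂ) := by
  obtain ⟨ψ, rfl⟩ := hB
  ext θ
  exact ⟨fun h => sameBlock_trans (sameBlock_symm hχ) h, fun h => sameBlock_trans hχ h⟩

theorem sameBlock_of_mem {B : Set (IrrCharacter G)} (hB : IsPBlock M B) {χ ψ : IrrCharacter G}
    (hχ : χ ∈ B) (hψ : ψ ∈ B) : SameBlock M (χ : G → ℂ) (ψ : G → ℂ) := by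
  rw [eq_blockOf hB hχ] at hψ
  exact hψ

theorem mem_of_sameBlock {B : Set (IrrCharacter G)} (hB : IsPBlock M B) {χ ψ : IrrCharacter G}
    (hχ : χ ∈ B) (h : SameBlock M (χ : G → ℂ) (ψ : G → ℂ)) : ψ ∈ B := by
  rw [eq_blockOf hB hχ]
  exact h

theorem blockOf_eq_iff {χ ψ : IrrCharacter G} :
    blockOf M (χ : G → ℂ) = blockOf M (ψ : G → ℂ) ↔ SameBlock M (χ : G → ℂ) (ψ : G → ℂ) := by
  constructor
  · intro h
    have : ψ ∈ blockOf M (χ : G → ℂ) := h ▸ sameBlock_refl (ψ : G → ℂ)
    exact this
  · intro h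
    exact eq_blockOf (blockOf_isPBlock χ) h

theorem eq_of_mem_of_mem {B B' : Set (IrrCharacter G)} (hB : IsPBlock M B) (hB' : IsPBlock M B')
    {χ : IrrCharacter G} (h : χ ∈ B) (h' : χ ∈ B') : B = B' := by
  rw [eq_blockOf hB h, eq_blockOf hB' h']

theorem omegaBar_congr {χ ψ : G → ℂ} (hχ : IsIrrCharacter G χ) (hψ : IsIrrCharacter G ψ)
    (h : SameBlock M χ ψ) {a : MonoidAlgebra (locRing M) G} (ha : IsClassCoeff a) :
    omegaBar χ a = omegaBar ψ a := by
  haveI : Fintype (ConjClasses G) := Fintype.ofFinite _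
  rw [omegaBar_eq_sum hχ ha, omegaBar_eq_sum hψ ha]
  simp only [(sameBlock_iff_red hχ hψ).1 h]

theorem exists_separating {χ ψ : IrrCharacter G} (h : ¬ SameBlock M (χ : G → ℂ) (ψ : G → ℂ)) :
    ∃ a : MonoidAlgebra (locRing M) G, IsClassCoeff a ∧
      omegaBar (χ : G → ℂ) a = 1 ∧ omegaBar (ψ : G → ℂ) a = 0 := by
  rw [sameBlock_iff_red χ.2 ψ.2] at h
  push Not at h
  obtain ⟨g, hg⟩ := h
  let C := classSum (locRing M) g
  let s : locRing M := ⟨centralChar (ψ : G → ℂ) g, centralChar_mem ψ.2 g⟩
  let d : locRing M := ⟨centralChar (χ : G → ℂ) g, centralChar_mem χ.2 g⟩ - s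
  have hd : IsUnit d := by
    rw [← IsLocalRing.residue_ne_zero_iff_isUnit, map_sub, sub_ne_zero]
    simpa only [red_of_mem (centralChar_mem χ.2 g), red_of_mem (centralChar_mem ψ.2 g)] using hg
  obtain ⟨u, hu⟩ := hd
  have hC : IsClassCoeff C := isClassCoeff_classSum _ g
  have h1 : IsClassCoeff (s • (1 : MonoidAlgebra (locRing M) G)) := isClassCoeff_one.smul s
  refine ⟨(↑u⁻¹ : locRing M) • (C - s • 1), (hC.sub h1).smul _, ?_, ?_⟩
  · rw [omegaBar_smul χ.2 _ (hC.sub h1), omegaBar_sub χ.2 hC h1, omegaBar_classSum χ.2,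
      omegaBar_smul χ.2 s isClassCoeff_one, omegaBar_one χ.2, mul_one,
      red_of_mem (centralChar_mem χ.2 g), ← map_sub, ← map_mul]
    change IsLocalRing.residue _ ((↑u⁻¹ : locRing M) * d) = 1
    rw [← hu, Units.inv_mul, map_one]
  · rw [omegaBar_smul ψ.2 _ (hC.sub h1), omegaBar_sub ψ.2 hC h1, omegaBar_classSum ψ.2,
      omegaBar_smul ψ.2 s isClassCoeff_one, omegaBar_one ψ.2, mul_one,
      red_of_mem (centralChar_mem ψ.2 g)]
    simp [s]

theorem exists_approx_idem {B : Set (IrrCharacter G)} (hB : IsPBlock M B)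
    [DecidablePred (· ∈ B)] :
    ∃ a : MonoidAlgebra (locRing M) G, IsClassCoeff a ∧
      ∀ χ : IrrCharacter G, omegaBar (χ : G → ℂ) a = if χ ∈ B then 1 else 0 := by
  classical
  obtain ⟨χ₀, hχ₀⟩ := isPBlock_nonempty hB
  have key : ∀ s : Finset (IrrCharacter G), ∃ a : MonoidAlgebra (locRing M) G, IsClassCoeff a ∧
      omegaBar (χ₀ : G → ℂ) a = 1 ∧
        ∀ ψ ∈ s, ψ ∉ B → omegaBar (ψ : G → ℂ) a = 0 := by
    intro s
    induction s using Finset.induction_on with
    | empty => exact ⟨1, isClassCoeff_one, omegaBar_one χ₀.2, by simp⟩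
    | insert ψ s _ ih =>
      obtain ⟨a, ha, ha1, ha0⟩ := ih
      by_cases hψ : ψ ∈ B
      · refine ⟨a, ha, ha1, fun θ hθ hθB => ?_⟩
        rcases Finset.mem_insert.1 hθ with rfl | hθ
        · exact absurd hψ hθB
        · exact ha0 θ hθ hθB
      · obtain ⟨b, hb, hb1, hb0⟩ := exists_separating (χ := χ₀) (ψ := ψ)
          fun h => hψ (mem_of_sameBlock hB hχ₀ h)
        refine ⟨a * b, ha.mul hb, by rw [omegaBar_mul χ₀.2 ha hb, ha1, hb1, one_mul],
          fun θ hθ hθB => ?_⟩
        rw [omegaBar_mul θ.2 ha hb]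
        rcases Finset.mem_insert.1 hθ with rfl | hθ
        · rw [hb0, mul_zero]
        · rw [ha0 θ hθ hθB, zero_mul]
  obtain ⟨a, ha, ha1, ha0⟩ := key Finset.univ
  refine ⟨a, ha, fun χ => ?_⟩
  split_ifs with h
  · rw [← ha1]
    exact omegaBar_congr χ.2 χ₀.2 (sameBlock_of_mem hB h hχ₀) ha
  · exact ha0 χ (Finset.mem_univ χ) h

/-- Osima: the coefficients of a block idempotent lie in the local ring. -/
theorem blockCoeff_mem {p : ℕ} (hM : IsPModular p M) {B : Set (IrrCharacter G)}
    (hB : IsPBlock M B) (g : G) : blockCoeff B g ∈ locRing M := by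
  classical
  haveI := Fintype.ofFinite G
  obtain ⟨a, ha, hab⟩ := exists_approx_idem hB
  let ε : IrrCharacter G → locRing M := fun χ =>
    if χ ∈ B then 1 - ⟨omega (χ : G → ℂ) a, omega_mem χ.2 ha⟩
    else ⟨omega (χ : G → ℂ) a, omega_mem χ.2 ha⟩
  have hε : ∀ χ, MemLocalIdeal M ((ε χ : locRing M) : ℂ) := by
    intro χ
    rw [← residue_eq_zero_iff]
    have := hab χ
    rw [omegaBar, red_of_mem (omega_mem χ.2 ha)] at this
    simp only [ε]
    split_ifs with h
    · rw [map_sub, map_one, this, if_pos h, sub_self]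
    · rw [this, if_neg h]
  choose k hk0 hk using fun χ => exists_pow_dvd hM (hε χ) (Nat.card_pos (α := G)).ne'
  let K := ∑ χ, k χ
  let f : MonoidAlgebra (locRing M) G → MonoidAlgebra (locRing M) G :=
    fun x => (3 : locRing M) • x ^ 2 - (2 : locRing M) • x ^ 3
  have hf : ∀ n, IsClassCoeff (f^[n] a) := by
    intro n
    induction n with
    | zero => exact ha
    | succ n ih =>
      rw [Function.iterate_succ_apply']
      exact ((ih.pow 2).smul _).sub ((ih.pow 3).smul _)
  have hstep : ∀ χ : IrrCharacter G, ∀ x, IsClassCoeff x →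
      omega (χ : G → ℂ) (f x) = 3 * omega (χ : G → ℂ) x ^ 2 - 2 * omega (χ : G → ℂ) x ^ 3 := by
    intro χ x hx
    simp only [f, omega_sub, omega_smul, omega_pow χ.2 hx]
    rfl
  have herr : ∀ χ : IrrCharacter G, ∀ n, ∃ r : locRing M,
      (if χ ∈ B then (1 : ℂ) else 0) - omega (χ : G → ℂ) (f^[n] a) =
        (((ε χ) ^ (2 ^ n) * r : locRing M) : ℂ) := by
    intro χ n
    induction n with
    | zero =>
      refine ⟨if χ ∈ B then 1 else -1, ?_⟩
      simp only [ε, Function.iterate_zero_apply, pow_zero, pow_one]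
      split_ifs <;> simp
    | succ n ih =>
      obtain ⟨r, hr⟩ := ih
      have hw : omega (χ : G → ℂ) (f^[n] a) =
          (if χ ∈ B then (1 : ℂ) else 0) - (((ε χ) ^ (2 ^ n) * r : locRing M) : ℂ) := by
        rw [← hr]; ring
      rw [Function.iterate_succ_apply', hstep χ _ (hf n)]
      refine ⟨if χ ∈ B then r ^ 2 * (3 - 2 * ((ε χ) ^ (2 ^ n) * r))
        else -(r ^ 2 * (3 + 2 * ((ε χ) ^ (2 ^ n) * r))), ?_⟩
      have h3 : ((3 : locRing M) : ℂ) = 3 := rfl
      have h2 : ((2 : locRing M) : ℂ) = 2 := rfl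
      rw [hw]
      split_ifs <;>
      · simp only [pow_succ, pow_mul, Subring.coe_mul, Subring.coe_neg, AddSubgroupClass.coe_sub,
          Subring.coe_add, SubmonoidClass.coe_pow, h2, h3]
        norm_num
        ring
  choose r hr using fun χ => herr χ K
  have hdvd : ∀ χ, (Nat.card G : locRing M) ∣ (ε χ) ^ (2 ^ K) := fun χ =>
    (hk χ).trans (pow_dvd_pow _ ((Finset.single_le_sum (fun i _ => Nat.zero_le (k i))
      (Finset.mem_univ χ)).trans (Nat.lt_two_pow_self (n := K)).le))
  choose q hq using hdvd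
  have key : blockCoeff B g = (((f^[K] a).coeff g : locRing M) : ℂ) +
      ∑ χ : IrrCharacter G, ((q χ * r χ : locRing M) : ℂ) * (χ : G → ℂ) 1 *
        conj ((χ : G → ℂ) g) := by
    rw [omega_inversion (hf K), blockCoeff, finsum_mem_eq_sum_ite, Finset.mul_sum, Finset.mul_sum,
      ← Finset.sum_add_distrib]
    refine Finset.sum_congr rfl fun χ _ => ?_
    have hn := natCard_ne_zero G
    have h := hr χ
    rw [hq] at h
    push_cast at h ⊢
    have hw : omega (χ : G → ℂ) (f^[K] a) =
        (if χ ∈ B then (1 : ℂ) else 0) - (Nat.card G : ℂ) * (q χ : ℂ) * (r χ : ℂ) := by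
      rw [← h]; ring
    rw [hw]
    split_ifs <;> field_simp <;> ring
  rw [key]
  exact add_mem ((f^[K] a).coeff g).2
    (sum_mem fun χ _ => mul_mem (mul_mem (q χ * r χ).2 (irr_mem χ 1)) (conj_irr_mem χ g))

theorem blockCoeff_conj (B : Set (IrrCharacter G)) (g h : G) :
    blockCoeff B (h * g * h⁻¹) = blockCoeff B g := by
  unfold blockCoeff
  congr 1
  refine finsum_congr fun χ => finsum_congr fun _ => ?_
  rw [classFun_of_irr χ.2 g h]

variable {p : ℕ}

/-- The idempotent of a block, in the group algebra over the local ring. -/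
noncomputable def blockIdem (hM : IsPModular p M) {B : Set (IrrCharacter G)} (hB : IsPBlock M B) :
    MonoidAlgebra (locRing M) G :=
  MonoidAlgebra.ofCoeff (Finsupp.ofSupportFinite
    (fun g => (⟨blockCoeff B g, blockCoeff_mem hM hB g⟩ : locRing M)) (Set.toFinite _))

theorem coeff_blockIdem (hM : IsPModular p M) {B : Set (IrrCharacter G)} (hB : IsPBlock M B)
    (g : G) : (((blockIdem hM hB).coeff g : locRing M) : ℂ) = blockCoeff B g := rfl

theorem isClassCoeff_blockIdem (hM : IsPModular p M) {B : Set (IrrCharacter G)}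
    (hB : IsPBlock M B) : IsClassCoeff (blockIdem hM hB) := fun g h =>
  Subtype.ext (blockCoeff_conj B g h)

theorem sum_blockCoeff_mul [Fintype G] (B : Set (IrrCharacter G)) (ψ : IrrCharacter G)
    [Decidable (ψ ∈ B)] :
    ∑ g : G, blockCoeff B g * (ψ : G → ℂ) g = if ψ ∈ B then (ψ : G → ℂ) 1 else 0 := by
  classical
  simp only [blockCoeff, finsum_mem_eq_sum_ite, Finset.mul_sum, Finset.sum_mul]
  rw [Finset.sum_comm, Finset.sum_eq_single ψ]
  · split_ifs with h
    · have h1 := irr_inner_self ψ.2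
      rw [classInner_def, Finset.mul_sum] at h1
      calc _ = (ψ : G → ℂ) 1 * ∑ g : G, (Nat.card G : ℂ)⁻¹ *
            ((ψ : G → ℂ) g * conj ((ψ : G → ℂ) g)) := by
            rw [Finset.mul_sum]
            exact Finset.sum_congr rfl fun g _ => by ring
        _ = _ := by rw [h1, mul_one]
    · simp
  · intro χ _ hne
    split_ifs with h
    · have h1 : classInner (ψ : G → ℂ) (χ : G → ℂ) = 0 := by
        rw [irrChar_inner, if_neg (Ne.symm hne)]
      rw [classInner_def, Finset.mul_sum] at h1
      calc _ = (χ : G → ℂ) 1 * ∑ g : G, (Nat.card G : ℂ)⁻¹ *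
            ((ψ : G → ℂ) g * conj ((χ : G → ℂ) g)) := by
            rw [Finset.mul_sum]
            exact Finset.sum_congr rfl fun g _ => by ring
        _ = _ := by rw [h1, mul_zero]
    · simp
  · simp

theorem omega_blockIdem (hM : IsPModular p M) {B : Set (IrrCharacter G)} (hB : IsPBlock M B)
    (ψ : IrrCharacter G) [Decidable (ψ ∈ B)] :
    omega (ψ : G → ℂ) (blockIdem hM hB) = if ψ ∈ B then 1 else 0 := by
  haveI := Fintype.ofFinite G
  rw [omega_eq]
  simp only [coeff_blockIdem, sum_blockCoeff_mul]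
  split_ifs with h
  · exact div_self (irr_one_ne_zero ψ.2)
  · exact zero_div _

theorem blockIdem_mul_self (hM : IsPModular p M) {B : Set (IrrCharacter G)} (hB : IsPBlock M B) :
    blockIdem hM hB * blockIdem hM hB = blockIdem hM hB := by
  classical
  refine eq_of_omega_eq ((isClassCoeff_blockIdem hM hB).mul (isClassCoeff_blockIdem hM hB))
    (isClassCoeff_blockIdem hM hB) fun χ => ?_
  rw [omega_mul χ.2 (isClassCoeff_blockIdem hM hB), omega_blockIdem]
  split_ifs <;> simp

theorem blockIdem_mul_ne (hM : IsPModular p M) {B B' : Set (IrrCharacter G)} (hB : IsPBlock M B)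
    (hB' : IsPBlock M B') (h : B ≠ B') : blockIdem hM hB * blockIdem hM hB' = 0 := by
  classical
  refine eq_of_omega_eq ((isClassCoeff_blockIdem hM hB).mul (isClassCoeff_blockIdem hM hB'))
    (by intro g k; simp) fun χ => ?_
  rw [omega_mul χ.2 (isClassCoeff_blockIdem hM hB), omega_blockIdem, omega_blockIdem, omega_zero]
  split_ifs with h1 h2 <;> simp_all
  exact h (eq_of_mem_of_mem hB hB' h1 h2)

end CfsgLib.Blk
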