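import Cfsg.Agent.Blk.Pair.PIndex
import Cfsg.Agent.Blk.PiKer
import Cfsg.Agent.Char.Clifford

/-!
Blocks of a group over blocks of a normal subgroup.
-/

set_option autoImplicit false
set_option linter.style.haveILetI false
set_option linter.unusedSectionVars false

namespace CfsgLib.Blk

open Cfsg CfsgLib.Char CfsgLib.Blk.Pair MonoidAlgebra Finset IsLocalRing
open scoped ComplexConjugate

universe u

variable {G : Type u} [Group G] [Fintype G] {M : Ideal AlgInt} [M.IsPrime] {p : ℕ}
  {N : Subgroup G} [hN : N.Normal] [Fintype N]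

theorem red_eq_iff {x y : ℂ} (hx : x ∈ locRing M) (hy : y ∈ locRing M) :
    red M x = red M y ↔ MemLocalIdeal M (x - y) := by
  rw [← red_eq_zero_iff (sub_mem hx hy), red_sub hx hy, sub_eq_zero]

/-- The central characters on a normal subgroup are those of a constituent. -/
theorem centralChar_eq_induced {χ : G → ℂ} (hχ : IsIrrCharacter G χ) {θ : N → ℂ}
    (hθ : IsIrrCharacter N θ) (hcon : classInner (fun n : N => χ n) θ ≠ 0) (n : N) :
    centralChar χ (n : G) = inducedCentralChar N θ (n : G) := by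
  classical
  obtain ⟨Q, hQ⟩ := exists_isPModular (q := 2) Nat.prime_two
  haveI := CfsgLib.Blk.IsPModular.isPrime hQ
  rw [← omega_classSum (M := Q) (classFun_of_irr hχ), ← omega_resA_classSum (M := Q)]
  refine (omega_resA_of_constituent N hχ hθ hcon (isClassCoeff_classSum _ _) fun g hg => ?_).symm
  rw [coeff_classSum, if_neg]
  intro hc
  obtain ⟨c, hc⟩ := isConj_iff.1 hc
  exact hg (hc ▸ hN.conj_mem n n.2 c)

theorem inducedCentralChar_conjN (θ : N → ℂ) (x g : G) :
    inducedCentralChar N (conjN θ x) g = inducedCentralChar N θ g := by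
  rw [← centralChar_indFun, ← centralChar_indFun, indFun_conjN]

theorem red_induced_congr {θ θ' : N → ℂ} (hθ : IsIrrCharacter N θ) (hθ' : IsIrrCharacter N θ')
    (h : SameBlock M θ θ') (g : G) :
    red M (inducedCentralChar N θ g) = red M (inducedCentralChar N θ' g) := by
  rw [← omegaBar_resA_classSum, ← omegaBar_resA_classSum]
  exact omegaBar_congr hθ hθ' h (isClassCoeff_resA N (isClassCoeff_classSum _ g))

/-- A central element supported on `N` only sees the central character on `N`. -/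
theorem lam_resA_congr {χ : G → ℂ} (hχ : IsIrrCharacter G χ) {θ : N → ℂ}
    (hθ : IsIrrCharacter N θ)
    (h : ∀ n : N, red M (centralChar χ (n : G)) = red M (inducedCentralChar N θ (n : G)))
    {z : KA M G} (hz : IsClassCoeff z) (hzN : ∀ g, g ∉ N → z.coeff g = 0) :
    lam θ (resA N z) = lam χ z := by
  classical
  haveI : Fintype (ConjClasses G) := Fintype.ofFinite _
  have e : redA (resA N (liftA z)) = resA N z := by rw [redA_resA, redA_liftA]
  rw [← e, lam_redA hθ (isClassCoeff_resA N (isClassCoeff_liftA hz)),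
    omegaBar_resA_eq_sum N hθ (isClassCoeff_liftA hz), lam_eq_sum hχ hz]
  refine Finset.sum_congr rfl fun C _ => ?_
  rw [← coeff_redA, redA_liftA]
  by_cases hC : C.out ∈ N
  · rw [h ⟨_, hC⟩]
  · rw [hzN _ hC, zero_mul, zero_mul]

theorem lam_constituent {χ : G → ℂ} (hχ : IsIrrCharacter G χ) {θ : N → ℂ}
    (hθ : IsIrrCharacter N θ) (hcon : classInner (fun n : N => χ n) θ ≠ 0)
    {z : KA M G} (hz : IsClassCoeff z) (hzN : ∀ g, g ∉ N → z.coeff g = 0) :
    lam θ (resA N z) = lam χ z :=
  lam_resA_congr hχ hθ (fun n => by rw [centralChar_eq_induced hχ hθ hcon n]) hz hzN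

section orbit

variable (hM : IsPModular p M) {c : Set (IrrCharacter N)} (hc : IsPBlock M c)
include hM hc

theorem nSum_supp {g : G} (hg : g ∉ N) : (nSum M N c).coeff g = 0 := by
  classical
  rw [nSum, MonoidAlgebra.coeff_sum, Finset.sum_apply']
  refine Finset.sum_eq_zero fun a ha => ?_
  obtain ⟨d, -, rfl⟩ := nOrbit_block hM hc ha
  exact coeff_inA_of_notMem N _ hg

theorem lam_nSum_self {θ : IrrCharacter N} (hθ : θ ∈ c) :
    lam (θ : N → ℂ) (resA N (nSum M N c)) = 1 := by
  classical
  have hz := isClassCoeff_resA N (isClassCoeff_nSum (G := G) hM hc)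
  have h1 : bid M c * resA N (nSum M N c) = bid M c := by
    have := bid_mul_nSum (G := G) (N := N) hM hc
    rw [inA_bid_mul hM hc fun g hg => nSum_supp hM hc hg] at this
    exact inA_injective N this
  have h2 := congrArg (lam (θ : N → ℂ)) h1
  rw [lam_mul θ.2 (isClassCoeff_bid hM hc) hz, lam_bid hM hc, if_pos hθ, one_mul] at h2
  exact h2

theorem conj_of_lam_nSum {θ : IrrCharacter N}
    (h : lam (θ : N → ℂ) (resA N (nSum M N c)) ≠ 0) :
    ∃ θ' ∈ c, ∃ g : G, (θ : N → ℂ) = conjN (θ' : N → ℂ) g := by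
  classical
  by_contra hne
  push Not at hne
  refine h ?_
  have hsum : resA N (nSum M N c) = ∑ a ∈ nOrbit (M := M) N c, resA N a := by
    refine MonoidAlgebra.coeff_injective (Finsupp.ext fun n => ?_)
    simp [nSum, MonoidAlgebra.coeff_sum, Finset.sum_apply']
  have hblk : ∀ a ∈ nOrbit (M := M) N c, ∃ d, IsPBlock M d ∧ resA N a = bid M d ∧ θ ∉ d := by
    intro a ha
    obtain ⟨y, rfl⟩ := mem_nOrbit.1 ha
    have hK : ∀ g, g ∈ N ↔ y⁻¹ * g * y ∈ N := fun g =>
      ⟨fun hg => by simpa using hN.conj_mem g hg y⁻¹,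
        fun hg => by simpa [mul_assoc] using hN.conj_mem _ hg y⟩
    refine ⟨_, isPBlock_mvSet (cjIso y hK) hc, by rw [← inA_bid_mvSet y hK c, resA_inA], ?_⟩
    rintro ⟨θ', hθ', he⟩
    refine hne θ' hθ' y⁻¹ ?_
    rw [← he]
    funext n
    rw [mvChar_apply]
    exact congrArg (θ' : N → ℂ) (Subtype.ext (by rw [coe_cjIso_symm]; simp))
  rw [hsum, lam_sum θ.2 _ _ fun a ha => by
    obtain ⟨d, hd, he, -⟩ := hblk a ha
    exact he ▸ isClassCoeff_bid hM hd]
  refine Finset.sum_eq_zero fun a ha => ?_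
  obtain ⟨d, hd, he, hθd⟩ := hblk a ha
  rw [he, lam_bid hM hd, if_neg hθd]

/-- A block covered by a character has a conjugate containing any constituent of the
restriction of any character with the same central character on `N`. -/
theorem covered_conj {χ : IrrCharacter G} {θ φ : IrrCharacter N} (hθ : θ ∈ c)
    (h : ∀ n : N, red M (centralChar (χ : G → ℂ) (n : G)) =
      red M (inducedCentralChar N (θ : N → ℂ) (n : G)))
    (hφ : classInner (fun n : N => (χ : G → ℂ) n) (φ : N → ℂ) ≠ 0) :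
    ∃ θ' ∈ c, ∃ g : G, (φ : N → ℂ) = conjN (θ' : N → ℂ) g := by
  have hz := isClassCoeff_nSum (G := G) hM hc
  have hs : ∀ g, g ∉ N → (nSum M N c).coeff g = 0 := fun g hg => nSum_supp hM hc hg
  refine conj_of_lam_nSum hM hc ?_
  rw [lam_constituent χ.2 φ.2 hφ hz hs, ← lam_resA_congr χ.2 θ.2 h hz hs,
    lam_nSum_self hM hc hθ]
  exact one_ne_zero

/-- A constituent in the block `c` from the congruence on `N`. -/
theorem exists_constituent_mem {χ : IrrCharacter G} {θ : IrrCharacter N} (hθ : θ ∈ c)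
    (h : ∀ n : N, red M (centralChar (χ : G → ℂ) (n : G)) =
      red M (inducedCentralChar N (θ : N → ℂ) (n : G))) :
    ∃ θ' ∈ c, classInner (fun n : N => (χ : G → ℂ) n) (θ' : N → ℂ) ≠ 0 := by
  obtain ⟨φ, hφi, hφ⟩ := exists_constituent_res (N := N) χ.2
  obtain ⟨θ', hθ', g, e⟩ := covered_conj hM hc (φ := ⟨φ, hφi⟩) hθ h hφ
  refine ⟨θ', hθ', ?_⟩
  rw [← inner_res_conjN (classFun_of_irr χ.2) _ g]
  simpa only [← e] using hφ

end orbit

/-- Same block: congruent on `N` with the induced character of any constituent. -/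
theorem red_centralChar_eq {χ ψ : IrrCharacter G} (h : SameBlock M (χ : G → ℂ) (ψ : G → ℂ))
    {θ θ' : IrrCharacter N} (hθ : SameBlock M (θ : N → ℂ) (θ' : N → ℂ))
    (hcon : classInner (fun n : N => (χ : G → ℂ) n) (θ : N → ℂ) ≠ 0) (n : N) :
    red M (centralChar (ψ : G → ℂ) (n : G)) =
      red M (inducedCentralChar N (θ' : N → ℂ) (n : G)) := by
  rw [← (sameBlock_iff_red χ.2 ψ.2).1 h (n : G), centralChar_eq_induced χ.2 θ.2 hcon n,
    red_induced_congr θ.2 θ'.2 hθ]

/-- Irreducible characters of a `p'`-group in the same block are equal. -/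
theorem eq_of_sameBlock_pPrime {H : Type u} [Group H] [Finite H] (hM : IsPModular p M)
    (hH : ¬ p ∣ Nat.card H) {θ θ' : IrrCharacter H}
    (h : SameBlock M (θ : H → ℂ) (θ' : H → ℂ)) : θ = θ' := by
  classical
  haveI := Fintype.ofFinite H
  by_contra hne
  have hmem : ∀ x : H, blockCoeff ({θ} : Set (IrrCharacter H)) x ∈ locRing M := by
    intro x
    have h1 := natCast_inv_mem hM hH
    rw [blockCoeff, finsum_mem_singleton]
    exact mul_mem h1 (mul_mem (irr_mem θ 1) (conj_irr_mem θ x))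
  have hsub := blockOf_subset_of_blockCoeff_mem (M := M) (A := {θ}) hmem rfl
  exact hne (Set.mem_singleton_iff.1 (hsub (show θ' ∈ blockOf M (θ : H → ℂ) from h))).symm

/-- In the normal `p'`-case the same block forces the same constituents. -/
theorem constituent_of_sameBlock_pPrime (hM : IsPModular p M) (hN' : ¬ p ∣ Nat.card N)
    {χ ψ : IrrCharacter G} (h : SameBlock M (χ : G → ℂ) (ψ : G → ℂ)) {θ : IrrCharacter N}
    (hcon : classInner (fun n : N => (χ : G → ℂ) n) (θ : N → ℂ) ≠ 0) :
    classInner (fun n : N => (ψ : G → ℂ) n) (θ : N → ℂ) ≠ 0 := by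
  have hc := blockOf_isPBlock (M := M) θ
  obtain ⟨θ', hθ', h'⟩ := exists_constituent_mem hM hc (χ := ψ) (sameBlock_refl (θ : N → ℂ))
    fun n => red_centralChar_eq h (sameBlock_refl _) hcon n
  rwa [eq_of_sameBlock_pPrime hM hN' (θ := θ) (θ' := θ') hθ'] 

end CfsgLib.Blk
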