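import Cfsg.Agent.Blk.FongReynolds
import Cfsg.Agent.Blk.Pair.Local

/-!
Defect groups of blocks covering a block of a normal subgroup.
-/

set_option autoImplicit false
set_option linter.style.haveILetI false
set_option linter.unusedSectionVars false

namespace CfsgLib.CoverDefect

open Cfsg CfsgLib.Char CfsgLib.Blk CfsgLib.Blk.Pair CfsgLib.FongReynolds
open scoped ComplexConjugate

universe u

variable {M : Ideal AlgInt} [M.IsPrime] {p : ℕ} [Fact p.Prime]
variable {G : Type u} [Group G] [Fintype G] {N : Subgroup G} [hN : N.Normal] [Fintype N]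

theorem prod_mem_nilradical_pow {R : Type*} [CommRing R] :
    ∀ l : List R, (∀ x ∈ l, IsNilpotent x) → l.prod ∈ nilradical R ^ l.length
  | [], _ => by simp
  | x :: l, h => by
    rw [List.prod_cons, List.length_cons, pow_succ']
    exact Ideal.mul_mem_mul (mem_nilradical.2 (h x (List.mem_cons_self ..)))
      (prod_mem_nilradical_pow l fun y hy => h y (List.mem_cons_of_mem _ hy))

omit [Fintype G] [Fintype N] in
/-- An element fixed by `N` commutes with the group algebra of `N`. -/
theorem commute_inA [Finite G] {a : KA M G} (ha : Fix N a) (w : KA M N) :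
    inA N w * a = a * inA N w := by
  induction w using MonoidAlgebra.induction_linear with
  | zero => simp
  | add x y hx hy => rw [map_add, add_mul, mul_add, hx, hy]
  | single n r =>
    have h1 : inA (M := M) N (MonoidAlgebra.single n r) = MonoidAlgebra.single (n : G) r := by
      simp [inA]
    rw [h1]
    refine MonoidAlgebra.coeff_injective (Finsupp.ext fun x => ?_)
    rw [MonoidAlgebra.coeff_mul_single_apply, MonoidAlgebra.coeff_single_mul_apply, mul_comm r]
    congr 1
    have := fix_iff.1 ha n n.2 ((n : G)⁻¹ * x)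
    simpa [mul_assoc] using this.symm

variable (hM : IsPModular p M) {b : Set (IrrCharacter N)} (hb : IsPBlock M b)

include hM hb in
theorem fix_inA_bid : Fix N (inA N (bid M b)) := by
  refine fix_iff.2 fun y hy g => ?_
  by_cases hg : g ∈ N
  · have := isClassCoeff_bid hM hb ⟨g, hg⟩ ⟨y, hy⟩
    rw [← coeff_inA N, ← coeff_inA N] at this
    simpa using this
  · rw [coeff_inA_of_notMem N _ hg, coeff_inA_of_notMem N _ fun h => hg (by
      simpa [mul_assoc] using hN.conj_mem _ h y⁻¹)]

omit [Fintype G] [Fintype N] hN in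
theorem inA_bid_subgroupOf [Finite G] {T : Subgroup G} (hNT : N ≤ T)
    (b : Set (IrrCharacter N)) :
    inA (N.subgroupOf T) (bid M (mvSet (Subgroup.subgroupOfEquivOfLe hNT).symm b)) =
      resA T (inA N (bid M b)) := by
  refine MonoidAlgebra.coeff_injective (Finsupp.ext fun t => ?_)
  rw [coeff_resA]
  by_cases ht : t ∈ N.subgroupOf T
  · obtain ⟨k, hk⟩ := (Subgroup.subgroupOfEquivOfLe hNT).symm.surjective ⟨t, ht⟩
    have h1 := coeff_inA (N.subgroupOf T)
      (bid M (mvSet (Subgroup.subgroupOfEquivOfLe hNT).symm b)) ⟨t, ht⟩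
    have hk' : (t : G) = (k : G) := (congrArg (fun z : N.subgroupOf T => ((z : T) : G)) hk).symm
    rw [← hk, coeff_bid_mvSet, ← coeff_inA N, ← hk'] at h1
    rw [← h1, hk]
  · rw [coeff_inA_of_notMem _ _ ht]
    exact (coeff_inA_of_notMem N _ fun h => ht h).symm

variable {Q : Subgroup G}

/-- Supported on one coset of `N`, fixed by `N`, killed by the Brauer map, under `b`. -/
def Hom (M : Ideal AlgInt) [M.IsPrime] (b : Set (IrrCharacter N)) (Q : Subgroup G) (q : G ⧸ N)
    (a : KA M G) : Prop :=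
  Fix N a ∧ brMap Q a = 0 ∧ a * inA N (bid M b) = a ∧
    ∀ x : G, a.coeff x ≠ 0 → (x : G ⧸ N) = q

section hom

variable (hQN : Q ≤ N) (hQp : IsPGroup p Q)
include hM hQN hQp

theorem hom_mul {q r : G ⧸ N} {a c : KA M G} (ha : Hom M b Q q a) (hc : Hom M b Q r c) :
    Hom M b Q (q * r) (a * c) := by
  classical
  haveI : CharP (Res M) p := charP_res hM
  refine ⟨fun y hy => by rw [map_mul, ha.1 y hy, hc.1 y hy], ?_, by rw [mul_assoc, hc.2.2.1],
    fun x hx => ?_⟩
  · rw [brMap_mul Q hQp (fix_iff.1 (ha.1.mono hQN)) (fix_iff.1 (hc.1.mono hQN)), ha.2.1, zero_mul]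
  · rw [coeff_mul_sum] at hx
    obtain ⟨y, -, hy⟩ := Finset.exists_ne_zero_of_sum_ne_zero hx
    have h1 := ha.2.2.2 y (left_ne_zero_of_mul hy)
    have h2 := hc.2.2.2 _ (right_ne_zero_of_mul hy)
    rw [← h1, ← h2, ← QuotientGroup.mk_mul, mul_inv_cancel_left]

theorem hom_prod : ∀ l : List (KA M G × (G ⧸ N)), l ≠ [] → (∀ t ∈ l, Hom M b Q t.2 t.1) →
    Hom M b Q (l.map Prod.snd).prod (l.map Prod.fst).prod
  | [], h, _ => absurd rfl h
  | t :: l, _, h => by
    rcases eq_or_ne l [] with rfl | hl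
    · simpa using h t (List.mem_cons_self ..)
    · rw [List.map_cons, List.map_cons, List.prod_cons, List.prod_cons]
      exact hom_mul hM hQN hQp (h t (List.mem_cons_self ..))
        (hom_prod l hl fun s hs => h s (List.mem_cons_of_mem _ hs))

omit hQp in
theorem fix_prod : ∀ l : List (KA M G × (G ⧸ N)), (∀ t ∈ l, Hom M b Q t.2 t.1) →
    Fix N (l.map Prod.fst).prod
  | [], _ => fun y _ => by simp
  | t :: l, h => fun y hy => by
    rw [List.map_cons, List.prod_cons, map_mul, (h t (List.mem_cons_self ..)).1 y hy,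
      fix_prod l (fun s hs => h s (List.mem_cons_of_mem _ hs)) y hy]

include hb

theorem hom_one_nilpotent (hQ : IsDefectGroup p M b (Q.subgroupOf N)) {w : KA M G}
    (hw : Hom M b Q 1 w) :
    IsClassCoeff (resA N w) ∧ IsNilpotent (resA N w) ∧ inA N (resA N w) = w := by
  classical
  have hsupp : ∀ g, g ∉ N → w.coeff g = 0 := fun g hg => by
    by_contra h
    exact hg ((QuotientGroup.eq_one_iff g).1 (hw.2.2.2 g h))
  have hin : inA N (resA N w) = w := mapDomain_resA N hsupp
  have hcl := isClassCoeff_resA_of_fix hw.1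
  refine ⟨hcl, isNilpotent_of_lam hM hcl fun η => ?_, hin⟩
  by_cases hη : η ∈ b
  · haveI : Fintype (ConjClasses N) := Fintype.ofFinite _
    rw [lam_eq_sum η.2 hcl]
    refine Finset.sum_eq_zero fun C _ => ?_
    by_cases hC : MemLocalIdeal M (centralChar (η : N → ℂ) C.out)
    · rw [(red_eq_zero_iff (centralChar_mem η.2 _)).2 hC, mul_zero]
    · obtain ⟨c, hc, hcQ⟩ := exists_conj_mem_centralizer hM hb hQ hη C.out hC
      obtain ⟨y, hy⟩ := isConj_iff.1 hc
      have hcG : (c : G) ∈ Subgroup.centralizer (Q : Set G) := fun q hq =>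
        congrArg Subtype.val (hcQ ⟨q, hQN hq⟩ hq)
      have h1 := congrArg (fun z : KA M G => z.coeff (c : G)) hw.2.1
      simp only [coeff_brMap, if_pos hcG, MonoidAlgebra.coeff_zero, Finsupp.zero_apply] at h1
      rw [← hcl C.out y, hy, coeff_resA, h1, zero_mul]
  · have h1 : resA N w * bid M b = resA N w := by
      refine inA_injective N ?_
      rw [map_mul, hin, hw.2.2.1]
    rw [← h1, lam_mul η.2 hcl (isClassCoeff_bid hM hb), lam_bid hM hb, if_neg hη, mul_zero]

/-- Long products of homogeneous elements are multiples of products of nilpotents of `Z(kN)`. -/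
theorem exists_factor (hQ : IsDefectGroup p M b (Q.subgroupOf N)) :
    ∀ (j : ℕ) (l : List (KA M G × (G ⧸ N))), (∀ t ∈ l, Hom M b Q t.2 t.1) →
      j * Nat.card (G ⧸ N) ≤ l.length →
      ∃ v : KA M G, Fix N v ∧ ∃ W : List (Subalgebra.center (Res M) (KA M N)), W.length = j ∧
        (∀ w ∈ W, IsNilpotent w) ∧
        (l.map Prod.fst).prod = v * inA N ((W.map Subtype.val).prod) := by
  classical
  intro j
  induction j with
  | zero =>
    intro l hl _
    exact ⟨_, fix_prod hM hQN l hl, [], rfl, by simp, by simp⟩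
  | succ j ih =>
    intro l hl hlen
    set m := Nat.card (G ⧸ N) with hm
    haveI : Fintype (G ⧸ N) := Fintype.ofFinite _
    rw [Nat.succ_mul] at hlen
    obtain ⟨i, k, hne, hik⟩ := Fintype.exists_ne_map_eq_of_card_lt
      (fun i : Fin (m + 1) => ((l.take i).map Prod.snd).prod)
      (by rw [Fintype.card_fin, ← Nat.card_eq_fintype_card]; exact Nat.lt_succ_self m)
    obtain ⟨i, k, hlt, hik⟩ : ∃ i k : Fin (m + 1), i < k ∧
        ((l.take i).map Prod.snd).prod = ((l.take k).map Prod.snd).prod := by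
      rcases lt_or_gt_of_ne hne with h | h
      · exact ⟨i, k, h, hik⟩
      · exact ⟨k, i, h, hik.symm⟩
    have hlt' : (i : ℕ) < (k : ℕ) := hlt
    have hkm : (k : ℕ) ≤ m := Nat.lt_succ_iff.1 k.2
    set pre := l.take i with hpre
    set seg := (l.take k).drop i with hseg
    set post := l.drop k with hpost
    have hk : l.take k = pre ++ seg := by
      rw [hpre, hseg]
      conv_lhs => rw [← List.take_append_drop (i : ℕ) (l.take k)]
      rw [List.take_take, min_eq_left hlt'.le]
    have hl' : l = pre ++ seg ++ post := by rw [← hk, hpost, List.take_append_drop]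
    have hmem : ∀ s, s = pre ∨ s = seg ∨ s = post → ∀ t ∈ s, Hom M b Q t.2 t.1 := by
      intro s hs t ht
      refine hl t ?_
      rw [hl']
      rcases hs with rfl | rfl | rfl <;> simp [ht]
    have hsegne : seg ≠ [] := by
      intro h
      have := congrArg List.length h
      rw [hseg, List.length_drop, List.length_take, List.length_nil] at this
      omega
    rw [hk, List.map_append, List.prod_append] at hik
    have hseg1 := hom_prod hM hQN hQp seg hsegne (hmem seg (Or.inr (Or.inl rfl)))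
    rw [mul_eq_left.1 hik.symm] at hseg1
    obtain ⟨hcl, hnil, hin⟩ := hom_one_nilpotent hM hb hQN hQp hQ hseg1
    obtain ⟨v, hv, W, hW, hWn, hp⟩ := ih post (hmem post (Or.inr (Or.inr rfl))) (by
      rw [hpost, List.length_drop]; omega)
    let w : Subalgebra.center (Res M) (KA M N) :=
      ⟨resA N (seg.map Prod.fst).prod, Subalgebra.mem_center_iff.2 fun z => (hcl.commute z).eq.symm⟩
    refine ⟨(pre.map Prod.fst).prod * v, fun y hy => ?_, w :: W, by rw [List.length_cons, hW],
      ?_, ?_⟩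
    · rw [map_mul, fix_prod hM hQN pre (hmem pre (Or.inl rfl)) y hy, hv y hy]
    · intro x hx
      rcases List.mem_cons.1 hx with rfl | hx
      · exact (IsNilpotent.map_iff
          (f := (Subalgebra.center (Res M) (KA M N)).val) Subtype.val_injective).1 hnil
      · exact hWn x hx
    · conv_lhs => rw [hl', List.map_append, List.map_append, List.prod_append, List.prod_append]
      rw [List.map_cons, List.prod_cons, map_mul, hp, hin, mul_assoc, mul_assoc]
      congr 1
      rw [← mul_assoc, ← mul_assoc]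
      congr 1
      rw [← hin]
      exact commute_inA hv _

/-- An element under `b` killed by the Brauer map at the defect group is nilpotent. -/
theorem isNilpotent_of_brMap_defect (hQ : IsDefectGroup p M b (Q.subgroupOf N)) {z : KA M G}
    (hz : Fix N z) (hze : z * inA N (bid M b) = z) (h0 : brMap Q z = 0) : IsNilpotent z := by
  classical
  haveI : Fintype (G ⧸ N) := Fintype.ofFinite _
  haveI : IsArtinianRing (Subalgebra.center (Res M) (KA M N)) :=
    IsArtinianRing.of_finite (Res M) _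
  obtain ⟨L, hL⟩ :=
    IsNoetherianRing.isNilpotent_nilradical (Subalgebra.center (Res M) (KA M N))
  set K := L * Nat.card (G ⧸ N) with hK
  let part : G ⧸ N → KA M G := fun q => MonoidAlgebra.ofCoeff
    (Finsupp.ofSupportFinite (fun x => if (x : G ⧸ N) = q then z.coeff x else 0) (Set.toFinite _))
  have hpart : ∀ q x, (part q).coeff x = if (x : G ⧸ N) = q then z.coeff x else 0 := fun _ _ => rfl
  have hsum : z = ∑ q, part q := by
    refine MonoidAlgebra.coeff_injective (Finsupp.ext fun x => ?_)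
    rw [MonoidAlgebra.coeff_sum, Finset.sum_apply']
    simp only [hpart, Finset.sum_ite_eq, Finset.mem_univ, if_true]
  have hhom : ∀ q, Hom M b Q q (part q) := by
    intro q
    refine ⟨fix_iff.2 fun y hy g => ?_, ?_, ?_, fun x hx => by_contra fun h => hx (by
      rw [hpart, if_neg h])⟩
    · rw [hpart, hpart, fix_iff.1 hz y hy g, QuotientGroup.mk_mul, QuotientGroup.mk_mul,
        QuotientGroup.mk_inv, (QuotientGroup.eq_one_iff y).2 hy, one_mul, inv_one, mul_one]
    · refine MonoidAlgebra.coeff_injective (Finsupp.ext fun x => ?_)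
      have h1 := congrArg (fun w : KA M G => w.coeff x) h0
      simp only [coeff_brMap, MonoidAlgebra.coeff_zero, Finsupp.zero_apply] at h1 ⊢
      rw [hpart]
      split_ifs at h1 ⊢ <;> first | rfl | exact h1
    · refine MonoidAlgebra.coeff_injective (Finsupp.ext fun x => ?_)
      rw [coeff_mul_sum]
      conv_rhs => rw [hpart, ← hze, coeff_mul_sum, ← ite_zero_mul_sum]
      refine Finset.sum_congr rfl fun y _ => ?_
      by_cases hy : y⁻¹ * x ∈ N
      · rw [hpart, show (y : G ⧸ N) = (x : G ⧸ N) from QuotientGroup.eq.2 hy]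
        split_ifs <;> simp
      · rw [coeff_inA_of_notMem N _ hy]
        simp
  have key : ∀ n : ℕ, ∀ l : List (KA M G × (G ⧸ N)), (∀ t ∈ l, Hom M b Q t.2 t.1) →
      K ≤ l.length + n → (l.map Prod.fst).prod * z ^ n = 0 := by
    intro n
    induction n with
    | zero =>
      intro l hl hlen
      obtain ⟨v, -, W, hW, hWn, hp⟩ := exists_factor hM hb hQN hQp hQ L l hl (by omega)
      have h1 := prod_mem_nilradical_pow W hWn
      rw [hW, hL, Ideal.zero_eq_bot, Ideal.mem_bot] at h1
      have h2 : (W.map Subtype.val).prod = ((W.prod : Subalgebra.center (Res M) (KA M N)) : KA M N) :=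
        (map_list_prod (Subalgebra.center (Res M) (KA M N)).val W).symm
      rw [pow_zero, mul_one, hp, h2, h1, ZeroMemClass.coe_zero, map_zero, mul_zero]
    | succ n ih =>
      intro l hl hlen
      rw [pow_succ', ← mul_assoc]
      conv_lhs => rw [hsum, Finset.mul_sum, Finset.sum_mul, ← hsum]
      refine Finset.sum_eq_zero fun q _ => ?_
      have h1 := ih (l ++ [(part q, q)]) (fun t ht => by
        rcases List.mem_append.1 ht with ht | ht
        · exact hl t ht
        · rw [List.mem_singleton] at ht; subst ht; exact hhom q)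
        (by rw [List.length_append, List.length_singleton]; omega)
      simpa using h1
  refine ⟨K, ?_⟩
  simpa using key K [] (by simp) (by simp)
where
  ite_zero_mul_sum {q : G ⧸ N} {x : G} {f : G → Res M} [Decidable ((x : G ⧸ N) = q)] :
      (∑ y, if (x : G ⧸ N) = q then f y else 0) = if (x : G ⧸ N) = q then ∑ y, f y else 0 := by
    split_ifs <;> simp

end hom

include hM hb in
/-- Defect groups over a stable block. -/
theorem exists_defect_inf_of_stable (hQN : Q ≤ N) (hQ : IsDefectGroup p M b (Q.subgroupOf N))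
    (hst : ∀ y, cjA y (inA N (bid M b)) = inA N (bid M b)) {B : Set (IrrCharacter G)}
    (hB : IsPBlock M B) {χ : IrrCharacter G} (hχ : χ ∈ B) {θ : IrrCharacter N} (hθ : θ ∈ b)
    (hcon : classInner (fun n : N => (χ : G → ℂ) n) (θ : N → ℂ) ≠ 0) :
    ∃ P : Subgroup G, IsDefectGroup p M B P ∧ P ⊓ N = Q := by
  classical
  haveI : CharP (Res M) p := charP_res hM
  have hQp : IsPGroup p Q :=
    (IsDefectGroup.isPGroup hQ).of_equiv (Subgroup.subgroupOfEquivOfLe hQN)
  have he := isClassCoeff_of_cjA hst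
  have hee : inA N (bid M b) * inA N (bid M b) = inA N (bid M b) := by
    rw [← map_mul, bid_mul_self hM hb]
  have hlam : lam (χ : G → ℂ) (inA N (bid M b)) = 1 := by
    rw [← lam_constituent χ.2 θ.2 hcon he fun g hg => coeff_inA_of_notMem N _ hg, resA_inA,
      lam_bid hM hb, if_pos hθ]
  obtain ⟨D, hD⟩ := exists_isDefectGroup hM hB
  obtain ⟨g, hg, hs⟩ := isDefectGroup_iff.1 hD
  obtain ⟨x, hx⟩ : ∃ x : G, Q.map (MulAut.conj x).toMonoidHom ≤ D := by
    by_contra! hno
    have hz := (isClassCoeff_classSum (Res M) g).mul he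
    have hnil : IsNilpotent (classSum (Res M) g * inA N (bid M b)) := by
      refine isNilpotent_of_brMap_defect hM hb hQN hQp hQ (fix_of_classCoeff N hz)
        (by rw [mul_assoc, hee]) ?_
      rw [brMap_mul_class Q hQp (isClassCoeff_classSum _ g) he,
        brMap_classSum_eq_zero Q g (not_mem_centralizer_of_not_conj_le hs hQp hno), zero_mul]
    have h1 := lam_eq_zero_of_isNilpotent χ.2 hz hnil
    rw [lam_mul χ.2 (isClassCoeff_classSum _ g) he, hlam, mul_one, lam_classSum χ.2] at h1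
    exact (red_centralChar_ne_zero_iff χ.2 g).2 (hg.2.2 χ hχ) h1
  set R := D ⊓ N with hR
  have hRp : IsPGroup p (R.subgroupOf N) :=
    ((IsDefectGroup.isPGroup hD).to_le inf_le_left).of_equiv
      (Subgroup.subgroupOfEquivOfLe inf_le_right).symm
  have hbr : brMap (R.subgroupOf N) (redA (blockIdem hM hb)) ≠ 0 := by
    intro h0
    have h1 : brMap D (inA N (bid M b)) = 0 := by
      refine MonoidAlgebra.coeff_injective (Finsupp.ext fun c => ?_)
      rw [coeff_brMap, MonoidAlgebra.coeff_zero, Finsupp.zero_apply]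
      split_ifs with hc
      · by_cases hcN : c ∈ N
        · have h2 := congrArg (fun w : KA M N => w.coeff ⟨c, hcN⟩) h0
          have hmem : (⟨c, hcN⟩ : N) ∈ Subgroup.centralizer ((R.subgroupOf N : Subgroup N) : Set N) :=
            fun q hq => Subtype.ext (hc (q : G) (show (q : G) ∈ R from hq).1)
          simp only [coeff_brMap, if_pos hmem, MonoidAlgebra.coeff_zero, Finsupp.zero_apply,
            ← bid_eq hM hb] at h2
          exact (coeff_inA N (bid M b) ⟨c, hcN⟩).trans h2
        · exact coeff_inA_of_notMem N _ hcN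
      · rfl
    have h3 := brMap_blockIdem_defectGroup_ne_zero hM hB hD
    rw [← bid_eq hM hB] at h3
    refine h3 ?_
    have h4 := bid_mul_idem hM hB he hee hχ
    rw [hlam, one_smul] at h4
    rw [← h4, brMap_mul_class D (IsDefectGroup.isPGroup hD) (isClassCoeff_bid hM hB) he, h1,
      mul_zero]
  obtain ⟨n, hn⟩ := (brMap_blockIdem_ne_zero_iff hM hb hQ _ hRp).1 hbr
  have hmap : ∀ y : G, N.map (MulAut.conj y).toMonoidHom = N := fun y =>
    Subgroup.Normal.map_conj_eq N y
  have h1 : R.map (MulAut.conj (n : G)).toMonoidHom ≤ Q := by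
    rintro _ ⟨r, hr, rfl⟩
    exact hn ⟨⟨r, hr.2⟩, hr, rfl⟩
  have h2 : Q.map (MulAut.conj x).toMonoidHom ≤ R :=
    le_inf hx ((Subgroup.map_mono hQN).trans (hmap x).le)
  have c1 := Subgroup.card_le_of_le h1
  have c2 := Subgroup.card_le_of_le h2
  rw [card_map_conj] at c1 c2
  refine ⟨_, IsDefectGroup.conj hD (n : G), ?_⟩
  have h3 : D.map (MulAut.conj (n : G)).toMonoidHom ⊓ N =
      R.map (MulAut.conj (n : G)).toMonoidHom := by
    rw [hR, map_conj_inf, hmap]
  rw [h3]
  exact Subgroup.eq_of_le_of_card_ge h1 (by rw [card_map_conj]; exact c2)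

include hM hb in
/-- The fixer of the idempotent is the stabilizer of the block. -/
theorem mem_fixer_iff (g : G) : g ∈ fixer (inA N (bid M b)) ↔
    ∀ θ ∈ b, ∀ θ' : IrrCharacter N,
      (∀ n : N, (θ' : N → ℂ) n = (θ : N → ℂ) ⟨g * n * g⁻¹, hN.conj_mem n n.2 g⟩) → θ' ∈ b := by
  obtain ⟨d, hd, he, hmem⟩ := cjA_block hM hb g⁻¹
  simp only [inv_inv] at hmem
  have hiff : g ∈ fixer (inA N (bid M b)) ↔ d = b := by
    rw [← inv_mem_iff (x := g)]
    show cjA g⁻¹ (inA N (bid M b)) = _ ↔ _
    rw [he, (inA_injective N).eq_iff]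
    exact ⟨bid_inj hM hd hb, fun h => by rw [h]⟩
  rw [hiff]
  constructor
  · rintro h θ hθ θ' hθ'
    exact h ▸ (hmem θ').2 ⟨θ, hθ, funext hθ'⟩
  · intro h
    obtain ⟨θ, hθ⟩ := isPBlock_nonempty hb
    let θ' : IrrCharacter N := ⟨conjN (θ : N → ℂ) g, irr_conjN θ.2 _⟩
    exact eq_of_mem_of_mem hd hb ((hmem θ').2 ⟨θ, hθ, rfl⟩) (h θ hθ θ' fun n => rfl)

include hM hb in
theorem le_fixer : N ≤ fixer (inA N (bid M b)) := fix_inA_bid hM hb

include hM hb in
/-- Below a character over `b`, seen in the stabilizer. -/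
theorem cov_transfer {T : Subgroup G} [Fintype T] [(N.subgroupOf T).Normal]
    [Fintype (N.subgroupOf T)] (hNT : N ≤ T) {ψ : T → ℂ} (h : Cov b hNT ψ) :
    ∃ θ' ∈ mvSet (Subgroup.subgroupOfEquivOfLe hNT).symm b,
      classInner (fun x : N.subgroupOf T => ψ x) (θ' : N.subgroupOf T → ℂ) ≠ 0 := by
  obtain ⟨θ, hθ, hc⟩ := h
  set e := (Subgroup.subgroupOfEquivOfLe hNT).symm
  refine ⟨mvChar e θ, (mem_mvSet e).2 hθ, ?_⟩
  rw [← classInner_mulEquiv e,
    show (fun x : N.subgroupOf T => ψ x) ∘ e = fun n : N => ψ ⟨(n : G), hNT n.2⟩ from rfl,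
    show (mvChar e θ : N.subgroupOf T → ℂ) ∘ e = (θ : N → ℂ) from funext fun n => by
      rw [Function.comp_apply, mvChar_apply, MulEquiv.symm_apply_apply]]
  exact hc

include hM hb in
/-- Some defect group of a covering block meets `N` in a given defect group of the covered
block and stabilizes it. -/
theorem exists_defect_inf (hQN : Q ≤ N) (hQ : IsDefectGroup p M b (Q.subgroupOf N))
    {B : Set (IrrCharacter G)} (hB : IsPBlock M B)
    (hcov : ∃ χ ∈ B, ∃ θ ∈ b, classInner (fun n : N => (χ : G → ℂ) n) (θ : N → ℂ) ≠ 0) :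
    ∃ P : Subgroup G, IsDefectGroup p M B P ∧ P ⊓ N = Q ∧ P ≤ fixer (inA N (bid M b)) := by
  classical
  set T := fixer (inA N (bid M b)) with hTdef
  have hT : ∀ g : G, g ∈ T ↔ ∀ θ ∈ b, ∀ θ' : IrrCharacter N,
      (∀ n : N, (θ' : N → ℂ) n = (θ : N → ℂ) ⟨g * n * g⁻¹, hN.conj_mem n n.2 g⟩) → θ' ∈ b :=
    mem_fixer_iff hM hb
  have hNT : N ≤ T := le_fixer hM hb
  haveI : Fintype T := Fintype.ofFinite _
  haveI : (N.subgroupOf T).Normal := hN.subgroupOf T
  haveI : Fintype (N.subgroupOf T) := Fintype.ofFinite _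
  obtain ⟨B', hB', hcov', hind⟩ := exists_below_of_cov hM hb hT hNT hB hcov
  obtain ⟨ψ, hψ, hψc⟩ := hcov'
  obtain ⟨θ', hθ', hcon⟩ := cov_transfer hM hb hNT hψc
  set e := (Subgroup.subgroupOfEquivOfLe hNT).symm with he
  have hQ' : IsDefectGroup p M (mvSet e b) ((Q.subgroupOf T).subgroupOf (N.subgroupOf T)) := by
    have h1 := isDefectGroup_mvSet e hQ
    have h2 : (Q.subgroupOf N).map e.toMonoidHom =
        (Q.subgroupOf T).subgroupOf (N.subgroupOf T) := by
      ext x
      rw [Subgroup.mem_map_equiv]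
      exact Iff.rfl
    rwa [h2] at h1
  obtain ⟨P, hP, hPN⟩ := exists_defect_inf_of_stable hM (isPBlock_mvSet e hb)
    (fun x hx => hQN hx) hQ' (fun y => by
      rw [inA_bid_subgroupOf hNT b]
      exact cjA_eq_of_isClassCoeff (isClassCoeff_eT hM hb hT) y) hB' hψ hθ' hcon
  refine ⟨P.map T.subtype, (induced_invariants hM hb hT hNT hB' ⟨ψ, hψ, hψc⟩ hind).1 P hP, ?_,
    Subgroup.map_subtype_le _⟩
  have h3 := congrArg (Subgroup.map T.subtype) hPN
  rw [Subgroup.map_inf _ _ _ T.subtype_injective, Subgroup.map_subgroupOf_eq_of_le hNT,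
    Subgroup.map_subgroupOf_eq_of_le (hQN.trans hNT)] at h3
  exact h3

include hM in
/-- A covered block stable under a given defect group. -/
theorem exists_stable_covered {B : Set (IrrCharacter G)} (hB : IsPBlock M B) {P : Subgroup G}
    (hP : IsDefectGroup p M B P) :
    ∃ c : Set (IrrCharacter N), IsPBlock M c ∧ (∀ x ∈ P, StabilizesBlock N c x) ∧
      (∃ χ ∈ B, ∃ θ ∈ c, classInner (fun n : N => (χ : G → ℂ) n) (θ : N → ℂ) ≠ 0) ∧
      IsDefectGroup p M c ((P ⊓ N).subgroupOf N) := by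
  classical
  obtain ⟨χ, hχ⟩ := isPBlock_nonempty hB
  obtain ⟨θ, hθi, hθ⟩ := exists_constituent_res (N := N) χ.2
  set b := blockOf M θ with hbdef
  have hb : IsPBlock M b := blockOf_isPBlock (⟨θ, hθi⟩ : IrrCharacter N)
  obtain ⟨Q, hQ⟩ := exists_isDefectGroup hM hb
  have hQmap : (Q.map N.subtype).subgroupOf N = Q := by
    rw [← Subgroup.comap_subtype, Subgroup.comap_map_eq_self_of_injective N.subtype_injective]
  obtain ⟨P', hP', hPN, hPT⟩ := exists_defect_inf hM hb (Subgroup.map_subtype_le Q)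
    (hQmap.symm ▸ hQ) hB ⟨χ, hχ, ⟨θ, hθi⟩, sameBlock_refl _, hθ⟩
  obtain ⟨x, hx⟩ := isDefectGroup_conj_eq hM hB hP hP'
  have hK : ∀ g, g ∈ N ↔ x⁻¹ * g * x ∈ N :=
    mem_normalizer_subgroup_iff.1 (by rw [Subgroup.normalizer_eq_top]; exact Subgroup.mem_top x)
  refine ⟨mvSet (cjIso x hK) b, isPBlock_mvSet _ hb, fun y hy => ?_, ?_, ?_⟩
  · refine (stabilizesBlock_iff hM (isPBlock_mvSet _ hb) y).2
      ⟨by rw [Subgroup.normalizer_eq_top]; exact Subgroup.mem_top y, ?_⟩
    have hy' : x⁻¹ * y * x ∈ P' := by rwa [← hx, CfsgLib.Blk.mem_map_conj] at hy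
    have h1 : cjA (x⁻¹ * y * x) (inA N (bid M b)) = inA N (bid M b) := hPT hy'
    rw [inA_bid_mvSet, cjA_mul_apply]
    conv_rhs => rw [← h1, cjA_mul_apply]
    congr 1
    group
  · refine ⟨χ, hχ, mvChar (cjIso x hK) ⟨θ, hθi⟩, (mem_mvSet _).2 (sameBlock_refl _), ?_⟩
    have h1 : (mvChar (cjIso x hK) ⟨θ, hθi⟩ : N → ℂ) = conjN θ x⁻¹ := funext fun n => by
      rw [mvChar_apply]
      exact congrArg θ (Subtype.ext (by rw [coe_cjIso_symm]; simp))
    rw [h1, inner_res_conjN (classFun_of_irr χ.2)]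
    exact hθ
  · have h1 := isDefectGroup_mvSet (cjIso x hK) hQ
    have h2 : Q.map (cjIso x hK).toMonoidHom = (P ⊓ N).subgroupOf N := by
      ext n
      rw [Subgroup.mem_map_equiv, Subgroup.mem_subgroupOf, ← hx, Subgroup.mem_inf,
        CfsgLib.Blk.mem_map_conj, ← hQmap, Subgroup.mem_subgroupOf, ← hPN, Subgroup.mem_inf,
        coe_cjIso_symm]
      exact ⟨fun h => ⟨h.1, n.2⟩, fun h => ⟨h.1, (hK _).1 n.2⟩⟩
    rwa [h2] at h1

include hM hb in
/-- No proper overgroup of `p`-power index when a defect group lies in `N`. -/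
theorem le_of_stable (hst : ∀ y, cjA y (inA N (bid M b)) = inA N (bid M b)) {L : Subgroup G}
    [L.Normal] (hNL : N ≤ L) (hLN : ∃ k : ℕ, (N.subgroupOf L).index = p ^ k)
    {B : Set (IrrCharacter G)} (hB : IsPBlock M B) {χ : IrrCharacter G} (hχ : χ ∈ B)
    {θ : IrrCharacter N} (hθ : θ ∈ b)
    (hcon : classInner (fun n : N => (χ : G → ℂ) n) (θ : N → ℂ) ≠ 0) {D : Subgroup G}
    (hD : IsDefectGroup p M B D) (hDN : D ≤ N) : L ≤ N := by
  classical
  haveI : Fintype L := Fintype.ofFinite _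
  haveI : (N.subgroupOf L).Normal := hN.subgroupOf L
  haveI : Fintype (N.subgroupOf L) := Fintype.ofFinite _
  have he := isClassCoeff_of_cjA hst
  have hsupp : ∀ g, g ∉ L → (inA N (bid M b)).coeff g = 0 := fun g hg =>
    coeff_inA_of_notMem N _ fun h => hg (hNL h)
  set e := (Subgroup.subgroupOfEquivOfLe hNL).symm with hee
  have hbb := isPBlock_mvSet e hb (M := M)
  obtain ⟨B1, hB1, hbid, -⟩ := exists_above (G := L) hM hbb hLN
  have heq : inA (N.subgroupOf L) (bid M (mvSet e b)) = resA L (inA N (bid M b)) :=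
    inA_bid_subgroupOf hNL b
  rw [nSum_of_stable hM hbb fun y => by
    rw [heq]; exact cjA_eq_of_isClassCoeff (isClassCoeff_resA L he) y] at hbid
  obtain ⟨φ, hφi, hφ⟩ := exists_constituent_res (N := L) χ.2
  have hφB : (⟨φ, hφi⟩ : IrrCharacter L) ∈ B1 := by
    by_contra hn
    have h1 : lam φ (bid M B1) = 1 := by
      rw [hbid, heq, lam_constituent χ.2 hφi hφ he hsupp,
        ← lam_constituent χ.2 θ.2 hcon he fun g hg => coeff_inA_of_notMem N _ hg, resA_inA,
        lam_bid hM hb, if_pos hθ]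
    have h2 := lam_bid hM hB1 ⟨φ, hφi⟩
    rw [if_neg hn] at h2
    exact zero_ne_one (h2.symm.trans h1)
  obtain ⟨Q1, hQ1⟩ := exists_isDefectGroup hM hB1
  obtain ⟨htop, -⟩ := stable_block_defect hM hbb hLN hB1 hbid hQ1
  have hQmap : (Q1.map L.subtype).subgroupOf L = Q1 := by
    rw [← Subgroup.comap_subtype, Subgroup.comap_map_eq_self_of_injective L.subtype_injective]
  obtain ⟨P, hP, hPL⟩ := exists_defect_inf_of_stable hM hB1 (Subgroup.map_subtype_le Q1)
    (hQmap.symm ▸ hQ1) (fun y => by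
      have hin : inA L (resA L (inA N (bid M b))) = inA N (bid M b) := mapDomain_resA L hsupp
      rw [hbid, heq, hin]
      exact hst y) hB hχ hφB hφ
  obtain ⟨x, hx⟩ := isDefectGroup_conj_eq hM hB hP hD
  have hPN : P ≤ N := by
    rw [← hx]
    exact (Subgroup.map_mono hDN).trans (Subgroup.Normal.map_conj_eq N x).le
  have hQ1N : Q1 ≤ N.subgroupOf L := fun q hq => by
    have : (q : G) ∈ P ⊓ L := hPL ▸ ⟨q, hq, rfl⟩
    exact hPN this.1
  rw [sup_eq_left.2 hQ1N, Subgroup.subgroupOf_eq_top] at htop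
  exact htop

include hM hb in
theorem stabilizer_inf {L : Subgroup G} [L.Normal] (hNL : N ≤ L)
    (hLN : ∃ k : ℕ, (N.subgroupOf L).index = p ^ k) {B : Set (IrrCharacter G)}
    (hB : IsPBlock M B)
    (hcov : ∃ χ ∈ B, ∃ θ ∈ b, classInner (fun n : N => (χ : G → ℂ) n) (θ : N → ℂ) ≠ 0)
    (hD : ∃ D : Subgroup G, IsDefectGroup p M B D ∧ D ≤ N) :
    fixer (inA N (bid M b)) ⊓ L = N := by
  classical
  set T := fixer (inA N (bid M b)) with hTdef
  have hT : ∀ g : G, g ∈ T ↔ ∀ θ ∈ b, ∀ θ' : IrrCharacter N,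
      (∀ n : N, (θ' : N → ℂ) n = (θ : N → ℂ) ⟨g * n * g⁻¹, hN.conj_mem n n.2 g⟩) → θ' ∈ b :=
    mem_fixer_iff hM hb
  have hNT : N ≤ T := le_fixer hM hb
  refine le_antisymm ?_ (le_inf hNT hNL)
  haveI : Fintype T := Fintype.ofFinite _
  haveI : (N.subgroupOf T).Normal := hN.subgroupOf T
  haveI : Fintype (N.subgroupOf T) := Fintype.ofFinite _
  obtain ⟨B', hB', hcov', hind⟩ := exists_below_of_cov hM hb hT hNT hB hcov
  obtain ⟨ψ, hψ, hψc⟩ := hcov'
  obtain ⟨θ', hθ', hcon⟩ := cov_transfer hM hb hNT hψc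
  obtain ⟨D, hD, hDN⟩ := hD
  obtain ⟨D', hD'⟩ := exists_isDefectGroup hM hB'
  have hD'G := (induced_invariants hM hb hT hNT hB' ⟨ψ, hψ, hψc⟩ hind).1 D' hD'
  obtain ⟨x, hx⟩ := isDefectGroup_conj_eq hM hB hD'G hD
  have hD'N : D' ≤ N.subgroupOf T := fun d hd => by
    have h1 : (d : G) ∈ D'.map T.subtype := ⟨d, hd, rfl⟩
    rw [← hx] at h1
    exact ((Subgroup.map_mono hDN).trans (Subgroup.Normal.map_conj_eq N x).le) h1
  haveI : (L.subgroupOf T).Normal := Subgroup.Normal.subgroupOf ‹_› T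
  have hle := le_of_stable hM (isPBlock_mvSet _ hb) (L := L.subgroupOf T) (fun y => by
      rw [inA_bid_subgroupOf hNT b]
      exact cjA_eq_of_isClassCoeff (isClassCoeff_eT hM hb hT) y)
    (fun y hy => hNL hy) (by
      obtain ⟨k, hk⟩ := hLN
      have hdvd : (N.subgroupOf T).relIndex (L.subgroupOf T) ∣ p ^ k := by
        rw [show L.subgroupOf T = (T ⊓ L).subgroupOf T from
            Subgroup.ext fun y => ⟨fun h => ⟨y.2, h⟩, fun h => h.2⟩,
          Subgroup.relIndex_subgroupOf inf_le_left, ← hk]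
        exact ⟨_, (Subgroup.relIndex_mul_relIndex N (T ⊓ L) L (le_inf hNT hNL) inf_le_right).symm⟩
      obtain ⟨i, -, hi⟩ := (Nat.dvd_prime_pow (Fact.out : p.Prime)).1 hdvd
      exact ⟨i, hi⟩)
    hB' hψ hθ' hcon hD' hD'N
  rintro y ⟨hyT, hyL⟩
  exact hle (x := ⟨y, hyT⟩) hyL

end CfsgLib.CoverDefect
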