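import Cfsg.Prelude.Def_Blocks
import Mathlib.Data.Nat.ChineseRemainder
import Mathlib.GroupTheory.OrderOfElement

/-!
The decomposition of an element of finite order into its `p`-part and its `p'`-part.
-/

set_option autoImplicit false

namespace CfsgLib.Blk

open Cfsg

variable {G : Type*} [Group G] {p : ℕ}

theorem exists_exponent (hp : p.Prime) (k n : ℕ) (hn : ¬ p ∣ n) :
    ∃ e : ℕ, e ≡ 1 [MOD p ^ k] ∧ e ≡ 0 [MOD n] := by
  have hco : (p ^ k).Coprime n := Nat.Coprime.pow_left k (hp.coprime_iff_not_dvd.2 hn)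
  exact ⟨_, (Nat.chineseRemainder hco 1 0).2.1, (Nat.chineseRemainder hco 1 0).2.2⟩

theorem pow_eq_of_modEq {x : G} {n e : ℕ} (hx : x ^ n = 1) {c : ℕ} (he : e ≡ c [MOD n]) :
    x ^ e = x ^ c := by
  rw [pow_eq_pow_iff_modEq]
  exact he.of_dvd (orderOf_dvd_of_pow_eq_one hx)

theorem mul_pow_eq_left {x y g : G} {e : ℕ} (hg : x * y = g) (hc : Commute x y)
    (hx : x ^ e = x) (hy : y ^ e = 1) : g ^ e = x := by
  rw [← hg, hc.mul_pow, hx, hy, mul_one]

theorem exists_isPPart [Finite G] (hp : p.Prime) (g : G) : ∃ x, IsPPart p g x := by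
  obtain ⟨k, n, hn, hkn⟩ :=
    Nat.exists_eq_pow_mul_and_not_dvd (orderOf_pos g).ne' p hp.ne_one
  obtain ⟨e, he1, he0⟩ := exists_exponent hp k n hn
  obtain ⟨c, hc⟩ := Nat.modEq_zero_iff_dvd.1 he0
  have h1 : (g ^ e) ^ p ^ k = 1 := by
    rw [← pow_mul, hc, mul_right_comm, mul_comm n, ← hkn, pow_mul, pow_orderOf_eq_one, one_pow]
  have h2 : ((g ^ e)⁻¹ * g) ^ n = 1 := by
    rw [(Commute.pow_self g e).inv_left.mul_pow, inv_pow, inv_mul_eq_one, ← pow_mul,
      pow_eq_pow_iff_modEq, hkn]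
    have := (he1.mul_right' n)
    simpa using this
  refine ⟨g ^ e, (g ^ e)⁻¹ * g, by group, ?_, ?_, fun h => hn ?_⟩
  · exact (Commute.refl _).inv_right.mul_right (Commute.pow_self g e)
  · obtain ⟨i, -, hi⟩ := (Nat.dvd_prime_pow hp).1 (orderOf_dvd_of_pow_eq_one h1)
    exact ⟨i, hi⟩
  · exact h.trans (orderOf_dvd_of_pow_eq_one h2)

theorem isPPart_unique (hp : p.Prime) {g x x' : G} (h : IsPPart p g x) (h' : IsPPart p g x') :
    x = x' := by
  obtain ⟨y, hxy, hc, ⟨k, hk⟩, hy⟩ := h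
  obtain ⟨y', hxy', hc', ⟨k', hk'⟩, hy'⟩ := h'
  obtain ⟨e, he1, he0⟩ := exists_exponent hp (k + k') (orderOf y * orderOf y')
    fun h => (hp.dvd_mul.1 h).elim hy hy'
  have key : ∀ {z w : G} {i : ℕ}, z * w = g → Commute z w → orderOf z = p ^ i →
      i ≤ k + k' → orderOf w ∣ orderOf y * orderOf y' → g ^ e = z := by
    intro z w i hg hzw hz hi hw
    refine mul_pow_eq_left hg hzw ?_ ?_
    · conv_rhs => rw [← pow_one z]
      exact pow_eq_of_modEq (pow_orderOf_eq_one z) (he1.of_dvd (hz ▸ pow_dvd_pow p hi))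
    · rw [← pow_zero w]
      exact pow_eq_of_modEq (pow_orderOf_eq_one w) (he0.of_dvd hw)
  rw [← key hxy hc hk (Nat.le_add_right _ _) (dvd_mul_right _ _),
    key hxy' hc' hk' (Nat.le_add_left _ _) (dvd_mul_left _ _)]

theorem isPPart_mem_zpowers (hp : p.Prime) {g x : G} (h : IsPPart p g x) :
    x ∈ Subgroup.zpowers g := by
  obtain ⟨y, hxy, hc, ⟨k, hk⟩, hy⟩ := h
  obtain ⟨e, he1, he0⟩ := exists_exponent hp k (orderOf y) hy
  refine ⟨(e : ℤ), ?_⟩
  change g ^ (e : ℤ) = x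
  rw [zpow_natCast]
  refine mul_pow_eq_left hxy hc ?_ ?_
  · conv_rhs => rw [← pow_one x]
    exact pow_eq_of_modEq (pow_orderOf_eq_one x) (hk ▸ he1)
  · rw [← pow_zero y]
    exact pow_eq_of_modEq (pow_orderOf_eq_one y) he0

theorem isPPart_commute (hp : p.Prime) {g x c : G} (h : IsPPart p g x) (hc : Commute g c) :
    Commute x c := by
  obtain ⟨i, rfl⟩ := isPPart_mem_zpowers hp h
  exact hc.zpow_left i

theorem isPPart_centralizer_le (hp : p.Prime) {g x : G} (h : IsPPart p g x) :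
    Subgroup.centralizer ({g} : Set G) ≤ Subgroup.centralizer ({x} : Set G) := fun c hc =>
  Subgroup.mem_centralizer_singleton_iff.2
    (isPPart_commute hp h (Subgroup.mem_centralizer_singleton_iff.1 hc).symm).symm.eq

theorem isPPart_conj {g x : G} (h : IsPPart p g x) (c : G) :
    IsPPart p (c * g * c⁻¹) (c * x * c⁻¹) := by
  obtain ⟨y, hxy, hc, ⟨k, hk⟩, hy⟩ := h
  refine ⟨c * y * c⁻¹, by rw [← hxy]; group, ?_, ⟨k, ?_⟩, ?_⟩
  · calc c * x * c⁻¹ * (c * y * c⁻¹) = c * (x * y) * c⁻¹ := by group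
      _ = c * (y * x) * c⁻¹ := by rw [hc.eq]
      _ = c * y * c⁻¹ * (c * x * c⁻¹) := by group
  · rw [orderOf_mulAut_conj c x, hk]
  · rwa [orderOf_mulAut_conj c y]
where
  orderOf_mulAut_conj (c x : G) : orderOf (c * x * c⁻¹) = orderOf x :=
    orderOf_injective (MulAut.conj c).toMonoidHom (MulAut.conj c).injective x

theorem isPPart_one_of_regular {g : G} (hg : ¬ p ∣ orderOf g) : IsPPart p g 1 :=
  ⟨g, one_mul g, Commute.one_left g, ⟨0, by simp⟩, hg⟩

theorem isPPart_self {g : G} (hg : ∃ k : ℕ, orderOf g = p ^ k) (hp : p.Prime) : IsPPart p g g :=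
  ⟨1, mul_one g, Commute.one_right g, hg, by simpa using hp.ne_one⟩

theorem isPPart_eq_one_iff (hp : p.Prime) {g x : G} (h : IsPPart p g x) :
    x = 1 ↔ ¬ p ∣ orderOf g := by
  constructor
  · rintro rfl
    obtain ⟨y, hxy, -, -, hy⟩ := h
    rw [one_mul] at hxy
    rwa [← hxy]
  · intro hg
    exact isPPart_unique hp h (isPPart_one_of_regular hg)

theorem isPPart_mul {x y : G} (hx : ∃ k : ℕ, orderOf x = p ^ k) (hy : ¬ p ∣ orderOf y)
    (hc : Commute x y) : IsPPart p (x * y) x :=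
  ⟨y, rfl, hc, hx, hy⟩

theorem isPPart_inv {g x : G} (h : IsPPart p g x) : IsPPart p g⁻¹ x⁻¹ := by
  obtain ⟨y, hxy, hc, ⟨k, hk⟩, hy⟩ := h
  refine ⟨y⁻¹, ?_, hc.inv_inv, ⟨k, by rw [orderOf_inv, hk]⟩, by rwa [orderOf_inv]⟩
  rw [← hxy, mul_inv_rev]
  exact hc.inv_inv.eq

end CfsgLib.Blk
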