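import Mathlib.LinearAlgebra.Matrix.NonsingularInverse
import Mathlib.LinearAlgebra.Matrix.Trace
import Mathlib.RingTheory.LocalRing.ResidueField.Basic
import Mathlib.Algebra.BigOperators.Fin
import Mathlib.Data.ZMod.Basic

/-!
Vanishing of traces on idempotents which are relative traces (a form of Higman's criterion).
-/

set_option autoImplicit false

namespace CfsgLib.Blk

open Matrix IsLocalRing

variable {R : Type*} [CommRing R] [IsDomain R] [IsLocalRing R] {n : Type*} [Fintype n] [DecidableEq n]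

/-- If an idempotent `E`, commuting with `X` and `Y`, is the relative trace `∑ X^j w X^{-j}` of some
`w` commuting with `X^p` and `Y`, and `ζ` is a non-trivial `p`-th root of unity congruent to one,
then the trace of `X * Y * E` vanishes. -/
theorem trace_mul_eq_zero_of_relTrace (p : ℕ) [NeZero p] (ζ : Rˣ) (hζp : ζ ^ p = 1) (hζ1 : ζ ≠ 1)
    (hζm : residue R (ζ : R) = 1) (X X' Y E w : Matrix n n R)
    (hX : X * X' = 1) (hXY : X * Y = Y * X) (hXE : X * E = E * X) (hYE : Y * E = E * Y)
    (hEE : E * E = E) (hwX : w * X ^ p = X ^ p * w) (hwY : w * Y = Y * w)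
    (hE : ∑ j ∈ Finset.range p, X ^ j * w * X' ^ j = E) :
    (X * Y * E).trace = 0 := by
  classical
  have hX' : X' * X = 1 := mul_eq_one_comm.mp hX
  have hEX' : E * X' = X' * E := by
    calc E * X' = X' * (X * E) * X' := by rw [← mul_assoc X' X E, hX', one_mul]
      _ = X' * E := by rw [hXE, mul_assoc X', mul_assoc E, hX, mul_one]
  have hYX' : Y * X' = X' * Y := by
    calc Y * X' = X' * (X * Y) * X' := by rw [← mul_assoc X' X Y, hX', one_mul]
      _ = X' * Y := by rw [hXY, mul_assoc X', mul_assoc Y, hX, mul_one]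
  -- the maps between `n` and `Fin p × n`
  let ι : Matrix (Fin p × n) n R := Matrix.of fun ja b => (w * X' ^ (ja.1 : ℕ)) ja.2 b
  let π : Matrix n (Fin p × n) R := Matrix.of fun a jb => (X ^ (jb.1 : ℕ)) a jb.2
  let C : Fin p → Matrix n n R := fun j => if j = 0 then X ^ p else 1
  let X₁ : Matrix (Fin p × n) (Fin p × n) R :=
    Matrix.of fun ja ib => if ib.1 + 1 = ja.1 then C ja.1 ja.2 ib.2 else 0
  let Y₁ : Matrix (Fin p × n) (Fin p × n) R :=
    Matrix.of fun ja ib => if ib.1 = ja.1 then Y ja.2 ib.2 else 0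
  have hπι : π * ι = E := by
    ext a b
    rw [Matrix.mul_apply, Fintype.sum_prod_type, ← hE, Matrix.sum_apply, ← Fin.sum_univ_eq_sum_range]
    refine Finset.sum_congr rfl fun j _ => ?_
    rw [mul_assoc, Matrix.mul_apply]
    rfl
  -- intertwining of `ι`
  have hιmul : ∀ (A : Matrix n n R) j b c, (ι * A) (j, b) c = (w * X' ^ (j : ℕ) * A) b c := by
    intro A j b c
    rw [Matrix.mul_apply, Matrix.mul_apply]
    rfl
  have hmulπ : ∀ (A : Matrix n n R) a j b, (A * π) a (j, b) = (A * X ^ (j : ℕ)) a b := by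
    intro A a j b
    rw [Matrix.mul_apply, Matrix.mul_apply]
    rfl
  have hX₁ : ∀ (Z : Matrix (Fin p × n) n R) j b c, (X₁ * Z) (j, b) c =
      ∑ d, C j b d * Z (j - 1, d) c := by
    intro Z j b c
    rw [Matrix.mul_apply, Fintype.sum_prod_type, Finset.sum_eq_single (j - 1)]
    · simp [X₁]
    · intro i _ hi
      refine Finset.sum_eq_zero fun d _ => ?_
      have : i + 1 ≠ j := fun h => hi (eq_sub_of_add_eq h)
      simp [X₁, this]
    · intro h; exact absurd (Finset.mem_univ _) h
  -- the key relation between successive powers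
  have hval : ∀ j : Fin p, C j * (w * X' ^ ((j - 1 : Fin p) : ℕ)) = w * X' ^ (j : ℕ) * X := by
    intro j
    obtain ⟨q, rfl⟩ : ∃ q, p = q + 1 := ⟨p - 1, (Nat.succ_pred_eq_of_ne_zero (NeZero.ne p)).symm⟩
    rw [Fin.coe_sub_one]
    simp only [C]
    split_ifs with h
    · subst h
      rw [← mul_assoc, ← hwX, mul_assoc, Fin.val_zero, pow_zero, mul_one, pow_succ', mul_assoc,
        (show Commute X' X from hX'.trans hX.symm).symm.mul_pow q |>.symm, hX, one_pow, mul_one]
    · obtain ⟨k, hk⟩ : ∃ k, (j : ℕ) = k + 1 :=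
        ⟨(j : ℕ) - 1, (Nat.succ_pred_eq_of_ne_zero (fun h0 => h (Fin.ext h0))).symm⟩
      rw [hk, Nat.add_sub_cancel, one_mul, pow_succ, mul_assoc, mul_assoc, hX', mul_one]
  have hιX : ι * X = X₁ * ι := by
    ext ⟨j, b⟩ c
    rw [hιmul, hX₁, ← hval, Matrix.mul_apply]
    rfl
  have hπX : π * X₁ = X * π := by
    ext a ⟨i, b⟩
    rw [hmulπ, Matrix.mul_apply, Fintype.sum_prod_type, Finset.sum_eq_single (i + 1)]
    · have : X * X ^ (i : ℕ) = X ^ ((i + 1 : Fin p) : ℕ) * C (i + 1) := by
        obtain ⟨q, rfl⟩ : ∃ q, p = q + 1 :=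
          ⟨p - 1, (Nat.succ_pred_eq_of_ne_zero (NeZero.ne p)).symm⟩
        rw [Fin.val_add_one]
        simp only [C]
        by_cases h : i = Fin.last q
        · subst h
          simp [← pow_succ']
        · have : i + 1 ≠ 0 := by
            intro h0
            have := congrArg Fin.val h0
            rw [Fin.val_add_one, if_neg h] at this
            simp at this
          rw [if_neg h, if_neg this, mul_one, ← pow_succ']
      rw [this, Matrix.mul_apply]
      simp [π, X₁]
    · intro j _ hj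
      refine Finset.sum_eq_zero fun d _ => ?_
      simp [X₁, Ne.symm hj]
    · intro h; exact absurd (Finset.mem_univ _) h
  have hY₁ : ∀ (Z : Matrix (Fin p × n) n R) j b c, (Y₁ * Z) (j, b) c =
      ∑ d, Y b d * Z (j, d) c := by
    intro Z j b c
    rw [Matrix.mul_apply, Fintype.sum_prod_type, Finset.sum_eq_single j]
    · simp [Y₁]
    · intro i _ hi
      simp [Y₁, hi]
    · intro h; exact absurd (Finset.mem_univ _) h
  have hwY' : ∀ j : ℕ, w * X' ^ j * Y = Y * (w * X' ^ j) := by
    intro j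
    rw [mul_assoc, ← ((show Commute Y X' from hYX').pow_right j).eq, ← mul_assoc, hwY, mul_assoc]
  have hιY : ι * Y = Y₁ * ι := by
    ext ⟨j, b⟩ c
    rw [hιmul, hY₁, hwY', Matrix.mul_apply]
    rfl
  have hπY : π * Y₁ = Y * π := by
    ext a ⟨i, b⟩
    rw [hmulπ, Matrix.mul_apply, Fintype.sum_prod_type, Finset.sum_eq_single i,
      ← ((show Commute X Y from hXY).pow_left _).eq, Matrix.mul_apply]
    · simp [π, Y₁]
    · intro j _ hj
      simp [Y₁, Ne.symm hj]
    · intro h; exact absurd (Finset.mem_univ _) h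
  -- the idempotent upstairs
  let P := ι * E * π
  have hPP : P * P = P := by
    simp only [P, Matrix.mul_assoc]
    rw [← Matrix.mul_assoc π ι, hπι, ← Matrix.mul_assoc E E, hEE, ← Matrix.mul_assoc E E π, hEE]
  have hPX : P * X₁ = X₁ * P := by
    simp only [P, Matrix.mul_assoc]
    rw [hπX, ← Matrix.mul_assoc E X π, ← hXE, Matrix.mul_assoc X E π, ← Matrix.mul_assoc ι X, hιX,
      Matrix.mul_assoc]
  have hPY : P * Y₁ = Y₁ * P := by
    simp only [P, Matrix.mul_assoc]
    rw [hπY, ← Matrix.mul_assoc E Y π, ← hYE, Matrix.mul_assoc Y E π, ← Matrix.mul_assoc ι Y, hιY,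
      Matrix.mul_assoc]
  have htr : (X * Y * E).trace = (X₁ * Y₁ * P).trace := by
    have h1 : X₁ * Y₁ * P = ι * (X * Y * E) * π := by
      simp only [P, Matrix.mul_assoc]
      rw [← Matrix.mul_assoc Y₁ ι, ← hιY, Matrix.mul_assoc ι Y, ← Matrix.mul_assoc X₁ ι, ← hιX,
        Matrix.mul_assoc]
    rw [h1, Matrix.trace_mul_comm (ι * (X * Y * E)) π, ← Matrix.mul_assoc π ι, hπι,
      Matrix.trace_mul_comm E (X * Y * E), Matrix.mul_assoc (X * Y) E E, hEE]
  -- the diagonal twist
  let D : Matrix (Fin p × n) (Fin p × n) R := Matrix.diagonal fun ja => ((ζ ^ (ja.1 : ℕ) : Rˣ) : R)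
  let D' : Matrix (Fin p × n) (Fin p × n) R :=
    Matrix.diagonal fun ja => (((ζ ^ (ja.1 : ℕ))⁻¹ : Rˣ) : R)
  have hDD' : D * D' = 1 := by
    simp only [D, D', Matrix.diagonal_mul_diagonal]
    rw [← Matrix.diagonal_one]
    congr 1
    funext ja
    rw [← Units.val_mul, mul_inv_cancel, Units.val_one]
  have hD'D : D' * D = 1 := mul_eq_one_comm.mp hDD'
  have hzeta : ∀ i : Fin p, ζ ^ ((i + 1 : Fin p) : ℕ) = ζ * ζ ^ (i : ℕ) := by
    intro i
    rw [Fin.val_add, ← pow_eq_pow_mod _ hζp, Fin.val_one', pow_add, ← pow_eq_pow_mod _ hζp, pow_one,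
      mul_comm]
  have hDX : D * X₁ * D' = (ζ : R) • X₁ := by
    ext ⟨j, b⟩ ⟨i, c⟩
    simp only [D, D', Matrix.mul_diagonal, Matrix.diagonal_mul, Matrix.smul_apply, smul_eq_mul, X₁,
      Matrix.of_apply]
    split_ifs with h
    · subst h
      rw [mul_right_comm, ← Units.val_mul, hzeta, mul_assoc ζ, mul_inv_cancel, mul_one]
    · simp
  have hDY : D * Y₁ * D' = Y₁ := by
    ext ⟨j, b⟩ ⟨i, c⟩
    simp only [D, D', Matrix.mul_diagonal, Matrix.diagonal_mul, Y₁, Matrix.of_apply]
    split_ifs with h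
    · subst h
      rw [mul_right_comm, ← Units.val_mul, mul_inv_cancel, Units.val_one, one_mul]
    · simp
  let P' := D * P * D'
  have conjmul : ∀ A B : Matrix (Fin p × n) (Fin p × n) R,
      (D * A * D') * (D * B * D') = D * (A * B) * D' := by
    intro A B
    simp only [Matrix.mul_assoc]
    rw [← Matrix.mul_assoc D' D, hD'D, Matrix.one_mul]
  have hP'P' : P' * P' = P' := by rw [conjmul, hPP]
  have hP'Y : P' * Y₁ = Y₁ * P' := by
    rw [← hDY, conjmul, conjmul, hPY]
  have hP'X : P' * X₁ = X₁ * P' := by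
    have h := conjmul P X₁
    rw [hDX, Matrix.mul_smul] at h
    have h' := conjmul X₁ P
    rw [hDX, Matrix.smul_mul] at h'
    rw [hPX, ← h'] at h
    have h2 := congrArg (fun Z => ((ζ⁻¹ : Rˣ) : R) • Z) h
    simpa [smul_smul] using h2
  let U := P' * P + (1 - P') * (1 - P)
  have hUP : U * P = P' * U := by
    simp only [U, add_mul, mul_add, mul_sub, sub_mul, one_mul, mul_one, Matrix.mul_assoc, hPP]
    simp only [← Matrix.mul_assoc, hP'P']
    abel
  have hUX : U * X₁ = X₁ * U := by
    have a : Commute P X₁ := hPX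
    have a' : Commute P' X₁ := hP'X
    exact (((a'.mul_left a)).add_left
      (((Commute.one_left X₁).sub_left a').mul_left ((Commute.one_left X₁).sub_left a))).eq
  have hUY : U * Y₁ = Y₁ * U := by
    have a : Commute P Y₁ := hPY
    have a' : Commute P' Y₁ := hP'Y
    exact (((a'.mul_left a)).add_left
      (((Commute.one_left Y₁).sub_left a').mul_left ((Commute.one_left Y₁).sub_left a))).eq
  have hUdet : IsUnit U.det := by
    refine IsLocalRing.residue_ne_zero_iff_isUnit _ |>.1 ?_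
    rw [RingHom.map_det]
    let f := (residue R).mapMatrix (m := Fin p × n)
    have hfD : f D = 1 := by
      simp [f, D, Matrix.diagonal_map, hζm]
    have hfD' : f D' = 1 := by
      have h := congrArg f hDD'
      rwa [map_mul, hfD, one_mul, map_one] at h
    have hfP : f P' = f P := by
      simp [P', map_mul, hfD, hfD']
    have hq : f P * f P = f P := by rw [← map_mul, hPP]
    have : f U = 1 := by
      simp only [U, map_add, map_mul, map_sub, map_one, hfP, mul_sub, sub_mul, one_mul, mul_one, hq]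
      abel
    change (f U).det ≠ 0
    rw [this, Matrix.det_one]
    exact one_ne_zero
  have h1 : (X₁ * Y₁ * P').trace = (X₁ * Y₁ * P).trace := by
    have hP' : P' = U * P * U⁻¹ := by
      rw [hUP, Matrix.mul_assoc, Matrix.mul_nonsing_inv _ hUdet, Matrix.mul_one]
    have hc : Commute U (X₁ * Y₁) := (show Commute U X₁ from hUX).mul_right hUY
    rw [hP', ← Matrix.mul_assoc (X₁ * Y₁) (U * P) U⁻¹, ← Matrix.mul_assoc (X₁ * Y₁) U P, ← hc.eq,
      Matrix.trace_mul_comm _ U⁻¹, ← Matrix.mul_assoc U⁻¹ _ P, ← Matrix.mul_assoc U⁻¹ U,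
      Matrix.nonsing_inv_mul _ hUdet, Matrix.one_mul]
  have h2 : (ζ : R) * (X₁ * Y₁ * P').trace = (X₁ * Y₁ * P).trace := by
    have h := congrArg Matrix.trace (conjmul (X₁ * Y₁) P)
    rw [← conjmul X₁ Y₁, hDX, hDY, Matrix.smul_mul, Matrix.smul_mul, Matrix.trace_smul,
      smul_eq_mul] at h
    rw [h, Matrix.trace_mul_cycle, ← Matrix.mul_assoc, hD'D, Matrix.one_mul]
  rw [htr]
  rw [h1] at h2
  have : ((ζ : R) - 1) * (X₁ * Y₁ * P).trace = 0 := by rw [sub_mul, h2, one_mul, sub_self]
  refine (mul_eq_zero.1 this).resolve_left fun h => hζ1 (Units.ext ?_)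
  rw [sub_eq_zero.1 h, Units.val_one]

omit [IsDomain R] in
/-- Averaging over the powers of `Y`. -/
theorem exists_commuting_relTrace (p N : ℕ) (hN : IsUnit (N : R)) (X X' Y E w : Matrix n n R)
    (hX : X * X' = 1) (hXY : X * Y = Y * X) (hYN : Y ^ N = 1) (hYE : Y * E = E * Y)
    (hwX : w * X ^ p = X ^ p * w) (hE : ∑ j ∈ Finset.range p, X ^ j * w * X' ^ j = E) :
    ∃ w' : Matrix n n R, w' * X ^ p = X ^ p * w' ∧ w' * Y = Y * w' ∧
      ∑ j ∈ Finset.range p, X ^ j * w' * X' ^ j = E := by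
  obtain ⟨u, hu⟩ := hN
  have hX' : X' * X = 1 := mul_eq_one_comm.mp hX
  have hYX' : Commute Y X' := by
    change Y * X' = X' * Y
    calc Y * X' = X' * (X * Y) * X' := by rw [← mul_assoc X' X Y, hX', one_mul]
      _ = X' * Y := by rw [hXY, mul_assoc X', mul_assoc Y, hX, mul_one]
  have hYX : Commute Y X := hXY.symm
  let f : ℕ → Matrix n n R := fun i => Y ^ i * w * Y ^ (N * i - i)
  let S := ∑ i ∈ Finset.range N, f i
  have hN0 : N ≠ 0 := by
    rintro rfl
    simp at hu
  have hinv : ∀ i, Y ^ (N * i - i) * Y ^ i = 1 := by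
    intro i
    rw [← pow_add, Nat.sub_add_cancel (Nat.le_mul_of_pos_left i (Nat.pos_of_ne_zero hN0)), pow_mul,
      hYN, one_pow]
  have hinv' : ∀ i, Y ^ i * Y ^ (N * i - i) = 1 := fun i => by
    rw [(Commute.pow_pow_self Y _ _).eq]; exact hinv i
  have hshift : ∀ i, Y * f i = f (i + 1) * Y := by
    intro i
    have : Y ^ (N * (i + 1) - (i + 1)) * Y = Y ^ (N * i - i) := by
      have h : Y ^ (N * (i + 1) - (i + 1)) * Y * Y ^ i = Y ^ (N * i - i) * Y ^ i := by
        rw [mul_assoc, ← pow_succ', hinv, hinv]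
      calc Y ^ (N * (i + 1) - (i + 1)) * Y
          = Y ^ (N * (i + 1) - (i + 1)) * Y * Y ^ i * Y ^ (N * i - i) := by
            rw [mul_assoc _ (Y ^ i), hinv', mul_one]
        _ = Y ^ (N * i - i) := by rw [h, mul_assoc, hinv', mul_one]
    simp only [f]
    rw [mul_assoc _ _ Y, this, pow_succ']
    simp only [mul_assoc]
  have hperiod : f N = f 0 := by
    have : Y ^ (N * N - N) = 1 := by
      have := hinv N
      rwa [hYN, mul_one] at this
    simp [f, hYN, this]
  have hS : Y * S = S * Y := by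
    simp only [S, Finset.mul_sum, Finset.sum_mul, hshift]
    obtain ⟨q, rfl⟩ := Nat.exists_eq_succ_of_ne_zero hN0
    rw [Finset.sum_range_succ, hperiod, Finset.sum_range_succ' (fun i => f i * Y)]
  have hSX : S * X ^ p = X ^ p * S := by
    refine (Commute.sum_left _ _ _ fun i _ => ?_).eq
    exact (((hYX.pow_pow i p)).mul_left (show Commute w (X ^ p) from hwX)).mul_left (hYX.pow_pow _ p)
  refine ⟨(↑u⁻¹ : R) • S, ?_, ?_, ?_⟩
  · rw [Matrix.smul_mul, hSX, Matrix.mul_smul]
  · rw [Matrix.smul_mul, ← hS, Matrix.mul_smul]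
  · have key : ∀ i, ∑ j ∈ Finset.range p, X ^ j * f i * X' ^ j = E := by
      intro i
      have : ∀ j, X ^ j * f i * X' ^ j = Y ^ i * (X ^ j * w * X' ^ j) * Y ^ (N * i - i) := by
        intro j
        simp only [f, mul_assoc]
        rw [(hYX'.pow_pow (N * i - i) j).eq, ← mul_assoc (X ^ j), ← (hYX.pow_pow i j).eq]
        simp only [mul_assoc]
      simp only [this]
      rw [← Finset.sum_mul, ← Finset.mul_sum, hE,
        ((show Commute Y E from hYE).pow_left i).eq, mul_assoc, hinv', mul_one]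
    simp only [Matrix.mul_smul, Matrix.smul_mul, ← Finset.smul_sum, S, Finset.mul_sum,
      Finset.sum_mul]
    rw [Finset.sum_comm, Finset.sum_congr rfl (fun i _ => key i), Finset.sum_const,
      Finset.card_range, ← Nat.cast_smul_eq_nsmul R, ← hu, smul_smul, Units.inv_mul, one_smul]

end CfsgLib.Blk
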