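import Cfsg.Agent.Blk.Core
import Cfsg.Agent.Blk.Trace
import Cfsg.Agent.Blk.PPart
import Mathlib.RingTheory.RootsOfUnity.Complex
import Mathlib.GroupTheory.GroupAction.Quotient
import Mathlib.Dynamics.PeriodicPts.Lemmas

/-!
Block orthogonality: for elements with non-conjugate `p`-parts the sum over a block of
`χ(a) conj χ(b)` vanishes.  The proof computes the trace of a translation times the block
idempotent on the regular module.
-/

set_option autoImplicit false
set_option linter.style.haveILetI false
set_option linter.unusedSectionVars false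

namespace CfsgLib.Blk

open Cfsg CfsgLib.Char MonoidAlgebra Finset IsLocalRing
open scoped ComplexConjugate

universe u

section perm

variable {α : Type*} [Fintype α] [DecidableEq α] {R : Type*} [CommRing R]

/-- The matrix of a permutation. -/
def permMat (R : Type*) [CommRing R] (π : Equiv.Perm α) : Matrix α α R :=
  Matrix.of fun i j => if i = π j then 1 else 0

theorem permMat_apply (π : Equiv.Perm α) (i j : α) :
    permMat R π i j = if i = π j then 1 else 0 := rfl

theorem permMat_mul_apply (π : Equiv.Perm α) (A : Matrix α α R) (i j : α) :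
    (permMat R π * A) i j = A (π⁻¹ i) j := by
  rw [Matrix.mul_apply, Finset.sum_eq_single (π⁻¹ i)]
  · simp [permMat_apply]
  · intro k _ hk
    rw [permMat_apply, if_neg, zero_mul]
    intro h
    exact hk (by simp [h])
  · simp

theorem mul_permMat_apply (π : Equiv.Perm α) (A : Matrix α α R) (i j : α) :
    (A * permMat R π) i j = A i (π j) := by
  rw [Matrix.mul_apply, Finset.sum_eq_single (π j)]
  · simp [permMat_apply]
  · intro k _ hk
    simp [permMat_apply, hk]
  · simp

theorem permMat_one : permMat R (1 : Equiv.Perm α) = 1 := by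
  ext i j
  simp only [permMat_apply, Matrix.one_apply, Equiv.Perm.one_apply]
  exact ite_congr rfl (fun _ => rfl) fun _ => rfl

theorem permMat_mul (π τ : Equiv.Perm α) : permMat R π * permMat R τ = permMat R (π * τ) := by
  ext i j
  simp only [mul_permMat_apply, permMat_apply, Equiv.Perm.mul_apply]
  exact ite_congr rfl (fun _ => rfl) fun _ => rfl

theorem permMat_pow (π : Equiv.Perm α) (n : ℕ) : permMat R π ^ n = permMat R (π ^ n) := by
  induction n with
  | zero => simp [permMat_one]
  | succ n ih => rw [pow_succ, pow_succ, ih, permMat_mul]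

theorem commute_permMat {π : Equiv.Perm α} {A : Matrix α α R}
    (h : ∀ i j, A (π i) (π j) = A i j) : Commute (permMat R π) A := by
  ext i j
  rw [permMat_mul_apply, mul_permMat_apply, ← h (π⁻¹ i) j]
  simp

/-- A permutation of `p`-power order without fixed points admits an equivariant map to `ZMod p`. -/
theorem exists_shift (p : ℕ) [Fact p.Prime] (π : Equiv.Perm α) {k : ℕ} (hπ : π ^ p ^ k = 1)
    (hfix : ∀ i, π i ≠ i) : ∃ f : α → ZMod p, ∀ i, f (π i) = f i + 1 := by
  classical
  have hr : ∀ i : α, ∃ z : ℤ, (π ^ z) (Quotient.mk (Equiv.Perm.SameCycle.setoid π) i).out = i :=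
    fun i => Quotient.mk_out (s := Equiv.Perm.SameCycle.setoid π) i
  choose z hz using hr
  have hper : ∀ (r : α) (n : ℤ), (π ^ n) r = r → (p : ℤ) ∣ n := by
    intro r n hn
    have hd : ((Function.minimalPeriod (π • ·) r : ℕ) : ℤ) ∣ n :=
      MulAction.zpow_smul_eq_iff_minimalPeriod_dvd.1 (by simpa [Equiv.Perm.smul_def] using hn)
    have hpk : Function.minimalPeriod (π • ·) r ∣ p ^ k :=
      MulAction.pow_smul_eq_iff_minimalPeriod_dvd.1 (by rw [hπ, one_smul])
    obtain ⟨j, -, hj⟩ := (Nat.dvd_prime_pow Fact.out).1 hpk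
    rcases j with _ | j
    · rw [pow_zero] at hj
      exact absurd (Function.minimalPeriod_eq_one_iff_isFixedPt.1 hj) (hfix r)
    · refine dvd_trans ?_ hd
      rw [hj]
      exact_mod_cast dvd_pow_self p (Nat.succ_ne_zero j)
  refine ⟨fun i => (z i : ZMod p), fun i => ?_⟩
  have hq : (Quotient.mk (Equiv.Perm.SameCycle.setoid π) (π i)) =
      Quotient.mk (Equiv.Perm.SameCycle.setoid π) i :=
    Quotient.sound (s := Equiv.Perm.SameCycle.setoid π) ⟨-1, by simp⟩
  have h1 := hz (π i)
  rw [hq] at h1
  have h2 : (π ^ (z i + 1)) (Quotient.mk (Equiv.Perm.SameCycle.setoid π) i).out = π i := by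
    rw [add_comm, zpow_add, zpow_one, Equiv.Perm.mul_apply, hz]
  have h3 : (π ^ (z (π i) - (z i + 1))) (Quotient.mk (Equiv.Perm.SameCycle.setoid π) i).out =
      (Quotient.mk (Equiv.Perm.SameCycle.setoid π) i).out := by
    apply (π ^ (z i + 1)).injective
    rw [← Equiv.Perm.mul_apply, ← zpow_add, add_sub_cancel, h1, h2]
  have h4 := (ZMod.intCast_zmod_eq_zero_iff_dvd _ p).2 (hper _ _ h3)
  push_cast at h4
  exact sub_eq_zero.1 h4

end perm

variable {M : Ideal AlgInt} [M.IsPrime] {p : ℕ} [Fact p.Prime]

theorem exists_rootUnit (hM : IsPModular p M) :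
    ∃ ζ : (locRing M)ˣ, ζ ^ p = 1 ∧ ζ ≠ 1 ∧ residue (locRing M) (ζ : locRing M) = 1 := by
  have hp : p.Prime := Fact.out
  have hprim := Complex.isPrimitiveRoot_exp p hp.ne_zero
  let z : locRing M := ⟨_, integral_mem (isIntegral_root hp.ne_zero hprim.pow_eq_one)⟩
  have hz : z ^ p = 1 := Subtype.ext hprim.pow_eq_one
  refine ⟨Units.ofPowEqOne z p hz hp.ne_zero, Units.ext (by simpa using hz), ?_, ?_⟩
  · intro h
    exact hprim.ne_one hp.one_lt
      (congrArg (fun x : (locRing M)ˣ => ((x : locRing M) : ℂ)) h)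
  · haveI : CharP (Res M) p := charP_res hM
    haveI : ExpChar (Res M) p := ExpChar.prime hp
    apply frobenius_inj (Res M) p
    simp [frobenius_def, ← map_pow, hz]

/-- The trace of a product of commuting permutations times a commuting idempotent vanishes when
the `p`-part has no fixed point. -/
theorem trace_perm_eq_zero {α : Type*} [Fintype α] [DecidableEq α] (hM : IsPModular p M)
    (π τ : Equiv.Perm α) {k : ℕ} (hπ : π ^ p ^ k = 1) (hfix : ∀ i, π i ≠ i) {N : ℕ}
    (hτ : τ ^ N = 1) (hN : ¬ p ∣ N) (hc : Commute π τ) (E : Matrix α α (locRing M))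
    (hEE : E * E = E) (hEπ : Commute (permMat (locRing M) π) E)
    (hEτ : Commute (permMat (locRing M) τ) E) :
    (permMat (locRing M) π * permMat (locRing M) τ * E).trace = 0 := by
  classical
  have hp : p.Prime := Fact.out
  haveI : NeZero p := ⟨hp.ne_zero⟩
  obtain ⟨ζ, hζ1, hζ2, hζ3⟩ := exists_rootUnit hM
  obtain ⟨f, hf⟩ := exists_shift p π hπ hfix
  have hfj : ∀ (j : ℕ) (i : α), f ((π ^ j) i) = f i + j := by
    intro j
    induction j with
    | zero => simp
    | succ j ih =>
      intro i
      rw [pow_succ', Equiv.Perm.mul_apply, hf, ih]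
      push_cast
      ring
  set X := permMat (locRing M) π
  set X' := permMat (locRing M) π⁻¹
  set Y := permMat (locRing M) τ
  let S : Matrix α α (locRing M) := Matrix.diagonal fun i => if f i = 0 then 1 else 0
  have hX : X * X' = 1 := by rw [permMat_mul, mul_inv_cancel, permMat_one]
  have hXY : X * Y = Y * X := by rw [permMat_mul, permMat_mul, hc.eq]
  have hYN : Y ^ N = 1 := by rw [permMat_pow, hτ, permMat_one]
  have hwX : S * X ^ p = X ^ p * S := by
    rw [permMat_pow]
    refine (commute_permMat fun i j => ?_).eq.symm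
    simp only [S, Matrix.diagonal_apply, (π ^ p).injective.eq_iff, hfj, ZMod.natCast_self,
      add_zero]
  have hsum : ∑ j ∈ Finset.range p, X ^ j * S * X' ^ j = 1 := by
    ext i l
    have hterm : ∀ j : ℕ, (X ^ j * S * X' ^ j) i l =
        if i = l ∧ f i = (j : ZMod p) then 1 else 0 := by
      intro j
      rw [permMat_pow, permMat_pow, mul_assoc, permMat_mul_apply, mul_permMat_apply,
        inv_pow]
      simp only [S, Matrix.diagonal_apply, ((π ^ j)⁻¹).injective.eq_iff]
      have e : f ((π ^ j)⁻¹ i) + j = f i := by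
        rw [← hfj]
        simp
      rw [← e]
      by_cases hil : i = l
      · simp [hil]
      · simp [hil]
    simp only [Matrix.sum_apply, hterm]
    by_cases hil : i = l
    · subst hil
      rw [Matrix.one_apply_eq, Finset.sum_eq_single (f i).val]
      · simp
      · intro j hj hne
        rw [if_neg]
        rintro ⟨-, h⟩
        exact hne (by rw [h, ZMod.val_cast_of_lt (Finset.mem_range.1 hj)])
      · intro h
        exact absurd (Finset.mem_range.2 (ZMod.val_lt _)) h
    · simp [hil, Matrix.one_apply_ne hil]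
  have hNu : IsUnit (N : locRing M) := by
    rw [isUnit_loc_iff]
    simpa [natCast_memLocalIdeal_iff hM] using hN
  obtain ⟨w, hw1, hw2, hw3⟩ := exists_commuting_relTrace p N hNu X X' Y 1 S hX hXY hYN
    (by rw [mul_one, one_mul]) hwX hsum
  have hEX' : X' * E = E * X' := by
    calc X' * E = X' * E * (X * X') := by rw [hX, mul_one]
      _ = X' * (X * E) * X' := by rw [hEπ.eq]; noncomm_ring
      _ = E * X' := by rw [← mul_assoc X', mul_eq_one_comm.mp hX, one_mul]
  refine trace_mul_eq_zero_of_relTrace p ζ hζ1 hζ2 hζ3 X X' Y E (w * E) hX hXY hEπ.eq hEτ.eq hEE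
    ?_ ?_ ?_
  · calc w * E * X ^ p = w * (E * X ^ p) := mul_assoc _ _ _
      _ = w * (X ^ p * E) := by rw [(hEπ.pow_left p).eq]
      _ = X ^ p * (w * E) := by rw [← mul_assoc, hw1, mul_assoc]
  · calc w * E * Y = w * (E * Y) := mul_assoc _ _ _
      _ = w * (Y * E) := by rw [hEτ.eq]
      _ = Y * (w * E) := by rw [← mul_assoc, hw2, mul_assoc]
  · calc ∑ j ∈ Finset.range p, X ^ j * (w * E) * X' ^ j
        = ∑ j ∈ Finset.range p, (X ^ j * w * X' ^ j) * E := by
          refine Finset.sum_congr rfl fun j _ => ?_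
          have := (Commute.pow_left (show Commute X' E from hEX') j).eq
          simp only [mul_assoc]
          rw [← this]
      _ = E := by rw [← Finset.sum_mul, hw3, one_mul]

variable {G : Type u} [Group G]

/-- `i ↦ a i b⁻¹`. -/
def biMul (a b : G) : Equiv.Perm G where
  toFun i := a * i * b⁻¹
  invFun i := a⁻¹ * i * b
  left_inv i := by group
  right_inv i := by group

@[simp] theorem biMul_apply (a b i : G) : biMul a b i = a * i * b⁻¹ := rfl

theorem biMul_inv_apply (a b i : G) : (biMul a b)⁻¹ i = a⁻¹ * i * b := rfl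

theorem biMul_mul (a b c d : G) : biMul a b * biMul c d = biMul (a * c) (b * d) :=
  Equiv.ext fun i => by simp [mul_assoc]

theorem biMul_pow (a b : G) (n : ℕ) : biMul a b ^ n = biMul (a ^ n) (b ^ n) := by
  induction n with
  | zero => exact Equiv.ext fun i => by simp
  | succ n ih => rw [pow_succ, pow_succ, pow_succ, ih, biMul_mul]

/-- Left multiplication on the group algebra. -/
noncomputable def leftMat {R : Type*} [CommRing R] (c : MonoidAlgebra R G) : Matrix G G R :=
  Matrix.of fun i j => c.coeff (i * j⁻¹)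

theorem leftMat_apply {R : Type*} [CommRing R] (c : MonoidAlgebra R G) (i j : G) :
    leftMat c i j = c.coeff (i * j⁻¹) := rfl

theorem leftMat_mul [Fintype G] {R : Type*} [CommRing R] (c d : MonoidAlgebra R G) :
    leftMat c * leftMat d = leftMat (c * d) := by
  ext i j
  rw [Matrix.mul_apply, leftMat_apply, coeff_mul_sum]
  refine Fintype.sum_equiv ((Equiv.inv G).trans (Equiv.mulLeft i)) _ _ fun k => ?_
  simp [leftMat_apply, mul_assoc]

theorem commute_biMul_leftMat [Fintype G] [DecidableEq G] {R : Type*} [CommRing R]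
    {c : MonoidAlgebra R G} (hc : IsClassCoeff c) (a b : G) :
    Commute (permMat R (biMul a b)) (leftMat c) := by
  refine commute_permMat fun i j => ?_
  rw [leftMat_apply, leftMat_apply, ← hc (i * j⁻¹) a]
  congr 1
  simp [mul_assoc]

theorem sum_conj_char_mul (M : Ideal AlgInt) [M.IsPrime] [Fintype G] {χ : G → ℂ} (hχ : IsIrrCharacter G χ) (a c : G) :
    ∑ i : G, χ (i * c * i⁻¹ * a) = (Nat.card G : ℂ) * χ c * χ a / χ 1 := by
  classical
  let z : MonoidAlgebra (locRing M) G := ∑ i : G, single (i * c * i⁻¹) 1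
  have hz : IsClassCoeff z := by
    intro g h
    simp only [z, MonoidAlgebra.coeff_sum, Finset.sum_apply', MonoidAlgebra.coeff_single,
      Finsupp.single_apply]
    refine (Fintype.sum_equiv (Equiv.mulLeft h) _ _ fun i => ?_).symm
    refine if_congr ?_ rfl rfl
    rw [Equiv.coe_mulLeft, show h * i * c * (h * i)⁻¹ = h * (i * c * i⁻¹) * h⁻¹ by group]
    exact (MulAut.conj h).injective.eq_iff.symm
  have h := omega_mul hχ hz (single a (1 : locRing M))
  simp only [z, Finset.sum_mul, omega_sum, single_mul_single, mul_one, omega_single,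
    OneMemClass.coe_one, one_mul] at h
  rw [← Finset.sum_div] at h
  have hc : ∀ i : G, χ (i * c * i⁻¹) = χ c := fun i => classFun_of_irr hχ c i
  simp only [hc, Finset.sum_const, Finset.card_univ, nsmul_eq_mul, Fintype.card_eq_nat_card] at h
  have h1 := irr_one_ne_zero hχ
  field_simp at h
  field_simp
  linear_combination h

theorem trace_biMul_blockIdem [Fintype G] [DecidableEq G] (hM : IsPModular p M)
    {B : Set (IrrCharacter G)} (hB : IsPBlock M B) (a b : G) [DecidablePred (· ∈ B)] :
    (((permMat (locRing M) (biMul a b) * leftMat (blockIdem hM hB)).trace : locRing M) : ℂ) =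
      ∑ χ : IrrCharacter G,
        if χ ∈ B then (χ : G → ℂ) a * conj ((χ : G → ℂ) b) else 0 := by
  rw [Matrix.trace, AddSubmonoidClass.coe_finsetSum]
  simp only [Matrix.diag, permMat_mul_apply, leftMat_apply, biMul_inv_apply, coeff_blockIdem,
    blockCoeff, finsum_mem_eq_sum_ite, Finset.mul_sum]
  rw [Finset.sum_comm]
  refine Finset.sum_congr rfl fun χ _ => ?_
  by_cases hχ : χ ∈ B
  · simp only [hχ, if_true]
    have h1 : ∀ i : G, conj ((χ : G → ℂ) (a⁻¹ * i * b * i⁻¹)) =
        (χ : G → ℂ) (i * b⁻¹ * i⁻¹ * a) := fun i => by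
      rw [← char_conj_eq (isCharacter_of_isIrr χ.2)]
      congr 1
      group
    simp only [h1, ← Finset.mul_sum]
    rw [sum_conj_char_mul M χ.2 a b⁻¹, char_conj_eq (isCharacter_of_isIrr χ.2)]
    have := natCard_ne_zero G
    have := irr_one_ne_zero χ.2
    field_simp
  · simp [hχ]

/-- Block orthogonality for elements with non-conjugate `p`-parts. -/
theorem block_orth [Finite G] (hM : IsPModular p M) {B : Set (IrrCharacter G)} (hB : IsPBlock M B)
    {a b x y : G} (ha : IsPPart p a x) (hb : IsPPart p b y) (hxy : ¬ IsConj x y) :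
    ∑ᶠ χ ∈ B, (χ : G → ℂ) a * conj ((χ : G → ℂ) b) = 0 := by
  classical
  haveI := Fintype.ofFinite G
  obtain ⟨s, hxs, hcs, ⟨k, hk⟩, hs⟩ := ha
  obtain ⟨t, hyt, hct, ⟨l, hl⟩, ht⟩ := hb
  rw [finsum_mem_eq_sum_ite, ← trace_biMul_blockIdem hM hB a b]
  have hfix : ∀ i, biMul x y i ≠ i := by
    intro i hi
    refine hxy (isConj_iff.2 ⟨i⁻¹, ?_⟩)
    rw [biMul_apply, mul_inv_eq_iff_eq_mul] at hi
    rw [inv_inv, mul_assoc, hi, inv_mul_cancel_left]
  have hπ : biMul x y ^ p ^ (k + l) = 1 := by
    rw [biMul_pow, pow_add, pow_mul, ← hk, pow_orderOf_eq_one, one_pow, mul_comm, pow_mul, ← hl,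
      pow_orderOf_eq_one, one_pow]
    exact Equiv.ext fun i => by simp
  have hτ : biMul s t ^ (orderOf s * orderOf t) = 1 := by
    rw [biMul_pow, pow_mul, pow_orderOf_eq_one, one_pow, mul_comm, pow_mul, pow_orderOf_eq_one,
      one_pow]
    exact Equiv.ext fun i => by simp
  have hN : ¬ p ∣ orderOf s * orderOf t := fun h =>
    ((Fact.out : p.Prime).dvd_mul.1 h).elim hs ht
  have hc : Commute (biMul x y) (biMul s t) := by
    rw [Commute, SemiconjBy, biMul_mul, biMul_mul, hcs.eq, hct.eq]
  have he := isClassCoeff_blockIdem hM hB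
  have h0 := trace_perm_eq_zero hM (biMul x y) (biMul s t) hπ hfix hτ hN hc
    (leftMat (blockIdem hM hB)) (by rw [leftMat_mul, blockIdem_mul_self])
    (commute_biMul_leftMat he x y) (commute_biMul_leftMat he s t)
  rw [permMat_mul, biMul_mul, hxs, hyt] at h0
  simp [h0]

end CfsgLib.Blk
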