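import Cfsg.Agent.Blk.Bounds
import Cfsg.Agent.Blk.HeightZero
import Cfsg.Agent.Blk.MinMax
import Cfsg.Prelude.Def_BlockRank

/-! Characters of a block on the regular elements; classes of a given defect. -/

set_option autoImplicit false
set_option linter.style.haveILetI false
set_option linter.unusedSectionVars false

namespace CfsgLib.Blk

open Cfsg CfsgLib.Char MonoidAlgebra IsLocalRing
open scoped ComplexConjugate CfsgLib.Char

universe u

variable {G : Type u} [Group G] {M : Ideal AlgInt} [M.IsPrime] {p : ℕ} [Fact p.Prime]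
  {B : Set (IrrCharacter G)}

theorem pRegularPart_eq [Finite G] (χ : G → ℂ) : pRegularPart p χ = regPart p χ := by
  funext g
  simp only [pRegularPart, regPart, Cfsg.IsPRegular]
  by_cases h : p ∣ orderOf g <;> simp [h]

theorem regPart_eq_sum (χ : IrrCharacter G) [Fintype G] : regPart p (χ : G → ℂ) =
    ∑ ψ : IrrCharacter G, classInner (regPart p (χ : G → ℂ)) (ψ : G → ℂ) • (ψ : G → ℂ) :=
  classFun_eq_sum (classFun_regPart (classFun_of_irr χ.2))

theorem inner_regPart_eq_zero_of_notMem [Fintype G] (hM : IsPModular p M) (hB : IsPBlock M B)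
    {χ ψ : IrrCharacter G} (hχ : χ ∈ B) (hψ : ψ ∉ B) :
    classInner (regPart p (χ : G → ℂ)) (ψ : G → ℂ) = 0 :=
  inner_regPart_eq_zero hM fun h => hψ (mem_of_sameBlock hB hχ h)

/-- The block's regular parts, times `p^d`, are integral combinations of the block. -/
theorem exists_int_regPart [Fintype G] (hM : IsPModular p M) (hB : IsPBlock M B)
    {χ : IrrCharacter G} (hχ : χ ∈ B) :
    ∃ a : IrrCharacter G → ℤ, (∀ ψ, ψ ∉ B → a ψ = 0) ∧
      (p : ℂ) ^ blockDefect p B • regPart p (χ : G → ℂ) = ∑ ψ, (a ψ : ℂ) • (ψ : G → ℂ) ∧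
      ∀ ψ, (a ψ : ℂ) = (p : ℂ) ^ blockDefect p B * classInner (regPart p (χ : G → ℂ)) (ψ : G → ℂ) := by
  classical
  choose a u _ _ _ ha _ using fun ψ => exists_regCartan hM hB hχ ψ
  refine ⟨a, fun ψ hψ => ?_, ?_, ha⟩
  · have := ha ψ
    rw [inner_regPart_eq_zero_of_notMem hM hB hχ hψ, mul_zero] at this
    exact_mod_cast this
  · conv_lhs => rw [regPart_eq_sum χ, Finset.smul_sum]
    exact Finset.sum_congr rfl fun ψ _ => by rw [smul_smul, ha]

/-- The value at one of a generalized character vanishing on singular elements. -/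
theorem exists_one_eq_of_vanishing [Fintype G] {θ : G → ℂ} (hθ : IsGeneralizedCharacter G θ)
    (hv : ∀ g, p ∣ orderOf g → θ g = 0) :
    ∃ k : ℤ, θ 1 = (p ^ pExp p G : ℂ) * k := by
  classical
  obtain ⟨P⟩ := (inferInstance : Nonempty (Sylow p G))
  haveI := Fintype.ofFinite (P : Subgroup G)
  obtain ⟨-, h⟩ := isGeneralized_iff.1 (gen_restrict (P : Subgroup G) hθ)
  obtain ⟨k, hk⟩ := h ⟨_, isIrr_one⟩
  refine ⟨k, ?_⟩
  rw [classInner_def, Finset.sum_eq_single (1 : (P : Subgroup G)) (fun x _ hx => ?_) (by simp)] at hk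
  · rw [Sylow.card_eq_multiplicity] at hk
    simp only [Subgroup.coe_one, map_one, mul_one] at hk
    rw [← hk, pExp, ← Nat.cast_pow, ← mul_assoc, mul_inv_cancel₀ (Nat.cast_ne_zero.2
      (pow_ne_zero _ (Fact.out : p.Prime).ne_zero)), one_mul]
  · rw [hv (x : G), zero_mul]
    rw [Subgroup.orderOf_coe]
    obtain ⟨j, hj⟩ := P.isPGroup' x
    obtain ⟨i, -, hi⟩ := (Nat.dvd_prime_pow (Fact.out : p.Prime)).1 (orderOf_dvd_of_pow_eq_one hj)
    rcases Nat.eq_zero_or_pos i with rfl | hi0
    · exact absurd (orderOf_eq_one_iff.1 (by rw [hi, pow_zero])) hx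
    · exact hi ▸ dvd_pow_self p hi0.ne'

/-- The reduced central character kills elements whose coefficients vanish where it does not. -/
theorem omegaBar_eq_zero_of_support [Finite G] {χ : G → ℂ} (hχ : IsIrrCharacter G χ)
    {a : MonoidAlgebra (locRing M) G} (ha : IsClassCoeff a)
    (h : ∀ g : G, ¬ MemLocalIdeal M (centralChar χ g) → residue (locRing M) (a.coeff g) = 0) :
    omegaBar χ a = 0 := by
  haveI := Fintype.ofFinite G
  haveI : Fintype (ConjClasses G) := Fintype.ofFinite _
  rw [omegaBar_eq_sum hχ ha]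
  refine Finset.sum_eq_zero fun C _ => ?_
  by_cases hC : MemLocalIdeal M (centralChar χ C.out)
  · rw [(red_eq_zero_iff (centralChar_mem hχ _)).2 hC, mul_zero]
  · rw [h _ hC, zero_mul]

/-- A class on which a block of defect `d` is nonzero twice has defect exactly `d`. -/
theorem card_centralizer_of_support [Finite G] (hM : IsPModular p M) (hB : IsPBlock M B)
    {χ : IrrCharacter G} (hχ : χ ∈ B) {B' : Set (IrrCharacter G)} (hB' : IsPBlock M B')
    (hd : blockDefect p B' = blockDefect p B) {g : G}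
    (h1 : ¬ MemLocalIdeal M (centralChar (χ : G → ℂ) g))
    (h2 : ¬ MemLocalIdeal M (blockCoeff B' g)) :
    ¬ p ∣ orderOf g ∧
      (Nat.card (Subgroup.centralizer ({g} : Set G))).factorization p = blockDefect p B := by
  classical
  haveI := Fintype.ofFinite G
  refine ⟨fun h => h2 (by rw [blockCoeff_eq_zero_of_singular hM hB' h]; exact memLocalIdeal_zero), ?_⟩
  obtain ⟨Q, hQ⟩ := exists_isSylowIn (p := p) (Subgroup.centralizer ({g} : Set G))
  obtain ⟨D, hD⟩ := exists_isDefectGroup hM hB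
  obtain ⟨D', hD'⟩ := exists_isDefectGroup hM hB'
  have e1 := card_defectGroup hM hB hD
  have e2 := card_defectGroup hM hB' hD'
  have hQ' : IsPGroup p Q ∧ Q ≤ Subgroup.centralizer ({g} : Set G) ∧
      Nat.card Q = p ^ (Nat.card (Subgroup.centralizer ({g} : Set G))).factorization p :=
    ⟨IsPGroup.of_card hQ.2, hQ.1, hQ.2⟩
  obtain ⟨x, hx⟩ := minmax_le hM hB' hD' g h2 hQ'.1 hQ'.2.1
  obtain ⟨y, hy⟩ := minmax_ge hM hB hD hχ g h1 hQ
  have c1 := Subgroup.card_dvd_of_le hx
  have c2 := Subgroup.card_dvd_of_le hy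
  rw [Subgroup.card_map_of_injective (MulAut.conj x).injective, hQ'.2.2, e2, hd] at c1
  rw [Subgroup.card_map_of_injective (MulAut.conj y).injective, hQ'.2.2, e1] at c2
  exact le_antisymm ((Nat.pow_dvd_pow_iff_le_right (Fact.out : p.Prime).one_lt).1 c1)
    ((Nat.pow_dvd_pow_iff_le_right (Fact.out : p.Prime).one_lt).1 c2)

theorem red_blockCoeff (hM : IsPModular p M) [Finite G] (hB : IsPBlock M B) (g : G) :
    residue (locRing M) ((blockIdem hM hB).coeff g) = red M (blockCoeff B g) := by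
  rw [← red_coe, coeff_blockIdem]

end CfsgLib.Blk
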