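import Cfsg.Agent.Blk.CentralDefect
import Cfsg.Agent.Blk.Orth
import Cfsg.Agent.Blk.Bounds
import Cfsg.Agent.Blk.RegExpand
import Cfsg.Agent.Char.Brauer
import Cfsg.Agent.Char.Monomial
import Cfsg.Agent.Char.Central

/-!
2-blocks with defect group of order two.
-/

set_option autoImplicit false
set_option linter.style.haveILetI false
set_option linter.unusedSectionVars false

namespace CfsgLib.DefectTwo

open Cfsg CfsgLib.Char CfsgLib.Blk CfsgLib.SectionSplit
open scoped CfsgLib.Char ComplexConjugate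

universe u

variable {G : Type u} [Group G] [Finite G] {M : Ideal AlgInt} [M.IsPrime]
variable {x : G} {H : Subgroup G} (hH : Subgroup.centralizer ({x} : Set G) = H)

include hH in
theorem self_mem : x ∈ H := hH ▸ Subgroup.mem_centralizer_singleton_iff.2 rfl

include hH in
theorem zpowers_le_center : Subgroup.zpowers (⟨x, self_mem hH⟩ : H) ≤ Subgroup.center H := by
  rw [Subgroup.zpowers_le, Subgroup.mem_center_iff]
  exact fun g => Subtype.ext (Subgroup.mem_centralizer_singleton_iff.1 (hH.symm ▸ g.2))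

/-- The powers of an involution. -/
theorem mem_zpowers_two {C : Type*} [Group C] {z : C} (hz : orderOf z = 2) {y : C}
    (hy : y ∈ Subgroup.zpowers z) : y = 1 ∨ y = z := by
  obtain ⟨i, rfl⟩ := hy
  rcases Int.emod_two_eq_zero_or_one i with h | h
  · left; show z ^ i = 1; rw [← zpow_mod_orderOf, hz]; simp [h]
  · right; show z ^ i = z; rw [← zpow_mod_orderOf, hz]; simp [h]

variable (hx : orderOf x = 2)
include hx

include hH in
theorem orderOf_self : orderOf (⟨x, self_mem hH⟩ : H) = 2 := by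
  rw [← Subgroup.orderOf_coe]; exact hx

theorem pow_order : ∃ k : ℕ, orderOf x = 2 ^ k := ⟨1, by rw [hx]; rfl⟩

theorem not_conj_one : ¬ IsConj (1 : G) x := fun h => by
  rw [isConj_one_right] at h
  rw [h, orderOf_one] at hx
  omega

variable (hM : IsPModular 2 M) {B : Set (IrrCharacter G)}
  (hBD : IsDefectGroup 2 M B (Subgroup.zpowers x))
include hM hBD hH

/-- The defect group of an inducing block of the centralizer. -/
theorem defect_b {b : Set (IrrCharacter H)} (hb : IsInducedBlock M H b B) :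
    IsDefectGroup 2 M b (Subgroup.zpowers (⟨x, self_mem hH⟩ : H)) := by
  haveI : Fact (Nat.Prime 2) := ⟨Nat.prime_two⟩
  set z : H := ⟨x, self_mem hH⟩
  have hz : orderOf z = 2 := orderOf_self hH hx
  haveI : (Subgroup.zpowers z).Normal := normal_of_le_center (zpowers_le_center hH)
  have hp : IsPGroup 2 (Subgroup.zpowers z) :=
    IsPGroup.of_card (n := 1) (by rw [Nat.card_zpowers, hz]; rfl)
  obtain ⟨D, hD⟩ := exists_isDefectGroup hM hb.1
  have hle := normal_pgroup_le_defectGroup hM hb.1 _ hp hD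
  obtain ⟨E, hE, hDE⟩ := exists_defectGroup_ge hM hb hD
  have h1 := Subgroup.card_le_of_le hDE
  rw [Subgroup.card_subtype, card_defectGroup hM hb.2.1 hE, ← card_defectGroup hM hb.2.1 hBD,
    Nat.card_zpowers, hx] at h1
  rwa [Subgroup.eq_of_le_of_card_ge hle (by rwa [Nat.card_zpowers, hz])]

/-- Only one block of the centralizer induces `B`. -/
theorem only_b {b b' : Set (IrrCharacter H)} (hb : IsInducedBlock M H b B)
    (hb' : IsInducedBlock M H b' B) : b' = b := by
  haveI : Fact (Nat.Prime 2) := ⟨Nat.prime_two⟩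
  haveI := Fintype.ofFinite H
  have hC : Subgroup.centralizer ((Subgroup.zpowers x : Subgroup G) : Set G) ≤ H := fun g hg =>
    hH ▸ Subgroup.mem_centralizer_singleton_iff.2 (hg x (Subgroup.mem_zpowers x)).symm
  have hN : ∀ g ∈ Subgroup.normalizer ((Subgroup.zpowers x : Subgroup G) : Set G), g ∈ H := by
    intro g hg
    have h1 : g * x * g⁻¹ ∈ Subgroup.zpowers x :=
      (Subgroup.mem_normalizer_iff.1 hg x).1 (Subgroup.mem_zpowers x)
    rcases mem_zpowers_two hx h1 with h | h
    · exfalso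
      rw [conj_eq_one_iff] at h
      rw [h, orderOf_one] at hx
      omega
    · exact hH ▸ Subgroup.mem_centralizer_singleton_iff.2 (mul_inv_eq_iff_eq_mul.1 h)
  have hHN : H ≤ Subgroup.normalizer ((Subgroup.zpowers x : Subgroup G) : Set G) := by
    intro g hg
    rw [← hH] at hg
    refine Subgroup.centralizer_le_normalizer _ ?_
    rw [Subgroup.zpowers_eq_closure, Subgroup.centralizer_closure]
    exact hg
  obtain ⟨n, hn, h⟩ := conj_of_induced_pc hM hBD (Subgroup.zpowers_le.2 (self_mem hH)) hC hHN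
    (fun g hg => Subgroup.le_normalizer (hN g hg)) hb hb'
  obtain ⟨θ, hθ⟩ := isPBlock_nonempty hb.1
  obtain ⟨θ', hθ', he⟩ := h θ hθ
  refine eq_of_mem_of_mem hb'.1 hb.1 hθ' ?_
  suffices θ' = θ by rwa [this]
  refine Subtype.ext (funext fun c => ?_)
  rw [he c, show conjAut H n _ c = (⟨n, hN n hn⟩ : H) * c * (⟨n, hN n hn⟩ : H)⁻¹ from
    Subtype.ext (by rw [conjAut_apply]; simp)]
  exact classFun_of_irr θ.2 _ _

variable {b : Set (IrrCharacter H)} (hb : IsInducedBlock M H b B) {θ : IrrCharacter H} (hθ : θ ∈ b)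
  (hθx : (θ : H → ℂ) ⟨x, self_mem hH⟩ = (θ : H → ℂ) 1)
include hb hθ hθx

theorem triv_on : ∀ y ∈ Subgroup.zpowers (⟨x, self_mem hH⟩ : H),
    (θ : H → ℂ) y = (θ : H → ℂ) 1 := by
  intro y hy
  rcases mem_zpowers_two (orderOf_self hH hx) hy with rfl | rfl
  · rfl
  · exact hθx

/-- Members of `b` at the elements of odd order, and translated by `x`. -/
theorem b_member {η : IrrCharacter H} (hη : η ∈ b) :
    ∃ e : ℤ, ∀ s : H, ¬ 2 ∣ orderOf s →
      (η : H → ℂ) ((⟨x, self_mem hH⟩ : H) * s) = (e : ℂ) * (θ : H → ℂ) s := by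
  classical
  haveI : Fact (Nat.Prime 2) := ⟨Nat.prime_two⟩
  set z : H := ⟨x, self_mem hH⟩
  have hz : orderOf z = 2 := orderOf_self hH hx
  have hcen := zpowers_le_center (H := H) hH
  haveI : (Subgroup.zpowers z).Normal := normal_of_le_center hcen
  haveI := Fintype.ofFinite H
  haveI := Fintype.ofFinite (Subgroup.zpowers z)
  have hD := defect_b hH hx hM hBD hb
  obtain ⟨F, hF, hsurj, -⟩ := canonical_param (IsDefectGroup.isPGroup hD) (pc_top_of_central hcen)
    hM hb.1 hD hθ (triv_on hH hx hM hBD hb hθ hθx)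
  obtain ⟨ζ, rfl⟩ := hsurj η hη
  obtain ⟨μ, hμ⟩ := exists_hom_of_degree_one (isCharacter_of_isIrr ζ.2)
    (irr_degree_one_of_comm (fun a c => mul_comm' a c) ζ.2)
  let w : Subgroup.zpowers z := ⟨z, Subgroup.mem_zpowers z⟩
  have hr := linear_root μ w
  rw [← Subgroup.orderOf_coe, hz] at hr
  obtain ⟨e, he⟩ : ∃ e : ℤ, (ζ : Subgroup.zpowers z → ℂ) w = e := by
    rcases sq_eq_one_iff.1 hr with h | h
    · exact ⟨1, by simp [hμ, h]⟩
    · exact ⟨-1, by simp [hμ, h]⟩
  refine ⟨e, fun s hs => ?_⟩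
  rw [(hF ζ).2, ← he]
  exact secFun_mul (IsDefectGroup.isPGroup hD) (pc_top_of_central hcen) _ _ w hs

/-- The column at `x` of an irreducible character in the block `b`. -/
theorem col [Fintype G] (χ : IrrCharacter G) : ∃ n : ℤ, compL 2 x H b (χ : G → ℂ) =
    (n : ℂ) • pRegularPart 2 (θ : H → ℂ) := by
  classical
  haveI : Fact (Nat.Prime 2) := ⟨Nat.prime_two⟩
  haveI := Fintype.ofFinite H
  set z : H := ⟨x, self_mem hH⟩
  have hres : IsCharacter H (fun c : H => (χ : G → ℂ) c) :=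
    isCharacter_restrict H (isCharacter_of_isIrr χ.2)
  have hm : ∀ η : IrrCharacter H, ∃ m : ℕ, classInner (fun c : H => (χ : G → ℂ) c) (η : H → ℂ) = m :=
    fun η => inner_char_irr hres η.2
  choose m hm using hm
  have he : ∀ η : IrrCharacter H, ∃ e : ℤ, η ∈ b → ∀ s : H, ¬ 2 ∣ orderOf s →
      (η : H → ℂ) (z * s) = (e : ℂ) * (θ : H → ℂ) s := fun η => by
    by_cases h : η ∈ b
    · obtain ⟨e, he⟩ := b_member hH hx hM hBD hb hθ hθx h
      exact ⟨e, fun _ => he⟩
    · exact ⟨0, fun h' => absurd h' h⟩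
  choose e he using he
  refine ⟨∑ η : IrrCharacter H, if η ∈ b then (m η : ℤ) * e η else 0, ?_⟩
  funext s
  by_cases hs : 2 ∣ orderOf s
  · rw [compL, LinearMap.comp_apply, regL_val' _ _ hs]
    simp [pRegularPart, IsPRegular, hs]
  have hexp : ∀ c : H, (χ : G → ℂ) c = ∑ η : IrrCharacter H, (m η : ℂ) * (η : H → ℂ) c := fun c => by
    have := congrFun (classFun_eq_sum (classFun_of_char hres)) c
    simp only [hm, Finset.sum_apply, Pi.smul_apply, smul_eq_mul] at this
    exact this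
  have hzc : ∀ k : H, z * (k * s) = k * (z * s) := fun k => by
    rw [← mul_assoc, ← mul_assoc, (Subgroup.mem_center_iff.1 (zpowers_le_center hH (Subgroup.mem_zpowers z)) k)]
  calc compL 2 x H b (χ : G → ℂ) s = ∑ k : H, blockCoeff b k * (χ : G → ℂ) ((z * (k * s) : H) : G) := by
        rw [compL, LinearMap.comp_apply, regL_val _ _ hs, LinearMap.comp_apply, bmul_apply]
        rfl
    _ = ∑ η : IrrCharacter H, (m η : ℂ) * ∑ k : H, blockCoeff b k * (η : H → ℂ) (k * (z * s)) := by
        simp only [hexp, hzc, Finset.mul_sum]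
        rw [Finset.sum_comm]
        exact Finset.sum_congr rfl fun _ _ => Finset.sum_congr rfl fun _ _ => by ring
    _ = _ := by
        simp only [sum_blockCoeff_mul_char hM hb.1, Pi.smul_apply, smul_eq_mul, pRegularPart,
          IsPRegular, hs, not_false_eq_true, if_pos, Int.cast_sum, Finset.sum_mul]
        refine Finset.sum_congr rfl fun η _ => ?_
        by_cases h : η ∈ b
        · simp only [h, if_true, he η h s hs, Int.cast_mul, Int.cast_natCast]; ring
        · simp [h]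

theorem theta_ne_zero : pRegularPart 2 (θ : H → ℂ) ≠ 0 := by
  haveI : Fact (Nat.Prime 2) := ⟨Nat.prime_two⟩
  exact regularPart_ne_zero θ

theorem col_sq [Fintype G] (n : IrrCharacter G → ℤ)
    (hn : ∀ χ : IrrCharacter G, compL 2 x H b (χ : G → ℂ) = (n χ : ℂ) • pRegularPart 2 (θ : H → ℂ)) :
    ∑ χ : IrrCharacter G, n χ ^ 2 = 2 := by
  classical
  haveI : Fact (Nat.Prime 2) := ⟨Nat.prime_two⟩
  haveI := Fintype.ofFinite H
  set z : H := ⟨x, self_mem hH⟩
  have hz : orderOf z = 2 := orderOf_self hH hx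
  have hcen := zpowers_le_center (H := H) hH
  haveI : (Subgroup.zpowers z).Normal := normal_of_le_center hcen
  haveI := Fintype.ofFinite (Subgroup.zpowers z)
  have hD := defect_b hH hx hM hBD hb
  obtain ⟨-, -, -, hnorm⟩ := canonical_facts (IsDefectGroup.isPGroup hD) (pc_top_of_central hcen)
    hM hb.1 hD hθ (triv_on hH hx hM hBD hb hθ hθx)
  have hf := frame hM (pow_order hx) hH hb.1
  rw [blockRank_central hM hb.1 hD hcen] at hf
  have e1 : ∀ χ : IrrCharacter G, ∑ s : H, compL 2 x H b (χ : G → ℂ) s *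
      conj (compL 2 x H b (χ : G → ℂ) s) = (n χ : ℂ) ^ 2 * ((Nat.card H : ℂ) / 2) := by
    intro χ
    rw [Nat.card_zpowers, hz] at hnorm
    have h2 : ((2 : ℕ) : ℂ) = 2 := by norm_num
    rw [h2] at hnorm
    rw [← hnorm, Finset.mul_sum]
    refine Finset.sum_congr rfl fun s _ => ?_
    simp only [hn, Pi.smul_apply, smul_eq_mul, map_mul, pRegularPart, IsPRegular]
    by_cases hs : 2 ∣ orderOf s <;> simp [hs]
    ring
  rw [Finset.sum_congr rfl fun χ _ => e1 χ, ← Finset.sum_mul, Nat.cast_one, mul_one] at hf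
  have h0 : (Nat.card H : ℂ) ≠ 0 := natCard_ne_zero H
  have : ((∑ χ : IrrCharacter G, n χ ^ 2 : ℤ) : ℂ) = ((2 : ℤ) : ℂ) := by
    push_cast
    field_simp at hf
    linear_combination hf
  exact_mod_cast this

/-- The values of a member of `B` on the section of `x`. -/
theorem sec_val {χ : IrrCharacter G} (hχ : χ ∈ B) {n : ℤ}
    (hn : compL 2 x H b (χ : G → ℂ) = (n : ℂ) • pRegularPart 2 (θ : H → ℂ))
    (y : H) (hy : ¬ 2 ∣ orderOf y) : (χ : G → ℂ) (x * y) = (n : ℂ) * (θ : H → ℂ) y := by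
  classical
  haveI : Fact (Nat.Prime 2) := ⟨Nat.prime_two⟩
  haveI : Fintype {b : Set (IrrCharacter H) // IsPBlock M b} := Fintype.ofFinite _
  have h := congrFun (sum_compL hM x H (χ : G → ℂ)) y
  rw [regL_val _ _ hy, Finset.sum_apply, Finset.sum_eq_single ⟨b, hb.1⟩ ?_ (by simp), hn] at h
  · rw [show (χ : G → ℂ) (x * y) = shiftL x H (χ : G → ℂ) y from rfl, ← h]
    simp [pRegularPart, IsPRegular, hy]
  · intro b' _ hne
    have hC : Subgroup.centralizer ((Subgroup.zpowers x : Subgroup G) : Set G) ≤ H := fun g hg =>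
      hH ▸ Subgroup.mem_centralizer_singleton_iff.2 (hg x (Subgroup.mem_zpowers x)).symm
    have hHN : H ≤ Subgroup.normalizer ((Subgroup.zpowers x : Subgroup G) : Set G) := by
      intro g hg
      rw [← hH] at hg
      refine Subgroup.centralizer_le_normalizer _ ?_
      rw [Subgroup.zpowers_eq_closure, Subgroup.centralizer_closure]
      exact hg
    obtain ⟨B', hB'⟩ := inducedBlockDefined_of_brauer hM _ H
      (IsPGroup.of_card (p := 2) (n := 1) (by rw [Nat.card_zpowers, hx]; rfl))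
      (Subgroup.zpowers_le.2 (self_mem hH)) hC hHN b'.2
    rw [compL_char_eq_zero hM (pow_order hx) hH hB' fun hχ' => hne (Subtype.ext
      (only_b hH hx hM hBD hb (eq_of_mem_of_mem hB'.2.1 hb.2.1 hχ' hχ ▸ hB'))), Pi.zero_apply]

/-- The columns do not vanish on `B`. -/
theorem col_ne_zero {χ : IrrCharacter G} (hχ : χ ∈ B) {n : ℤ}
    (hn : compL 2 x H b (χ : G → ℂ) = (n : ℂ) • pRegularPart 2 (θ : H → ℂ)) : n ≠ 0 := by
  classical
  haveI : Fact (Nat.Prime 2) := ⟨Nat.prime_two⟩
  haveI := Fintype.ofFinite G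
  rintro rfl
  have hB := hb.2.1
  have hv : ∀ g : G, 2 ∣ orderOf g → (χ : G → ℂ) g = 0 := by
    intro g hg
    by_contra hne
    obtain ⟨D, hD, hu⟩ : ∃ D : Subgroup G, IsDefectGroup 2 M (blockOf M (χ : G → ℂ)) D ∧
        ppOf 2 g ∈ D := by
      by_contra hcon
      push Not at hcon
      exact hne (char_eq_zero_of_notMem_defectGroup hM χ (ppOf_spec 2 g) hcon)
    rw [← eq_blockOf hB hχ] at hD
    obtain ⟨c, hc⟩ := isDefectGroup_conj_eq hM hB hBD hD
    have hu' : c * ppOf 2 g * c⁻¹ ∈ Subgroup.zpowers x := hc ▸ ⟨_, hu, rfl⟩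
    have hpp := isPPart_conj (ppOf_spec 2 g) c
    obtain ⟨s, hs, hcs, -, hs2⟩ := hpp
    rcases mem_zpowers_two hx hu' with h | h
    · rw [h, one_mul] at hs
      rw [hs] at hs2
      refine hs2 ?_
      exact hg.trans (dvd_of_eq (orderOf_injective (MulAut.conj c).toMonoidHom (MulEquiv.injective _) g).symm)
    · rw [h] at hs hcs
      have hsH : s ∈ H := hH ▸ Subgroup.mem_centralizer_singleton_iff.2 hcs.symm.eq
      have h3 := sec_val hH hx hM hBD hb hθ hθx hχ hn ⟨s, hsH⟩
        (by rwa [← Subgroup.orderOf_coe])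
      rw [Subtype.coe_mk, hs, classFun_of_irr χ.2, Int.cast_zero, zero_mul] at h3
      exact hne h3
  obtain ⟨k, hk⟩ := exists_one_eq_of_vanishing (p := 2)
    (θ := (χ : G → ℂ)) (gen_of_char (isCharacter_of_isIrr χ.2)) hv
  have hdvd : 2 ^ pExp 2 G ∣ charDegree (χ : G → ℂ) := by
    rw [irr_one_eq χ.2] at hk
    have h4 : ((charDegree (χ : G → ℂ) : ℤ) : ℂ) = (((2 ^ pExp 2 G : ℕ) : ℤ) * k : ℤ) := by
      push_cast; exact hk
    exact Int.natCast_dvd_natCast.1 ⟨k, by exact_mod_cast h4⟩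
  have hd : blockDefect 2 B = 1 := by
    have := card_defectGroup hM hB hBD
    rw [Nat.card_zpowers, hx] at this
    exact (Nat.pow_right_injective le_rfl (show 2 ^ blockDefect 2 B = 2 ^ 1 by rw [← this, pow_one]))
  have h1 : pExp 2 G ≤ degExp 2 (χ : G → ℂ) :=
    (Nat.prime_two.pow_dvd_iff_le_factorization (charDegree_pos χ.2).ne').1 hdvd
  have h2 := degExp_eq_height_add hM hB hχ
  have h3 := blockDefect_le (p := 2) hM B
  have hpos : 0 < blockHeight 2 B (χ : G → ℂ) := by omega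
  obtain ⟨h4, -⟩ := height_bounds hM hB hχ hpos
  rw [hd] at h4
  haveI : Nonempty B := ⟨⟨χ, hχ⟩⟩
  have : 0 < Nat.card B := Nat.card_pos
  omega

end CfsgLib.DefectTwo
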