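import Cfsg.Agent.Blk.NormalP
import Cfsg.Agent.Blk.Criterion

/-!
Sums of degree squares over a block.
-/

set_option autoImplicit false
set_option linter.style.haveILetI false
set_option linter.unusedSectionVars false

namespace CfsgLib.Blk

open Cfsg CfsgLib.Char MonoidAlgebra Finset IsLocalRing
open scoped ComplexConjugate

universe u

variable {G : Type u} [Group G] [Finite G] {M : Ideal AlgInt} [M.IsPrime] {p : ℕ} [Fact p.Prime]

theorem blockCoeff_one_ne_zero {B : Set (IrrCharacter G)} (hB : B.Nonempty) :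
    blockCoeff B (1 : G) ≠ 0 := by
  classical
  haveI := Fintype.ofFinite G
  rw [blockCoeff, finsum_mem_eq_sum_ite]
  refine mul_ne_zero (inv_ne_zero (natCard_ne_zero G)) ?_
  rw [Finset.sum_congr rfl (g := fun χ : IrrCharacter G => (((if χ ∈ B then
      charDegree (χ : G → ℂ) * charDegree (χ : G → ℂ) else 0 : ℕ)) : ℂ)) fun χ _ => by
    split_ifs <;> simp [irr_one_eq χ.2]]
  rw [← Nat.cast_sum, Nat.cast_ne_zero]
  intro h
  obtain ⟨χ, hχ⟩ := hB
  have h1 := Finset.sum_eq_zero_iff.1 h χ (Finset.mem_univ _)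
  rw [if_pos hχ, mul_self_eq_zero] at h1
  exact (charDegree_pos χ.2).ne' h1

/-- A normal subgroup in the kernel of a whole block has order prime to `p`. -/
theorem not_dvd_card_of_kills (hM : IsPModular p M) {B : Set (IrrCharacter G)} (hB : IsPBlock M B)
    (K : Subgroup G) (hK : ∀ y ∈ K, ∀ χ ∈ B, (χ : G → ℂ) y = (χ : G → ℂ) 1) :
    ¬ p ∣ Nat.card K := by
  intro h
  obtain ⟨x, hx⟩ := exists_prime_orderOf_dvd_card' p h
  refine blockCoeff_one_ne_zero (isPBlock_nonempty hB) ?_
  rw [← blockCoeff_eq_zero_of_singular hM hB (v := (x : G)) (by rw [Subgroup.orderOf_coe, hx])]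
  simp only [blockCoeff]
  congr 1
  exact finsum_mem_congr rfl fun χ hχ => by rw [hK x x.2 χ hχ]

/-- The degree squares of a block of a group of order divisible by `p` sum to zero modulo `M`. -/
theorem red_sum_deg_sq (hM : IsPModular p M) {B : Set (IrrCharacter G)} (hB : IsPBlock M B)
    (h : p ∣ Nat.card G) [Fintype (IrrCharacter G)] [DecidablePred (· ∈ B)] :
    ∑ χ : IrrCharacter G, (if χ ∈ B then (charDegree (χ : G → ℂ) : Res M) ^ 2 else 0) = 0 := by
  classical
  haveI := Fintype.ofFinite G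
  obtain ⟨x, hx⟩ := exists_prime_orderOf_dvd_card' p h
  have h0 := blockCoeff_eq_zero_of_singular hM hB (v := x) (by rw [hx])
  rw [blockCoeff, mul_eq_zero, finsum_mem_eq_sum_ite] at h0
  have h1 := congrArg (red M) (h0.resolve_left (inv_ne_zero (natCard_ne_zero G)))
  have hmem : ∀ χ : IrrCharacter G, (if χ ∈ B then (χ : G → ℂ) 1 * conj ((χ : G → ℂ) x) else 0) ∈
      locRing M := fun χ => by
    split_ifs
    exacts [mul_mem (irr_mem χ 1) (conj_irr_mem χ x), zero_mem _]
  rw [red_sum _ _ fun χ _ => hmem χ, red_zero] at h1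
  refine Eq.trans (Finset.sum_congr rfl fun χ _ => ?_) h1
  by_cases hχ : χ ∈ B
  · rw [if_pos hχ, if_pos hχ, red_mul (irr_mem χ 1) (conj_irr_mem χ x)]
    have e : conj ((χ : G → ℂ) x) = (χ : G → ℂ) x⁻¹ := (char_conj_eq (isCharacter_of_isIrr χ.2) x).symm
    rw [e, red_char_eq hM (isCharacter_of_isIrr χ.2) (g := x⁻¹) (x := x⁻¹) (y := 1) (mul_one _)
      (Commute.one_right _) ⟨1, by rw [orderOf_inv, hx, pow_one]⟩, irr_one_eq χ.2, red_natCast, sq]
  · rw [if_neg hχ, if_neg hχ, red_zero]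

end CfsgLib.Blk
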