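import Cfsg.Agent.Blk.Principal
import Cfsg.Agent.Blk.Defect
import Cfsg.Agent.Char.Exceptional
import Cfsg.Agent.Char.Monomial
import Cfsg.Agent.Solv.TransferTools

/-!
Exceptional characters of the principal block for an abelian Sylow subgroup on which the
automizer acts without fixed points.
-/

set_option autoImplicit false
set_option linter.style.haveILetI false
set_option linter.unusedSectionVars false

namespace CfsgLib.Blk.Exc

open Cfsg CfsgLib.Char CfsgLib.Blk Finset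
open scoped ComplexConjugate IsMulCommutative

universe u

variable {G : Type u} [Group G] [Finite G] {p : ℕ} [Fact p.Prime] (P : Sylow p G)

/-- Linear characters of the Sylow subgroup. -/
abbrev Lin : Type u := ↥(P : Subgroup G) →* ℂˣ

/-- Conjugation by the normalizer. -/
def cjP (n : ↥(Subgroup.normalizer ((P : Subgroup G) : Set G))) :
    ↥(P : Subgroup G) →* ↥(P : Subgroup G) where
  toFun w := ⟨(n : G)⁻¹ * w * n, by
    simpa using (Subgroup.mem_normalizer_iff.1 (inv_mem n.2) (w : G)).1 w.2⟩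
  map_one' := Subtype.ext (by simp)
  map_mul' a b := Subtype.ext (by simp [mul_assoc])

@[simp] theorem coe_cjP (n : ↥(Subgroup.normalizer ((P : Subgroup G) : Set G)))
    (w : ↥(P : Subgroup G)) : (cjP P n w : G) = (n : G)⁻¹ * w * n := rfl

/-- The conjugate of a linear character. -/
def twist (n : ↥(Subgroup.normalizer ((P : Subgroup G) : Set G))) (ψ : Lin P) : Lin P :=
  ψ.comp (cjP P n)

theorem twist_apply (n : ↥(Subgroup.normalizer ((P : Subgroup G) : Set G))) (ψ : Lin P)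
    (w : ↥(P : Subgroup G)) : twist P n ψ w = ψ (cjP P n w) := rfl

theorem twist_twist (n k : ↥(Subgroup.normalizer ((P : Subgroup G) : Set G))) (ψ : Lin P) :
    twist P n (twist P k ψ) = twist P (n * k) ψ := by
  refine MonoidHom.ext fun w => ?_
  simp only [twist_apply]
  exact congrArg ψ (Subtype.ext (by simp [mul_assoc]))

theorem twist_one_left (ψ : Lin P) : twist P 1 ψ = ψ := by
  refine MonoidHom.ext fun w => ?_
  simp only [twist_apply]
  exact congrArg ψ (Subtype.ext (by simp))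

theorem twist_ne_one (n : ↥(Subgroup.normalizer ((P : Subgroup G) : Set G))) {ψ : Lin P}
    (h : ψ ≠ 1) : twist P n ψ ≠ 1 := by
  intro e
  have := congrArg (twist P n⁻¹) e
  rw [twist_twist, inv_mul_cancel, twist_one_left] at this
  exact h (this.trans (MonoidHom.ext fun w => rfl))

/-- The same orbit. -/
def Rel (ψ ψ' : Lin P) : Prop :=
  ∃ n : ↥(Subgroup.normalizer ((P : Subgroup G) : Set G)), twist P n ψ = ψ'

theorem rel_iff (ψ ψ' : Lin P) : Rel P ψ ψ' ↔
    ∃ n : G, n ∈ Subgroup.normalizer ((P : Subgroup G) : Set G) ∧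
      ∀ w w' : ↥(P : Subgroup G), (w' : G) = n * w * n⁻¹ → ψ' w' = ψ w := by
  constructor
  · rintro ⟨n, rfl⟩
    refine ⟨n, n.2, fun w w' e => ?_⟩
    rw [twist_apply]
    exact congrArg ψ (Subtype.ext (by rw [coe_cjP, e]; group))
  · rintro ⟨n, hn, h⟩
    refine ⟨⟨n, hn⟩, MonoidHom.ext fun w => ?_⟩
    rw [twist_apply]
    exact (h _ w (by rw [coe_cjP]; group)).symm

theorem rel_refl (ψ : Lin P) : Rel P ψ ψ := ⟨1, twist_one_left P ψ⟩

theorem rel_symm {ψ ψ' : Lin P} (h : Rel P ψ ψ') : Rel P ψ' ψ := by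
  obtain ⟨n, rfl⟩ := h
  exact ⟨n⁻¹, by rw [twist_twist, inv_mul_cancel, twist_one_left]⟩

theorem rel_trans {ψ ψ' ψ'' : Lin P} (h : Rel P ψ ψ') (h' : Rel P ψ' ψ'') : Rel P ψ ψ'' := by
  obtain ⟨n, rfl⟩ := h
  obtain ⟨k, rfl⟩ := h'
  exact ⟨k * n, (twist_twist P k n ψ).symm⟩

theorem irr_lin (ψ : Lin P) : IsIrrCharacter ↥(P : Subgroup G) (fun w => (ψ w : ℂ)) :=
  isIrr_linear ψ

theorem conj_lin (ψ : Lin P) (w : ↥(P : Subgroup G)) : conj (ψ w : ℂ) = (ψ w⁻¹ : ℂ) :=
  (char_conj_eq (isCharacter_linear ψ) w).symm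

section setting

variable (hab : IsMulCommutative ↥(P : Subgroup G))
  (hfrob : ∀ y : G, y ∈ (P : Subgroup G) → y ≠ 1 →
    Subgroup.centralizer ({y} : Set G) ⊓ Subgroup.normalizer ((P : Subgroup G) : Set G) =
      Subgroup.centralizer ((P : Subgroup G) : Set G))

include hab in
/-- The linear characters are all irreducible characters. -/
theorem linToIrr_bijective : Function.Bijective
    (fun ψ : Lin P => (⟨_, irr_lin P ψ⟩ : IrrCharacter ↥(P : Subgroup G))) := by
  constructor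
  · intro a b e
    exact MonoidHom.ext fun w => Units.ext (congrFun (congrArg Subtype.val e) w)
  · intro φ
    obtain ⟨μ, hμ⟩ := exists_hom_of_degree_one (isCharacter_of_isIrr φ.2)
      (irr_degree_one_of_comm (fun a b => hab.is_comm.comm a b) φ.2)
    exact ⟨μ, Subtype.ext hμ.symm⟩

include hab in
theorem finite_lin : Finite (Lin P) := Finite.of_injective _ (linToIrr_bijective P hab).injective

include hab in
theorem card_lin : Nat.card (Lin P) = Nat.card ↥(P : Subgroup G) := by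
  haveI := hab
  exact CommGroup.card_monoidHom_of_hasEnoughRootsOfUnity ↥(P : Subgroup G) ℂ

include hab in
theorem inner_lin [Fintype ↥(P : Subgroup G)] (ψ ψ' : Lin P) [Decidable (ψ = ψ')] :
    ∑ w : ↥(P : Subgroup G), (ψ w : ℂ) * conj (ψ' w : ℂ) =
      if ψ = ψ' then (Nat.card ↥(P : Subgroup G) : ℂ) else 0 := by
  classical
  have h := irr_inner (irr_lin P ψ) (irr_lin P ψ')
  rw [classInner_def, inv_mul_eq_iff_eq_mul₀ (natCard_ne_zero _)] at h
  rw [h]
  split_ifs with h1 h2 h2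
  · rw [mul_one]
  · exact absurd (MonoidHom.ext fun w => Units.ext (congrFun h1 w)) h2
  · exact absurd (h2 ▸ rfl) h1
  · rw [mul_zero]

include hab in
theorem sum_lin [Fintype ↥(P : Subgroup G)] (ψ : Lin P) [Decidable (ψ = 1)] :
    ∑ w : ↥(P : Subgroup G), (ψ w : ℂ) =
      if ψ = 1 then (Nat.card ↥(P : Subgroup G) : ℂ) else 0 := by
  rw [← inner_lin P hab ψ 1]
  simp

include hab in
theorem sum_lin_conj [Fintype ↥(P : Subgroup G)] (ψ : Lin P) [Decidable (ψ = 1)] :
    ∑ w : ↥(P : Subgroup G), conj (ψ w : ℂ) =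
      if ψ = 1 then (Nat.card ↥(P : Subgroup G) : ℂ) else 0 := by
  rw [← map_sum, sum_lin P hab ψ]
  split_ifs <;> simp

include hab in
/-- Expansion of a class function. -/
theorem expand [Fintype ↥(P : Subgroup G)] [Fintype (Lin P)] {f : ↥(P : Subgroup G) → ℂ}
    (hf : IsClassFunction ↥(P : Subgroup G) f) (y : ↥(P : Subgroup G)) :
    f y = ∑ ψ : Lin P, classInner f (fun w => (ψ w : ℂ)) * (ψ y : ℂ) := by
  classical
  conv_lhs => rw [classFun_eq_sum hf]
  simp only [Finset.sum_apply, Pi.smul_apply, smul_eq_mul]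
  exact (Fintype.sum_equiv (Equiv.ofBijective _ (linToIrr_bijective P hab)) _ _ fun ψ => rfl).symm

include hab in
theorem sum_all_lin [Fintype ↥(P : Subgroup G)] [Fintype (Lin P)] {y : ↥(P : Subgroup G)}
    (hy : y ≠ 1) : ∑ ψ : Lin P, (ψ y : ℂ) = 0 := by
  classical
  have h := second_orth y (1 : ↥(P : Subgroup G))
  rw [if_neg (by rw [isConj_one_left]; exact hy)] at h
  rw [← h]
  refine Fintype.sum_equiv (Equiv.ofBijective _ (linToIrr_bijective P hab)) _ _ fun ψ => ?_
  show _ = (ψ y : ℂ) * conj (ψ 1 : ℂ)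
  simp

include hab in
theorem mem_centralizer_self {y : G} (hy : y ∈ (P : Subgroup G)) :
    y ∈ Subgroup.centralizer ((P : Subgroup G) : Set G) := fun w hw => by
  simpa using congrArg Subtype.val (hab.is_comm.comm ⟨w, hw⟩ ⟨y, hy⟩)

include hab in
/-- Burnside: fusion is controlled by the normalizer. -/
theorem fusion {y : G} (hy : y ∈ (P : Subgroup G)) {y' : G} (hy' : y' ∈ (P : Subgroup G))
    (h : IsConj y y') :
    ∃ n : ↥(Subgroup.normalizer ((P : Subgroup G) : Set G)), (n : G) * y * (n : G)⁻¹ = y' := by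
  obtain ⟨g, hg⟩ := isConj_iff.1 h
  obtain ⟨n, hn, e⟩ := P.conj_eq_normalizer_conj_of_mem_centralizer y g⁻¹
    (mem_centralizer_self P hab hy) (by rw [inv_inv, hg]; exact mem_centralizer_self P hab hy')
  rw [inv_inv, hg] at e
  exact ⟨⟨n⁻¹, inv_mem hn⟩, by simp [e]⟩

include hfrob in
theorem fix_iff {y : G} (hy : y ∈ (P : Subgroup G)) (hy1 : y ≠ 1)
    (n : ↥(Subgroup.normalizer ((P : Subgroup G) : Set G))) :
    (n : G) * y * (n : G)⁻¹ = y ↔ (n : G) ∈ Subgroup.centralizer ((P : Subgroup G) : Set G) := by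
  rw [mul_inv_eq_iff_eq_mul]
  constructor
  · intro h
    rw [← hfrob y hy hy1]
    exact ⟨Subgroup.mem_centralizer_singleton_iff.2 h, n.2⟩
  · intro h
    exact (h y hy).symm

include hfrob in
theorem card_conj_fiber [Fintype ↥(Subgroup.normalizer ((P : Subgroup G) : Set G))] [DecidableEq G]
    {y y' : G} (hy : y ∈ (P : Subgroup G)) (hy1 : y ≠ 1)
    (n₀ : ↥(Subgroup.normalizer ((P : Subgroup G) : Set G))) (h : (n₀ : G) * y * (n₀ : G)⁻¹ = y') :
    (univ.filter fun n : ↥(Subgroup.normalizer ((P : Subgroup G) : Set G)) =>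
      (n : G) * y * (n : G)⁻¹ = y').card =
      Nat.card ↥(Subgroup.centralizer ((P : Subgroup G) : Set G)) := by
  rw [← Fintype.card_subtype, ← Nat.card_eq_fintype_card]
  refine Nat.card_congr ⟨fun n => ⟨(n₀ : G)⁻¹ * (n.1 : G), ?_⟩,
    fun c => ⟨⟨(n₀ : G) * c, mul_mem n₀.2 (Subgroup.centralizer_le_normalizer _ c.2)⟩, ?_⟩,
    fun n => Subtype.ext (Subtype.ext (by simp)), fun c => Subtype.ext (by simp)⟩
  · refine (fix_iff P hfrob hy hy1 (n₀⁻¹ * n.1)).1 ?_
    simp only [Subgroup.coe_mul, Subgroup.coe_inv]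
    calc _ = (n₀ : G)⁻¹ * ((n.1 : G) * y * (n.1 : G)⁻¹) * n₀ := by group
      _ = y := by rw [n.2, ← h]; group
  · show (n₀ : G) * c * y * ((n₀ : G) * c)⁻¹ = y'
    have hc : (c : G) * y = y * c := (c.2 y hy).symm
    rw [mul_assoc (n₀ : G) (c : G) y, hc, ← h]
    group

include hab hfrob in
/-- The stabilizer of a nontrivial linear character is the centralizer. -/
theorem twist_eq_iff {ψ : Lin P} (hψ : ψ ≠ 1)
    (n : ↥(Subgroup.normalizer ((P : Subgroup G) : Set G))) :
    twist P n ψ = ψ ↔ (n : G) ∈ Subgroup.centralizer ((P : Subgroup G) : Set G) := by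
  haveI := hab
  constructor
  · intro h
    by_contra hn
    refine hψ (MonoidHom.ext fun v => ?_)
    let f : ↥(P : Subgroup G) →* ↥(P : Subgroup G) :=
      MonoidHom.mk' (fun w => w⁻¹ * cjP P n w) fun a b => by
        rw [map_mul, mul_inv_rev]
        ac_rfl
    have hf : Function.Injective f := by
      rw [injective_iff_map_eq_one]
      intro w hw
      by_contra hw1
      refine hn ((fix_iff P hfrob w.2 (fun e => hw1 (Subtype.ext e)) n).1 ?_)
      have e : w⁻¹ * cjP P n w = 1 := hw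
      have e' := congrArg Subtype.val (inv_mul_eq_one.1 e)
      rw [coe_cjP] at e'
      conv_lhs => rw [e']
      group
    obtain ⟨w, rfl⟩ := Finite.surjective_of_injective hf v
    show ψ (w⁻¹ * cjP P n w) = 1
    rw [map_mul, map_inv, ← twist_apply, h, inv_mul_cancel]
  · intro hn
    refine MonoidHom.ext fun w => congrArg ψ (Subtype.ext ?_)
    rw [coe_cjP, mul_assoc, hn (w : G) w.2, inv_mul_cancel_left]

include hab hfrob in
theorem card_twist_fiber [Fintype ↥(Subgroup.normalizer ((P : Subgroup G) : Set G))]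
    [DecidableEq (Lin P)] {ψ ψ' : Lin P} (hψ : ψ ≠ 1) (h : Rel P ψ ψ') :
    (univ.filter fun n : ↥(Subgroup.normalizer ((P : Subgroup G) : Set G)) =>
      twist P n ψ = ψ').card = Nat.card ↥(Subgroup.centralizer ((P : Subgroup G) : Set G)) := by
  obtain ⟨n₀, rfl⟩ := h
  rw [← Fintype.card_subtype, ← Nat.card_eq_fintype_card]
  refine Nat.card_congr ⟨fun n => ⟨((n₀⁻¹ * n.1 : ↥(Subgroup.normalizer ((P : Subgroup G) : Set G))) : G), ?_⟩,
    fun c => ⟨n₀ * ⟨c, Subgroup.centralizer_le_normalizer _ c.2⟩, ?_⟩,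
    fun n => Subtype.ext (Subtype.ext (by simp)), fun c => Subtype.ext (by simp)⟩
  · refine (twist_eq_iff P hab hfrob hψ _).1 ?_
    rw [← twist_twist, n.2, twist_twist, inv_mul_cancel, twist_one_left]
  · rw [← twist_twist, (twist_eq_iff P hab hfrob hψ _).2 c.2]

include hab hfrob in
/-- The centralizer of a nontrivial element has a normal complement of index the order of `P`. -/
theorem exists_complement {y : G} (hy : y ∈ (P : Subgroup G)) (hy1 : y ≠ 1) :
    ∃ N : Subgroup ↥(Subgroup.centralizer ({y} : Set G)), N.Normal ∧ ¬ p ∣ Nat.card N ∧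
      N.index = Nat.card ↥(P : Subgroup G) := by
  set H := Subgroup.centralizer ({y} : Set G) with hH
  have hPH : (P : Subgroup G) ≤ H := fun w hw =>
    Subgroup.mem_centralizer_singleton_iff.2 (by
      simpa using congrArg Subtype.val (hab.is_comm.comm (⟨w, hw⟩ : ↥(P : Subgroup G)) ⟨y, hy⟩))
  have hcard : Nat.card ((P : Subgroup G).subgroupOf H) = Nat.card ↥(P : Subgroup G) :=
    Nat.card_congr (Subgroup.subgroupOfEquivOfLe hPH).toEquiv
  have hidx : ¬ p ∣ ((P : Subgroup G).subgroupOf H).index := fun h =>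
    P.not_dvd_index (h.trans (Subgroup.relIndex_dvd_index_of_le hPH))
  let PS : Sylow p H := (P.2.of_equiv (Subgroup.subgroupOfEquivOfLe hPH).symm).toSylow hidx
  have hnc : Cfsg.HasNormalPComplement p H := by
    refine CfsgLib.Solv.hnpc_of_normalizer_le_centralizer PS fun n hn => ?_
    have hn' : (n : G) ∈ Subgroup.centralizer ((P : Subgroup G) : Set G) := by
      rw [← hfrob y hy hy1]
      refine ⟨n.2, Subgroup.mem_normalizer_fintype fun w hw => ?_⟩
      have := (Subgroup.mem_normalizer_iff.1 hn ⟨w, hPH hw⟩).1 (Subgroup.mem_subgroupOf.2 hw)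
      exact Subgroup.mem_subgroupOf.1 this
    exact fun w hw => Subtype.ext (hn' (w : G) (Subgroup.mem_subgroupOf.1 hw))
  obtain ⟨S, N, hNn, hNS⟩ := hnc
  have hidx' : N.index = Nat.card ↥(S : Subgroup H) := hNS.symm.index_eq_card
  refine ⟨N, hNn, fun h => S.not_dvd_index (hNS.index_eq_card ▸ h), ?_⟩
  rw [hidx', S.card_eq_multiplicity, ← PS.card_eq_multiplicity]
  exact hcard

variable {M : Ideal AlgInt} (hM : IsPModular p M)

include hab hfrob hM in
/-- The value depends on the `p`-part only. -/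
theorem apply_eq [M.IsPrime] {χ : IrrCharacter G} (hχ : χ ∈ principalBlock M G) {z y : G}
    (hz : IsPPart p z y) (hy : y ∈ (P : Subgroup G)) (hy1 : y ≠ 1) :
    (χ : G → ℂ) z = (χ : G → ℂ) y := by
  obtain ⟨N, hNn, hN, hidx⟩ := exists_complement P hab hfrob hy hy1
  obtain ⟨u, hu, hcomm, hpe, hreg⟩ := hz
  subst hu
  have huC : u ∈ Subgroup.centralizer ({y} : Set G) :=
    Subgroup.mem_centralizer_singleton_iff.2 hcomm.symm.eq
  obtain ⟨k, hk⟩ := IsPGroup.iff_card.1 P.2
  exact principal_apply_mul_eq hM hpe N hN (v := ⟨u, huC⟩)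
    ((regular_iff_mem_complement N hN ⟨k, hidx.trans hk⟩ _).1 (by rwa [← Subgroup.orderOf_coe])) hχ

include hab hfrob hM in
/-- Orthogonality of the columns. -/
theorem column_orth [M.IsPrime] [Fintype G] [DecidableEq G]
    [Fintype ↥(Subgroup.normalizer ((P : Subgroup G) : Set G))]
    [DecidablePred (· ∈ principalBlock M G)]
    {y y' : G} (hy : y ∈ (P : Subgroup G)) (hy1 : y ≠ 1) (hy' : y' ∈ (P : Subgroup G)) :
    (∑ χ : IrrCharacter G, (if χ ∈ principalBlock M G then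
        (χ : G → ℂ) y * conj ((χ : G → ℂ) y') else 0)) *
      (Nat.card ↥(Subgroup.centralizer ((P : Subgroup G) : Set G)) : ℂ) =
      (Nat.card ↥(P : Subgroup G) : ℂ) *
        ((univ.filter fun n : ↥(Subgroup.normalizer ((P : Subgroup G) : Set G)) =>
          (n : G) * y * (n : G)⁻¹ = y').card : ℂ) := by
  have hpe : ∀ {w : G}, w ∈ (P : Subgroup G) → ∃ k : ℕ, orderOf w = p ^ k := fun {w} hw => by
    obtain ⟨k, hk⟩ := IsPGroup.iff_orderOf.1 P.2 ⟨w, hw⟩
    exact ⟨k, by rw [← hk, Subgroup.orderOf_mk]⟩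
  by_cases hc : IsConj y y'
  · obtain ⟨n₀, hn₀⟩ := fusion P hab hy hy' hc
    rw [card_conj_fiber P hfrob hy hy1 n₀ hn₀]
    obtain ⟨N, hNn, hN, hidx⟩ := exists_complement P hab hfrob hy hy1
    obtain ⟨k, hk⟩ := IsPGroup.iff_card.1 P.2
    have h := principal_column_sum hM (hpe hy) _ rfl N hN ⟨k, hidx.trans hk⟩
    rw [hidx] at h
    rw [← h]
    congr 1
    refine Finset.sum_congr rfl fun χ _ => ?_
    rw [classFun_isConj (classFun_of_irr χ.2) hc]
  · have h := block_orth hM (isPBlock_principalBlock (G := G)) (isPPart_self (hpe hy) Fact.out)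
      (isPPart_self (hpe hy') Fact.out) hc
    rw [finsum_mem_eq_sum_ite] at h
    have h' : ∀ n : ↥(Subgroup.normalizer ((P : Subgroup G) : Set G)),
        ¬ (n : G) * y * (n : G)⁻¹ = y' := fun n e => hc (isConj_iff.2 ⟨n, e⟩)
    rw [h, zero_mul, Finset.card_eq_zero.2 (Finset.filter_eq_empty_iff.2 fun n _ => h' n),
      Nat.cast_zero, mul_zero]

end setting

/-- The exceptional characters. -/
structure Data (M : Ideal AlgInt) (m : ℕ) where
  /-- their number -/
  t : ℕ
  card_eq : t * m = Nat.card ↥(P : Subgroup G) - 1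
  one_lt : 1 < t
  /-- the exceptional characters -/
  μ : Fin t → IrrCharacter G
  inj : Function.Injective μ
  mem : ∀ i, μ i ∈ principalBlock M G
  /-- the orbit -/
  idx : Lin P → Fin t
  idx_iff : ∀ ψ ψ' : Lin P, ψ ≠ 1 → ψ' ≠ 1 → (idx ψ = idx ψ' ↔ Rel P ψ ψ')
  idx_surj : ∀ i, ∃ ψ : Lin P, ψ ≠ 1 ∧ idx ψ = i
  /-- the values -/
  a : IrrCharacter G → ℤ
  /-- the common value on the exceptional characters -/
  d : ℤ
  /-- the sign -/
  δ : ℤ
  sign : δ = 1 ∨ δ = -1
  a_μ : ∀ i, a (μ i) = d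
  a_one : a ⟨_, isIrr_one⟩ = 1
  one_ne : ∀ i, (μ i : G → ℂ) ≠ fun _ => 1
  a_ne : ∀ χ ∈ principalBlock M G, (∀ i, μ i ≠ χ) → a χ ≠ 0
  norm : ∑ᶠ χ ∈ principalBlock M G, a χ ^ 2 = (m : ℤ) + 2 * δ * d
  value : ∀ χ ∈ principalBlock M G, (∀ i, μ i ≠ χ) → ∀ (z y : G), IsPPart p z y →
    y ∈ (P : Subgroup G) → y ≠ 1 → (χ : G → ℂ) z = (a χ : ℂ)
  value_μ : ∀ ψ : Lin P, ψ ≠ 1 → ∀ (z : G) (y : ↥(P : Subgroup G)), IsPPart p z (y : G) →
    (y : G) ≠ 1 → (μ (idx ψ) : G → ℂ) z =
      (d : ℂ) + (δ : ℂ) * ∑ᶠ ψ' ∈ {ψ' : Lin P | Rel P ψ ψ'}, (ψ' y : ℂ)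
  regular : ∀ (i : Fin t) (g : G), ¬ p ∣ orderOf g →
    ∑ᶠ χ ∈ principalBlock M G, (a χ : ℂ) * (χ : G → ℂ) g = (δ : ℂ) * (μ i : G → ℂ) g
  coef : ∀ ψ : Lin P, ψ ≠ 1 → ∀ [Fintype ↥(P : Subgroup G)] [DecidableEq (IrrCharacter G)],
    ∀ χ ∈ principalBlock M G,
    ((a χ - δ * (if μ (idx ψ) = χ then 1 else 0) : ℤ) : ℂ) =
      (Nat.card ↥(P : Subgroup G) : ℂ)⁻¹ *
        ∑ y : ↥(P : Subgroup G), (χ : G → ℂ) y * (1 - conj (ψ y : ℂ))

theorem exists_data {M : Ideal AlgInt} (hM : IsPModular p M)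
    (hab : IsMulCommutative ↥(P : Subgroup G))
    (hfrob : ∀ y : G, y ∈ (P : Subgroup G) → y ≠ 1 →
      Subgroup.centralizer ({y} : Set G) ⊓ Subgroup.normalizer ((P : Subgroup G) : Set G) =
        Subgroup.centralizer ((P : Subgroup G) : Set G))
    (m : ℕ) (hm : m + 1 < Nat.card ↥(P : Subgroup G))
    (hCN : (Subgroup.centralizer ((P : Subgroup G) : Set G)).relIndex
      (Subgroup.normalizer ((P : Subgroup G) : Set G)) = m) :
    Nonempty (Data P M m) := by
  classical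
  haveI := CfsgLib.Blk.IsPModular.isPrime hM
  haveI := Fintype.ofFinite G
  haveI := hab
  haveI := finite_lin P hab
  haveI : Fintype (Lin P) := Fintype.ofFinite _
  haveI : Fintype ↥(P : Subgroup G) := Fintype.ofFinite _
  haveI : Fintype ↥(Subgroup.normalizer ((P : Subgroup G) : Set G)) := Fintype.ofFinite _
  have hp : p.Prime := Fact.out
  set q := Nat.card ↥(P : Subgroup G) with hq
  set cC := Nat.card ↥(Subgroup.centralizer ((P : Subgroup G) : Set G)) with hcC
  set cN := Nat.card ↥(Subgroup.normalizer ((P : Subgroup G) : Set G)) with hcN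
  have hq0 : (q : ℂ) ≠ 0 := natCard_ne_zero _
  have hcC0 : (cC : ℂ) ≠ 0 := natCard_ne_zero _
  have hNC : cC * m = cN := by
    rw [hcC, hcN, ← hCN, ← Subgroup.relIndex_bot_left, ← Subgroup.relIndex_bot_left]
    exact Subgroup.relIndex_mul_relIndex _ _ _ bot_le (Subgroup.centralizer_le_normalizer _)
  have hm0 : 0 < m := by
    rcases Nat.eq_zero_or_pos m with h | h
    · rw [h, mul_zero] at hNC
      exact absurd hNC.symm Nat.card_pos.ne'
    · exact h
  set B := principalBlock M G with hBdef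
  have hB : IsPBlock M B := isPBlock_principalBlock
  set one : IrrCharacter G := ⟨_, isIrr_one⟩ with hone
  have honeB : one ∈ B := one_mem_principalBlock
  have hpe : ∀ w : ↥(P : Subgroup G), ∃ k : ℕ, orderOf (w : G) = p ^ k := fun w => by
    obtain ⟨k, hk⟩ := IsPGroup.iff_orderOf.1 P.2 w
    exact ⟨k, by rw [← hk, Subgroup.orderOf_coe]⟩
  -- multiplicities
  choose cn hcn using fun (χ : IrrCharacter G) (ψ : Lin P) =>
    inner_char_irr (isCharacter_restrict (P : Subgroup G) (isCharacter_of_isIrr χ.2)) (irr_lin P ψ)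
  have hval : ∀ (χ : IrrCharacter G) (y : ↥(P : Subgroup G)),
      (χ : G → ℂ) y = ∑ ψ : Lin P, (cn χ ψ : ℂ) * (ψ y : ℂ) := by
    intro χ y
    have h := expand P hab
      (classFun_of_char (isCharacter_restrict (P : Subgroup G) (isCharacter_of_isIrr χ.2))) y
    simp only [hcn] at h
    exact h
  let V : IrrCharacter G → Lin P → ℤ := fun χ ψ => (cn χ 1 : ℤ) - cn χ ψ
  have hV : ∀ χ ψ, (V χ ψ : ℂ) =
      (q : ℂ)⁻¹ * ∑ y : ↥(P : Subgroup G), (χ : G → ℂ) y * (1 - conj (ψ y : ℂ)) := by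
    intro χ ψ
    simp only [V, Int.cast_sub, Int.cast_natCast, ← hcn, classInner_def, MonoidHom.one_apply,
      Units.val_one, map_one, mul_one, mul_sub, Finset.sum_sub_distrib]
    rw [hq]
  have hgram : ∀ ψ ψ' : Lin P, ψ ≠ 1 → ψ' ≠ 1 →
      ∑ χ : IrrCharacter G, (if χ ∈ B then (V χ ψ : ℂ) * (V χ ψ' : ℂ) else 0) =
        (m : ℂ) + if Rel P ψ ψ' then 1 else 0 := by
    intro ψ ψ' hψ hψ'
    have hconj : ∀ χ, (V χ ψ' : ℂ) =
        (q : ℂ)⁻¹ * ∑ y : ↥(P : Subgroup G), conj ((χ : G → ℂ) y) * (1 - (ψ' y : ℂ)) := by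
      intro χ
      have h := congrArg (starRingEnd ℂ) (hV χ ψ')
      simp only [map_intCast, map_mul, map_inv₀, Complex.conj_natCast, map_sum, map_sub, map_one,
        Complex.conj_conj] at h
      exact h
    let S : ↥(P : Subgroup G) → ↥(P : Subgroup G) → ℂ := fun y y' => ∑ χ : IrrCharacter G,
      (if χ ∈ B then (χ : G → ℂ) y * conj ((χ : G → ℂ) (y' : G)) else 0)
    have e1 : ∑ χ : IrrCharacter G, (if χ ∈ B then (V χ ψ : ℂ) * (V χ ψ' : ℂ) else 0) =
        (q : ℂ)⁻¹ * (q : ℂ)⁻¹ * ∑ y : ↥(P : Subgroup G), ∑ y' : ↥(P : Subgroup G),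
          (1 - conj (ψ y : ℂ)) * (1 - (ψ' y' : ℂ)) * S y y' := by
      simp only [S, Finset.mul_sum]
      symm
      rw [Finset.sum_comm_cycle]
      refine Finset.sum_congr rfl fun χ _ => ?_
      split_ifs
      · rw [hV, hconj, mul_mul_mul_comm, Finset.sum_mul_sum, Finset.mul_sum]
        refine Finset.sum_congr rfl fun y _ => ?_
        rw [Finset.mul_sum]
        exact Finset.sum_congr rfl fun y' _ => by ring
      · simp
    let img : ↥(Subgroup.normalizer ((P : Subgroup G) : Set G)) → ↥(P : Subgroup G) →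
        ↥(P : Subgroup G) := fun n y => cjP P n⁻¹ y
    have himg : ∀ n y, ((img n y : ↥(P : Subgroup G)) : G) = (n : G) * y * (n : G)⁻¹ := fun n y => by
      simp [img]
    have e2 : ∀ y : ↥(P : Subgroup G), ∑ y' : ↥(P : Subgroup G),
        (1 - conj (ψ y : ℂ)) * (1 - (ψ' y' : ℂ)) * S y y' =
          (q : ℂ) / (cC : ℂ) * ∑ n : ↥(Subgroup.normalizer ((P : Subgroup G) : Set G)),
            (1 - conj (ψ y : ℂ)) * (1 - (ψ' (img n y) : ℂ)) := by
      intro y
      by_cases hy : (y : G) = 1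
      · have : y = 1 := Subtype.ext hy
        subst this
        simp
      rw [← Finset.sum_fiberwise univ (fun n => img n y), Finset.mul_sum]
      refine Finset.sum_congr rfl fun y' _ => ?_
      rw [Finset.sum_congr rfl (g := fun _ => (1 - conj (ψ y : ℂ)) * (1 - (ψ' y' : ℂ)))
        (fun n hn => by rw [(Finset.mem_filter.1 hn).2]), Finset.sum_const, nsmul_eq_mul]
      have h := column_orth P hab hfrob hM (M := M) y.2 hy y'.2
      rw [show (univ.filter fun n => img n y = y') = univ.filter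
        (fun n : ↥(Subgroup.normalizer ((P : Subgroup G) : Set G)) =>
          (n : G) * y * (n : G)⁻¹ = (y' : G)) from
        Finset.filter_congr fun n _ => by rw [Subtype.ext_iff, himg]]
      change _ * _ * S y y' = _
      field_simp
      linear_combination ((1 - conj (ψ y : ℂ)) * (1 - (ψ' y' : ℂ))) * h
    rw [e1, Finset.sum_congr rfl fun y _ => e2 y, ← Finset.mul_sum, Finset.sum_comm]
    have e3 : ∀ n, ∑ y : ↥(P : Subgroup G), (1 - conj (ψ y : ℂ)) * (1 - (ψ' (img n y) : ℂ)) =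
        (q : ℂ) * (1 + if twist P n⁻¹ ψ' = ψ then 1 else 0) := by
      intro n
      have e : ∀ y, (ψ' (img n y) : ℂ) = (twist P n⁻¹ ψ' y : ℂ) := fun y => rfl
      simp only [e, mul_sub, mul_one, Finset.sum_sub_distrib, sub_mul, one_mul,
        Finset.sum_const, Finset.card_univ, nsmul_eq_mul]
      rw [sum_lin P hab, if_neg (twist_ne_one P _ hψ'), sum_lin_conj P hab, if_neg hψ,
        Finset.sum_congr rfl fun y _ => mul_comm (conj (ψ y : ℂ)) (twist P n⁻¹ ψ' y : ℂ),
        inner_lin P hab, ← Nat.card_eq_fintype_card]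
      split_ifs <;> ring
    rw [Finset.sum_congr rfl fun n _ => e3 n, ← Finset.mul_sum, Finset.sum_add_distrib,
      Finset.sum_boole, Finset.sum_const, nsmul_eq_mul, mul_one, Finset.card_univ,
      ← Nat.card_eq_fintype_card, ← hcN, ← hNC]
    have e4 : ((univ.filter fun n => twist P n⁻¹ ψ' = ψ).card : ℂ) =
        (cC : ℂ) * (if Rel P ψ ψ' then 1 else 0) := by
      split_ifs with h
      · rw [mul_one, Nat.cast_inj]
        refine Eq.trans ?_ (card_twist_fiber P hab hfrob hψ' (rel_symm P h))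
        exact Finset.card_bij' (fun n _ => n⁻¹) (fun n _ => n⁻¹)
          (fun n hn => by simpa using (Finset.mem_filter.1 hn).2)
          (fun n hn => by simpa using (Finset.mem_filter.1 hn).2) (by simp) (by simp)
      · rw [mul_zero, Nat.cast_eq_zero, Finset.card_eq_zero, Finset.filter_eq_empty_iff]
        exact fun n _ e => h (rel_symm P ⟨n⁻¹, e⟩)
    rw [e4]
    push_cast
    field_simp
  -- orthogonality to the regular elements
  have hreg : ∀ (ψ : Lin P) (g : G), ¬ p ∣ orderOf g →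
      ∑ χ : IrrCharacter G, (if χ ∈ B then (V χ ψ : ℂ) * (χ : G → ℂ) g else 0) = 0 := by
    intro ψ g hg
    rw [Finset.sum_congr rfl (g := fun χ : IrrCharacter G => ∑ y : ↥(P : Subgroup G),
      (q : ℂ)⁻¹ * (1 - conj (ψ y : ℂ)) *
        (if χ ∈ B then (χ : G → ℂ) y * conj ((χ : G → ℂ) g⁻¹) else 0)) fun χ _ => ?_,
      Finset.sum_comm]
    · refine Finset.sum_eq_zero fun y _ => ?_
      rw [← Finset.mul_sum]
      by_cases hy : y = 1
      · subst hy
        simp
      have hxy : ¬ IsConj (y : G) 1 := fun h => hy (Subtype.ext (isConj_one_left.1 h))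
      have h := block_orth hM hB (isPPart_self (hpe y) hp)
        (isPPart_one_of_regular (g := g⁻¹) (by rwa [orderOf_inv])) hxy
      rw [finsum_mem_eq_sum_ite] at h
      rw [h, mul_zero]
    · split_ifs
      · rw [hV, Finset.mul_sum, Finset.sum_mul, char_conj_eq (isCharacter_of_isIrr χ.2),
          Complex.conj_conj]
        exact Finset.sum_congr rfl fun y _ => by ring
      · simp
  -- the orbits
  let r : Setoid {ψ : Lin P // ψ ≠ 1} :=
    ⟨fun ψ ψ' => Rel P ψ.1 ψ'.1, fun ψ => rel_refl P ψ.1, rel_symm P, rel_trans P⟩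
  haveI : Fintype (Quotient r) := Fintype.ofFinite _
  set t := Fintype.card (Quotient r) with ht
  let e := Fintype.equivFin (Quotient r)
  let mk : {ψ : Lin P // ψ ≠ 1} → Fin t := fun ψ => e (Quotient.mk r ψ)
  have hmk : ∀ ψ ψ', mk ψ = mk ψ' ↔ Rel P ψ.1 ψ'.1 := fun ψ ψ' =>
    ⟨fun h => Quotient.exact (e.injective h), fun h => congrArg e (Quotient.sound h)⟩
  have hmks : Function.Surjective mk := fun i => by
    obtain ⟨ψ, hψ⟩ := Quotient.exists_rep (e.symm i)
    exact ⟨ψ, by rw [← e.apply_symm_apply i, ← hψ]⟩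
  have hcount : Nat.card {ψ : Lin P // ψ ≠ 1} = t * m := by
    rw [Nat.card_eq_fintype_card, ← Finset.card_univ,
      Finset.card_eq_sum_card_fiberwise (f := mk) (t := univ) (fun _ _ => by simp),
      Finset.sum_congr rfl (g := fun _ => m) fun i _ => ?_, Finset.sum_const, Finset.card_univ,
      Fintype.card_fin, smul_eq_mul]
    obtain ⟨ψ₀, rfl⟩ := hmks i
    refine Nat.eq_of_mul_eq_mul_right (Nat.card_pos : 0 < cC) ?_
    rw [mul_comm m, hNC, hcN,
      Nat.card_eq_fintype_card (α := ↥(Subgroup.normalizer ((P : Subgroup G) : Set G))),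
      ← Finset.card_univ (α := ↥(Subgroup.normalizer ((P : Subgroup G) : Set G))),
      Finset.card_eq_sum_card_fiberwise
        (f := fun n => (⟨twist P n ψ₀.1, twist_ne_one P n ψ₀.2⟩ : {ψ : Lin P // ψ ≠ 1}))
        (t := univ.filter fun ψ => mk ψ = mk ψ₀) (fun n _ => by
          simp only [Finset.mem_coe, Finset.mem_filter, Finset.mem_univ, true_and, hmk]
          exact rel_symm P ⟨n, rfl⟩)]
    rw [Finset.sum_congr rfl (g := fun _ => cC) fun ψ hψ => ?_, Finset.sum_const, smul_eq_mul]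
    refine Eq.trans ?_ (card_twist_fiber P hab hfrob ψ₀.2
      (rel_symm P ((hmk _ _).1 (Finset.mem_filter.1 hψ).2)))
    exact congrArg Finset.card (Finset.filter_congr fun n _ => Subtype.ext_iff)
  have hnt : Nat.card {ψ : Lin P // ψ ≠ 1} = q - 1 := by
    rw [hq, ← card_lin P hab, Nat.card_eq_fintype_card, Nat.card_eq_fintype_card,
      Fintype.card_subtype_compl, Fintype.card_subtype_eq]
  have htm : t * m = q - 1 := hcount.symm.trans hnt
  have ht1 : 1 < t := by
    by_contra hh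
    have : t * m ≤ 1 * m := Nat.mul_le_mul_right m (not_lt.1 hh)
    omega
  choose ρ hρ using hmks
  let i₀ : Fin t := ⟨0, by omega⟩
  let A : Fin t → IrrCharacter G → ℤ := fun i χ =>
    if χ ∈ B then V χ (ρ i₀).1 - V χ (ρ i).1 else 0
  let τ : Fin t → G → ℂ := fun i => ∑ χ : IrrCharacter G, (A i χ : ℂ) • (χ : G → ℂ)
  have hτc : ∀ i (χ : IrrCharacter G), classInner (τ i) (χ : G → ℂ) = (A i χ : ℂ) := by
    intro i χ
    simp only [τ, classInner_sum_left, classInner_smul_left]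
    rw [Finset.sum_eq_single χ]
    · rw [irr_inner_self χ.2, mul_one]
    · intro ψ _ hne
      rw [irr_inner_ne ψ.2 χ.2 fun h => hne (Subtype.ext h), mul_zero]
    · simp
  have hτgen : ∀ i, IsGeneralizedCharacter G (τ i) := by
    intro i
    refine isGeneralized_iff.2 ⟨?_, fun χ => ⟨A i χ, hτc i χ⟩⟩
    intro x y
    simp only [τ, Finset.sum_apply, Pi.smul_apply]
    exact Finset.sum_congr rfl fun χ _ => by rw [classFun_of_irr χ.2 x y]
  have hτone : ∀ i, τ i 1 = 0 := by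
    intro i
    simp only [τ, A, Finset.sum_apply, Pi.smul_apply, smul_eq_mul]
    have h0 := hreg (ρ i₀).1 1 (by simpa using hp.ne_one)
    have h1 := hreg (ρ i).1 1 (by simpa using hp.ne_one)
    rw [← sub_eq_zero.2 (h0.trans h1.symm), ← Finset.sum_sub_distrib]
    exact Finset.sum_congr rfl fun χ _ => by split_ifs <;> push_cast <;> ring
  have hVV : ∀ i j, ∑ χ : IrrCharacter G, (if χ ∈ B then
      (V χ (ρ i).1 : ℂ) * (V χ (ρ j).1 : ℂ) else 0) = (m : ℂ) + if i = j then 1 else 0 := by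
    intro i j
    rw [hgram _ _ (ρ i).2 (ρ j).2]
    congr 1
    refine if_congr ?_ rfl rfl
    rw [← hmk, hρ, hρ]
  have hτi : ∀ i j, classInner (τ i) (τ j) =
      ∑ χ : IrrCharacter G, (A i χ : ℂ) * (A j χ : ℂ) := by
    intro i j
    conv_lhs => arg 2; simp only [τ]
    simp only [classInner_sum_right, classInner_smul_right, hτc, map_intCast]
    exact Finset.sum_congr rfl fun χ _ => mul_comm _ _
  have hA2 : ∀ i j, i ≠ i₀ → j ≠ i₀ → ∀ [Decidable (i = j)],
      classInner (τ i) (τ j) = if i = j then 2 else 1 := by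
    intro i j hi hj _
    rw [hτi, Finset.sum_congr rfl (g := fun χ : IrrCharacter G =>
      (if χ ∈ B then (V χ (ρ i₀).1 : ℂ) * (V χ (ρ i₀).1 : ℂ) else 0) -
      (if χ ∈ B then (V χ (ρ i₀).1 : ℂ) * (V χ (ρ j).1 : ℂ) else 0) -
      (if χ ∈ B then (V χ (ρ i).1 : ℂ) * (V χ (ρ i₀).1 : ℂ) else 0) +
      (if χ ∈ B then (V χ (ρ i).1 : ℂ) * (V χ (ρ j).1 : ℂ) else 0)) fun χ _ => by
        simp only [A]; split_ifs <;> push_cast <;> ring,
      Finset.sum_add_distrib, Finset.sum_sub_distrib, Finset.sum_sub_distrib, hVV, hVV, hVV, hVV,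
      if_pos rfl, if_neg (Ne.symm hj), if_neg hi]
    split_ifs <;> ring
  obtain ⟨εc, hεc, μf, hμirr, hμinj, hτμ⟩ := exists_exceptional i₀ τ
    (by funext g; simp [τ, A]) hτgen hτone hA2
  obtain ⟨ε, hεs, hε⟩ : ∃ ε : ℤ, (ε = 1 ∨ ε = -1) ∧ εc = (ε : ℂ) := by
    rcases hεc with h | h
    · exact ⟨1, Or.inl rfl, by simp [h]⟩
    · exact ⟨-1, Or.inr rfl, by simp [h]⟩
  let μ : Fin t → IrrCharacter G := fun i => ⟨μf i, hμirr i⟩
  have hμ : Function.Injective μ := fun i j h => hμinj (congrArg Subtype.val h)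
  have hAμ : ∀ i χ, A i χ = ε * ((if μ i = χ then 1 else 0) - (if μ i₀ = χ then 1 else 0)) := by
    intro i χ
    have h := hτc i χ
    rw [hτμ i, classInner_smul_left, classInner_sub_left, irr_inner (hμirr i) χ.2,
      irr_inner (hμirr i₀) χ.2, hε] at h
    rw [if_congr (show μf i = (χ : G → ℂ) ↔ μ i = χ from ⟨fun e => Subtype.ext e, fun e => congrArg Subtype.val e⟩) rfl rfl,
      if_congr (show μf i₀ = (χ : G → ℂ) ↔ μ i₀ = χ from ⟨fun e => Subtype.ext e, fun e => congrArg Subtype.val e⟩) rfl rfl] at h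
    have h' : ((A i χ : ℤ) : ℂ) =
        ((ε * ((if μ i = χ then 1 else 0) - (if μ i₀ = χ then 1 else 0)) : ℤ) : ℂ) := by
      rw [← h]
      push_cast
      rfl
    exact_mod_cast h'
  obtain ⟨i₁, hi₁⟩ : ∃ i, i ≠ i₀ := ⟨⟨1, ht1⟩, by simp [i₀, Fin.ext_iff]⟩
  have hε0 : ε ≠ 0 := by rcases hεs with h | h <;> simp [h]
  have hμB : ∀ i, μ i ∈ B := by
    intro i
    by_contra hi
    rcases eq_or_ne i i₀ with rfl | hne
    · have h := hAμ i₁ (μ i₀)
      rw [if_pos rfl, if_neg (hμ.ne hi₁), show A i₁ (μ i₀) = 0 from if_neg hi] at h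
      omega
    · have h := hAμ i (μ i)
      rw [if_pos rfl, if_neg (hμ.ne (Ne.symm hne)), show A i (μ i) = 0 from if_neg hi] at h
      omega
  let a : IrrCharacter G → ℤ := fun χ =>
    V χ (ρ i₀).1 + ε * (if μ i₀ = χ then 1 else 0)
  have hVa : ∀ χ ∈ B, ∀ i, V χ (ρ i).1 = a χ - ε * (if μ i = χ then 1 else 0) := by
    intro χ hχ i
    have h := hAμ i χ
    simp only [A, if_pos hχ] at h
    simp only [a]
    linear_combination -h
  -- every nontrivial character
  have hcnorb : ∀ (χ : IrrCharacter G) (n) (ψ : Lin P), cn χ (twist P n ψ) = cn χ ψ := by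
    intro χ n ψ
    have h1 := hcn χ (twist P n ψ)
    have h2 := hcn χ ψ
    have h3 : classInner (fun w : ↥(P : Subgroup G) => (χ : G → ℂ) w) (fun w => (twist P n ψ w : ℂ)) =
        classInner (fun w : ↥(P : Subgroup G) => (χ : G → ℂ) w) (fun w => (ψ w : ℂ)) := by
      rw [classInner_def, classInner_def]
      congr 1
      refine Finset.sum_bij' (fun w _ => cjP P n w) (fun w _ => cjP P n⁻¹ w) (by simp) (by simp)
        (fun w _ => Subtype.ext (by simp [mul_assoc])) (fun w _ => Subtype.ext (by simp [mul_assoc]))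
        fun w _ => ?_
      have hcf : (χ : G → ℂ) (cjP P n w : G) = (χ : G → ℂ) w := by
        rw [coe_cjP]
        exact classFun_isConj (classFun_of_irr χ.2) (isConj_iff.2 ⟨n, by group⟩)
      rw [hcf]
      rfl
    rw [h1, h2] at h3
    exact_mod_cast h3
  let idx : Lin P → Fin t := fun ψ => if h : ψ = 1 then i₀ else mk ⟨ψ, h⟩
  have hidx : ∀ ψ (h : ψ ≠ 1), idx ψ = mk ⟨ψ, h⟩ := fun ψ h => dif_neg h
  have hVidx : ∀ χ ∈ B, ∀ ψ, ψ ≠ 1 → V χ ψ = a χ - ε * (if μ (idx ψ) = χ then 1 else 0) := by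
    intro χ hχ ψ hψ
    rw [← hVa χ hχ (idx ψ)]
    obtain ⟨n, hn⟩ := (hmk (ρ (idx ψ)) ⟨ψ, hψ⟩).1 (by rw [hρ, hidx ψ hψ])
    show (cn χ 1 : ℤ) - cn χ ψ = (cn χ 1 : ℤ) - cn χ (ρ (idx ψ)).1
    rw [show cn χ ψ = cn χ (ρ (idx ψ)).1 from (congrArg (cn χ) hn).symm.trans (hcnorb χ n _)]
  have hvalue : ∀ χ ∈ B, ∀ y : ↥(P : Subgroup G), y ≠ 1 → (χ : G → ℂ) y =
      (a χ : ℂ) + (ε : ℂ) * ∑ ψ : Lin P, if ψ ≠ 1 ∧ μ (idx ψ) = χ then (ψ y : ℂ) else 0 := by
    intro χ hχ y hy
    rw [hval, Finset.sum_congr rfl (g := fun ψ : Lin P => ((cn χ 1 : ℂ) - (a χ : ℂ)) * (ψ y : ℂ) +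
      (if ψ = 1 then (a χ : ℂ) else 0) +
      (ε : ℂ) * (if ψ ≠ 1 ∧ μ (idx ψ) = χ then (ψ y : ℂ) else 0)) fun ψ _ => ?_,
      Finset.sum_add_distrib, Finset.sum_add_distrib, ← Finset.mul_sum, sum_all_lin P hab hy,
      mul_zero, zero_add, Finset.sum_ite_eq' univ (1 : Lin P), if_pos (Finset.mem_univ _),
      ← Finset.mul_sum]
    by_cases hψ : ψ = 1
    · subst hψ
      simp
    · have h : ((cn χ 1 : ℤ) : ℂ) - (cn χ ψ : ℤ) =
          (a χ : ℂ) - (ε : ℂ) * (if μ (idx ψ) = χ then 1 else 0) := by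
        rw [← Int.cast_sub, show (cn χ 1 : ℤ) - cn χ ψ = V χ ψ from rfl, hVidx χ hχ ψ hψ]
        push_cast
        rfl
      push_cast at h
      rw [if_neg hψ, add_zero]
      split_ifs with h1 h1
      · rw [if_pos h1.2] at h
        linear_combination (-(ψ y : ℂ)) * h
      · rw [if_neg fun e => h1 ⟨hψ, e⟩] at h
        linear_combination (-(ψ y : ℂ)) * h
  -- norms
  have hnorm : ∀ i, ∑ χ : IrrCharacter G, (if χ ∈ B then a χ ^ 2 else 0) =
      (m : ℤ) + 2 * ε * a (μ i) := by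
    intro i
    have h := hVV i i
    rw [if_pos rfl] at h
    have h' : ∑ χ : IrrCharacter G, (if χ ∈ B then V χ (ρ i).1 * V χ (ρ i).1 else 0) = (m : ℤ) + 1 := by
      have h2 : ((∑ χ : IrrCharacter G, (if χ ∈ B then V χ (ρ i).1 * V χ (ρ i).1 else 0) : ℤ) : ℂ) =
          (((m : ℤ) + 1 : ℤ) : ℂ) := by
        push_cast [apply_ite (Int.cast : ℤ → ℂ)]
        exact h
      exact_mod_cast h2
    have hε2 : ε * ε = 1 := by rcases hεs with h | h <;> simp [h]
    rw [Finset.sum_congr rfl (g := fun χ : IrrCharacter G => (if χ ∈ B then a χ ^ 2 else 0) -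
      if μ i = χ then 2 * ε * a (μ i) - 1 else 0) fun χ _ => ?_,
      Finset.sum_sub_distrib, Finset.sum_ite_eq univ (μ i), if_pos (Finset.mem_univ _)] at h'
    · linear_combination h'
    · by_cases hμi : μ i = χ
      · subst hμi
        rw [if_pos (hμB i), if_pos (hμB i), if_pos rfl, hVa _ (hμB i) i, if_pos rfl]
        linear_combination hε2
      · rw [if_neg hμi, sub_zero]
        refine if_ctx_congr Iff.rfl (fun hχ => ?_) fun _ => rfl
        rw [hVa χ hχ i, if_neg hμi]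
        ring
  have haμ : ∀ i, a (μ i) = a (μ i₀) := by
    intro i
    have h := (hnorm i).symm.trans (hnorm i₀)
    exact mul_left_cancel₀ (mul_ne_zero two_ne_zero hε0) (add_left_cancel h)
  have hVone : ∀ ψ : Lin P, ψ ≠ 1 → V one ψ = 1 := by
    intro ψ hψ
    have h : (V one ψ : ℂ) = 1 := by
      rw [hV]
      simp only [hone, one_mul, Finset.sum_sub_distrib]
      rw [sum_lin_conj P hab, if_neg hψ, sub_zero, Finset.sum_const, Finset.card_univ,
        ← Nat.card_eq_fintype_card, ← hq, nsmul_eq_mul, mul_one, inv_mul_cancel₀ hq0]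
    exact_mod_cast h
  have honeμ : ∀ i, μ i ≠ one := by
    intro i hi
    obtain ⟨j, hj⟩ : ∃ j, j ≠ i := by
      rcases eq_or_ne i i₀ with rfl | h
      · exact ⟨i₁, hi₁⟩
      · exact ⟨i₀, Ne.symm h⟩
    have h1 := hVa one honeB i
    have h2 := hVa one honeB j
    rw [hVone _ (ρ i).2, if_pos hi] at h1
    rw [hVone _ (ρ j).2, if_neg (fun e => hj (hμ (e.trans hi.symm)))] at h2
    omega
  have ha1 : a one = 1 := by
    simp only [a, hVone _ (ρ i₀).2, if_neg (honeμ i₀), mul_zero, add_zero]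
  have hvz : ∀ χ ∈ B, ∀ (z y : G), IsPPart p z y → y ∈ (P : Subgroup G) → y ≠ 1 →
      (χ : G → ℂ) z = (χ : G → ℂ) y := fun χ hχ z y hz hy hy1 =>
    apply_eq P hab hfrob hM hχ hz hy hy1
  have hvX : ∀ χ ∈ B, (∀ i, μ i ≠ χ) → ∀ (z y : G), IsPPart p z y → y ∈ (P : Subgroup G) → y ≠ 1 →
      (χ : G → ℂ) z = (a χ : ℂ) := by
    intro χ hχ hne z y hz hy hy1
    rw [hvz χ hχ z y hz hy hy1]
    have h := hvalue χ hχ ⟨y, hy⟩ fun e => hy1 (congrArg Subtype.val e)
    rw [h, Finset.sum_eq_zero fun ψ _ => if_neg fun e => hne _ e.2, mul_zero, add_zero]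
  have hane : ∀ χ ∈ B, (∀ i, μ i ≠ χ) → a χ ≠ 0 := by
    intro χ hχ hne ha0
    have hh0 : blockHeight p B (one : G → ℂ) = 0 := by
      rw [blockHeight]
      simp [hone, charDegree]
    refine omega_regElt_unit hM hB honeB hh0 hχ ?_
    have hne1 : (χ : G → ℂ) ≠ fun _ => 1 := fun e => by
      rw [show χ = one from Subtype.ext e, ha1] at ha0
      exact one_ne_zero ha0
    have hsum : ∑ x : G, (χ : G → ℂ) x = 0 := by
      have h := irr_inner_ne χ.2 isIrr_one hne1
      rw [classInner_def, mul_eq_zero] at h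
      simpa using h.resolve_left (inv_ne_zero (natCard_ne_zero G))
    have hzero : ∑ x : G, (((regElt M p one).coeff x : locRing M) : ℂ) * (χ : G → ℂ) x = 0 := by
      refine Eq.trans (Finset.sum_congr rfl fun x _ => ?_) hsum
      rw [coeff_regElt]
      split_ifs with hx
      · rw [zero_mul]
        symm
        obtain ⟨w, hw⟩ := exists_isPPart hp x
        have hw1 : w ≠ 1 := by
          rintro rfl
          obtain ⟨v, hv, -, -, hvr⟩ := hw
          rw [one_mul] at hv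
          exact hvr (hv ▸ hx)
        obtain ⟨k, hk⟩ : ∃ k, orderOf w = p ^ k := by
          obtain ⟨v, -, -, hv, -⟩ := hw
          exact hv
        obtain ⟨Q, hQ⟩ := (IsPGroup.of_card (p := p) (G := Subgroup.zpowers w) (n := k)
          (by rw [Nat.card_zpowers, hk])).exists_le_sylow
        obtain ⟨g, hg⟩ := MulAction.exists_smul_eq G Q P
        have hwP : g * w * g⁻¹ ∈ (P : Subgroup G) := by
          rw [← hg, Sylow.coe_subgroup_smul]
          exact ⟨w, hQ (Subgroup.mem_zpowers _), rfl⟩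
        have h := hvX χ hχ hne _ _ (isPPart_conj hw g) hwP (fun e => hw1 (conj_eq_one_iff.1 e))
        rw [classFun_of_irr χ.2, ha0, Int.cast_zero] at h
        exact h
      · simp [hone]
    rw [omega_eq, hzero, zero_div]
    exact memLocalIdeal_zero
  refine ⟨{
    t := t, card_eq := htm, one_lt := ht1, μ := μ, inj := hμ, mem := hμB, idx := idx
    idx_iff := fun ψ ψ' h h' => by rw [hidx ψ h, hidx ψ' h', hmk]
    idx_surj := fun i => ⟨(ρ i).1, (ρ i).2, by rw [hidx _ (ρ i).2]; exact hρ i⟩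
    a := a, d := a (μ i₀), δ := ε, sign := hεs, a_μ := haμ, a_one := ha1
    one_ne := fun i e => honeμ i (Subtype.ext e)
    a_ne := hane, norm := ?_, value := hvX, value_μ := ?_, regular := ?_, coef := ?_ }⟩
  · rw [finsum_mem_eq_sum_ite]
    exact hnorm i₀
  · intro ψ hψ z y hz hy1
    rw [hvz _ (hμB _) z y hz y.2 hy1, hvalue _ (hμB _) y fun e => hy1 (congrArg Subtype.val e),
      haμ, finsum_mem_eq_sum_ite]
    congr 2
    refine Finset.sum_congr rfl fun ψ' _ => if_congr ?_ rfl rfl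
    constructor
    · rintro ⟨h1, h2⟩
      rw [Set.mem_ofPred_eq, ← hmk ⟨ψ, hψ⟩ ⟨ψ', h1⟩, ← hidx ψ hψ, ← hidx ψ' h1]
      exact (hμ h2).symm
    · intro h
      obtain ⟨n, rfl⟩ := h
      refine ⟨twist_ne_one P n hψ, congrArg μ ?_⟩
      rw [hidx _ (twist_ne_one P n hψ), hidx ψ hψ, hmk]
      exact rel_symm P ⟨n, rfl⟩
  · intro i g hg
    rw [finsum_mem_eq_sum_ite]
    have h := hreg (ρ i).1 g hg
    rw [Finset.sum_congr rfl (g := fun χ : IrrCharacter G =>
      (if χ ∈ B then (a χ : ℂ) * (χ : G → ℂ) g else 0) -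
        (if μ i = χ then (ε : ℂ) * (μ i : G → ℂ) g else 0)) fun χ _ => ?_,
      Finset.sum_sub_distrib, Finset.sum_ite_eq univ (μ i), if_pos (Finset.mem_univ _),
      sub_eq_zero] at h
    · exact h
    · by_cases hμi : μ i = χ
      · subst hμi
        rw [if_pos (hμB i), if_pos (hμB i), if_pos rfl, hVa _ (hμB i) i, if_pos rfl]
        push_cast
        ring
      · rw [if_neg hμi, sub_zero]
        refine if_ctx_congr Iff.rfl (fun hχ => ?_) fun _ => rfl
        rw [hVa χ hχ i, if_neg hμi]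
        simp
  · intro ψ hψ _ _ χ hχ
    have h := hV χ ψ
    rw [hVidx χ hχ ψ hψ] at h
    convert h


namespace Data

variable {P} {M : Ideal AlgInt} {m : ℕ} (D : Data P M m)

/-- The non-exceptional characters. -/
def X : Set (IrrCharacter G) := {χ | χ ∈ principalBlock M G ∧ ∀ i, D.μ i ≠ χ}

theorem block_eq : principalBlock M G = D.X ∪ Set.range D.μ := by
  ext χ
  constructor
  · intro h
    by_cases h' : χ ∈ Set.range D.μ
    · exact Or.inr h'
    · exact Or.inl ⟨h, fun i e => h' ⟨i, e⟩⟩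
  · rintro (h | ⟨i, rfl⟩)
    · exact h.1
    · exact D.mem i

theorem disjoint : Disjoint D.X (Set.range D.μ) :=
  Set.disjoint_left.2 fun _ h ⟨i, e⟩ => h.2 i e

theorem one_mem_X [M.IsPrime] : (⟨_, isIrr_one⟩ : IrrCharacter G) ∈ D.X :=
  ⟨one_mem_principalBlock, fun i e => D.one_ne i (congrArg Subtype.val e)⟩

theorem card_range : Nat.card (Set.range D.μ) = D.t := by
  rw [Nat.card_range_of_injective D.inj, Nat.card_fin]

theorem t_eq (hm : 0 < m) : (Nat.card ↥(P : Subgroup G) - 1) / m = D.t := by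
  rw [← D.card_eq, Nat.mul_div_cancel _ hm]

theorem sum_split {R : Type*} [AddCommMonoid R] (f : IrrCharacter G → R) :
    ∑ᶠ χ ∈ principalBlock M G, f χ = ∑ᶠ χ ∈ D.X, f χ + ∑ i, f (D.μ i) := by
  rw [D.block_eq, finsum_mem_union D.disjoint (Set.toFinite _) (Set.toFinite _),
    finsum_mem_range D.inj, finsum_eq_sum_of_fintype (fun j => f (D.μ j))]

theorem norm_X :
    ∑ᶠ χ ∈ D.X, D.a χ ^ 2 + (D.t : ℤ) * D.d ^ 2 = (m : ℤ) + 2 * D.δ * D.d := by
  rw [← D.norm, D.sum_split fun χ => D.a χ ^ 2]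
  congr 1
  rw [Finset.sum_congr rfl (g := fun _ => D.d ^ 2) fun i _ => by rw [D.a_μ i], Finset.sum_const,
    Finset.card_univ, Fintype.card_fin, nsmul_eq_mul]

theorem card_X_le_sum : (Nat.card D.X : ℤ) ≤ ∑ᶠ χ ∈ D.X, D.a χ ^ 2 := by
  rw [Nat.card_coe_set_eq, Set.ncard_eq_toFinset_card _ (Set.toFinite _),
    finsum_mem_eq_finite_toFinset_sum _ (Set.toFinite _), Finset.card_eq_sum_ones, Nat.cast_sum]
  refine Finset.sum_le_sum fun χ hχ => ?_
  rw [Set.Finite.mem_toFinset] at hχ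
  have := D.a_ne χ hχ.1 hχ.2
  rw [Nat.cast_one]
  exact (sq_pos_of_ne_zero this)

theorem card_X_le : Nat.card D.X ≤ m := by
  have h1 := D.norm_X
  have h2 := D.card_X_le_sum
  have h3 : (2 : ℤ) * D.d ^ 2 ≤ (D.t : ℤ) * D.d ^ 2 :=
    mul_le_mul_of_nonneg_right (by exact_mod_cast D.one_lt) (sq_nonneg _)
  have h4 : D.δ * D.d ≤ D.d ^ 2 := by
    rcases D.sign with h | h <;> rw [h] <;>
      rcases lt_trichotomy D.d 0 with h' | h' | h' <;> nlinarith
  exact_mod_cast (by linarith : (Nat.card D.X : ℤ) ≤ m)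

theorem regular_eq (i j : Fin D.t) {g : G} (hg : ¬ p ∣ orderOf g) :
    (D.μ i : G → ℂ) g = (D.μ j : G → ℂ) g := by
  have h := (D.regular i g hg).symm.trans (D.regular j g hg)
  refine mul_left_cancel₀ ?_ h
  rcases D.sign with h | h <;> simp [h]

theorem regular_X (i : Fin D.t) {g : G} (hg : ¬ p ∣ orderOf g) :
    ((D.t : ℂ) * D.d - D.δ) * (D.μ i : G → ℂ) g +
      ∑ᶠ χ ∈ D.X, (D.a χ : ℂ) * (χ : G → ℂ) g = 0 := by
  have h := D.regular i g hg
  rw [D.sum_split fun χ => (D.a χ : ℂ) * (χ : G → ℂ) g,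
    Finset.sum_congr rfl (g := fun _ => (D.d : ℂ) * (D.μ i : G → ℂ) g)
      fun j _ => by rw [D.a_μ j, D.regular_eq i j hg],
    Finset.sum_const, Finset.card_univ, Fintype.card_fin, nsmul_eq_mul] at h
  linear_combination h

theorem exists_idx {η : IrrCharacter G} (h : η ∈ Set.range D.μ) :
    ∃ ψ : Lin P, ψ ≠ 1 ∧ D.μ (D.idx ψ) = η := by
  obtain ⟨i, rfl⟩ := h
  obtain ⟨ψ, hψ, e⟩ := D.idx_surj i
  exact ⟨ψ, hψ, by rw [e]⟩

theorem orbit_eq (ψ : Lin P) : {ψ' : Lin P | Rel P ψ ψ'} =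
    {ψ' : Lin P | ∃ n : G, n ∈ Subgroup.normalizer ((P : Subgroup G) : Set G) ∧
      ∀ w w' : ↥(P : Subgroup G), (w' : G) = n * w * n⁻¹ → ψ' w' = ψ w} :=
  Set.ext fun ψ' => rel_iff P ψ ψ'

theorem idx_eq_of_conj {ψ ψ' : Lin P} (hψ : ψ ≠ 1)
    (h : ∃ n : G, n ∈ Subgroup.normalizer ((P : Subgroup G) : Set G) ∧
      ∀ w w' : ↥(P : Subgroup G), (w' : G) = n * w * n⁻¹ → ψ' w' = ψ w) :
    D.idx ψ' = D.idx ψ := by
  have hr := (rel_iff P ψ ψ').2 h
  obtain ⟨n, rfl⟩ := hr
  exact ((D.idx_iff _ _ hψ (twist_ne_one P n hψ)).2 ⟨n, rfl⟩).symm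

end Data

end CfsgLib.Blk.Exc
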