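import Cfsg.Agent.Blk.BrauerCorr

/-!
Brauer's first main theorem.
-/

set_option autoImplicit false
set_option linter.style.haveILetI false
set_option linter.unusedSectionVars false

namespace CfsgLib.Blk

open Cfsg CfsgLib.Char MonoidAlgebra Finset

universe u

variable {G : Type u} [Group G] [Finite G] {M : Ideal AlgInt} [M.IsPrime] {p : ℕ} [Fact p.Prime]

theorem card_subgroupOf_eq_inf (K H : Subgroup G) :
    Nat.card (K.subgroupOf H) = Nat.card (K ⊓ H : Subgroup G) := by
  rw [← Subgroup.inf_subgroupOf_right, Nat.card_congr (Subgroup.subgroupOfEquivOfLe inf_le_right).toEquiv]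

theorem centralizer_subgroupOf (H : Subgroup G) (h : H) :
    Subgroup.centralizer ({h} : Set H) =
      (Subgroup.centralizer ({(h : G)} : Set G)).subgroupOf H := by
  ext x
  rw [Subgroup.mem_subgroupOf, Subgroup.mem_centralizer_singleton_iff,
    Subgroup.mem_centralizer_singleton_iff]
  exact ⟨fun e => congrArg Subtype.val e, fun e => Subtype.ext e⟩

theorem mem_centralizer_subgroupOf {P H : Subgroup G} (hPH : P ≤ H) (h : H) :
    h ∈ Subgroup.centralizer ((P.subgroupOf H : Subgroup H) : Set H) ↔
      (h : G) ∈ Subgroup.centralizer (P : Set G) := by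
  constructor
  · exact fun hh y hy => congrArg Subtype.val (hh ⟨y, hPH hy⟩ (Subgroup.mem_subgroupOf.2 hy))
  · exact fun hh y hy => Subtype.ext (hh (y : G) (Subgroup.mem_subgroupOf.1 hy))

/-- With `H` between `D C(D)` and `N(D)`, every block inducing a block with defect group `D` has
defect group `D`. -/
theorem defectGroup_of_induced (hM : IsPModular p M) {D H : Subgroup G} (hDH : D ≤ H)
    (hHN : H ≤ Subgroup.normalizer (D : Set G)) {b : Set (IrrCharacter H)}
    {B : Set (IrrCharacter G)} (hind : IsInducedBlock M H b B) (hD : IsDefectGroup p M B D) :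
    IsDefectGroup p M b (D.subgroupOf H) := by
  haveI : (D.subgroupOf H).Normal := Subgroup.normal_subgroupOf_of_le_normalizer hHN
  obtain ⟨E, hE⟩ := exists_isDefectGroup hM hind.1
  have h1 : D.subgroupOf H ≤ E := normal_pgroup_le_defectGroup hM hind.1 _
    ((IsDefectGroup.isPGroup hD).of_equiv (Subgroup.subgroupOfEquivOfLe hDH).symm) hE
  obtain ⟨F, hF, hEF⟩ := exists_defectGroup_ge hM hind hE
  have h2 := Subgroup.card_le_of_le hEF
  rw [Subgroup.card_map_of_injective Subtype.val_injective, card_defectGroup hM hind.2.1 hF,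
    ← card_defectGroup hM hind.2.1 hD] at h2
  have h3 : E = D.subgroupOf H := (Subgroup.eq_of_le_of_card_ge h1
    (by rw [Nat.card_congr (Subgroup.subgroupOfEquivOfLe hDH).toEquiv]; exact h2)).symm
  exact h3 ▸ hE

/-- Some block between `D C(D)` and `N(D)` induces a block with defect group `D`. -/
theorem exists_induced_of_defectGroup (hM : IsPModular p M) {D H : Subgroup G} (hDH : D ≤ H)
    (hC : Subgroup.centralizer (D : Set G) ≤ H) (hHN : H ≤ Subgroup.normalizer (D : Set G))
    {B : Set (IrrCharacter G)} (hB : IsPBlock M B) (hD : IsDefectGroup p M B D) :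
    ∃ b : Set (IrrCharacter H), IsInducedBlock M H b B ∧
      IsDefectGroup p M b (D.subgroupOf H) := by
  obtain ⟨g, hg, hs⟩ := isDefectGroup_iff.1 hD
  have hgC : g ∈ Subgroup.centralizer (D : Set G) := fun y hy =>
    (Subgroup.mem_centralizer_singleton_iff.1 (hs.le hy))
  obtain ⟨b, hb, -⟩ := exists_induced_of_unit hM D H (IsDefectGroup.isPGroup hD) hDH hC hHN hB
    ⟨g, hC hgC⟩ hgC hg.2.1
  exact ⟨b, hb, defectGroup_of_induced hM hDH hHN hb hD⟩

/-- Conjugate elements with defect group `D` in `C(D)` are conjugate in `N(D)`. -/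
theorem conj_in_normalizer {D : Subgroup G} {c h : G}
    (hs : IsSylowIn p D (Subgroup.centralizer ({c} : Set G)))
    (hh : h ∈ Subgroup.centralizer (D : Set G)) (hch : IsConj c h) :
    ∃ n ∈ Subgroup.normalizer (D : Set G), n * c * n⁻¹ = h := by
  obtain ⟨x, rfl⟩ := isConj_iff.1 hch
  have h1 := hs.centralizer_conj x
  have h2 : IsSylowIn p D (Subgroup.centralizer ({x * c * x⁻¹} : Set G)) :=
    ⟨fun y hy => Subgroup.mem_centralizer_singleton_iff.2 (hh y hy),
      by rw [← card_map_conj D x]; exact h1.card⟩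
  obtain ⟨y, hy, hye⟩ := h2.exists_conj_eq h1
  refine ⟨y * x, ?_, ?_⟩
  · rw [Subgroup.mem_normalizer_iff]
    intro z
    rw [Subgroup.map_map] at hye
    have hz : y * x * z * (y * x)⁻¹ ∈
        D.map ((MulAut.conj y).toMonoidHom.comp (MulAut.conj x).toMonoidHom) ↔ z ∈ D := by
      constructor
      · rintro ⟨w, hw, he⟩
        have : w = z := by simpa [mul_assoc] using he
        exact this ▸ hw
      · intro hz; exact ⟨z, hz, by simp [mul_assoc]⟩
    rw [hye] at hz
    exact hz.symm
  · have hy' := Subgroup.mem_centralizer_singleton_iff.1 hy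
    calc y * x * c * (y * x)⁻¹ = y * (x * c * x⁻¹) * y⁻¹ := by group
      _ = x * c * x⁻¹ := by rw [hy']; group

section normalizer

variable {D : Subgroup G}

theorem isSylowIn_of_normalizer (hDp : IsPGroup p D) (c : Subgroup.normalizer (D : Set G))
    (hs : IsSylowIn p (D.subgroupOf (Subgroup.normalizer (D : Set G)))
      (Subgroup.centralizer ({c} : Set (Subgroup.normalizer (D : Set G))))) :
    IsSylowIn p D (Subgroup.centralizer ({(c : G)} : Set G)) := by
  have hle : D ≤ Subgroup.normalizer (D : Set G) := Subgroup.le_normalizer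
  refine isSylowIn_of_inf_normalizer ⟨fun d hd => ⟨?_, hle hd⟩, ?_⟩
  · exact Subgroup.mem_centralizer_singleton_iff.2 (congrArg Subtype.val
      (Subgroup.mem_centralizer_singleton_iff.1 (hs.le (x := ⟨d, hle hd⟩)
        (Subgroup.mem_subgroupOf.2 hd))))
  · rw [← Nat.card_congr (Subgroup.subgroupOfEquivOfLe hle).toEquiv, hs.card, centralizer_subgroupOf,
      card_subgroupOf_eq_inf]

/-- First main theorem: the induced block keeps the defect group. -/
theorem defectGroup_induced_normalizer (hM : IsPModular p M) (hDp : IsPGroup p D)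
    {b : Set (IrrCharacter (Subgroup.normalizer (D : Set G)))} {B : Set (IrrCharacter G)}
    (hind : IsInducedBlock M (Subgroup.normalizer (D : Set G)) b B)
    (hbD : IsDefectGroup p M b (D.subgroupOf (Subgroup.normalizer (D : Set G)))) :
    IsDefectGroup p M B D := by
  classical
  set N := Subgroup.normalizer (D : Set G) with hN
  have hle : D ≤ N := Subgroup.le_normalizer
  obtain ⟨c, hc, hs⟩ := isDefectGroup_iff.1 hbD
  have hsG := isSylowIn_of_normalizer hDp c hs
  obtain ⟨-, hB, hω⟩ := (isInducedBlock_iff N).1 hind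
  obtain ⟨ξ, hξ⟩ := isPBlock_nonempty hind.1
  obtain ⟨χ, hχ⟩ := isPBlock_nonempty hB
  have hcC : (c : G) ∈ Subgroup.centralizer (D : Set G) := fun y hy =>
    Subgroup.mem_centralizer_singleton_iff.1 (hsG.le hy)
  have hu : ¬ MemLocalIdeal M (centralChar (χ : G → ℂ) (c : G)) := by
    rw [← red_centralChar_ne_zero_iff χ.2, ← omegaBar_classSum χ.2,
      ← hω ξ hξ χ hχ _ (isClassCoeff_classSum _ _),
      omegaBar_resA_brMap hM D N hDp hle le_rfl ξ.2 (isClassCoeff_classSum _ _),
      omegaBar_of_redA_eq ξ.2
        (isClassCoeff_resA_brMap D N le_rfl (isClassCoeff_classSum _ _))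
        (isClassCoeff_classSum (locRing M) c) ?_,
      omegaBar_classSum ξ.2]
    · exact (red_centralChar_ne_zero_iff ξ.2 c).2 (hc.2.2 ξ hξ)
    · refine congrArg redA (MonoidAlgebra.coeff_injective (Finsupp.ext fun h => ?_))
      rw [coeff_resA, coeff_brMap, coeff_classSum, coeff_classSum]
      by_cases h1 : IsConj c h
      · obtain ⟨n, hn⟩ := isConj_iff.1 h1
        have hh : (h : G) ∈ Subgroup.centralizer (D : Set G) := by
          intro y hy
          have hy' : (n : G)⁻¹ * y * n ∈ D := by
            simpa using (Subgroup.mem_normalizer_iff.1 (inv_mem n.2) y).1 hy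
          have h3 := hcC _ hy'
          have he : (h : G) = n * c * (n : G)⁻¹ := by rw [← hn]; simp
          rw [he]
          calc y * ((n : G) * c * (n : G)⁻¹) = n * (((n : G)⁻¹ * y * n) * c) * (n : G)⁻¹ := by group
            _ = (n : G) * c * (n : G)⁻¹ * y := by rw [h3]; group
        rw [if_pos hh, if_pos h1, if_pos (isConj_iff.2 ⟨(n : G), by rw [← hn]; simp⟩)]
      · rw [if_neg h1]
        split_ifs with hh h2
        · obtain ⟨n, hn, hne⟩ := conj_in_normalizer hsG hh h2
          exact absurd (isConj_iff.2 ⟨⟨n, hn⟩, Subtype.ext hne⟩) h1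
        · rfl
        · rfl
  obtain ⟨E, hE, hDE⟩ := exists_defectGroup_ge hM hind hbD
  rw [Subgroup.map_subgroupOf_eq_of_le hle] at hDE
  obtain ⟨x, hx⟩ := minmax_ge hM hB hE hχ (c : G) hu hsG
  have h2 := Subgroup.card_le_of_le hx
  rw [Subgroup.card_map_of_injective (MulEquiv.injective _)] at h2
  exact (Subgroup.eq_of_le_of_card_ge hDE h2) ▸ hE

/-- First main theorem: uniqueness. -/
theorem induced_normalizer_unique (hM : IsPModular p M)
    {b b' : Set (IrrCharacter (Subgroup.normalizer (D : Set G)))} {B : Set (IrrCharacter G)}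
    (hD : IsDefectGroup p M B D)
    (hind : IsInducedBlock M (Subgroup.normalizer (D : Set G)) b B)
    (hind' : IsInducedBlock M (Subgroup.normalizer (D : Set G)) b' B) : b = b' := by
  classical
  set N := Subgroup.normalizer (D : Set G) with hN
  haveI : Fintype (ConjClasses N) := Fintype.ofFinite _
  have hle : D ≤ N := Subgroup.le_normalizer
  have hDp := IsDefectGroup.isPGroup hD
  have hbD := defectGroup_of_induced hM hle le_rfl hind hD
  obtain ⟨hb, hB, hω⟩ := (isInducedBlock_iff N).1 hind
  obtain ⟨hb', -, hω'⟩ := (isInducedBlock_iff N).1 hind'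
  obtain ⟨ξ, hξ⟩ := isPBlock_nonempty hb
  obtain ⟨ξ', hξ'⟩ := isPBlock_nonempty hb'
  obtain ⟨χ, hχ⟩ := isPBlock_nonempty hB
  set e := blockIdem hM hb with he
  have hecls : IsClassCoeff e := isClassCoeff_blockIdem hM hb
  set good : N → Prop := fun c => (c : G) ∈ Subgroup.centralizer (D : Set G) ∧
    IsSylowIn p D (Subgroup.centralizer ({(c : G)} : Set G)) with hgood
  set S : Finset (ConjClasses N) := Finset.univ.filter fun C => good C.out with hS
  set a : MonoidAlgebra (locRing M) G :=
    ∑ C ∈ S, (e.coeff C.out) • classSum (locRing M) ((C.out : N) : G) with hadef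
  have ha : IsClassCoeff a :=
    isClassCoeff_sum _ _ fun C _ => (isClassCoeff_classSum _ _).smul _
  have hgoodconj : ∀ c h : N, IsConj c h → good c → good h := by
    intro c h hch hc
    obtain ⟨n, hn⟩ := isConj_iff.1 hch
    have hh : (h : G) = n * c * (n : G)⁻¹ := by rw [← hn]; simp
    have hmem : (h : G) ∈ Subgroup.centralizer (D : Set G) := by
      intro y hy
      have hy' : (n : G)⁻¹ * y * n ∈ D := by
        simpa using (Subgroup.mem_normalizer_iff.1 (inv_mem n.2) y).1 hy
      have h3 := hc.1 _ hy'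
      rw [hh]
      calc y * ((n : G) * c * (n : G)⁻¹) = n * (((n : G)⁻¹ * y * n) * c) * (n : G)⁻¹ := by group
        _ = (n : G) * c * (n : G)⁻¹ * y := by rw [h3]; group
    refine ⟨hmem, fun y hy => Subgroup.mem_centralizer_singleton_iff.2 (hmem y hy), ?_⟩
    have h4 := (hc.2.centralizer_conj (n : G)).card
    rwa [card_map_conj, ← hh] at h4
  -- the reduction of `a`
  have hred : redA (resA N (brMap D a)) = redA (brMap (D.subgroupOf N) e) := by
    refine MonoidAlgebra.coeff_injective (Finsupp.ext fun h => ?_)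
    rw [coeff_redA, coeff_redA, coeff_resA, coeff_brMap, coeff_brMap]
    by_cases hh : (h : G) ∈ Subgroup.centralizer (D : Set G)
    swap
    · rw [if_neg hh, if_neg (fun h' => hh ((mem_centralizer_subgroupOf hle h).1 h'))]
    rw [if_pos hh, if_pos ((mem_centralizer_subgroupOf hle h).2 hh), hadef,
      MonoidAlgebra.coeff_sum, Finset.sum_apply', map_sum]
    simp only [MonoidAlgebra.coeff_smul, Finsupp.smul_apply, smul_eq_mul, coeff_classSum]
    by_cases hg : good h
    · have hout : IsConj (ConjClasses.mk h).out h := ConjClasses.mk_eq_mk_iff_isConj.1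
        (Quotient.out_eq (ConjClasses.mk h))
      rw [Finset.sum_eq_single (ConjClasses.mk h)]
      · obtain ⟨n, hn⟩ := isConj_iff.1 hout
        rw [if_pos (isConj_iff.2 ⟨(n : G), by simpa using congrArg Subtype.val hn⟩), mul_one]
        congr 1
        exact (hecls _ n).symm.trans (congrArg (fun k => e.coeff k) hn)
      · intro C hC hne
        rw [if_neg fun hc => hne ?_]
        · simp
        · obtain ⟨n, hn, hne'⟩ := conj_in_normalizer (Finset.mem_filter.1 hC).2.2 hh hc
          exact (Quotient.out_eq C).symm.trans (ConjClasses.mk_eq_mk_iff_isConj.2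
            (isConj_iff.2 ⟨⟨n, hn⟩, Subtype.ext hne'⟩ : IsConj C.out h))
      · intro hC
        refine absurd ?_ hC
        simp only [hS, Finset.mem_filter, Finset.mem_univ, true_and]
        exact hgoodconj h _ hout.symm hg
    · rw [Finset.sum_eq_zero fun C hC => ?_, eq_comm, residue_eq_zero_iff, he, coeff_blockIdem]
      · by_contra hu
        obtain ⟨Q, hQ⟩ := exists_isSylowIn (p := p) (Subgroup.centralizer ({h} : Set N))
        obtain ⟨x, hx⟩ := minmax_le hM hb hbD h hu hQ.isPGroup hQ.le
        have hDQ : D.subgroupOf N ≤ Subgroup.centralizer ({h} : Set N) := fun d hd =>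
          Subgroup.mem_centralizer_singleton_iff.2 (Subtype.ext (hh _ (Subgroup.mem_subgroupOf.1 hd)))
        have hp' : IsPGroup p (D.subgroupOf N) := hDp.of_equiv (Subgroup.subgroupOfEquivOfLe hle).symm
        obtain ⟨R, hR, hDR⟩ := exists_isSylowIn_ge hp' hDQ
        have h1 := Subgroup.card_le_of_le hx
        rw [Subgroup.card_map_of_injective (MulEquiv.injective _), hQ.card, ← hR.card] at h1
        refine hg ⟨hh, isSylowIn_of_normalizer hDp h ?_⟩
        exact (Subgroup.eq_of_le_of_card_ge hDR h1) ▸ hR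
      · rw [if_neg fun hc => ?_]
        · simp
        · obtain ⟨n, hn, hne'⟩ := conj_in_normalizer (Finset.mem_filter.1 hC).2.2 hh hc
          exact hg (hgoodconj C.out h (isConj_iff.2 ⟨⟨n, hn⟩, Subtype.ext hne'⟩)
            (Finset.mem_filter.1 hC).2)
  have hp' : IsPGroup p (D.subgroupOf N) := hDp.of_equiv (Subgroup.subgroupOfEquivOfLe hle).symm
  haveI : (D.subgroupOf N).Normal := Subgroup.normal_subgroupOf_of_le_normalizer le_rfl
  have key : ∀ η : IrrCharacter N, omegaBar (η : N → ℂ) (resA N a) = omegaBar (η : N → ℂ) e := by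
    intro η
    have hbr : IsClassCoeff (brMap (D.subgroupOf N) e) := by
      intro g h
      simp only [coeff_brMap, hecls g h]
      refine if_congr ⟨fun hx => ?_, fun hx => ?_⟩ rfl rfl
      · have := (inferInstance : (Subgroup.centralizer
          ((D.subgroupOf N : Subgroup N) : Set N)).Normal).conj_mem _ hx h⁻¹
        simpa [mul_assoc] using this
      · exact (inferInstance : (Subgroup.centralizer
          ((D.subgroupOf N : Subgroup N) : Set N)).Normal).conj_mem _ hx h
    rw [omegaBar_resA_brMap hM D N hDp hle le_rfl η.2 ha,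
      omegaBar_of_redA_eq η.2 (isClassCoeff_resA_brMap D N le_rfl ha) hbr hred, eq_comm,
      ← sub_eq_zero, ← omegaBar_sub η.2 hecls hbr]
    refine omegaBar_eq_zero_of_brMap hM _ hp' η.2 (hecls.sub hbr) ?_
    refine MonoidAlgebra.coeff_injective (Finsupp.ext fun h => ?_)
    rw [coeff_brMap]
    split_ifs with hh
    · simp [coeff_brMap, hh]
    · rfl
  have h1 := key ξ'
  rw [hω' ξ' hξ' χ hχ a ha, ← hω ξ hξ χ hχ a ha, key ξ, he, omegaBar_blockIdem, if_pos hξ,
    omegaBar_blockIdem] at h1
  by_contra hne
  rw [if_neg fun h' => hne (eq_of_mem_of_mem hb hb' h' hξ')] at h1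
  exact one_ne_zero h1

end normalizer

end CfsgLib.Blk
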