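import Cfsg.Agent.Blk.Cover
import Cfsg.Agent.Char.Gallagher

/-!
Blocks covering a block of a normal subgroup and blocks of its stabilizer.
-/

set_option autoImplicit false
set_option linter.style.haveILetI false
set_option linter.unusedSectionVars false

namespace CfsgLib.FongReynolds

open Cfsg CfsgLib.Char CfsgLib.Blk CfsgLib.Blk.Pair
open scoped ComplexConjugate

universe u

variable {M : Ideal AlgInt} [M.IsPrime] {p : ℕ} [Fact p.Prime]
variable {G : Type u} [Group G] [Fintype G] {N : Subgroup G} [hN : N.Normal] [Fintype N]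

/-- A member of `b` occurs in the restriction. -/
def Cov (b : Set (IrrCharacter N)) {T : Subgroup G} (hNT : N ≤ T) (ψ : T → ℂ) : Prop :=
  ∃ θ ∈ b, classInner (fun n : N => ψ ⟨(n : G), hNT n.2⟩) (θ : N → ℂ) ≠ 0

theorem resA_inA_mul (T : Subgroup G) (a : KA M T) (Z : KA M G) :
    resA T (inA T a * Z) = a * resA T Z := by
  classical
  haveI : Fintype T := Fintype.ofFinite _
  refine MonoidAlgebra.coeff_injective (Finsupp.ext fun t => ?_)
  rw [coeff_resA, coeff_mul_sum, coeff_mul_sum, sum_subgroup T _ fun y hy => by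
    rw [coeff_inA_of_notMem T a hy, zero_mul]]
  refine Finset.sum_congr rfl fun k _ => ?_
  rw [coeff_inA, coeff_resA]
  rfl

variable (hM : IsPModular p M) {b : Set (IrrCharacter N)} (hb : IsPBlock M b) {T : Subgroup G}
  (hT : ∀ g : G, g ∈ T ↔ ∀ θ ∈ b, ∀ θ' : IrrCharacter N,
    (∀ n : N, (θ' : N → ℂ) n = (θ : N → ℂ) ⟨g * n * g⁻¹, hN.conj_mem n n.2 g⟩) → θ' ∈ b)
  (hNT : N ≤ T)

include hM hb in
theorem cjA_block (y : G) :
    ∃ d : Set (IrrCharacter N), IsPBlock M d ∧ cjA y (inA N (bid M b)) = inA N (bid M d) ∧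
      ∀ θ' : IrrCharacter N, θ' ∈ d ↔ ∃ θ ∈ b, (θ' : N → ℂ) = conjN (θ : N → ℂ) y⁻¹ := by
  have hK : ∀ g, g ∈ N ↔ y⁻¹ * g * y ∈ N := fun g =>
    ⟨fun hg => by simpa using hN.conj_mem g hg y⁻¹,
      fun hg => by simpa [mul_assoc] using hN.conj_mem _ hg y⟩
  refine ⟨_, isPBlock_mvSet (cjIso y hK) hb, (inA_bid_mvSet y hK b).symm, fun θ' => ?_⟩
  have key : ∀ θ : IrrCharacter N, (mvChar (cjIso y hK) θ : N → ℂ) = conjN (θ : N → ℂ) y⁻¹ :=
    fun θ => funext fun n => by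
      rw [mvChar_apply]
      exact congrArg (θ : N → ℂ) (Subtype.ext (by rw [coe_cjIso_symm]; simp))
  constructor
  · rintro ⟨θ, hθ, rfl⟩; exact ⟨θ, hθ, key θ⟩
  · rintro ⟨θ, hθ, he⟩; exact ⟨θ, hθ, Subtype.ext ((key θ).trans he.symm)⟩

include hM hb hT in
/-- The stabilizer of the block is that of its idempotent. -/
theorem mem_iff (g : G) : g ∈ T ↔ cjA g (inA N (bid M b)) = inA N (bid M b) := by
  obtain ⟨d, hd, he, hmem⟩ := cjA_block hM hb g
  rw [he, (inA_injective N).eq_iff]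
  constructor
  · intro hg
    have hg' := (hT g⁻¹).1 (inv_mem hg)
    obtain ⟨θ, hθ⟩ := isPBlock_nonempty hb
    let θ' : IrrCharacter N := ⟨conjN (θ : N → ℂ) g⁻¹, irr_conjN θ.2 _⟩
    rw [eq_of_mem_of_mem hd hb ((hmem θ').2 ⟨θ, hθ, rfl⟩) (hg' θ hθ θ' fun n => rfl)]
  · intro h
    have h1 : d = b := bid_inj hM hd hb h
    refine inv_inv g ▸ inv_mem ((hT g⁻¹).2 fun θ hθ θ' hθ' => ?_)
    exact h1 ▸ (hmem θ').2 ⟨θ, hθ, funext hθ'⟩

include hM hb hT in
theorem inertia_le {θ : IrrCharacter N} (hθ : θ ∈ b) : inertia (θ : N → ℂ) ≤ T := by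
  intro g hg
  rw [mem_iff hM hb hT]
  obtain ⟨d, hd, he, hmem⟩ := cjA_block hM hb g
  rw [he, eq_of_mem_of_mem hd hb ((hmem θ).2 ⟨θ, hθ, ((inv_mem hg : g⁻¹ ∈ inertia (θ : N → ℂ))).symm⟩) hθ]

/-- The idempotent of `b` in the group algebra of `T`. -/
noncomputable def eT (M : Ideal AlgInt) [M.IsPrime] (b : Set (IrrCharacter N)) (T : Subgroup G) :
    KA M T := resA T (inA N (bid M b))

include hNT in
theorem inA_eT : inA T (eT M b T) = inA N (bid M b) :=
  mapDomain_resA T fun g hg => coeff_inA_of_notMem N _ fun h => hg (hNT h)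

include hM hb hT in
theorem isClassCoeff_eT : IsClassCoeff (eT M b T) := by
  intro t s
  rw [eT, coeff_resA, coeff_resA]
  have h := congrArg (fun a => MonoidAlgebra.coeff a ((s * t * s⁻¹ : T) : G))
    ((mem_iff hM hb hT (s : G)).1 s.2)
  simp only [coeff_cjA] at h
  rw [← h]
  congr 1
  simp [mul_assoc]

include hM hb hT hNT

theorem lam_eT [Fintype T] {ψ : T → ℂ} (hψ : IsIrrCharacter T ψ) (θ : IrrCharacter N)
    [Decidable (θ ∈ b)] (hcon : classInner (fun n : N => ψ ⟨(n : G), hNT n.2⟩) (θ : N → ℂ) ≠ 0) :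
    lam ψ (eT M b T) = if θ ∈ b then 1 else 0 := by
  classical
  haveI : (N.subgroupOf T).Normal := hN.subgroupOf T
  haveI : Fintype (N.subgroupOf T) := Fintype.ofFinite _
  set e : N ≃* N.subgroupOf T := (Subgroup.subgroupOfEquivOfLe hNT).symm with he
  have hcon' : classInner (fun x : N.subgroupOf T => ψ x) (mvChar e θ : N.subgroupOf T → ℂ) ≠ 0 := by
    rw [← classInner_mulEquiv e,
      show (fun x : N.subgroupOf T => ψ x) ∘ e = fun n : N => ψ ⟨(n : G), hNT n.2⟩ from rfl,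
      show (mvChar e θ : N.subgroupOf T → ℂ) ∘ e = (θ : N → ℂ) from funext fun n => by
        rw [Function.comp_apply, mvChar_apply, MulEquiv.symm_apply_apply]]
    exact hcon
  rw [← lam_constituent hψ (mvChar e θ).2 hcon' (isClassCoeff_eT hM hb hT) fun t ht => by
    rw [eT, coeff_resA]; exact coeff_inA_of_notMem N _ ht]
  have hres : resA (N.subgroupOf T) (eT M b T) = bid M (mvSet e b) := by
    refine MonoidAlgebra.coeff_injective (Finsupp.ext fun n => ?_)
    obtain ⟨k, rfl⟩ := e.surjective n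
    rw [coeff_resA, eT, coeff_resA, coeff_bid_mvSet]
    exact coeff_inA N (bid M b) k
  rw [hres, lam_bid hM (isPBlock_mvSet e hb)]
  exact if_congr (mem_mvSet e) rfl rfl

theorem lam_eT_of_cov [Fintype T] {ψ : T → ℂ} (hψ : IsIrrCharacter T ψ) (hcov : Cov b hNT ψ) :
    lam ψ (eT M b T) = 1 := by
  classical
  obtain ⟨θ, hθ, hcon⟩ := hcov
  rw [lam_eT hM hb hT hNT hψ θ hcon, if_pos hθ]

theorem cov_of_lam [Fintype T] {ψ : T → ℂ} (hψ : IsIrrCharacter T ψ)
    (h : lam ψ (eT M b T) = 1) : Cov b hNT ψ := by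
  classical
  haveI : (N.subgroupOf T).Normal := hN.subgroupOf T
  haveI : Fintype (N.subgroupOf T) := Fintype.ofFinite _
  set e : N ≃* N.subgroupOf T := (Subgroup.subgroupOfEquivOfLe hNT).symm with he
  obtain ⟨φ, hφi, hφ⟩ := exists_constituent_res (N := N.subgroupOf T) hψ
  refine ⟨mvChar e.symm ⟨φ, hφi⟩, ?_⟩
  have hcon : classInner (fun n : N => ψ ⟨(n : G), hNT n.2⟩) (mvChar e.symm ⟨φ, hφi⟩ : N → ℂ) ≠ 0 := by
    rw [← classInner_mulEquiv e,
      show (fun x : N.subgroupOf T => ψ x) ∘ e = fun n : N => ψ ⟨(n : G), hNT n.2⟩ from rfl,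
      show φ ∘ e = (mvChar e.symm ⟨φ, hφi⟩ : N → ℂ) from funext fun n => by
        rw [mvChar_apply]; rfl] at hφ
    exact hφ
  refine ⟨?_, hcon⟩
  by_contra hn
  rw [lam_eT hM hb hT hNT hψ _ hcon, if_neg hn] at h
  exact zero_ne_one h

theorem cov_of_sameBlock [Fintype T] {ψ ψ' : IrrCharacter T} (h : SameBlock M (ψ : T → ℂ) (ψ' : T → ℂ))
    (hcov : Cov b hNT (ψ : T → ℂ)) : Cov b hNT (ψ' : T → ℂ) :=
  cov_of_lam hM hb hT hNT ψ'.2 (by
    rw [← lam_congr ψ.2 ψ'.2 h (isClassCoeff_eT hM hb hT)]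
    exact lam_eT_of_cov hM hb hT hNT ψ.2 hcov)

/-- Induction from the stabilizer is irreducible over `b`. -/
theorem induce_irr [Fintype T] {ψ : T → ℂ} (hψ : IsIrrCharacter T ψ) (hcov : Cov b hNT ψ) :
    IsIrrCharacter G (indFun T ψ) ∧
      ∃ θ ∈ b, classInner (fun n : N => indFun T ψ n) (θ : N → ℂ) ≠ 0 := by
  classical
  obtain ⟨θ, hθ, hc⟩ := hcov
  haveI : (N.subgroupOf T).Normal := hN.subgroupOf T
  haveI : Fintype (N.subgroupOf T) := Fintype.ofFinite _
  set e : N ≃* N.subgroupOf T := (Subgroup.subgroupOfEquivOfLe hNT).symm with he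
  set θ' := mvChar e θ with hθ'
  have hcon' : classInner (fun x : N.subgroupOf T => ψ x) (θ' : N.subgroupOf T → ℂ) =
      classInner (fun n : N => ψ ⟨(n : G), hNT n.2⟩) (θ : N → ℂ) := by
    rw [← classInner_mulEquiv e,
      show (θ' : N.subgroupOf T → ℂ) ∘ e = (θ : N → ℂ) from funext fun n => by
        rw [hθ', Function.comp_apply, mvChar_apply, MulEquiv.symm_apply_apply]]
    rfl
  have hI : inertia (θ' : N.subgroupOf T → ℂ) = (inertia (θ : N → ℂ)).subgroupOf T := by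
    ext t
    rw [Subgroup.mem_subgroupOf, mem_inertia', mem_inertia']
    constructor
    · intro h n
      have h1 := h (e n)
      rw [hθ', mvChar_apply, mvChar_apply, MulEquiv.symm_apply_apply] at h1
      exact h1
    · intro h n
      obtain ⟨k, rfl⟩ := e.surjective n
      rw [hθ', mvChar_apply, mvChar_apply, MulEquiv.symm_apply_apply]
      exact h k
  have hidx : (inertia (θ' : N.subgroupOf T → ℂ)).index * T.index = (inertia (θ : N → ℂ)).index := by
    rw [hI]; exact Subgroup.relIndex_mul_index (inertia_le hM hb hT hθ)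
  have hdT := degree_clifford hψ θ'.2 (hcon' ▸ hc)
  have hθ1 : (θ' : N.subgroupOf T → ℂ) 1 = (θ : N → ℂ) 1 := by
    rw [hθ', mvChar_apply, map_one]
  rw [hcon', hθ1] at hdT
  obtain ⟨a, ha⟩ := inner_char_irr
    (isCharacter_comp (Subgroup.inclusion hNT) (isCharacter_of_isIrr hψ)) θ.2
  change classInner (fun n : N => ψ ⟨(n : G), hNT n.2⟩) (θ : N → ℂ) = (a : ℂ) at ha
  have hind := isCharacter_indFun T (isCharacter_of_isIrr hψ)
  obtain ⟨χ, hχ⟩ := exists_constituent hind fun e' => by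
    have := congrFun e' 1
    rw [indFun_one] at this
    rcases mul_eq_zero.mp this with h | h
    · exact T.index_ne_zero_of_finite (by exact_mod_cast h)
    · exact irr_one_ne_zero hψ h
  have hdiff := isCharacter_sub_constituent hind χ.2 hχ
  have hcons : classInner (fun t : T => (χ : G → ℂ) t) ψ ≠ 0 := by
    rw [← classInner_conj, ← frobenius T ψ (classFun_of_irr χ.2)]
    intro e'
    exact hχ (by simpa using congrArg conj e')
  have hrest := isCharacter_sub_constituent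
    (isCharacter_restrict T (isCharacter_of_isIrr χ.2)) hψ hcons
  obtain ⟨c, hc2⟩ := inner_char_irr (isCharacter_comp (Subgroup.inclusion hNT) hrest) θ.2
  have hE : classInner (fun n : N => (χ : G → ℂ) n) (θ : N → ℂ) = ((a + c : ℕ) : ℂ) := by
    rw [Nat.cast_add, ← ha, ← hc2, ← classInner_add_left]
    congr 1
    funext n
    simp [Subgroup.inclusion]
  have ha0 : a ≠ 0 := fun h => hc (by rw [ha, h, Nat.cast_zero])
  have hconχ : classInner (fun n : N => (χ : G → ℂ) n) (θ : N → ℂ) ≠ 0 := by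
    rw [hE]; exact_mod_cast (by omega : a + c ≠ 0)
  have hd := degree_clifford χ.2 θ.2 hconχ
  obtain ⟨m, hm⟩ := charDegree_aux hdiff
  obtain ⟨d, hd0, hθd⟩ := irr_deg θ.2
  rw [Pi.sub_apply, indFun_one, hd, hE, hdT, ha, hθd, ← hidx] at hm
  have hnat : T.index * (a * (inertia (θ' : N.subgroupOf T → ℂ)).index * d) =
      m + (a + c) * ((inertia (θ' : N.subgroupOf T → ℂ)).index * T.index) * d := by
    have : ((T.index * (a * (inertia (θ' : N.subgroupOf T → ℂ)).index * d) : ℕ) : ℂ) =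
        ((m + (a + c) * ((inertia (θ' : N.subgroupOf T → ℂ)).index * T.index) * d : ℕ) : ℂ) := by
      push_cast at hm ⊢; linear_combination hm
    exact_mod_cast this
  have hm0 : m = 0 := by
    have h2 : (a + c) * ((inertia (θ' : N.subgroupOf T → ℂ)).index * T.index) * d =
        T.index * (a * (inertia (θ' : N.subgroupOf T → ℂ)).index * d) +
          c * ((inertia (θ' : N.subgroupOf T → ℂ)).index * T.index) * d := by ring
    omega
  have heq : indFun T ψ = (χ : G → ℂ) := by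
    refine sub_eq_zero.mp ((char_eq_zero_iff hdiff).mp ?_)
    rw [Pi.sub_apply, indFun_one, hd, hE, hdT, ha, hθd, ← hidx, hm, hm0, Nat.cast_zero]
  exact ⟨heq ▸ χ.2, θ, hθ, by rw [heq]; exact hconχ⟩

/-- Every character over `b` is induced from the stabilizer. -/
theorem exists_induce [Fintype T] {χ : IrrCharacter G} {θ : IrrCharacter N} (hθ : θ ∈ b)
    (hc : classInner (fun n : N => (χ : G → ℂ) n) (θ : N → ℂ) ≠ 0) :
    ∃ ψ : IrrCharacter T, Cov b hNT (ψ : T → ℂ) ∧ indFun T (ψ : T → ℂ) = (χ : G → ℂ) := by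
  classical
  have hres := isCharacter_restrict T (isCharacter_of_isIrr χ.2)
  have hexp := classFun_eq_sum (classFun_of_char hres)
  obtain ⟨ψ, hψ1, hψ2⟩ : ∃ ψ : IrrCharacter T, classInner (fun t : T => (χ : G → ℂ) t) ψ.1 ≠ 0 ∧
      classInner (fun n : N => ψ.1 ⟨n, hNT n.2⟩) (θ : N → ℂ) ≠ 0 := by
    by_contra hcn
    push Not at hcn
    apply hc
    have : (fun n : N => (χ : G → ℂ) n) = ∑ ψ : IrrCharacter T,
        classInner (fun t : T => (χ : G → ℂ) t) ψ.1 • (fun n : N => ψ.1 ⟨n, hNT n.2⟩) := by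
      ext n
      have := congrFun hexp ⟨n, hNT n.2⟩
      simpa using this
    rw [this, classInner_sum_left]
    refine Finset.sum_eq_zero fun ψ _ => ?_
    rw [classInner_smul_left]
    rcases em (classInner (fun t : T => (χ : G → ℂ) t) ψ.1 = 0) with h | h
    · rw [h, zero_mul]
    · rw [hcn ψ h, mul_zero]
  refine ⟨ψ, ⟨θ, hθ, hψ2⟩, ?_⟩
  have hirr := (induce_irr hM hb hT hNT ψ.2 ⟨θ, hθ, hψ2⟩).1
  by_contra hne
  apply hψ1
  rw [← classInner_conj, ← frobenius T ψ.1 (classFun_of_irr χ.2), irr_inner_ne hirr χ.2 hne,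
    map_zero]

omit hT hNT in
theorem mul_orth {y : G} (hy : cjA y (inA N (bid M b)) ≠ inA N (bid M b)) :
    inA N (bid M b) * cjA y (inA N (bid M b)) = 0 := by
  obtain ⟨d, hd, he, -⟩ := cjA_block hM hb y
  rw [he, ← map_mul, bid_mul_ne hM hb hd fun h => hy (by rw [he, h]), map_zero]

/-- A central element of `kT` under `b` is seen by a central element of `kG`. -/
theorem exists_lift [Fintype T] {z : KA M T} (hz : IsClassCoeff z) :
    ∃ Z : KA M G, IsClassCoeff Z ∧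
      eT M b T * resA T Z = z * eT M b T := by
  classical
  set eb := inA N (bid M b) with heb
  set z1 := inA T (z * eT M b T) with hz1
  have hcl := hz.mul (isClassCoeff_eT hM hb hT)
  have hfix : ∀ t ∈ T, cjA t z1 = z1 := by
    intro t ht
    refine MonoidAlgebra.coeff_injective (Finsupp.ext fun g => ?_)
    rw [coeff_cjA]
    by_cases hg : g ∈ T
    · have h := hcl ⟨g, hg⟩ (⟨t, ht⟩⁻¹ : T)
      rw [← coeff_inA T, ← coeff_inA T] at h
      simpa [hz1, mul_assoc] using h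
    · have hg' : t⁻¹ * g * t ∉ T := fun h => hg (by
        have := mul_mem (mul_mem ht h) (inv_mem ht)
        simpa [mul_assoc] using this)
      rw [hz1, coeff_inA_of_notMem T _ hg', coeff_inA_of_notMem T _ hg]
  have heT : inA T (eT M b T) = eb := inA_eT hNT
  have hidem : eT M b T * eT M b T = eT M b T := by
    refine inA_injective T ?_
    rw [map_mul, heT, heb, ← map_mul, bid_mul_self hM hb]
  have he1 : eb * z1 = z1 := by
    rw [hz1, ← heT, ← map_mul, ← mul_assoc, ((isClassCoeff_eT hM hb hT).commute z).eq, mul_assoc, hidem]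
  haveI : Fintype (G ⧸ T) := Fintype.ofFinite _
  let f : G ⧸ T → KA M G := fun q => cjA q.out z1
  have hf : ∀ g : G, f (g : G ⧸ T) = cjA g z1 := by
    intro g
    obtain ⟨t, ht⟩ := QuotientGroup.mk_out_eq_mul T g
    show cjA (QuotientGroup.mk g : G ⧸ T).out z1 = _
    rw [ht, ← cjA_mul_apply, hfix _ t.2]
  refine ⟨∑ q, f q, isClassCoeff_of_cjA fun y => ?_, ?_⟩
  · rw [map_sum]
    refine Fintype.sum_equiv (MulAction.toPerm y) _ _ fun q => ?_
    obtain ⟨g, rfl⟩ := QuotientGroup.mk_surjective q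
    rw [hf, cjA_mul_apply, MulAction.toPerm_apply, MulAction.Quotient.smul_mk, smul_eq_mul, hf]
  · have hmul : eb * ∑ q, f q = z1 := by
      rw [Finset.mul_sum, Finset.sum_eq_single ((1 : G) : G ⧸ T)]
      · rw [hf, cjA_one, he1]
      · intro q _ hq
        obtain ⟨g, rfl⟩ := QuotientGroup.mk_surjective q
        have hg : g ∉ T := fun hg => hq ((QuotientGroup.eq).2 (by simpa using hg))
        rw [hf, ← he1, map_mul, ← mul_assoc,
          mul_orth hM hb (fun h => hg ((mem_iff hM hb hT g).2 h)), zero_mul]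
      · simp
    rw [← resA_inA_mul, heT, hmul, hz1, resA_inA]

/-- A member over `b` is determined up to its block by the induced central character. -/
theorem sameBlock_of_induced [Fintype T] {ψ ψ' : IrrCharacter T} (h1 : Cov b hNT (ψ : T → ℂ))
    (h2 : Cov b hNT (ψ' : T → ℂ))
    (h : ∀ a : MonoidAlgebra (locRing M) G, IsClassCoeff a →
      omegaBar (ψ : T → ℂ) (resA T a) = omegaBar (ψ' : T → ℂ) (resA T a)) :
    SameBlock M (ψ : T → ℂ) (ψ' : T → ℂ) := by
  rw [sameBlock_iff_red ψ.2 ψ'.2]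
  intro t
  have hz := isClassCoeff_classSum (Res M) t
  obtain ⟨Z, hZ, hZe⟩ := exists_lift hM hb hT hNT hz
  have key : ∀ φ : IrrCharacter T, Cov b hNT (φ : T → ℂ) →
      red M (centralChar (φ : T → ℂ) t) = omegaBar (φ : T → ℂ) (resA T (liftA Z)) := by
    intro φ hφ
    have he := isClassCoeff_eT hM hb hT
    have h3 := congrArg (lam (φ : T → ℂ)) hZe
    rw [lam_mul φ.2 he (isClassCoeff_resA T hZ), lam_mul φ.2 hz he,
      lam_eT_of_cov hM hb hT hNT φ.2 hφ, one_mul, mul_one, lam_classSum φ.2] at h3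
    rw [← h3, ← lam_redA φ.2 (isClassCoeff_resA T (isClassCoeff_liftA hZ)), redA_resA, redA_liftA]
  rw [key ψ h1, key ψ' h2, h _ (isClassCoeff_liftA hZ)]

omit hb hT hNT in
theorem induced_congr [Fintype T] {ψ : IrrCharacter T} {χ : IrrCharacter G}
    (he : (χ : G → ℂ) = indFun T (ψ : T → ℂ)) :
    IsInducedBlock M T (blockOf M (ψ : T → ℂ)) (blockOf M (χ : G → ℂ)) := by
  refine isInducedBlock_of_rep T ψ χ fun g => ?_
  rw [omegaBar_resA_classSum, omegaBar_classSum χ.2, he, centralChar_indFun]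

/-- The induced block of a block over `b`. -/
theorem exists_block [Fintype T] {B' : Set (IrrCharacter T)} (hB' : IsPBlock M B')
    (hcov : ∃ ψ ∈ B', Cov b hNT (ψ : T → ℂ)) :
    ∃ B : Set (IrrCharacter G), IsInducedBlock M T B' B ∧
      (∃ χ ∈ B, ∃ θ ∈ b, classInner (fun n : N => (χ : G → ℂ) n) (θ : N → ℂ) ≠ 0) ∧
      (∀ ψ ∈ B', IsIrrCharacter G (indFun T (ψ : T → ℂ))) ∧
      ∀ χ : IrrCharacter G, χ ∈ B ↔ ∃ ψ ∈ B', (χ : G → ℂ) = indFun T (ψ : T → ℂ) := by
  classical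
  obtain ⟨ψ₀, hψ₀, hc₀⟩ := hcov
  obtain ⟨hirr, θ, hθ, hcon⟩ := induce_irr hM hb hT hNT ψ₀.2 hc₀
  set χ₀ : IrrCharacter G := ⟨_, hirr⟩
  have hall : ∀ ψ ∈ B', Cov b hNT (ψ : T → ℂ) := fun ψ hψ =>
    cov_of_sameBlock hM hb hT hNT (sameBlock_of_mem hB' hψ₀ hψ) hc₀
  have hB'eq : B' = blockOf M (ψ₀ : T → ℂ) :=
    eq_of_mem_of_mem hB' (blockOf_isPBlock ψ₀) hψ₀ (sameBlock_refl _)
  have hind : IsInducedBlock M T B' (blockOf M (χ₀ : G → ℂ)) := hB'eq ▸ induced_congr hM rfl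
  obtain ⟨-, hB, hω⟩ := (isInducedBlock_iff T).1 hind
  refine ⟨_, hind, ⟨χ₀, sameBlock_refl _, θ, hθ, hcon⟩,
    fun ψ hψ => (induce_irr hM hb hT hNT ψ.2 (hall ψ hψ)).1, fun χ => ⟨fun hχ => ?_, ?_⟩⟩
  · obtain ⟨θ', hθ', hc'⟩ := exists_constituent_mem hM hb (χ := χ) hθ fun n =>
      red_centralChar_eq (χ := χ₀) (θ := θ) (θ' := θ) hχ (sameBlock_refl _) hcon n
    obtain ⟨ψ, hψc, hψe⟩ := exists_induce hM hb hT hNT hθ' hc'
    refine ⟨ψ, ?_, hψe.symm⟩
    refine mem_of_sameBlock hB' hψ₀ (sameBlock_of_induced hM hb hT hNT hc₀ hψc fun a ha => ?_)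
    obtain ⟨-, -, hω'⟩ := (isInducedBlock_iff T).1 (induced_congr hM hψe.symm)
    rw [hω ψ₀ hψ₀ χ hχ a ha, hω' ψ (sameBlock_refl _) χ (sameBlock_refl _) a ha]
  · rintro ⟨ψ, hψ, he⟩
    have h1 := isInducedBlock_unique T hind
      ((eq_of_mem_of_mem hB' (blockOf_isPBlock ψ) hψ (sameBlock_refl _)) ▸ induced_congr hM he)
    rw [h1]
    exact sameBlock_refl _

theorem block_unique [Fintype T] {B'₁ B'₂ : Set (IrrCharacter T)} (h1 : IsPBlock M B'₁)
    (h2 : IsPBlock M B'₂) (c1 : ∃ ψ ∈ B'₁, Cov b hNT (ψ : T → ℂ))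
    (c2 : ∃ ψ ∈ B'₂, Cov b hNT (ψ : T → ℂ)) {B : Set (IrrCharacter G)}
    (i1 : IsInducedBlock M T B'₁ B) (i2 : IsInducedBlock M T B'₂ B) : B'₁ = B'₂ := by
  obtain ⟨ψ, hψ, hc⟩ := c1
  obtain ⟨ψ', hψ', hc'⟩ := c2
  obtain ⟨-, hB, hω⟩ := (isInducedBlock_iff T).1 i1
  obtain ⟨-, -, hω'⟩ := (isInducedBlock_iff T).1 i2
  obtain ⟨χ, hχ⟩ := isPBlock_nonempty hB
  refine eq_of_mem_of_mem h1 h2 (mem_of_sameBlock h1 hψ
    (sameBlock_of_induced hM hb hT hNT hc hc' fun a ha => ?_)) hψ'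
  rw [hω ψ hψ χ hχ a ha, hω' ψ' hψ' χ hχ a ha]

theorem exists_below_of_cov [Fintype T] {B : Set (IrrCharacter G)} (hB : IsPBlock M B)
    (hcov : ∃ χ ∈ B, ∃ θ ∈ b, classInner (fun n : N => (χ : G → ℂ) n) (θ : N → ℂ) ≠ 0) :
    ∃ B' : Set (IrrCharacter T), IsPBlock M B' ∧ (∃ ψ ∈ B', Cov b hNT (ψ : T → ℂ)) ∧
      IsInducedBlock M T B' B := by
  obtain ⟨χ, hχ, θ, hθ, hc⟩ := hcov
  obtain ⟨ψ, hψc, hψe⟩ := exists_induce hM hb hT hNT hθ hc
  refine ⟨_, blockOf_isPBlock ψ, ⟨ψ, sameBlock_refl _, hψc⟩, ?_⟩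
  rw [eq_of_mem_of_mem hB (blockOf_isPBlock χ) hχ (sameBlock_refl _)]
  exact induced_congr hM hψe.symm

/-- Heights and defect groups are preserved. -/
theorem induced_invariants [Fintype T] {B' : Set (IrrCharacter T)} (hB' : IsPBlock M B')
    (hcov : ∃ ψ ∈ B', Cov b hNT (ψ : T → ℂ)) {B : Set (IrrCharacter G)}
    (hind : IsInducedBlock M T B' B) :
    (∀ D : Subgroup T, IsDefectGroup p M B' D → IsDefectGroup p M B (D.map T.subtype)) ∧
    ∀ ψ ∈ B', ∃ χ ∈ B, (χ : G → ℂ) = indFun T (ψ : T → ℂ) ∧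
      blockHeight p B (χ : G → ℂ) = blockHeight p B' (ψ : T → ℂ) := by
  classical
  obtain ⟨B₁, hB₁, -, hirr, hmem⟩ := exists_block hM hb hT hNT hB' hcov
  have heB := isInducedBlock_unique T hB₁ hind
  rw [heB] at hmem
  have hB := hind.2.1
  have hdeg : ∀ ψ ∈ B', ∀ χ : IrrCharacter G, (χ : G → ℂ) = indFun T (ψ : T → ℂ) →
      degExp p (χ : G → ℂ) = T.index.factorization p + degExp p (ψ : T → ℂ) := by
    intro ψ _ χ he
    obtain ⟨m, hm0, hm⟩ := irr_deg ψ.2
    have h1 : (χ : G → ℂ) 1 = ((T.index * m : ℕ) : ℂ) := by rw [he, indFun_one, hm]; push_cast; rfl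
    show (charDegree (χ : G → ℂ)).factorization p = _ + (charDegree (ψ : T → ℂ)).factorization p
    rw [charDegree_eq h1, charDegree_eq hm, Nat.factorization_mul T.index_ne_zero_of_finite hm0.ne',
      Finsupp.add_apply]
  have hpe : pExp p G = T.index.factorization p + pExp p T := by
    show (Nat.card G).factorization p = _ + (Nat.card T).factorization p
    rw [← T.index_mul_card, Nat.factorization_mul T.index_ne_zero_of_finite Nat.card_pos.ne',
      Finsupp.add_apply]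
  have hdle := blockDefect_le (p := p) hM B
  have hdle' := blockDefect_le (p := p) hM B'
  have hdef : blockDefect p B = blockDefect p B' := by
    obtain ⟨ψ, hψ, h0⟩ := exists_height_zero hM hB'
    obtain ⟨χ, hχ, hh⟩ := exists_height_zero hM hB
    obtain ⟨ψ', hψ', he'⟩ := (hmem χ).1 hχ
    have hψχ : (⟨_, hirr ψ hψ⟩ : IrrCharacter G) ∈ B := (hmem _).2 ⟨ψ, hψ, rfl⟩
    have e1 := degExp_eq_height_add hM hB hψχ
    have e2 := degExp_eq_height_add hM hB' hψ
    have e3 := degExp_eq_height_add hM hB hχ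
    have e4 := degExp_eq_height_add hM hB' hψ'
    rw [hdeg ψ hψ _ rfl] at e1
    rw [hdeg ψ' hψ' χ he'] at e3
    omega
  refine ⟨fun D hD => ?_, fun ψ hψ => ⟨⟨_, hirr ψ hψ⟩, (hmem _).2 ⟨ψ, hψ, rfl⟩, rfl, ?_⟩⟩
  · obtain ⟨E, hE, hle⟩ := exists_defectGroup_ge hM hind hD
    rwa [Subgroup.eq_of_le_of_card_ge hle (by
      rw [Subgroup.card_map_of_injective T.subtype_injective, card_defectGroup hM hB' hD,
        card_defectGroup hM hB hE, hdef])]
  · have e1 := degExp_eq_height_add hM hB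
      (show (⟨_, hirr ψ hψ⟩ : IrrCharacter G) ∈ B from (hmem _).2 ⟨ψ, hψ, rfl⟩)
    have e2 := degExp_eq_height_add hM hB' hψ
    rw [hdeg ψ hψ _ rfl] at e1
    omega

end CfsgLib.FongReynolds
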