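import Cfsg.Agent.Solv.Basic
import Mathlib.GroupTheory.IndexNormal
import Mathlib.GroupTheory.Sylow
import Mathlib.Data.Finite.Perm
import Mathlib.Tactic

/-!
A bound for the order of a finite group in terms of the centralizers of the three involutions of a
four-group and of the two-part of the order.
-/

set_option autoImplicit false
set_option linter.style.haveILetI false
set_option linter.unusedSectionVars false

namespace CfsgLib.FourBound

open scoped Nat

universe u

variable {G : Type u} [Group G] [Finite G]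

theorem orderOf_two {u : G} (hu : u * u = 1) (h : u ≠ 1) : orderOf u = 2 :=
  orderOf_eq_prime (by rw [pow_two, hu]) h

theorem not_mem_of_odd {O : Subgroup G} (hO : Odd (Nat.card O)) {u : G} (hu : u * u = 1)
    (h : u ≠ 1) : u ∉ O := fun hm => by
  have h2 := Subgroup.orderOf_dvd_natCard O hm
  rw [orderOf_two hu h] at h2
  exact Nat.not_even_iff_odd.2 hO (even_iff_two_dvd.2 h2)

/-- A square root in a subgroup of odd order, compatible with conjugation. -/
theorem exists_sqrt {W : Subgroup G} (hW : Odd (Nat.card W)) {k : G} (hk : k ∈ W) :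
    ∃ n : ℕ, k ^ n * k ^ n = k := by
  obtain ⟨r, hr⟩ := hW
  refine ⟨r + 1, ?_⟩
  have h : k ^ (2 * r + 1) = 1 := by
    rw [← hr]
    exact orderOf_dvd_iff_pow_eq_one.1 (Subgroup.orderOf_dvd_natCard W hk)
  rw [← pow_add, show r + 1 + (r + 1) = 2 * r + 1 + 1 by ring, pow_succ, h, one_mul]

/-- A normal subgroup of odd order normalized by a four-group is bounded by the three centralizers. -/
theorem card_odd_le {W : Subgroup G} [hWn : W.Normal] (hW : Odd (Nat.card W)) {u v : G}
    (hu : u * u = 1) (hv : v * v = 1) (huv : u * v = v * u) :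
    Nat.card W ≤ Nat.card (Subgroup.centralizer ({u} : Set G)) *
      Nat.card (Subgroup.centralizer ({v} : Set G)) *
      Nat.card (Subgroup.centralizer ({u * v} : Set G)) := by
  have hui : u⁻¹ = u := inv_eq_of_mul_eq_one_right hu
  have hvi : v⁻¹ = v := inv_eq_of_mul_eq_one_right hv
  -- splitting off the fixed points of an involution
  have split : ∀ t : G, t * t = 1 → ∀ w ∈ W, ∃ c i : G, c ∈ W ∧ i ∈ W ∧ c * i = w ∧
      t * c * t⁻¹ = c ∧ t * i * t⁻¹ = i⁻¹ := by
    intro t ht w hw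
    have hti : t⁻¹ = t := inv_eq_of_mul_eq_one_right ht
    set k := (t * w * t⁻¹)⁻¹ * w with hk
    have hkW : k ∈ W := mul_mem (inv_mem (hWn.conj_mem w hw t)) hw
    have htk : t * k * t⁻¹ = k⁻¹ := by
      rw [hk, show ((t * w * t⁻¹)⁻¹ * w)⁻¹ = w⁻¹ * (t * w * t⁻¹) by group]
      calc t * ((t * w * t⁻¹)⁻¹ * w) * t⁻¹
          = (t * t) * w⁻¹ * (t * t)⁻¹ * (t * w * t⁻¹) := by group
        _ = w⁻¹ * (t * w * t⁻¹) := by rw [ht]; group
    obtain ⟨n, hn⟩ := exists_sqrt hW hkW
    refine ⟨w * (k ^ n)⁻¹, k ^ n, mul_mem hw (inv_mem (pow_mem hkW n)), pow_mem hkW n,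
      inv_mul_cancel_right _ _, ?_, by rw [← conj_pow, htk, inv_pow]⟩
    have e : t * w * t⁻¹ = w * k⁻¹ := by rw [hk]; group
    calc t * (w * (k ^ n)⁻¹) * t⁻¹ = t * w * t⁻¹ * (t * k ^ n * t⁻¹)⁻¹ := by group
      _ = w * k⁻¹ * k ^ n := by rw [e, ← conj_pow, htk, inv_pow, inv_inv]
      _ = w * (k ^ n * k ^ n)⁻¹ * k ^ n := by rw [hn]
      _ = w * (k ^ n)⁻¹ := by group
  -- the chosen square roots
  have hroot : ∀ c : G, ∃ n : ℕ, c ∈ W → c ^ n * c ^ n = c := fun c => by
    by_cases hc : c ∈ W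
    · obtain ⟨n, hn⟩ := exists_sqrt hW hc
      exact ⟨n, fun _ => hn⟩
    · exact ⟨0, fun h => absurd h hc⟩
  choose n hn using hroot
  let Φ : ↥(Subgroup.centralizer ({u} : Set G)) × ↥(Subgroup.centralizer ({v} : Set G)) ×
      ↥(Subgroup.centralizer ({u * v} : Set G)) → G := fun x =>
    (x.1 : G) * (x.2.1 : G) * (((x.2.1 : G) ^ n x.2.1)⁻¹ * (x.2.2 : G) * (x.2.1 : G) ^ n x.2.1)
  have hsur : ∀ w : ↥W, ∃ x, Φ x = w := by
    intro w
    obtain ⟨c₀, i, -, hiW, hw, hc₀, hi⟩ := split u hu w w.2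
    obtain ⟨c, b, hcW, -, hi', hc, hb⟩ := split v hv i hiW
    -- the decomposition transported by `u`
    have hcv : v * c = c * v := mul_inv_eq_iff_eq_mul.1 hc
    set c' := u * c * u⁻¹ with hc'
    set b' := u * b * u⁻¹ with hb'
    have hprod : c' * b' = b⁻¹ * c⁻¹ := by
      rw [hc', hb', ← mul_inv_rev, hi', ← hi, ← hi']
      group
    have hvc' : v * c' * v⁻¹ = c' := by
      rw [hc']
      calc v * (u * c * u⁻¹) * v⁻¹ = (v * u) * c * (v * u)⁻¹ := by group
        _ = (u * v) * c * (u * v)⁻¹ := by rw [huv]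
        _ = u * (v * c * v⁻¹) * u⁻¹ := by group
        _ = u * c * u⁻¹ := by rw [hc]
    have hvb' : v * b' * v⁻¹ = b'⁻¹ := by
      rw [hb']
      calc v * (u * b * u⁻¹) * v⁻¹ = (v * u) * b * (v * u)⁻¹ := by group
        _ = (u * v) * b * (u * v)⁻¹ := by rw [huv]
        _ = u * (v * b * v⁻¹) * u⁻¹ := by group
        _ = (u * b * u⁻¹)⁻¹ := by rw [hb]; group
    -- compare the squares of the inverted parts
    have hb'' : b' = c * b⁻¹ * c⁻¹ := by
      have e1 : c' * b'⁻¹ = b * c⁻¹ := by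
        calc c' * b'⁻¹ = (v * c' * v⁻¹) * (v * b' * v⁻¹) := by rw [hvc', hvb']
          _ = v * (c' * b') * v⁻¹ := by group
          _ = v * (b⁻¹ * c⁻¹) * v⁻¹ := by rw [hprod]
          _ = (v * b * v⁻¹)⁻¹ * (v * c * v⁻¹)⁻¹ := by group
          _ = b * c⁻¹ := by rw [hb, hc, inv_inv]
      have hbW : b ∈ W := by
        have : b = c⁻¹ * i := by rw [← hi']; group
        rw [this]; exact mul_mem (inv_mem hcW) hiW
      have hb'W : b' ∈ W := by rw [hb']; exact hWn.conj_mem b hbW u
      have hsq : b' * b' = (c * b⁻¹ * c⁻¹) * (c * b⁻¹ * c⁻¹) := by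
        calc b' * b' = (c' * b'⁻¹)⁻¹ * (c' * b') := by group
          _ = (b * c⁻¹)⁻¹ * (b⁻¹ * c⁻¹) := by rw [e1, hprod]
          _ = _ := by group
      -- squaring is injective
      obtain ⟨r, hr⟩ := hW
      have key : ∀ x ∈ W, x = (x * x) ^ (r + 1) := fun x hx => by
        have h : x ^ (2 * r + 1) = 1 := by
          rw [← hr]
          exact orderOf_dvd_iff_pow_eq_one.1 (Subgroup.orderOf_dvd_natCard W hx)
        rw [← pow_two, ← pow_mul, show 2 * (r + 1) = 2 * r + 1 + 1 by ring, pow_succ, h, one_mul]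
      rw [key b' hb'W, hsq, ← key _ (mul_mem (mul_mem hcW (inv_mem hbW)) (inv_mem hcW))]
    have hc'' : c' = c⁻¹ := by
      have h := hprod
      rw [hb''] at h
      calc c' = c' * (c * b⁻¹ * c⁻¹) * (c * b * c⁻¹) := by group
        _ = b⁻¹ * c⁻¹ * (c * b * c⁻¹) := by rw [h]
        _ = c⁻¹ := by group
    set d := c ^ n c with hd
    have hdd : d * d = c := hn c hcW
    have hzd : (u * v) * d * (u * v)⁻¹ = d⁻¹ := by
      have e : (u * v) * c * (u * v)⁻¹ = c⁻¹ := by
        calc (u * v) * c * (u * v)⁻¹ = u * (v * c * v⁻¹) * u⁻¹ := by group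
          _ = c⁻¹ := by rw [hc, ← hc', hc'']
      rw [hd, ← conj_pow, e, inv_pow]
    have he : (u * v) * (d * b * d⁻¹) * (u * v)⁻¹ = d * b * d⁻¹ := by
      have e : (u * v) * b * (u * v)⁻¹ = c * b * c⁻¹ := by
        calc (u * v) * b * (u * v)⁻¹ = u * (v * b * v⁻¹) * u⁻¹ := by group
          _ = (u * b * u⁻¹)⁻¹ := by rw [hb]; group
          _ = c * b * c⁻¹ := by rw [← hb', hb'']; group
      calc (u * v) * (d * b * d⁻¹) * (u * v)⁻¹
          = ((u * v) * d * (u * v)⁻¹) * ((u * v) * b * (u * v)⁻¹) * ((u * v) * d * (u * v)⁻¹)⁻¹ := by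
            group
        _ = d⁻¹ * (c * b * c⁻¹) * d := by rw [hzd, e, inv_inv]
        _ = d * b * d⁻¹ := by rw [← hdd]; group
    refine ⟨(⟨c₀, Subgroup.mem_centralizer_singleton_iff.2 (mul_inv_eq_iff_eq_mul.1 hc₀).symm⟩,
      ⟨c, Subgroup.mem_centralizer_singleton_iff.2 hcv.symm⟩,
      ⟨d * b * d⁻¹, Subgroup.mem_centralizer_singleton_iff.2 (mul_inv_eq_iff_eq_mul.1 he).symm⟩), ?_⟩
    show c₀ * c * ((c ^ n c)⁻¹ * (d * b * d⁻¹) * c ^ n c) = (w : G)
    rw [← hd, ← hw, ← hi']
    group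
  choose Ψ hΨ using hsur
  have hinj : Function.Injective Ψ := fun a b h => Subtype.ext (by rw [← hΨ a, h, hΨ b])
  refine (Nat.card_le_card_of_injective Ψ hinj).trans ?_
  rw [Nat.card_prod, Nat.card_prod, mul_assoc]

/-- Centralizers in a quotient are no bigger. -/
theorem card_centralizer_quotient_le (N : Subgroup G) [N.Normal] (y : G) :
    Nat.card (Subgroup.centralizer ({(y : G ⧸ N)} : Set (G ⧸ N))) ≤
      Nat.card (Subgroup.centralizer ({y} : Set G)) := by
  classical
  haveI := Fintype.ofFinite G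
  set H := (Subgroup.centralizer ({(y : G ⧸ N)} : Set (G ⧸ N))).comap (QuotientGroup.mk' N) with hH
  have hcard : Nat.card H = Nat.card N *
      Nat.card (Subgroup.centralizer ({(y : G ⧸ N)} : Set (G ⧸ N))) := by
    have hle : N ≤ H := fun x hx => by
      rw [hH, Subgroup.mem_comap, QuotientGroup.mk'_apply, (QuotientGroup.eq_one_iff x).2 hx]
      exact one_mem _
    have h := CfsgLib.Solv.card_map_mk' N H
    rw [inf_eq_right.2 hle, hH,
      Subgroup.map_comap_eq_self_of_surjective (QuotientGroup.mk'_surjective N)] at h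
    rw [← h, mul_comm]
  have hmem : ∀ g ∈ H, g * y * g⁻¹ * y⁻¹ ∈ N := by
    intro g hg
    rw [← QuotientGroup.eq_one_iff]
    have h := Subgroup.mem_centralizer_singleton_iff.1 (Subgroup.mem_comap.1 hg)
    simp only [QuotientGroup.mk'_apply] at h
    simp only [QuotientGroup.mk_mul, QuotientGroup.mk_inv]
    rw [h]
    group
  -- choose representatives of the fibres
  let g₀ : G → G := fun k => if h : ∃ g : G, g * y * g⁻¹ * y⁻¹ = k then h.choose else 1
  have hg₀ : ∀ g : G, (g₀ (g * y * g⁻¹ * y⁻¹))⁻¹ * g ∈ Subgroup.centralizer ({y} : Set G) := by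
    intro g
    set k := g * y * g⁻¹ * y⁻¹ with hk
    have hex : ∃ g' : G, g' * y * g'⁻¹ * y⁻¹ = k := ⟨g, hk.symm⟩
    have h : g₀ k * y * (g₀ k)⁻¹ * y⁻¹ = g * y * g⁻¹ * y⁻¹ := by
      rw [show g₀ k = hex.choose from dif_pos hex, hex.choose_spec, hk]
    have h' := mul_right_cancel h
    rw [Subgroup.mem_centralizer_singleton_iff]
    calc (g₀ k)⁻¹ * g * y = (g₀ k)⁻¹ * (g * y * g⁻¹) * g := by group
      _ = (g₀ k)⁻¹ * (g₀ k * y * (g₀ k)⁻¹) * g := by rw [h']
      _ = y * ((g₀ k)⁻¹ * g) := by group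
  have hle : Nat.card H ≤ Nat.card N * Nat.card (Subgroup.centralizer ({y} : Set G)) := by
    rw [← Nat.card_prod]
    refine Nat.card_le_card_of_injective (fun g : H => (⟨(g : G) * y * (g : G)⁻¹ * y⁻¹, hmem g g.2⟩,
      ⟨(g₀ ((g : G) * y * (g : G)⁻¹ * y⁻¹))⁻¹ * g, hg₀ g⟩)) fun a b h => ?_
    simp only [Prod.mk.injEq, Subtype.mk.injEq] at h
    rw [h.1] at h
    exact Subtype.ext (mul_left_cancel h.2)
  rw [hcard] at hle
  exact Nat.le_of_mul_le_mul_left hle Nat.card_pos

/-- A maximal normal subgroup all of whose images under automorphisms meet trivially. -/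
theorem card_eq_pow {N : Subgroup G} [hN : N.Normal]
    (hmin : ∀ R : Subgroup G, R.Normal → R ≤ N → R = ⊥ ∨ R = N) (hN1 : N ≠ ⊥)
    (K : Subgroup N) [K.Normal] (hK : K ≠ ⊤)
    (hmax : ∀ R : Subgroup N, R.Normal → K ≤ R → R = K ∨ R = ⊤) :
    ∃ k : ℕ, Nat.card N = K.index ^ k := by
  classical
  haveI := Fintype.ofFinite G
  let cn : G → (↥N →* ↥N) := fun g => (MulAut.conjNormal (H := N) g).toMonoidHom
  have hsur : ∀ g, Function.Surjective (cn g) := fun g => (MulAut.conjNormal (H := N) g).surjective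
  let R : G → Subgroup N := fun g => K.comap (cn g)
  have hRn : ∀ g, (R g).Normal := fun g => Subgroup.normal_comap _
  have hRi : ∀ g, (R g).index = K.index := fun g => Subgroup.index_comap_of_surjective _ (hsur g)
  have hRmax : ∀ g, ∀ S : Subgroup N, S.Normal → R g ≤ S → S = R g ∨ S = ⊤ := by
    intro g S hS hle
    have hinj : Function.Injective (cn g) := (MulAut.conjNormal (H := N) g).injective
    have e := Subgroup.comap_map_eq_self_of_injective hinj S
    rcases hmax (S.map (cn g)) (hS.map _ (hsur g))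
      (by rw [← Subgroup.map_comap_eq_self_of_surjective (hsur g) K]
          exact Subgroup.map_mono hle) with h | h
    · left; rw [← e, h]
    · right; rw [← e, h, Subgroup.comap_top]
  have hfam : ∀ s : Finset G, ∃ k : ℕ, (s.inf R).index = K.index ^ k := by
    intro s
    induction s using Finset.induction_on with
    | empty => exact ⟨0, by simp [Subgroup.index_top]⟩
    | insert g s _ ih =>
      obtain ⟨k, hk⟩ := ih
      rw [Finset.inf_insert]
      have hDn : (s.inf R).Normal := by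
        refine Finset.inf_induction (p := fun S : Subgroup N => S.Normal) ?_ ?_ fun b _ => hRn b
        · infer_instance
        · intro a ha b hb
          exact Subgroup.normal_inf_normal a b
      rcases hRmax g (R g ⊔ s.inf R) (Subgroup.sup_normal _ _) le_sup_left with h | h
      · refine ⟨k, ?_⟩
        rw [inf_eq_right.2 (le_sup_right.trans h.le), hk]
      · refine ⟨k + 1, ?_⟩
        haveI := hRn g
        haveI := hDn
        rw [pow_succ', ← hk, ← Subgroup.relIndex_mul_index (inf_le_right : R g ⊓ s.inf R ≤ s.inf R),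
          Subgroup.inf_relIndex_right, ← Subgroup.relIndex_sup_right, sup_comm (s.inf R) (R g), h,
          Subgroup.relIndex_top_right,
          hRi]
  obtain ⟨k, hk⟩ := hfam Finset.univ
  refine ⟨k, ?_⟩
  have hbot : Finset.univ.inf R = ⊥ := by
    set S := Finset.univ.inf R with hS
    have hmem : ∀ x : N, x ∈ S ↔ ∀ g, cn g x ∈ K := fun x => by
      rw [hS, Finset.inf_eq_iInf, Subgroup.mem_iInf]
      simp [R]
    have hSn : (S.map N.subtype).Normal := ⟨fun w hw g => by
      obtain ⟨x, hx, rfl⟩ := hw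
      refine ⟨MulAut.conjNormal g x, (hmem _).2 fun h => ?_, by simp⟩
      have e : cn h (MulAut.conjNormal g x) = cn (h * g) x := by
        simp [cn, map_mul]
      rw [e]
      exact (hmem x).1 hx _⟩
    rcases hmin _ hSn (Subgroup.map_subtype_le S) with h | h
    · exact (Subgroup.map_eq_bot_iff_of_injective _ N.subtype_injective).1 h
    · refine absurd (eq_top_iff.2 fun x _ => ?_) hK
      obtain ⟨z, hz, e⟩ : (x : G) ∈ S.map N.subtype := h.symm ▸ x.2
      have := (hmem z).1 hz 1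
      rw [show z = x from Subtype.ext e] at this
      simpa [cn] using this
  rw [← hk, hbot, Subgroup.index_bot]

/-- The bound for a minimal normal subgroup of even order. -/
theorem card_minimal_le {N : Subgroup G} [hN : N.Normal]
    (hmin : ∀ R : Subgroup G, R.Normal → R ≤ N → R = ⊥ ∨ R = N) (hN1 : N ≠ ⊥)
    (heven : 2 ∣ Nat.card N) {u : G} (hu : u * u = 1) {a C : ℕ}
    (ha : (Nat.card G).factorization 2 ≤ a)
    (hC : Nat.card (Subgroup.centralizer ({u} : Set G)) ≤ C) :
    Nat.card N ≤ C + 2 ^ a + ((2 * C * C) !) ^ a := by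
  classical
  haveI := Fintype.ofFinite G
  haveI : Fact (Nat.Prime 2) := ⟨Nat.prime_two⟩
  have hui : u⁻¹ = u := inv_eq_of_mul_eq_one_right hu
  have hfac : ∀ j, 2 ^ j ∣ Nat.card N → j ≤ a := fun j hj =>
    le_trans ((Nat.Prime.pow_dvd_iff_le_factorization Nat.prime_two Nat.card_pos.ne').1
      (hj.trans (Subgroup.card_subgroup_dvd_card N))) ha
  set c := Nat.card ↥(N ⊓ Subgroup.centralizer ({u} : Set G)) with hc
  have hcC : c ≤ C := (Subgroup.card_le_of_le inf_le_right).trans hC
  by_cases hcN : Nat.card N ≤ c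
  · exact ((hcN.trans hcC).trans (Nat.le_add_right _ _)).trans (Nat.le_add_right _ _)
  -- pairs of conjugates of `u`
  let S : Finset G := (Finset.univ.filter fun m => m ∈ N).image fun m => m * u * m⁻¹
  have hS : ∀ s, s ∈ S ↔ ∃ m ∈ N, m * u * m⁻¹ = s := fun s => by simp [S]
  set n := S.card with hn
  have hnc : n * c = Nat.card N := by
    have hNc : Nat.card N = (Finset.univ.filter fun m => m ∈ N).card := by
      rw [Nat.card_eq_fintype_card, Fintype.card_subtype]
    rw [hNc, Finset.card_eq_sum_card_image (fun m => m * u * m⁻¹),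
      Finset.sum_congr rfl (g := fun _ => c) fun s hs => ?_, Finset.sum_const, smul_eq_mul]
    obtain ⟨m₀, hm₀, rfl⟩ := (hS s).1 hs
    rw [hc, Finset.filter_filter, ← Fintype.card_subtype, ← Nat.card_eq_fintype_card]
    refine Nat.card_congr ⟨fun m => ⟨m₀⁻¹ * m.1, ?_⟩, fun z => ⟨m₀ * z.1, ?_⟩,
      fun m => Subtype.ext (by simp), fun z => Subtype.ext (by simp)⟩
    · obtain ⟨m, hm⟩ := m
      refine Subgroup.mem_inf.2 ⟨mul_mem (inv_mem hm₀) hm.1,
        Subgroup.mem_centralizer_singleton_iff.2 ?_⟩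
      calc m₀⁻¹ * m * u = m₀⁻¹ * (m * u * m⁻¹) * m := by group
        _ = u * (m₀⁻¹ * m) := by rw [hm.2]; group
    · obtain ⟨z, hz⟩ := z
      obtain ⟨hzN, hzC⟩ := Subgroup.mem_inf.1 hz
      simp only [Finset.mem_filter, Finset.mem_univ, true_and]
      refine ⟨mul_mem hm₀ hzN, ?_⟩
      calc m₀ * z * u * (m₀ * z)⁻¹ = m₀ * (z * u) * z⁻¹ * m₀⁻¹ := by group
        _ = m₀ * u * m₀⁻¹ := by rw [Subgroup.mem_centralizer_singleton_iff.1 hzC]; group
  have hn2 : 2 ≤ n := by
    by_contra h
    have : n * c ≤ 1 * c := Nat.mul_le_mul_right c (by omega)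
    omega
  have hSs : ∀ s ∈ S, s * s = 1 := fun s hs => by
    obtain ⟨m, -, rfl⟩ := (hS s).1 hs
    calc m * u * m⁻¹ * (m * u * m⁻¹) = m * (u * u) * m⁻¹ := by group
      _ = 1 := by rw [hu]; group
  let T := S.offDiag
  have hT : T.card = n * (n - 1) := by
    rw [Finset.offDiag_card, Nat.mul_sub, mul_one]
  have hTN : ∀ q ∈ T, q.1 * q.2 ∈ (Finset.univ.filter fun m => m ∈ N) := by
    intro q hq
    obtain ⟨h1, h2, -⟩ := Finset.mem_offDiag.1 hq
    obtain ⟨m, hm, e1⟩ := (hS _).1 h1
    obtain ⟨l, hl, e2⟩ := (hS _).1 h2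
    simp only [Finset.mem_filter, Finset.mem_univ, true_and]
    have hml : m⁻¹ * l ∈ N := mul_mem (inv_mem hm) hl
    rw [← e1, ← e2, show m * u * m⁻¹ * (l * u * l⁻¹) = m * (u * (m⁻¹ * l) * u) * l⁻¹ by group]
    refine mul_mem (mul_mem hm ?_) (inv_mem hl)
    nth_rw 2 [← hui]
    exact hN.conj_mem _ hml u
  obtain ⟨x, hxN, hx⟩ : ∃ x ∈ Finset.univ.filter (fun m => m ∈ N),
      T.card ≤ (T.filter fun q => q.1 * q.2 = x).card * Nat.card N := by
    obtain ⟨x, hxN, hmax⟩ := Finset.exists_max_image (Finset.univ.filter fun m => m ∈ N)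
      (fun x => (T.filter fun q => q.1 * q.2 = x).card) ⟨1, by simp⟩
    refine ⟨x, hxN, ?_⟩
    rw [Finset.card_eq_sum_card_fiberwise (t := Finset.univ.filter fun m => m ∈ N) hTN]
    refine (Finset.sum_le_card_nsmul _ _ _ hmax).trans ?_
    rw [smul_eq_mul, Nat.card_eq_fintype_card, Fintype.card_subtype, mul_comm]
  simp only [Finset.mem_filter, Finset.mem_univ, true_and] at hxN
  have hTpos : 0 < T.card := by rw [hT]; exact Nat.mul_pos (by omega) (by omega)
  have hx1 : x ≠ 1 := by
    rintro rfl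
    have : (T.filter fun q => q.1 * q.2 = 1).card = 0 := by
      rw [Finset.card_eq_zero, Finset.filter_eq_empty_iff]
      intro q hq e
      obtain ⟨h1, h2, hne⟩ := Finset.mem_offDiag.1 hq
      refine hne ?_
      calc q.1 = q.1 * (q.2 * q.2) := by rw [hSs _ h2, mul_one]
        _ = q.2 := by rw [← mul_assoc, e, one_mul]
    rw [this, zero_mul] at hx
    omega
  let L : Subgroup N := Subgroup.centralizer ({⟨x, hxN⟩} : Set N)
  have hfib : (T.filter fun q => q.1 * q.2 = x).card ≤ Nat.card L := by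
    rcases (T.filter fun q => q.1 * q.2 = x).eq_empty_or_nonempty with h | ⟨q₀, hq₀⟩
    · rw [h, Finset.card_empty]; exact Nat.zero_le _
    rw [Finset.mem_filter, Finset.mem_offDiag] at hq₀
    have hinv : ∀ q ∈ T.filter (fun q => q.1 * q.2 = x), q.1 * x * q.1⁻¹ = x⁻¹ := by
      intro q hq
      rw [Finset.mem_filter, Finset.mem_offDiag] at hq
      rw [← hq.2, inv_eq_of_mul_eq_one_right (hSs _ hq.1.1), mul_inv_rev,
        inv_eq_of_mul_eq_one_right (hSs _ hq.1.1), inv_eq_of_mul_eq_one_right (hSs _ hq.1.2.1),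
        ← mul_assoc q.1 q.1, hSs _ hq.1.1, one_mul]
    have hmem : ∀ q ∈ T.filter (fun q => q.1 * q.2 = x), q₀.1 * q.1 ∈ N ∧
        q₀.1 * q.1 * x = x * (q₀.1 * q.1) := by
      intro q hq
      have h1 := hinv q hq
      have h2 := hinv q₀ (Finset.mem_filter.2 ⟨Finset.mem_offDiag.2 hq₀.1, hq₀.2⟩)
      rw [Finset.mem_filter, Finset.mem_offDiag] at hq
      refine ⟨?_, ?_⟩
      · by_cases e : q₀.1 = q.1
        · rw [← e, hSs _ hq₀.1.1]
          exact one_mem _
        · have h := hTN (q₀.1, q.1) (Finset.mem_offDiag.2 ⟨hq₀.1.1, hq.1.1, e⟩)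
          simpa using h
      · have h3 : q₀.1 * x⁻¹ * q₀.1⁻¹ = x := by
          calc q₀.1 * x⁻¹ * q₀.1⁻¹ = (q₀.1 * x * q₀.1⁻¹)⁻¹ := by group
            _ = x := by rw [h2, inv_inv]
        calc q₀.1 * q.1 * x = q₀.1 * (q.1 * x * q.1⁻¹) * q.1 := by group
          _ = q₀.1 * x⁻¹ * q₀.1⁻¹ * (q₀.1 * q.1) := by rw [h1]; group
          _ = x * (q₀.1 * q.1) := by rw [h3]
    rw [Nat.card_eq_fintype_card, ← Finset.card_univ]
    refine Finset.card_le_card_of_injOn
      (fun q => if h : q ∈ T.filter (fun q => q.1 * q.2 = x) then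
        (⟨⟨q₀.1 * q.1, (hmem q h).1⟩, Subgroup.mem_centralizer_singleton_iff.2
          (Subtype.ext (hmem q h).2)⟩ : L) else 1) (fun _ _ => Finset.mem_univ _) ?_
    intro q hq q' hq' e
    simp only [dif_pos (Finset.mem_coe.1 hq), dif_pos (Finset.mem_coe.1 hq'), Subtype.mk.injEq] at e
    have e1 := mul_left_cancel e
    have hx' := (Finset.mem_filter.1 (Finset.mem_coe.1 hq)).2
    have hx'' := (Finset.mem_filter.1 (Finset.mem_coe.1 hq')).2
    refine Prod.ext e1 ?_
    rw [← hx'', ← e1] at hx'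
    exact mul_left_cancel hx'
  have hm : L.index ≤ 2 * C * C := by
    have h := (hx.trans (Nat.mul_le_mul_right _ hfib))
    rw [hT] at h
    have h' : n * (n - 1) * L.index ≤ Nat.card N * Nat.card N := by
      calc n * (n - 1) * L.index ≤ Nat.card L * Nat.card N * L.index := Nat.mul_le_mul_right _ h
        _ = Nat.card L * L.index * Nat.card N := by ring
        _ = Nat.card N * Nat.card N := by rw [Subgroup.card_mul_index]
    rw [← hnc] at h'
    have h'' : (n - 1) * L.index ≤ n * (c * c) := by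
      refine le_of_mul_le_mul_left ?_ (show 0 < n by omega)
      calc n * ((n - 1) * L.index) = n * (n - 1) * L.index := by ring
        _ ≤ n * c * (n * c) := h'
        _ = n * (n * (c * c)) := by ring
    obtain ⟨j, hj⟩ : ∃ j, n = j + 2 := ⟨n - 2, by omega⟩
    rw [hj, show j + 2 - 1 = j + 1 by omega] at h''
    have : (j + 1) * L.index ≤ (j + 1) * (2 * (c * c)) := by
      calc (j + 1) * L.index ≤ (j + 2) * (c * c) := h''
        _ ≤ (j + 1) * (2 * (c * c)) := by nlinarith [Nat.zero_le (j * (c * c))]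
    have h2 := Nat.le_of_mul_le_mul_left this (Nat.succ_pos j)
    have := Nat.mul_le_mul hcC hcC
    calc L.index ≤ 2 * (c * c) := h2
      _ ≤ 2 * C * C := by nlinarith
  by_cases hLtop : L = ⊤
  · -- then `N` is an elementary abelian two-group
    have hxZ : (⟨x, hxN⟩ : N) ∈ Subgroup.center N := Subgroup.mem_center_iff.2 fun g => by
      have hg : g ∈ L := hLtop ▸ Subgroup.mem_top g
      exact Subgroup.mem_centralizer_singleton_iff.1 hg
    have hZn : ((Subgroup.center N).map N.subtype).Normal := inferInstance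
    have hcomm : ∀ g h : G, g ∈ N → h ∈ N → g * h = h * g := by
      rcases hmin _ hZn (Subgroup.map_subtype_le _) with h | h
      · exact absurd (Subgroup.mem_bot.1 (h ▸ ⟨_, hxZ, rfl⟩ : x ∈ (⊥ : Subgroup G))) hx1
      · intro g g' hg hg'
        obtain ⟨z, hz, e⟩ : g' ∈ (Subgroup.center N).map N.subtype := h.symm ▸ hg'
        rw [← e]
        exact congrArg Subtype.val (Subgroup.mem_center_iff.1 hz ⟨g, hg⟩)
    let Ω : Subgroup G :=
      { carrier := {z | z ∈ N ∧ z * z = 1}
        one_mem' := ⟨one_mem _, one_mul 1⟩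
        mul_mem' := fun {a b} ha hb => ⟨mul_mem ha.1 hb.1, by
          rw [mul_assoc, ← mul_assoc b, ← hcomm a b ha.1 hb.1, mul_assoc a b, hb.2, mul_one, ha.2]⟩
        inv_mem' := fun {a} ha => ⟨inv_mem ha.1, by rw [← mul_inv_rev, ha.2, inv_one]⟩ }
    have hΩn : Ω.Normal := ⟨fun z hz g => ⟨hN.conj_mem z hz.1 g, by
      calc g * z * g⁻¹ * (g * z * g⁻¹) = g * (z * z) * g⁻¹ := by group
        _ = 1 := by rw [hz.2]; group⟩⟩
    rcases hmin Ω hΩn (fun z hz => hz.1) with h | h
    · obtain ⟨z, hz⟩ := exists_prime_orderOf_dvd_card' 2 heven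
      have hzΩ : (z : G) ∈ Ω := ⟨z.2, by
        rw [← Subgroup.coe_mul, ← pow_two, ← hz, pow_orderOf_eq_one, OneMemClass.coe_one]⟩
      rw [h, Subgroup.mem_bot] at hzΩ
      replace hzΩ : z = 1 := Subtype.ext hzΩ
      rw [hzΩ, orderOf_one] at hz
      omega
    · have hp : IsPGroup 2 N := fun z => ⟨1, Subtype.ext (by
        have : (z : G) ∈ Ω := h.symm ▸ z.2
        rw [pow_one, pow_two, Subgroup.coe_mul, this.2, OneMemClass.coe_one])⟩
      obtain ⟨j, hj⟩ := IsPGroup.iff_card.1 hp
      have := Nat.pow_le_pow_right (show 0 < 2 by norm_num) (hfac j (hj ▸ dvd_rfl))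
      omega
  · -- a maximal normal subgroup of bounded index
    have hKle : L.normalCore.index ≤ (2 * C * C) ! := by
      rw [Subgroup.normalCore_eq_ker, Subgroup.index_ker]
      refine (Nat.le_of_dvd ?_ (Subgroup.card_subgroup_dvd_card _)).trans ?_
      · exact Nat.card_pos
      · rw [Nat.card_perm]
        exact Nat.factorial_le hm
    obtain ⟨K, hK, hKmax⟩ := Finset.exists_max_image
      (Finset.univ.filter fun R : Subgroup N => R.Normal ∧ L.normalCore ≤ R ∧ R ≠ ⊤)
      (fun R => Nat.card R) ⟨L.normalCore, Finset.mem_filter.2 ⟨Finset.mem_univ _,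
        Subgroup.normalCore_normal L, le_rfl,
        fun h => hLtop (top_unique (h.ge.trans L.normalCore_le))⟩⟩
    simp only [Finset.mem_filter, Finset.mem_univ, true_and] at hK
    haveI := hK.1
    obtain ⟨k, hk⟩ := card_eq_pow hmin hN1 K hK.2.2 fun R hR hle => by
      by_cases hR' : R = ⊤
      · exact Or.inr hR'
      · exact Or.inl (Subgroup.eq_of_le_of_card_ge hle
          (hKmax R (Finset.mem_filter.2 ⟨Finset.mem_univ _, hR, hK.2.1.trans hle, hR'⟩))).symm
    have h2 : 2 ∣ K.index := Nat.prime_two.dvd_of_dvd_pow (hk ▸ heven)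
    have hka : k ≤ a := hfac k (hk ▸ pow_dvd_pow_of_dvd h2 k)
    have hle : K.index ≤ (2 * C * C) ! :=
      (Nat.le_of_dvd (Nat.pos_of_ne_zero Subgroup.index_ne_zero_of_finite)
        (Subgroup.index_dvd_of_le hK.2.1)).trans hKle
    calc Nat.card N = K.index ^ k := hk
      _ ≤ ((2 * C * C) !) ^ k := Nat.pow_le_pow_left hle k
      _ ≤ ((2 * C * C) !) ^ a := Nat.pow_le_pow_right (Nat.factorial_pos _) hka
      _ ≤ C + 2 ^ a + ((2 * C * C) !) ^ a := Nat.le_add_left _ _

/-- The bound. -/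
noncomputable def bnd : ℕ → ℕ → ℕ
  | 0, _ => 0
  | a + 1, C => C * C * C * ((C + 2 ^ (a + 1) + ((2 * C * C) !) ^ (a + 1)) * (bnd a C + C))

theorem card_le (a : ℕ) : ∀ (C : ℕ) (G : Type u) [Group G] [Finite G] (u v : G),
    u * u = 1 → v * v = 1 → u * v = v * u → u ≠ 1 → v ≠ 1 → u ≠ v →
    (Nat.card G).factorization 2 ≤ a →
    Nat.card (Subgroup.centralizer ({u} : Set G)) ≤ C →
    Nat.card (Subgroup.centralizer ({v} : Set G)) ≤ C →
    Nat.card (Subgroup.centralizer ({u * v} : Set G)) ≤ C → Nat.card G ≤ bnd a C := by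
  induction a with
  | zero =>
    intro C G _ _ u v hu _ _ hu1 _ _ ha _ _ _
    exfalso
    have h2 : 2 ∣ Nat.card G := by rw [← orderOf_two hu hu1]; exact orderOf_dvd_natCard u
    have := Nat.Prime.factorization_pos_of_dvd Nat.prime_two Nat.card_pos.ne' h2
    omega
  | succ a ih =>
    intro C G _ _ u v hu hv huv hu1 hv1 hne ha hCu hCv hCuv
    classical
    haveI := Fintype.ofFinite G
    haveI : Fact (Nat.Prime 2) := ⟨Nat.prime_two⟩
    have hw : (u * v) * (u * v) = 1 := by
      rw [mul_assoc, ← mul_assoc v, ← huv, mul_assoc u v, hv, mul_one, hu]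
    have hw1 : u * v ≠ 1 := fun e => hne (by
      calc u = u * (v * v) := by rw [hv, mul_one]
        _ = v := by rw [← mul_assoc, e, one_mul])
    obtain ⟨O, hO, hOmax⟩ := Finset.exists_max_image
      (Finset.univ.filter fun N : Subgroup G => N.Normal ∧ Odd (Nat.card N))
      (fun N => Nat.card N) ⟨⊥, Finset.mem_filter.2 ⟨Finset.mem_univ _, inferInstance, by simp⟩⟩
    simp only [Finset.mem_filter, Finset.mem_univ, true_and] at hO
    haveI := hO.1
    have hOcard : Nat.card O ≤ C * C * C :=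
      (card_odd_le hO.2 hu hv huv).trans (Nat.mul_le_mul (Nat.mul_le_mul hCu hCv) hCuv)
    have hGO : Nat.card G = Nat.card O * Nat.card (G ⧸ O) := by
      rw [mul_comm]; exact Subgroup.card_eq_card_quotient_mul_card_subgroup O
    -- the quotient
    have hne' : ∀ y : G, y * y = 1 → y ≠ 1 → (y : G ⧸ O) ≠ 1 := fun y hy hy1 e =>
      not_mem_of_odd hO.2 hy hy1 ((QuotientGroup.eq_one_iff y).1 e)
    suffices hQ : Nat.card (G ⧸ O) ≤
        (C + 2 ^ (a + 1) + ((2 * C * C) !) ^ (a + 1)) * (bnd a C + C) by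
      rw [hGO, bnd]
      exact Nat.mul_le_mul hOcard hQ
    set Q := G ⧸ O
    have hOQ : ∀ N : Subgroup Q, N.Normal → Odd (Nat.card N) → N = ⊥ := by
      intro N hN hodd
      have hle : O ≤ N.comap (QuotientGroup.mk' O) := fun x hx => by
        rw [Subgroup.mem_comap, QuotientGroup.mk'_apply, (QuotientGroup.eq_one_iff x).2 hx]
        exact one_mem _
      have h := CfsgLib.Solv.card_map_mk' O (N.comap (QuotientGroup.mk' O))
      rw [inf_eq_right.2 hle,
        Subgroup.map_comap_eq_self_of_surjective (QuotientGroup.mk'_surjective O)] at h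
      have hle' := hOmax (N.comap (QuotientGroup.mk' O)) (Finset.mem_filter.2
        ⟨Finset.mem_univ _, hN.comap _, by rw [← h]; exact hodd.mul hO.2⟩)
      rw [← h] at hle'
      refine Subgroup.eq_bot_of_card_eq N (le_antisymm ?_ Nat.card_pos)
      by_contra hc
      have := Nat.mul_lt_mul_of_pos_right (not_le.1 hc) (Nat.card_pos (α := O))
      nlinarith
    have hfQ : (Nat.card Q).factorization 2 ≤ a + 1 := by
      refine le_trans ?_ ha
      have h := Nat.factorization_le_iff_dvd (Nat.card_pos (α := Q)).ne' (Nat.card_pos (α := G)).ne'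
      exact h.2 (hGO ▸ Dvd.intro_left _ rfl) 2
    have hu' : (u : Q) * u = 1 := by rw [← QuotientGroup.mk_mul, hu]; rfl
    have hv' : (v : Q) * v = 1 := by rw [← QuotientGroup.mk_mul, hv]; rfl
    have hCu' := (card_centralizer_quotient_le O u).trans hCu
    have hCv' := (card_centralizer_quotient_le O v).trans hCv
    have hCw' : Nat.card (Subgroup.centralizer ({(u : Q) * v} : Set Q)) ≤ C := by
      rw [← QuotientGroup.mk_mul]
      exact (card_centralizer_quotient_le O (u * v)).trans hCuv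
    have huv' : (u : Q) * v = v * u := by rw [← QuotientGroup.mk_mul, huv]; rfl
    haveI : Nontrivial Q := ⟨⟨u, 1, hne' u hu hu1⟩⟩
    -- a minimal normal subgroup
    obtain ⟨N, hN, hNmin⟩ := Finset.exists_min_image
      (Finset.univ.filter fun N : Subgroup Q => N.Normal ∧ N ≠ ⊥)
      (fun N => Nat.card N) ⟨⊤, Finset.mem_filter.2 ⟨Finset.mem_univ _, inferInstance, top_ne_bot⟩⟩
    simp only [Finset.mem_filter, Finset.mem_univ, true_and] at hN
    haveI := hN.1
    have hmin : ∀ R : Subgroup Q, R.Normal → R ≤ N → R = ⊥ ∨ R = N := fun R hR hle => by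
      by_cases hR' : R = ⊥
      · exact Or.inl hR'
      · exact Or.inr (Subgroup.eq_of_le_of_card_ge hle
          (hNmin R (Finset.mem_filter.2 ⟨Finset.mem_univ _, hR, hR'⟩)))
    have heven : 2 ∣ Nat.card N := by
      by_contra h
      exact hN.2 (hOQ N hN.1 (Nat.odd_iff.2 (Nat.two_dvd_ne_zero.1 h)))
    have hNle := card_minimal_le hmin hN.2 heven hu' hfQ hCu'
    have hQN : Nat.card Q = Nat.card N * Nat.card (Q ⧸ N) := by
      rw [mul_comm]; exact Subgroup.card_eq_card_quotient_mul_card_subgroup N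
    rw [hQN]
    refine Nat.mul_le_mul hNle ?_
    -- either some involution falls into `N` or we recurse
    by_cases hin : ∃ y : Q, y ∈ N ∧ Nat.card (Subgroup.centralizer ({y} : Set Q)) ≤ C ∧
        (y = u ∨ y = v ∨ y = (u : Q) * v)
    · obtain ⟨y, hy, hyC, -⟩ := hin
      have h := card_centralizer_quotient_le N y
      rw [(QuotientGroup.eq_one_iff y).2 hy, Subgroup.centralizer_eq_top_iff_subset.2
        (fun z hz => by rw [Set.mem_singleton_iff.1 hz]; exact one_mem _), Subgroup.card_top] at h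
      omega
    push Not at hin
    have h1 : (u : Q) ∉ N := fun h => (hin _ h hCu').1 rfl
    have h2 : (v : Q) ∉ N := fun h => (hin _ h hCv').2.1 rfl
    have h3 : (u : Q) * v ∉ N := fun h => (hin _ h hCw').2.2 rfl
    refine le_trans ?_ (Nat.le_add_right _ C)
    refine ih C (Q ⧸ N) ((u : Q) : Q ⧸ N) ((v : Q) : Q ⧸ N) ?_ ?_ ?_ ?_ ?_ ?_ ?_
      ((card_centralizer_quotient_le N _).trans hCu') ((card_centralizer_quotient_le N _).trans hCv')
      ?_
    · rw [← QuotientGroup.mk_mul, hu']; rfl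
    · rw [← QuotientGroup.mk_mul, hv']; rfl
    · rw [← QuotientGroup.mk_mul, huv']; rfl
    · exact fun e => h1 ((QuotientGroup.eq_one_iff _).1 e)
    · exact fun e => h2 ((QuotientGroup.eq_one_iff _).1 e)
    · intro e
      have e' := QuotientGroup.eq.1 e
      rw [inv_eq_of_mul_eq_one_right hu'] at e'
      exact h3 e'
    · have h : (Nat.card Q).factorization 2 =
          (Nat.card N).factorization 2 + (Nat.card (Q ⧸ N)).factorization 2 := by
        rw [hQN, Nat.factorization_mul Nat.card_pos.ne' Nat.card_pos.ne']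
        rfl
      have := Nat.Prime.factorization_pos_of_dvd Nat.prime_two Nat.card_pos.ne' heven
      omega
    · rw [← QuotientGroup.mk_mul]
      exact (card_centralizer_quotient_le N _).trans hCw'

end CfsgLib.FourBound
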