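import Cfsg.Agent.Blk.Rank
import Mathlib.GroupTheory.Perm.Fin
import Mathlib.FieldTheory.Finite.Basic

/-!
The `p`-th power trick in the group algebra in characteristic `p`, the invariance of the principal
block idempotent under the Frobenius of the residue field, and the resulting sum rule over the
`p`-elements.
-/

set_option autoImplicit false
set_option linter.style.haveILetI false
set_option linter.unusedSectionVars false

namespace CfsgLib.Blk

open Cfsg CfsgLib.Char MonoidAlgebra Finset
open scoped ComplexConjugate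

universe u

variable {G : Type u} [Group G] [Finite G]

theorem coeff_pow_eq_sum [Fintype G] [DecidableEq G] {R : Type*} [CommRing R]
    (a : MonoidAlgebra R G) (n : ℕ) (g : G) :
    (a ^ n).coeff g =
      ∑ f : Fin n → G, if (List.ofFn f).prod = g then ∏ i, a.coeff (f i) else 0 := by
  induction n generalizing g with
  | zero =>
    rw [pow_zero, MonoidAlgebra.one_def, MonoidAlgebra.coeff_single]
    by_cases hg : (1 : G) = g
    · subst hg; simp
    · simp [hg]
  | succ n ih =>
    rw [pow_succ', coeff_mul_sum, ← (Fin.consEquiv fun _ : Fin (n + 1) => G).sum_comp,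
      Fintype.sum_prod_type]
    refine Finset.sum_congr rfl fun x _ => ?_
    rw [ih, Finset.mul_sum]
    refine Finset.sum_congr rfl fun f _ => ?_
    simp only [Fin.consEquiv_apply, List.ofFn_succ, Fin.cons_zero, Fin.cons_succ, List.prod_cons,
      Fin.prod_univ_succ]
    rw [mul_ite, mul_zero]
    exact if_congr ⟨fun h => by rw [h, mul_inv_cancel_left], fun h => by
      rw [← h, inv_mul_cancel_left]⟩ rfl rfl

theorem prod_ofFn_rotate {n : ℕ} (f : Fin n → G) :
    (List.ofFn (fun i => f (finRotate n i))).prod = 1 ↔ (List.ofFn f).prod = 1 := by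
  cases n with
  | zero => simp
  | succ m =>
    rw [List.ofFn_succ' (f := fun i => f (finRotate (m + 1) i)), List.ofFn_succ (f := f),
      List.prod_cons, List.concat_eq_append, List.prod_append, List.prod_singleton]
    have e : ∀ i : Fin m, finRotate (m + 1) i.castSucc = i.succ := fun i => by
      rw [finRotate_succ_apply, Fin.coeSucc_eq_succ]
    have e' : finRotate (m + 1) (Fin.last m) = 0 := finRotate_last
    simp only [e, e']
    exact mul_eq_one_comm

/-- The coefficient at `1` of a `p`-power power, in characteristic `p`. -/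
theorem coeff_pow_primePow_one [Fintype G] [DecidableEq G] {R : Type*} [CommRing R] {p : ℕ}
    [Fact p.Prime] [CharP R p] (a : MonoidAlgebra R G) (k : ℕ) :
    (a ^ p ^ k).coeff 1 = ∑ h : G, if h ^ p ^ k = 1 then a.coeff h ^ p ^ k else 0 := by
  classical
  rw [coeff_pow_eq_sum]
  set n := p ^ k with hn
  haveI : NeZero n := ⟨pow_ne_zero _ (Fact.out : p.Prime).ne_zero⟩
  let σ := finRotate n
  have hσ : ∀ (j : ℕ) (i : Fin n), ((σ ^ j) i).val = (i.val + j) % n := by
    intro j
    induction j with
    | zero => intro i; simp [Nat.mod_eq_of_lt i.isLt]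
    | succ j ih =>
      intro i
      rw [pow_succ', Equiv.Perm.mul_apply]
      simp only [σ, finRotate_apply, Fin.val_add, Fin.val_one', Nat.add_mod_mod]
      rw [ih, Nat.mod_add_mod, add_assoc]
  have hQ : IsPGroup p (Subgroup.zpowers σ) := by
    obtain ⟨i, -, hi⟩ := (Nat.dvd_prime_pow (Fact.out : p.Prime)).1
      (orderOf_dvd_of_pow_eq_one (n := p ^ k) (x := σ) (Equiv.ext fun i => Fin.ext (by
        rw [← hn, hσ, Nat.add_mod_right, Nat.mod_eq_of_lt i.isLt]; rfl)))
    exact IsPGroup.of_card (n := i) (by rw [Nat.card_zpowers, hi])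
  let F : (Fin n → G) → R := fun f =>
    if (List.ofFn f).prod = 1 then ∏ i, a.coeff (f i) else 0
  have hF : ∀ f, F (fun i => f (σ i)) = F f := by
    intro f
    simp only [F]
    exact if_congr (prod_ofFn_rotate f) (Equiv.prod_comp σ fun i => a.coeff (f i)) rfl
  have hFpow : ∀ (j : ℕ) f, F (fun i => f ((σ ^ j) i)) = F f := by
    intro j
    induction j with
    | zero => intro f; simp
    | succ j ih =>
      intro f
      rw [← ih f, ← hF (fun i => f ((σ ^ j) i))]
      simp only [pow_succ, Equiv.Perm.mul_apply]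
  letI : MulAction (Subgroup.zpowers σ) (Fin n → G) :=
    { smul := fun q f => fun i => f ((q : Equiv.Perm (Fin n))⁻¹ i)
      one_smul := fun f => by funext i; change f _ = f i; simp
      mul_smul := fun q r f => by
        funext i
        change f _ = f _
        simp [mul_inv_rev] }
  change ∑ f, F f = _
  rw [sum_eq_sum_fixedPoints hQ F fun q f => by
    obtain ⟨j, hj⟩ := mem_powers_iff_mem_zpowers.2 (inv_mem q.2)
    change F (fun i => f ((q : Equiv.Perm (Fin n))⁻¹ i)) = F f
    rw [← show σ ^ j = (q : Equiv.Perm (Fin n))⁻¹ from hj]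
    exact hFpow j f]
  rw [Finset.sum_filter]
  have hfix : ∀ f : Fin n → G, f ∈ MulAction.fixedPoints (Subgroup.zpowers σ) (Fin n → G) ↔
      ∃ h : G, (fun _ => h) = f := by
    intro f
    constructor
    · intro hf
      refine ⟨f 0, funext fun i => ?_⟩
      have h1 := congrFun (hf ⟨(σ ^ (i : ℕ))⁻¹, inv_mem (Subgroup.pow_mem _
        (Subgroup.mem_zpowers σ) _)⟩) 0
      change f (((σ ^ (i : ℕ))⁻¹)⁻¹ 0) = f 0 at h1
      rw [inv_inv, show (σ ^ (i : ℕ)) 0 = i from Fin.ext (by
        rw [hσ, Fin.val_zero, zero_add, Nat.mod_eq_of_lt i.isLt])] at h1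
      exact h1.symm
    · rintro ⟨h, rfl⟩ q
      rfl
  rw [← Finset.sum_filter]
  have himg : (Finset.univ.filter fun f : Fin n → G =>
      f ∈ MulAction.fixedPoints (Subgroup.zpowers σ) (Fin n → G)) =
      Finset.univ.image fun h : G => fun _ : Fin n => h := by
    ext f
    simp [hfix]
  rw [himg, Finset.sum_image fun x _ y _ h => congrFun h 0]
  refine Finset.sum_congr rfl fun h _ => ?_
  simp only [F, List.ofFn_const, List.prod_replicate, Finset.prod_const, Finset.card_univ,
    Fintype.card_fin]

variable {M : Ideal AlgInt} [M.IsPrime] {p : ℕ} [Fact p.Prime]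

theorem eq_of_omegaBar_idem (hM : IsPModular p M) {a b : MonoidAlgebra (locRing M) G}
    (ha : IsClassCoeff a) (hb : IsClassCoeff b) (hai : IsIdempotentElem (redA a))
    (hbi : IsIdempotentElem (redA b))
    (h : ∀ χ : IrrCharacter G, omegaBar (χ : G → ℂ) a = omegaBar (χ : G → ℂ) b) :
    redA a = redA b := by
  have hnil := isNilpotent_redA hM (ha.sub hb) fun χ => by
    rw [omegaBar_sub χ.2 ha hb, h, sub_self]
  rw [map_sub] at hnil
  have hc : Commute (redA a) (redA b) := (ha.redA).commute _
  set A := redA a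
  set B := redA b
  have hA : A * A = A := hai.eq
  have hB : B * B = B := hbi.eq
  have h1 : (A - B) ^ 3 = A - B := by
    have e : (A - B) * (A - B) = A + B - (A * B + A * B) := by
      simp only [sub_mul, mul_sub, hA, hB, ← hc.eq]
      abel
    rw [pow_succ, pow_two, e]
    simp only [sub_mul, add_mul, mul_sub, mul_add, mul_assoc, hA, hB]
    rw [← hc.eq, ← mul_assoc A A, hA]
    abel
  obtain ⟨n, hn⟩ := hnil
  have h2 : ∀ j : ℕ, (A - B) ^ (2 * j + 1) = A - B := by
    intro j
    induction j with
    | zero => simp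
    | succ j ih =>
      calc (A - B) ^ (2 * (j + 1) + 1) = (A - B) ^ (2 * j + 1) * (A - B) ^ 2 := by
            rw [← pow_add]; ring_nf
        _ = (A - B) ^ 3 := by rw [ih, ← pow_succ']
        _ = A - B := h1
  rw [← sub_eq_zero, ← h2 n]
  exact pow_eq_zero_of_le (by omega) hn

/-- The Frobenius of the residue field fixes the principal block idempotent. -/
theorem frobenius_principalBlockCoeff (hM : IsPModular p M) (g : G) :
    red M (blockCoeff (principalBlock M G) g) ^ p = red M (blockCoeff (principalBlock M G) g) := by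
  classical
  haveI := charP_res (M := M) hM
  let φ : MonoidAlgebra (Res M) G →+* MonoidAlgebra (Res M) G :=
    MonoidAlgebra.mapRingHom G (frobenius (Res M) p)
  have hφinj : Function.Injective φ := by
    intro a b h
    refine MonoidAlgebra.coeff_injective (Finsupp.ext fun x => frobenius_inj (Res M) p ?_)
    have := congrArg (fun z : MonoidAlgebra (Res M) G => z.coeff x) h
    simpa [φ] using this
  let Bl := {B : Set (IrrCharacter G) // IsPBlock M B}
  haveI : Fintype Bl := Fintype.ofFinite _
  let E : Bl → MonoidAlgebra (Res M) G := fun B => redA (blockIdem hM B.2)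
  have hEc : ∀ B, IsClassCoeff (φ (E B)) := fun B x y => by
    simp only [φ, MonoidAlgebra.coeff_mapRingHom, E]
    rw [(isClassCoeff_blockIdem hM B.2).redA x y]
  choose a ha hae using fun B => exists_lift_classCoeff (hEc B)
  have hidem : ∀ B, IsIdempotentElem (E B) := fun B => by
    change redA _ * redA _ = redA _
    rw [← map_mul, blockIdem_mul_self]
  have hval : ∀ B (χ : IrrCharacter G),
      omegaBar (χ : G → ℂ) (a B) = 0 ∨ omegaBar (χ : G → ℂ) (a B) = 1 := by
    intro B χ
    refine IsIdempotentElem.iff_eq_zero_or_one.1 ?_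
    change _ * _ = _
    rw [← omegaBar_mul χ.2 (ha B) (ha B)]
    refine omegaBar_of_redA_eq χ.2 ((ha B).mul (ha B)) (ha B) ?_
    rw [map_mul, hae, ← map_mul, (hidem B).eq]
  -- the idempotents are nonzero, orthogonal and sum to `1`
  have horth : ∀ B B' : Bl, B ≠ B' → ∀ χ : IrrCharacter G,
      omegaBar (χ : G → ℂ) (a B) * omegaBar (χ : G → ℂ) (a B') = 0 := by
    intro B B' hne χ
    rw [← omegaBar_mul χ.2 (ha B) (ha B'),
      omegaBar_of_redA_eq χ.2 ((ha B).mul (ha B')) isClassCoeff_zero ?_, omegaBar_zero]
    rw [map_mul, hae, hae, ← map_mul, map_zero]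
    change φ (redA _ * redA _) = 0
    rw [← map_mul redA, blockIdem_mul_ne hM B.2 B'.2 (fun h => hne (Subtype.ext h)), map_zero,
      map_zero]
  have hne : ∀ B : Bl, ∃ χ : IrrCharacter G, omegaBar (χ : G → ℂ) (a B) = 1 := by
    intro B
    by_contra! hno
    obtain ⟨χ, hχ⟩ := isPBlock_nonempty B.2
    have h0 := isNilpotent_redA hM (ha B) fun θ => (hval B θ).resolve_right (hno θ)
    rw [hae] at h0
    have h1 : E B = 0 := hφinj (by
      rw [map_zero]
      exact IsIdempotentElem.eq_zero_of_isNilpotent (((hidem B).map φ)) h0)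
    have h2 : omegaBar (χ : G → ℂ) (blockIdem hM B.2) = 1 := by
      rw [omegaBar_blockIdem, if_pos hχ]
    rw [omegaBar_of_redA_eq χ.2 (isClassCoeff_blockIdem hM B.2) isClassCoeff_zero
      (by rw [map_zero]; exact h1), omegaBar_zero] at h2
    exact zero_ne_one h2
  choose χ hχ using hne
  let τ : Bl → Bl := fun B => ⟨blockOf M (χ B : G → ℂ), blockOf_isPBlock _⟩
  have hτ : Function.Injective τ := by
    intro B B' h
    by_contra hne
    have h1 := horth B B' hne (χ B)
    have h2 : omegaBar (χ B : G → ℂ) (a B') = omegaBar (χ B' : G → ℂ) (a B') :=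
      omegaBar_congr (χ B).2 (χ B').2
        (blockOf_eq_iff.1 (congrArg Subtype.val h)) (ha B')
    rw [hχ, h2, hχ, one_mul] at h1
    exact one_ne_zero h1
  have hsurj : Function.Surjective τ := Finite.injective_iff_surjective.1 hτ
  let B₀ : Bl := ⟨principalBlock M G, isPBlock_principalBlock⟩
  -- the value at the trivial character
  have hone : omegaBar (fun _ : G => (1 : ℂ)) (a B₀) = 1 := by
    haveI := Fintype.ofFinite G
    have hsum : ∀ b : MonoidAlgebra (locRing M) G,
        omega (fun _ : G => (1 : ℂ)) b = ∑ x : G, (b.coeff x : ℂ) := fun b => by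
      rw [omega_eq]; simp
    have hb := omegaBar_blockIdem hM B₀.2 (⟨_, isIrr_one⟩ : IrrCharacter G)
    rw [if_pos one_mem_principalBlock, omegaBar, hsum, red_sum _ _ fun x _ =>
      SetLike.coe_mem _] at hb
    rw [omegaBar, hsum, red_sum _ _ fun x _ => SetLike.coe_mem _]
    have e : ∀ x : G, red M ((a B₀).coeff x : ℂ) =
        frobenius (Res M) p (red M ((blockIdem hM B₀.2).coeff x : ℂ)) := fun x => by
      rw [red_coe, red_coe]
      have := congrArg (fun z : MonoidAlgebra (Res M) G => z.coeff x) (hae B₀)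
      simpa [φ, E] using this
    rw [Finset.sum_congr rfl fun x _ => e x, ← map_sum, hb, map_one]
  have key : ∀ θ : IrrCharacter G,
      omegaBar (θ : G → ℂ) (a B₀) = omegaBar (θ : G → ℂ) (blockIdem hM B₀.2) := by
    intro θ
    rw [omegaBar_blockIdem]
    split_ifs with hθ
    · rw [omegaBar_congr θ.2 isIrr_one (sameBlock_symm hθ) (ha B₀)]
      exact hone
    · refine (hval B₀ θ).resolve_right fun h1 => ?_
      obtain ⟨B, hB⟩ := hsurj ⟨blockOf M (θ : G → ℂ), blockOf_isPBlock θ⟩
      have hsame : SameBlock M (χ B : G → ℂ) (θ : G → ℂ) :=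
        blockOf_eq_iff.1 (congrArg Subtype.val hB)
      have hBne : B ≠ B₀ := by
        rintro rfl
        obtain ⟨B', hB'⟩ := hsurj B₀
        have hval' : blockOf M (χ B' : G → ℂ) = principalBlock M G := congrArg Subtype.val hB'
        have hmem' : χ B' ∈ principalBlock M G := hval' ▸ sameBlock_refl (χ B' : G → ℂ)
        have hs' : SameBlock M (χ B' : G → ℂ) (fun _ : G => (1 : ℂ)) := sameBlock_symm hmem' 
        have hB'0 : B' = B₀ := by
          by_contra hne'
          have h2 := horth B' B₀ hne' (χ B')
          rw [hχ, omegaBar_congr (χ B').2 isIrr_one hs' (ha B₀), hone, one_mul] at h2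
          exact one_ne_zero h2
        subst hB'0
        exact hθ (sameBlock_trans (sameBlock_symm hs') hsame)
      have h2 := horth B B₀ hBne (χ B)
      rw [hχ, omegaBar_congr (χ B).2 θ.2 hsame (ha B₀), h1, one_mul] at h2
      exact one_ne_zero h2
  have heq := eq_of_omegaBar_idem hM (ha B₀) (isClassCoeff_blockIdem hM B₀.2)
    (by rw [hae]; exact (hidem B₀).map φ) (hidem B₀) key
  rw [hae] at heq
  have hg := congrArg (fun z : MonoidAlgebra (Res M) G => z.coeff g) heq
  simp only [φ, E, MonoidAlgebra.coeff_mapRingHom, coeff_redA, frobenius_def] at hg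
  rw [← coeff_blockIdem hM B₀.2, red_coe]
  exact hg

/-- Summing the principal idempotent over the `p`-elements times a regular element. -/
theorem sum_pElem_blockCoeff (hM : IsPModular p M) [Fintype G]
    [DecidablePred fun u : G => ∃ k : ℕ, orderOf u = p ^ k] {g : G} (hg : ¬ p ∣ orderOf g) :
    ∑ u : G, (if ∃ k : ℕ, orderOf u = p ^ k then
      red M (blockCoeff (principalBlock M G) (u * g)) else 0) =
      red M (blockCoeff (principalBlock M G) g) := by
  classical
  have hp : p.Prime := Fact.out
  haveI := charP_res (M := M) hM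
  set e := redA (blockIdem hM (isPBlock_principalBlock (M := M) (G := G)))
  have he : ∀ x : G, e.coeff x = red M (blockCoeff (principalBlock M G) x) := fun x => by
    rw [coeff_redA, ← red_coe, coeff_blockIdem]
  set k := (orderOf g).totient * (pExp p G + 1)
  have hk : pExp p G ≤ k := by
    have : 0 < (orderOf g).totient := Nat.totient_pos.2 (orderOf_pos g)
    calc pExp p G ≤ 1 * (pExp p G + 1) := by omega
      _ ≤ k := Nat.mul_le_mul_right _ this
  have hgk : g⁻¹ ^ p ^ k = g⁻¹ := by
    conv_rhs => rw [← pow_one g⁻¹]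
    rw [pow_eq_pow_iff_modEq, orderOf_inv]
    have h1 := Nat.ModEq.pow_totient (hp.coprime_iff_not_dvd.2 hg)
    have h2 := h1.pow (pExp p G + 1)
    rwa [one_pow, ← pow_mul] at h2
  have hpel : ∀ h : G, h ^ p ^ k = 1 ↔ ∃ j : ℕ, orderOf h = p ^ j := by
    intro h
    constructor
    · intro hh
      obtain ⟨j, -, hj⟩ := (Nat.dvd_prime_pow hp).1 (orderOf_dvd_of_pow_eq_one hh)
      exact ⟨j, hj⟩
    · rintro ⟨j, hj⟩
      rw [← orderOf_dvd_iff_pow_eq_one, hj]
      exact pow_dvd_pow p (le_trans ((hp.pow_dvd_iff_le_factorization Nat.card_pos.ne').1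
        (hj ▸ orderOf_dvd_natCard h)) hk)
  have hpk : p ^ k ≠ 0 := pow_ne_zero _ hp.ne_zero
  have hidem0 : IsIdempotentElem e := by
    change e * e = e
    rw [← map_mul, blockIdem_mul_self]
  have hidem : e ^ p ^ k = e := hidem0.pow_eq hpk
  have hmain := coeff_pow_primePow_one (e * single g⁻¹ (1 : Res M)) (p := p) k
  rw [((isClassCoeff_blockIdem hM isPBlock_principalBlock).redA.commute _).mul_pow, hidem,
    single_pow, one_pow, hgk] at hmain
  simp only [coeff_mul_single_apply, inv_inv, mul_one, one_mul, he, hpel] at hmain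
  have hfix : ∀ j : ℕ, red M (blockCoeff (principalBlock M G) g) ^ p ^ j =
      red M (blockCoeff (principalBlock M G) g) := by
    intro j
    induction j with
    | zero => simp
    | succ j ih => rw [pow_succ, pow_mul, ih, frobenius_principalBlockCoeff hM]
  refine iterateFrobenius_inj (Res M) p k ?_
  simp only [iterateFrobenius_def, hfix]
  rw [sum_pow_char_pow, hmain]
  refine Finset.sum_congr rfl fun u _ => ?_
  split_ifs
  · rfl
  · rw [zero_pow hpk]

end CfsgLib.Blk
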