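import Cfsg.Agent.Blk.NormalP
import Cfsg.Agent.Blk.Inflate
import Cfsg.Agent.Blk.FirstMain

/-!
Green's theorem: a defect group is the intersection of two Sylow subgroups.
-/

set_option autoImplicit false
set_option linter.style.haveILetI false
set_option linter.unusedSectionVars false

namespace CfsgLib.Blk

open Cfsg CfsgLib.Char MonoidAlgebra Finset
open scoped ComplexConjugate

universe u

variable {G : Type u} [Group G] [Finite G] {M : Ideal AlgInt} [M.IsPrime] {p : ℕ} [Fact p.Prime]

/-- With a character of defect zero: a class of defect zero and unit central character has a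
member `x` with `S ∩ x S x⁻¹ = 1`. -/
theorem exists_trivial_inter (hM : IsPModular p M) {χ : IrrCharacter G}
    (hv : (charDegree (χ : G → ℂ)).factorization p = (Nat.card G).factorization p) {g : G}
    (hC : ¬ p ∣ Nat.card (Subgroup.centralizer ({g} : Set G)))
    (hω : ¬ MemLocalIdeal M (centralChar (χ : G → ℂ) g)) (S : Sylow p G) :
    ∃ x, IsConj g x ∧ ∀ k ∈ (S : Subgroup G), x⁻¹ * k * x ∈ (S : Subgroup G) → k = 1 := by
  classical
  haveI := Fintype.ofFinite G
  haveI := Fintype.ofFinite (S : Subgroup G)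
  haveI : CharP (Res M) p := charP_res hM
  have hp : p.Prime := Fact.out
  set n := (Nat.card G).factorization p with hn
  obtain ⟨c, hc⟩ := Nat.ordProj_dvd (charDegree (χ : G → ℂ)) p
  obtain ⟨u, hu⟩ := Nat.ordProj_dvd (Nat.card G) p
  rw [hv] at hc
  have hpn : (p : ℂ) ^ n ≠ 0 := pow_ne_zero _ (Nat.cast_ne_zero.2 hp.ne_zero)
  have hu0 : (u : ℂ) ≠ 0 := Nat.cast_ne_zero.2 fun h => by simp [h] at hu
  have hpu : ¬ p ∣ u := fun h => Nat.pow_succ_factorization_not_dvd Nat.card_pos.ne' hp (by
    rw [← hn, pow_succ, hu]; exact Nat.mul_dvd_mul_left _ h)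
  have hpc : ¬ p ∣ c := fun h => Nat.pow_succ_factorization_not_dvd (charDegree_pos χ.2).ne' hp (by
    rw [hv, pow_succ, hc]; exact Nat.mul_dvd_mul_left _ h)
  have hχ1 : (χ : G → ℂ) 1 = (p : ℂ) ^ n * c := by rw [irr_one_eq χ.2, hc]; push_cast; rfl
  have hG : (Nat.card G : ℂ) = (p : ℂ) ^ n * u := by rw [hu]; push_cast; rfl
  have hmem : ∀ x : G, blockCoeff ({χ} : Set (IrrCharacter G)) x ∈ locRing M := by
    intro x
    rw [blockCoeff, finsum_mem_singleton, hχ1, hG, mul_inv, ← mul_assoc,
      show ((p : ℂ) ^ n)⁻¹ * (u : ℂ)⁻¹ * ((p : ℂ) ^ n * c) = (u : ℂ)⁻¹ * c by field_simp]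
    exact mul_mem (mul_mem (natCast_inv_mem hM hpu) (natCast_mem _ c)) (conj_irr_mem χ x)
  have hB : blockOf M (χ : G → ℂ) = {χ} :=
    Set.Subset.antisymm (blockOf_subset_of_blockCoeff_mem hmem rfl)
      (Set.singleton_subset_iff.2 (sameBlock_refl _))
  have hvan : ∀ y : G, p ∣ orderOf y → (χ : G → ℂ) y = 0 := by
    intro y hy
    have h := blockCoeff_eq_zero_of_singular hM (blockOf_isPBlock (M := M) χ) hy
    rw [hB, blockCoeff, finsum_mem_singleton] at h
    simpa [natCard_ne_zero G, irr_one_ne_zero χ.2] using h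
  have hval : ∀ y : G, p ∣ Nat.card (Subgroup.centralizer ({y} : Set G)) →
      MemLocalIdeal M ((χ : G → ℂ) y) := by
    intro y hy
    have hi : ((Subgroup.centralizer ({y} : Set G)).index : ℂ) *
        (Nat.card (Subgroup.centralizer ({y} : Set G)) : ℂ) = (p : ℂ) ^ n * u := by
      rw [← Nat.cast_mul, Subgroup.index_mul_card, hG]
    have e : (χ : G → ℂ) y = centralChar (χ : G → ℂ) y * ((u : ℂ)⁻¹ * c) *
        (Nat.card (Subgroup.centralizer ({y} : Set G)) : ℂ) := by
      have h2 : centralChar (χ : G → ℂ) y * (p : ℂ) ^ n * c =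
          ((Subgroup.centralizer ({y} : Set G)).index : ℂ) * (χ : G → ℂ) y := by
        rw [centralChar, hχ1, mul_assoc, div_mul_cancel₀ _ (by rw [← hχ1]; exact irr_one_ne_zero χ.2)]
      field_simp
      refine mul_left_cancel₀ hpn ?_
      linear_combination (-(χ : G → ℂ) y) * hi +
        (-(Nat.card (Subgroup.centralizer ({y} : Set G)) : ℂ)) * h2
    rw [e]
    exact memLocalIdeal_mul_left
      (mul_mem (centralChar_mem χ.2 y) (mul_mem (natCast_inv_mem hM hpu) (natCast_mem _ c)))
      ((natCast_memLocalIdeal_iff hM _).2 hy)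
  -- the class, acted on freely by the Sylow subgroup
  by_contra hne
  push Not at hne
  let T := {x : G // IsConj g x}
  haveI : Fintype T := Fintype.ofFinite _
  letI : MulAction (S : Subgroup G) T :=
    { smul := fun q x => ⟨(q : G) * x.1 * (q : G)⁻¹, x.2.trans (isConj_iff.2 ⟨q, rfl⟩)⟩
      one_smul := fun x => Subtype.ext (by
        show ((1 : (S : Subgroup G)) : G) * x.1 * ((1 : (S : Subgroup G)) : G)⁻¹ = x.1
        simp)
      mul_smul := fun q r x => Subtype.ext (by
        show ((q * r : (S : Subgroup G)) : G) * x.1 * ((q * r : (S : Subgroup G)) : G)⁻¹ =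
          (q : G) * ((r : G) * x.1 * (r : G)⁻¹) * (q : G)⁻¹
        simp [mul_assoc]) }
  let F : T → ℂ := fun x => ∑ h : (S : Subgroup G), (χ : G → ℂ) (x.1 * h)
  have hFinv : ∀ (q : (S : Subgroup G)) (x : T), F (q • x) = F x := by
    intro q x
    show ∑ h : (S : Subgroup G), (χ : G → ℂ) ((q : G) * x.1 * (q : G)⁻¹ * h) = _
    refine Fintype.sum_equiv (MulAut.conj q⁻¹ : MulAut (S : Subgroup G)).toEquiv _ _ fun h => ?_
    rw [← classFun_of_irr χ.2 (x.1 * _) (q : G)]
    congr 1
    simp [mul_assoc]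
  have hFM : ∀ x : T, MemLocalIdeal M (F x) := by
    intro x
    obtain ⟨k, hk, hk', hk1⟩ := hne x.1 x.2
    let w : (S : Subgroup G) := ⟨k, hk⟩
    have hzp : ∀ q ∈ Subgroup.zpowers w, x.1⁻¹ * (q : G) * x.1 ∈ (S : Subgroup G) := by
      intro q hq
      obtain ⟨i, rfl⟩ := Subgroup.mem_zpowers_iff.1 hq
      have e := (map_zpow (MulAut.conj x.1⁻¹).toMonoidHom k i).symm
      simp only [MulEquiv.coe_toMonoidHom, MulAut.conj_apply, inv_inv] at e
      rw [Subgroup.coe_zpow, show (w : G) = k from rfl, ← e]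
      exact Subgroup.zpow_mem _ hk' i
    letI : MulAction (Subgroup.zpowers w) (S : Subgroup G) :=
      { smul := fun q h => ⟨x.1⁻¹ * ((q : (S : Subgroup G)) : G) * x.1 * h *
          ((q : (S : Subgroup G)) : G)⁻¹, mul_mem (mul_mem (hzp q q.2) h.2) (inv_mem (q : (S : Subgroup G)).2)⟩
        one_smul := fun h => Subtype.ext (by
          show x.1⁻¹ * (((1 : Subgroup.zpowers w) : (S : Subgroup G)) : G) * x.1 * h *
            (((1 : Subgroup.zpowers w) : (S : Subgroup G)) : G)⁻¹ = h
          simp)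
        mul_smul := fun q r h => Subtype.ext (by
          show x.1⁻¹ * (((q * r : Subgroup.zpowers w) : (S : Subgroup G)) : G) * x.1 * h *
            (((q * r : Subgroup.zpowers w) : (S : Subgroup G)) : G)⁻¹ =
            x.1⁻¹ * ((q : (S : Subgroup G)) : G) * x.1 *
              (x.1⁻¹ * ((r : (S : Subgroup G)) : G) * x.1 * h * ((r : (S : Subgroup G)) : G)⁻¹) *
              ((q : (S : Subgroup G)) : G)⁻¹
          simp [mul_assoc]) }
    have hz := sum_eq_sum_fixedPoints (R := Res M) (p := p) (S.2.to_subgroup (Subgroup.zpowers w))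
      (fun h : (S : Subgroup G) => red M ((χ : G → ℂ) (x.1 * h))) fun q h => by
        refine congrArg (red M) ?_
        show (χ : G → ℂ) (x.1 * (x.1⁻¹ * ((q : (S : Subgroup G)) : G) * x.1 * h *
          ((q : (S : Subgroup G)) : G)⁻¹)) = _
        rw [← classFun_of_irr χ.2 (x.1 * h) ((q : (S : Subgroup G)) : G)]
        congr 1
        group
    rw [← red_eq_zero_iff (sum_mem fun h _ => irr_mem χ _), red_sum _ _ fun h _ => irr_mem χ _,
      hz]
    refine Finset.sum_eq_zero fun h hh => ?_
    rw [red_eq_zero_iff (irr_mem χ _)]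
    refine hval _ ?_
    have hfix : x.1⁻¹ * k * x.1 * h * k⁻¹ = h :=
      congrArg Subtype.val ((Finset.mem_filter.1 hh).2 ⟨w, Subgroup.mem_zpowers w⟩)
    have hkC : k ∈ Subgroup.centralizer ({x.1 * (h : G)} : Set G) := by
      rw [Subgroup.mem_centralizer_singleton_iff]
      calc k * (x.1 * h) = x.1 * (x.1⁻¹ * k * x.1 * h * k⁻¹) * k := by group
        _ = x.1 * h * k := by rw [hfix]
    obtain ⟨i, hi⟩ := IsPGroup.iff_orderOf.1 S.2 w
    rw [← Subgroup.orderOf_coe] at hi
    refine dvd_trans ?_ (Subgroup.orderOf_dvd_natCard _ hkC)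
    rw [show orderOf k = p ^ i from hi]
    refine dvd_pow_self p fun h0 => hk1 ?_
    rw [h0, pow_zero] at hi
    exact orderOf_eq_one_iff.1 hi
  -- the identity
  have hsum : ∑ x : T, F x = centralChar (χ : G → ℂ) g * (χ : G → ℂ) 1 := by
    have key : ∀ y : G, ∑ x : T, (χ : G → ℂ) (x.1 * y) =
        centralChar (χ : G → ℂ) g * (χ : G → ℂ) y := by
      intro y
      have h := omega_mul χ.2 (isClassCoeff_classSum (locRing M) g) (single y (1 : locRing M))
      rw [omega_classSum (classFun_of_irr χ.2), omega_single, omega_eq] at h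
      simp only [OneMemClass.coe_one, one_mul, coeff_mul_single_apply, mul_one, coeff_classSum] at h
      rw [mul_div_assoc', div_left_inj' (irr_one_ne_zero χ.2)] at h
      rw [← h, ← Fintype.sum_equiv (Equiv.mulRight y)
        (fun z => ((if IsConj g z then (1 : locRing M) else 0 : locRing M) : ℂ) * (χ : G → ℂ) (z * y))
        _ (fun z => by simp)]
      rw [← Finset.sum_subset (Finset.subset_univ (Finset.univ.filter (IsConj g))) (fun z _ hz => by
        simp only [Finset.mem_filter, Finset.mem_univ, true_and] at hz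
        rw [if_neg hz]; simp), Finset.sum_subtype (p := fun z => IsConj g z) _ (fun z => by simp)]
      exact Finset.sum_congr rfl fun z _ => by rw [if_pos z.2]; simp
    simp only [F]
    rw [Finset.sum_comm]
    simp only [key, ← Finset.mul_sum]
    congr 1
    rw [Finset.sum_eq_single (1 : (S : Subgroup G))]
    · rfl
    · intro h _ hh
      refine hvan _ ?_
      obtain ⟨i, hi⟩ := IsPGroup.iff_orderOf.1 S.2 h
      rw [Subgroup.orderOf_coe, hi]
      refine dvd_pow_self p fun h0 => hh ?_
      rw [h0, pow_zero] at hi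
      exact orderOf_eq_one_iff.1 hi
    · simp
  haveI : Fintype (MulAction.orbitRel.Quotient (S : Subgroup G) T) := Fintype.ofFinite _
  have horb : ∑ x : T, F x =
      (p : ℂ) ^ n * ∑ ω : MulAction.orbitRel.Quotient (S : Subgroup G) T, F ω.out := by
    rw [Fintype.sum_equiv (MulAction.selfEquivSigmaOrbits (S : Subgroup G) T) F
      (fun z => F z.1.out) (fun x => ?_), Fintype.sum_sigma, Finset.mul_sum]
    · refine Finset.sum_congr rfl fun ω _ => ?_
      show ∑ _y : (MulAction.orbit (S : Subgroup G) (ω.out : T)), F ω.out = _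
      rw [Finset.sum_const, nsmul_eq_mul, Finset.card_univ, Fintype.card_eq_nat_card]
      congr 1
      have hst : MulAction.stabilizer (S : Subgroup G) (ω.out : T) = ⊥ := by
        rw [eq_bot_iff]
        intro q hq
        rw [Subgroup.mem_bot]
        by_contra hq1
        obtain ⟨i, hi⟩ := IsPGroup.iff_orderOf.1 S.2 q
        rw [← Subgroup.orderOf_coe] at hi
        have h1 : (q : G) ∈ Subgroup.centralizer ({(ω.out : T).1} : Set G) :=
          Subgroup.mem_centralizer_singleton_iff.2
            (mul_inv_eq_iff_eq_mul.1 (congrArg Subtype.val hq))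
        have h2 := Subgroup.orderOf_dvd_natCard _ h1
        obtain ⟨a, ha⟩ := isConj_iff.1 (ω.out : T).2
        rw [hi, ← ha, ← centralizer_singleton_conj, card_map_conj] at h2
        refine hC ((dvd_pow_self p fun h0 => hq1 ?_).trans h2)
        rw [h0, pow_zero] at hi
        exact Subtype.ext (orderOf_eq_one_iff.1 hi)
      have hcard : Nat.card (MulAction.orbit (S : Subgroup G) (ω.out : T)) = p ^ n := by
        rw [Nat.card_congr (MulAction.orbitEquivQuotientStabilizer (S : Subgroup G) (ω.out : T)), hst,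
          ← Subgroup.index_eq_card, Subgroup.index_bot, S.card_eq_multiplicity]
      rw [hcard]; push_cast; rfl
    · obtain ⟨q, hq⟩ := MulAction.orbitRel_apply.1
        (Quotient.mk_out (s := MulAction.orbitRel (S : Subgroup G) T) x)
      show F x = F (Quotient.out (Quotient.mk (MulAction.orbitRel (S : Subgroup G) T) x))
      rw [← hq, hFinv]
  rw [hsum, hχ1, ← mul_assoc, mul_comm (centralChar (χ : G → ℂ) g), mul_assoc] at horb
  have h3 := mul_left_cancel₀ hpn horb
  refine hω ?_
  have h4 : MemLocalIdeal M (centralChar (χ : G → ℂ) g * (c : ℂ)) := by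
    rw [h3]
    exact memLocalIdeal_sum _ _ fun ω _ => hFM _
  rwa [mul_comm, memLocalIdeal_natCast_mul_iff hM hpc] at h4

/-- Green's theorem for a normal defect group. -/
theorem exists_sylow_inter_eq_of_normal (hM : IsPModular p M) {B : Set (IrrCharacter G)}
    (hB : IsPBlock M B) (D : Subgroup G) [D.Normal] (hD : IsDefectGroup p M B D) (S : Sylow p G) :
    ∃ x : G, ¬ p ∣ orderOf x ∧ IsSylowIn p D (Subgroup.centralizer ({x} : Set G)) ∧
      ∀ k ∈ (S : Subgroup G), x⁻¹ * k * x ∈ (S : Subgroup G) → k ∈ D := by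
  classical
  haveI := Fintype.ofFinite G
  haveI := Fintype.ofFinite (G ⧸ D)
  have hp : p.Prime := Fact.out
  have hDp := IsDefectGroup.isPGroup hD
  obtain ⟨χ, hχ, hker⟩ := exists_trivial_on hM hB D hDp
  obtain ⟨χ', rfl⟩ := exists_infl D hker
  obtain ⟨g, hg, hs⟩ := isDefectGroup_iff.1 hD
  have hreg := isDefectClass_regular hM hB hg
  have hgC : g ∈ Subgroup.centralizer (D : Set G) := fun y hy =>
    Subgroup.mem_centralizer_singleton_iff.1 (hs.le hy)
  have hidx := centralizer_mk_eq_of_mem D hDp hgC hreg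
  have hi := Subgroup.index_comap_of_surjective
    (Subgroup.centralizer ({(g : G ⧸ D)} : Set (G ⧸ D)))
    (f := QuotientGroup.mk' D) (QuotientGroup.mk'_surjective D)
  rw [hidx] at hi
  have hG' : Nat.card G = Nat.card (G ⧸ D) * Nat.card D := Subgroup.card_eq_card_quotient_mul_card_subgroup D
  have hdD := card_defectGroup hM hB hD
  have hfac : (Nat.card (G ⧸ D)).factorization p = pExp p G - blockDefect p B := by
    rw [pExp, hG', Nat.factorization_mul Nat.card_pos.ne' Nat.card_pos.ne', Finsupp.add_apply,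
      hdD, Nat.Prime.factorization_pow hp, Finsupp.single_eq_same, Nat.add_sub_cancel]
  have hv : (charDegree (χ' : G ⧸ D → ℂ)).factorization p =
      (Nat.card (G ⧸ D)).factorization p := by
    refine le_antisymm (((Nat.factorization_le_iff_dvd (charDegree_pos χ'.2).ne' Nat.card_pos.ne').2
      (degree_dvd_card χ'.2)) p) ?_
    have h := degExp_eq_height_add hM hB hχ
    rw [degExp, charDegree_infl] at h
    rw [hfac, h]
    exact Nat.le_add_right _ _
  have hC : ¬ p ∣ Nat.card (Subgroup.centralizer ({(g : G ⧸ D)} : Set (G ⧸ D))) := by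
    intro hdvd
    have h1 : Nat.card (Subgroup.centralizer ({g} : Set G)) =
        Nat.card (Subgroup.centralizer ({(g : G ⧸ D)} : Set (G ⧸ D))) * Nat.card D := by
      refine Nat.eq_of_mul_eq_mul_left (Nat.pos_of_ne_zero
        (Subgroup.index_ne_zero_of_finite (H := Subgroup.centralizer ({g} : Set G)))) ?_
      rw [Subgroup.index_mul_card, ← mul_assoc, hi, Subgroup.index_mul_card, ← hG']
    have h3 := hs.card
    rw [hdD] at h3
    have h4 := Nat.pow_right_injective hp.two_le h3
    rw [h1, Nat.factorization_mul Nat.card_pos.ne' Nat.card_pos.ne', Finsupp.add_apply,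
      hdD, Nat.Prime.factorization_pow hp, Finsupp.single_eq_same] at h4
    have h5 := hp.factorization_pos_of_dvd Nat.card_pos.ne' hdvd
    omega
  have hω : ¬ MemLocalIdeal M (centralChar (χ' : G ⧸ D → ℂ) (g : G ⧸ D)) := by
    have e : centralChar (χ' : G ⧸ D → ℂ) (g : G ⧸ D) = centralChar (infl D χ' : G → ℂ) g := by
      rw [centralChar, centralChar, hi, infl_apply, infl_apply, QuotientGroup.mk_one]
    rw [e]
    exact hg.2.2 _ hχ
  obtain ⟨x', hx', hk⟩ := exists_trivial_inter hM hv hC hω
    (S.mapSurjective (QuotientGroup.mk'_surjective D))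
  obtain ⟨a', ha'⟩ := isConj_iff.1 hx'
  obtain ⟨a, rfl⟩ := QuotientGroup.mk_surjective a'
  refine ⟨a * g * a⁻¹, ?_, ?_, fun k hkS hkS' => ?_⟩
  · rwa [isPPart_conj.orderOf_mulAut_conj]
  · have h := hs.centralizer_conj a
    have e : D.map (MulAut.conj a).toMonoidHom = D := by
      ext y
      rw [mem_map_conj]
      exact ⟨fun h => by simpa [mul_assoc] using (inferInstance : D.Normal).conj_mem _ h a,
        fun h => by simpa using (inferInstance : D.Normal).conj_mem _ h a⁻¹⟩
    rwa [e] at h
  · rw [← QuotientGroup.eq_one_iff]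
    refine hk _ ⟨k, hkS, rfl⟩ ⟨_, hkS', ?_⟩
    rw [← ha']
    simp

end CfsgLib.Blk
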