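import Cfsg.Agent.Blk.CoverDefect
import Cfsg.Agent.Blk.FirstMain

/-!
The Harris–Knörr correspondence.
-/

set_option autoImplicit false
set_option linter.style.haveILetI false
set_option linter.unusedSectionVars false

namespace CfsgLib.HarrisKnorr

open Cfsg CfsgLib.Char CfsgLib.Blk CfsgLib.Blk.Pair CfsgLib.CoverDefect
open scoped ComplexConjugate CfsgLib.Char

universe u

variable {M : Ideal AlgInt} [M.IsPrime] {p : ℕ} [Fact p.Prime]

section general

variable {G : Type u} [Group G] [Finite G]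

theorem induced_lam {H : Subgroup G} {b : Set (IrrCharacter H)} {B : Set (IrrCharacter G)}
    (h : IsInducedBlock M H b B) {ξ : IrrCharacter H} (hξ : ξ ∈ b) {χ : IrrCharacter G}
    (hχ : χ ∈ B) {z : KA M G} (hz : IsClassCoeff z) :
    lam (ξ : H → ℂ) (resA H z) = lam (χ : G → ℂ) z := by
  obtain ⟨-, -, hω⟩ := (isInducedBlock_iff H).1 h
  rw [← redA_liftA z, ← redA_resA, lam_redA ξ.2 (isClassCoeff_resA H (isClassCoeff_liftA hz)),
    lam_redA χ.2 (isClassCoeff_liftA hz)]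
  exact hω ξ hξ χ hχ _ (isClassCoeff_liftA hz)

theorem lam_brMap (hM : IsPModular p M) (P H : Subgroup G) (hP : IsPGroup p P) (hPH : P ≤ H)
    (hHN : H ≤ Subgroup.normalizer (P : Set G)) (ξ : IrrCharacter H) {z : KA M G}
    (hz : IsClassCoeff z) :
    lam (ξ : H → ℂ) (resA H (brMap P z)) = lam (ξ : H → ℂ) (resA H z) := by
  have hc := isClassCoeff_liftA hz
  rw [← redA_liftA z, ← redA_brMap, ← redA_resA, ← redA_resA,
    lam_redA ξ.2 (isClassCoeff_resA H hc), lam_redA ξ.2 (isClassCoeff_resA_brMap P H hHN hc)]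
  exact (omegaBar_resA_brMap hM P H hP hPH hHN ξ.2 hc).symm

/-- Transitivity of induction through an isomorphic copy. -/
theorem induced_trans {H : Subgroup G} {S : Subgroup H} {R : Subgroup G} (κ : S ≃* R)
    (hκ : ∀ x, ((κ x : R) : G) = ((x : H) : G)) {f : Set (IrrCharacter S)}
    {c : Set (IrrCharacter H)} {B : Set (IrrCharacter G)} (h1 : IsInducedBlock M S f c)
    (h2 : IsInducedBlock M H c B) : IsInducedBlock M R (mvSet κ f) B := by
  refine (isInducedBlock_iff R).2 ⟨isPBlock_mvSet κ h1.1, h2.2.1, ?_⟩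
  rintro _ ⟨ξ, hξ, rfl⟩ χ hχ a ha
  obtain ⟨ψ, hψ⟩ := isPBlock_nonempty h2.1
  rw [← lam_redA (mvChar κ ξ).2 (isClassCoeff_resA R ha), ← lam_redA χ.2 ha, redA_resA,
    lam_mvChar κ ξ (resA R (redA a)) (resA S (resA H (redA a))) fun x => by
      rw [coeff_resA, coeff_resA, coeff_resA, hκ],
    induced_lam h1 hξ hψ (isClassCoeff_resA H ha.redA), induced_lam h2 hψ hχ ha.redA]

end general

variable {G : Type u} [Group G] [Fintype G] {N : Subgroup G} [N.Normal] [Fintype N]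
variable {Q : Subgroup G} {d : Set (IrrCharacter N)}

/-- The local subgroup of `N`. -/
abbrev LN (N Q : Subgroup G) : Subgroup G := Subgroup.normalizer (Q : Set G) ⊓ N

/-- The normalizer. -/
abbrev NH (Q : Subgroup G) : Subgroup G := Subgroup.normalizer (Q : Set G)

/-- The value at a Brauer-mapped element. -/
noncomputable def vl (Q : Subgroup G) (φ : IrrCharacter (LN N Q)) (x : KA M G) : Res M :=
  lam (φ : LN N Q → ℂ) (resA (LN N Q) (brMap Q x))

theorem classCoeff_vl {x : KA M G} (hx : Fix N x) :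
    IsClassCoeff (resA (LN N Q) (brMap Q x)) := by
  classical
  intro g h
  simp only [coeff_resA, coeff_brMap, Subgroup.coe_mul, Subgroup.coe_inv]
  have hc : (h : G) * g * (h : G)⁻¹ ∈ Subgroup.centralizer (Q : Set G) ↔
      (g : G) ∈ Subgroup.centralizer (Q : Set G) := by
    have h1 := mem_Cn_conj_iff h.2.1 ((h : G) * g * (h : G)⁻¹)
    rwa [show (h : G)⁻¹ * ((h : G) * g * (h : G)⁻¹) * (h : G) = g by group] at h1
  rw [fix_iff.1 hx _ h.2.2]
  by_cases hg : (g : G) ∈ Subgroup.centralizer (Q : Set G)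
  · rw [if_pos hg, if_pos (hc.2 hg)]
  · rw [if_neg hg, if_neg (fun h' => hg (hc.1 h'))]

/-- The copy of `LN N Q` inside `N`. -/
def iota (hQN : Q ≤ N) :
    Subgroup.normalizer ((Q.subgroupOf N : Subgroup N) : Set N) ≃* LN N Q where
  toFun x := ⟨((x : N) : G), by
    refine ⟨mem_normalizer_subgroup_iff.2 fun g => ?_, (x : N).2⟩
    by_cases hg : g ∈ N
    · exact (mem_normalizer_subgroup_iff.1 x.2) ⟨g, hg⟩
    · exact ⟨fun h => absurd (hQN h) hg, fun h => absurd
        ((mul_mem (mul_mem (x : N).2 (hQN h)) (inv_mem (x : N).2)) : _ ∈ N)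
        (by simpa [mul_assoc] using hg)⟩, ⟩
  invFun y := ⟨⟨(y : G), y.2.2⟩, mem_normalizer_subgroup_iff.2 fun g =>
    (mem_normalizer_subgroup_iff.1 y.2.1) (g : G)⟩
  left_inv _ := rfl
  right_inv _ := rfl
  map_mul' _ _ := rfl

variable (hM : IsPModular p M) (hQ : IsPGroup p Q) (hQN : Q ≤ N)
include hM hQ hQN

/-- Every character of `LN N Q` sees a block of `N`. -/
theorem exists_induced (φ : IrrCharacter (LN N Q)) :
    ∃ (η : Set (IrrCharacter (Subgroup.normalizer ((Q.subgroupOf N : Subgroup N) : Set N))))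
      (θ : IrrCharacter N), mvChar (iota hQN).symm φ ∈ η ∧
      IsInducedBlock M _ η {ξ : IrrCharacter N | SameBlock M (θ : N → ℂ) (ξ : N → ℂ)} ∧
      ∀ x : KA M G, Fix N x → vl Q φ x = lam (θ : N → ℂ) (resA N x) := by
  classical
  set S := Subgroup.normalizer ((Q.subgroupOf N : Subgroup N) : Set N) with hS
  have hQp : IsPGroup p (Q.subgroupOf N) := hQ.of_equiv (Subgroup.subgroupOfEquivOfLe hQN).symm
  set φ' := mvChar (iota hQN).symm φ with hφ'
  obtain ⟨B, hB⟩ := inducedBlockDefined_of_brauer hM (Q.subgroupOf N) S hQp Subgroup.le_normalizer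
    (Subgroup.centralizer_le_normalizer _) le_rfl (blockOf_isPBlock (M := M) φ')
  obtain ⟨θ, hθ⟩ := isPBlock_nonempty hB.2.1
  rw [eq_blockOf hB.2.1 hθ] at hB
  refine ⟨_, θ, sameBlock_refl _, hB, fun x hx => ?_⟩
  have hxc : IsClassCoeff (resA N x) := isClassCoeff_resA_of_fix hx
  rw [← induced_lam hB (sameBlock_refl _) (sameBlock_refl _) hxc,
    ← lam_brMap hM (Q.subgroupOf N) S hQp Subgroup.le_normalizer le_rfl φ' hxc, vl, hφ']
  refine (lam_mvChar (iota hQN).symm φ _ _ fun l => ?_).symm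
  simp only [coeff_resA, coeff_brMap]
  have e : (((iota hQN).symm l : S) : N) = ⟨(l : G), l.2.2⟩ := rfl
  rw [e]
  exact if_congr (mem_centralizer_subgroupOf hQN (H := N) ⟨(l : G), l.2.2⟩).symm rfl rfl

variable (hd : IsPBlock M d) (hdQ : IsDefectGroup p M d (Q.subgroupOf N))
  {e : Set (IrrCharacter (LN N Q))} (hed : IsInducedBlockIn M N (LN N Q) e d)
include hd hdQ hed

theorem induced_e : IsInducedBlock M _ (mvSet (iota hQN).symm e) d := by
  classical
  refine ⟨isPBlock_mvSet _ hed.1, hd, ?_⟩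
  rintro _ ⟨ξ, hξ, rfl⟩ χ hχ h
  have e' : inducedCentralChar _ (mvChar (iota hQN).symm ξ :
      Subgroup.normalizer ((Q.subgroupOf N : Subgroup N) : Set N) → ℂ) h =
      inducedCentralCharIn N (LN N Q) (ξ : LN N Q → ℂ) (h : G) := by
    rw [inducedCentralChar, inducedCentralCharIn]
    symm
    refine finsum_mem_eq_of_bijOn (iota hQN).symm ⟨?_, (iota hQN).symm.injective.injOn, ?_⟩
      fun k _ => ?_
    · rintro k ⟨x, hx⟩
      exact IsConj.symm (isConj_iff.2 ⟨x, Subtype.ext hx⟩)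
    · intro k hk
      obtain ⟨x, hx⟩ := isConj_iff.1 (IsConj.symm hk)
      exact ⟨iota hQN k, ⟨x, congrArg Subtype.val hx⟩, MulEquiv.symm_apply_apply _ _⟩
    · rw [mvChar_apply, mvChar_apply, MulEquiv.symm_symm, MulEquiv.apply_symm_apply, map_one]
  rw [e']
  exact hed.2.2 ξ hξ χ hχ h

/-- On `d` the value detects `e`. -/
theorem vl_d (φ : IrrCharacter (LN N Q)) :
    vl Q φ (inA N (bid M d)) ≠ 0 ↔ φ ∈ e := by
  classical
  obtain ⟨η, θ, hη, hind, hv⟩ := exists_induced hM hQ hQN φ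
  have he := induced_e hM hQ hQN hd hdQ hed
  rw [hv _ (fix_inA_bid hM hd), resA_inA, lam_bid hM hd]
  constructor
  · intro h
    have hθ : θ ∈ d := by by_contra hc; exact h (if_neg hc)
    replace hind : IsInducedBlock M _ η d := by rw [eq_blockOf hd hθ]; exact hind
    have h2 := induced_normalizer_unique hM hdQ hind he
    rw [h2] at hη
    exact (mem_mvSet _).1 hη
  · intro h
    have h1 : η = mvSet (iota hQN).symm e := (eq_blockOf hind.1 hη).trans
      (eq_blockOf he.1 ((mem_mvSet _).2 h)).symm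
    have h2 := isInducedBlock_unique _ hind (h1 ▸ he)
    rw [if_pos (h2 ▸ sameBlock_refl _)]
    exact one_ne_zero

/-- Only the conjugates of `d` by the normalizer of `Q` survive. -/
theorem exists_conj_mem (φ : IrrCharacter (LN N Q)) (h : vl Q φ (nSum M N d) ≠ 0) :
    ∃ y ∈ Subgroup.normalizer (Q : Set G), ∀ hK : ∀ g, g ∈ LN N Q ↔ y⁻¹⁻¹ * g * y⁻¹ ∈ LN N Q,
      mvChar (cjIso y⁻¹ hK) φ ∈ e := by
  classical
  haveI : CharP (Res M) p := charP_res hM
  obtain ⟨η, θ, -, -, hv⟩ := exists_induced hM hQ hQN φ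
  have hfix : Fix N (nSum M N d) := fix_of_classCoeff N (isClassCoeff_nSum hM hd)
  rw [hv _ hfix] at h
  have hsum : resA N (nSum M N d) = ∑ a ∈ nOrbit (M := M) N d, resA N a := by
    refine MonoidAlgebra.coeff_injective (Finsupp.ext fun n => ?_)
    simp [nSum, MonoidAlgebra.coeff_sum, Finset.sum_apply']
  have hblk : ∀ a ∈ nOrbit (M := M) N d, IsClassCoeff (resA N a) ∧ Fix N a := by
    intro a ha
    obtain ⟨d', hd', rfl⟩ := nOrbit_block hM hd ha
    exact ⟨by rw [resA_inA]; exact isClassCoeff_bid hM hd', fix_inA_bid hM hd'⟩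
  rw [hsum, lam_sum θ.2 _ _ fun a ha => (hblk a ha).1] at h
  obtain ⟨a, ha, hne⟩ := Finset.exists_ne_zero_of_sum_ne_zero h
  rw [← hv a (hblk a ha).2] at hne
  obtain ⟨y, rfl⟩ := mem_nOrbit.1 ha
  have hbr : brMap Q (cjA y (inA N (bid M d))) ≠ 0 := fun h0 => hne (by
    rw [vl, h0, show resA (LN N Q) (0 : KA M G) = 0 by
      exact MonoidAlgebra.coeff_injective (Finsupp.ext fun _ => by simp)]
    exact lam_zero φ.2)
  set Q1 := Q.map (MulAut.conj y⁻¹).toMonoidHom with hQ1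
  have hQ1N : Q1 ≤ N := by
    rintro _ ⟨q, hq, rfl⟩
    exact ‹N.Normal›.conj_mem q (hQN hq) _
  have hQ1p : IsPGroup p (Q1.subgroupOf N) :=
    (hQ.map _).of_equiv (Subgroup.subgroupOfEquivOfLe hQ1N).symm
  have hbr1 : brMap (Q1.subgroupOf N) (bid M d) ≠ 0 := by
    intro h0
    refine hbr (MonoidAlgebra.coeff_injective (Finsupp.ext fun c => ?_))
    rw [coeff_brMap, MonoidAlgebra.coeff_zero, Finsupp.zero_apply]
    split_ifs with hc
    · rw [coeff_cjA]
      by_cases hcN : y⁻¹ * c * y ∈ N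
      · have h2 := congrArg (fun w : KA M N => w.coeff ⟨_, hcN⟩) h0
        have hmem : (⟨_, hcN⟩ : N) ∈
            Subgroup.centralizer ((Q1.subgroupOf N : Subgroup N) : Set N) := by
          rw [mem_centralizer_subgroupOf hQ1N]
          rintro _ ⟨q, hq, rfl⟩
          have := hc q hq
          simp only [MulEquiv.coe_toMonoidHom, MulAut.conj_apply, inv_inv]
          calc y⁻¹ * q * y * (y⁻¹ * c * y) = y⁻¹ * (q * c) * y := by group
            _ = y⁻¹ * c * y * (y⁻¹ * q * y) := by rw [this]; group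
        simp only [coeff_brMap, if_pos hmem, MonoidAlgebra.coeff_zero, Finsupp.zero_apply] at h2
        exact (coeff_inA N (bid M d) ⟨_, hcN⟩).trans h2
      · exact coeff_inA_of_notMem N _ hcN
    · rfl
  rw [bid_eq hM hd, brMap_blockIdem_ne_zero_iff hM hd hdQ _ hQ1p] at hbr1
  obtain ⟨n, hn⟩ := hbr1
  have hle : Q1.map (MulAut.conj (n : G)).toMonoidHom ≤ Q := by
    rintro _ ⟨q, hq, rfl⟩
    have : (⟨q, hQ1N hq⟩ : N) ∈ Q1.subgroupOf N := hq
    exact hn ⟨_, this, rfl⟩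
  have heq : Q.map (MulAut.conj ((n : G) * y⁻¹)).toMonoidHom = Q := by
    rw [← map_conj_mul, ← hQ1]
    refine Subgroup.eq_of_le_of_card_ge hle (le_of_eq ?_)
    rw [card_map_conj, hQ1, card_map_conj]
  have hH : (n : G) * y⁻¹ ∈ Subgroup.normalizer (Q : Set G) := by
    refine mem_normalizer_subgroup_iff.2 fun g => ?_
    conv_lhs => rw [← heq, mem_map_conj]
  refine ⟨((n : G) * y⁻¹)⁻¹, inv_mem hH, fun hK => ?_⟩
  rw [← vl_d hM hQ hQN hd hdQ hed]
  refine fun h0 => hne (Eq.trans ?_ h0)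
  rw [vl, vl]
  refine (lam_mvChar _ φ _ _ fun l => ?_).symm
  simp only [coeff_resA, coeff_brMap, coeff_cjA, coe_cjIso, inv_inv]
  have hcen := mem_Cn_conj_iff (inv_mem hH) (l : G)
  rw [inv_inv] at hcen
  have hfix' := fix_iff.1 (fix_inA_bid hM hd) (n : G) n.2
  by_cases hl : (l : G) ∈ Subgroup.centralizer (Q : Set G)
  · rw [if_pos hl, if_pos (hcen.1 hl)]
    rw [← hfix' (y⁻¹ * (l : G) * y)]
    congr 1
    group
  · rw [if_neg hl, if_neg (fun h' => hl (hcen.2 h'))]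

/-- Covering below, by the Brauer map of the orbit sum. -/
theorem cov_iff [Fintype (LN N Q)] (ψ : IrrCharacter (Subgroup.normalizer (Q : Set G))) :
    (∃ ξ ∈ e, classInner (fun l : LN N Q => (ψ : Subgroup.normalizer (Q : Set G) → ℂ)
      (Subgroup.inclusion inf_le_left l)) (ξ : LN N Q → ℂ) ≠ 0) ↔
    lam (ψ : Subgroup.normalizer (Q : Set G) → ℂ)
      (resA (Subgroup.normalizer (Q : Set G)) (nSum M N d)) ≠ 0 := by
  classical
  haveI : ((LN N Q).subgroupOf (NH Q)).Normal := ⟨fun x hx h => by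
    refine ⟨(h * x * h⁻¹).2, ?_⟩
    exact ‹N.Normal›.conj_mem _ hx.2 _⟩
  haveI : Fintype ((LN N Q).subgroupOf (NH Q)) := Fintype.ofFinite _
  haveI : Fintype (NH Q) := Fintype.ofFinite _
  set κ := Subgroup.subgroupOfEquivOfLe (inf_le_left : (LN N Q) ≤ (NH Q)) with hκ
  have hE := isClassCoeff_nSum (G := G) hM hd
  have hQH : Q ≤ (NH Q) := Subgroup.le_normalizer
  have hz : IsClassCoeff (resA (NH Q) (brMap Q (nSum M N d))) := isClassCoeff_resA_brMap Q (NH Q) le_rfl hE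
  rw [← lam_brMap hM Q (NH Q) hQ hQH le_rfl ψ hE]
  have hzL : ∀ g : (NH Q), g ∉ (LN N Q).subgroupOf (NH Q) → (resA (NH Q) (brMap Q (nSum M N d))).coeff g = 0 := by
    intro g hg
    rw [coeff_resA, coeff_brMap]
    split_ifs
    · exact nSum_supp hM hd fun hgN => hg ⟨g.2, hgN⟩
    · rfl
  have hres : ∀ φ : IrrCharacter (LN N Q),
      classInner (fun n : (LN N Q).subgroupOf (NH Q) => (ψ : (NH Q) → ℂ) (n : (NH Q))) (mvChar κ.symm φ : _ → ℂ) =
        classInner (fun l : (LN N Q) => (ψ : (NH Q) → ℂ) (Subgroup.inclusion inf_le_left l)) (φ : (LN N Q) → ℂ) :=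
    fun φ => classInner_mulEquiv κ (fun l : (LN N Q) => (ψ : (NH Q) → ℂ) (Subgroup.inclusion inf_le_left l))
      (φ : (LN N Q) → ℂ)
  have hlamφ : ∀ φ : IrrCharacter (LN N Q),
      classInner (fun l : (LN N Q) => (ψ : (NH Q) → ℂ) (Subgroup.inclusion inf_le_left l)) (φ : (LN N Q) → ℂ) ≠ 0 →
      lam (ψ : (NH Q) → ℂ) (resA (NH Q) (brMap Q (nSum M N d))) = vl Q φ (nSum M N d) := by
    intro φ hφ
    rw [← hres φ] at hφ
    rw [← lam_constituent ψ.2 (mvChar κ.symm φ).2 hφ hz hzL, vl]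
    exact lam_mvChar κ.symm φ _ _ fun l => rfl
  constructor
  · rintro ⟨ξ, hξ, hcon⟩
    rw [hlamφ ξ hcon]
    obtain ⟨η, θ, hη, hind, hv⟩ := exists_induced hM hQ hQN ξ
    rw [hv _ (fix_of_classCoeff N hE)]
    have h1 := (vl_d hM hQ hQN hd hdQ hed ξ).2 hξ
    rw [hv _ (fix_inA_bid hM hd), resA_inA, lam_bid hM hd] at h1
    have hθ : θ ∈ d := by by_contra hc; exact h1 (if_neg hc)
    rw [lam_nSum_self hM hd hθ]
    exact one_ne_zero
  · intro h
    obtain ⟨φ0, hφ0, hcon⟩ := exists_constituent_res (N := (LN N Q).subgroupOf (NH Q)) ψ.2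
    set φ := mvChar κ ⟨φ0, hφ0⟩ with hφdef
    have hcon' : classInner (fun l : (LN N Q) => (ψ : (NH Q) → ℂ) (Subgroup.inclusion inf_le_left l))
        (φ : (LN N Q) → ℂ) ≠ 0 := by
      rw [← hres φ, hφdef, mvChar_symm]
      exact hcon
    rw [hlamφ φ hcon'] at h
    obtain ⟨y, hy, hmem⟩ := exists_conj_mem hM hQ hQN hd hdQ hed φ h
    have hK : ∀ g, g ∈ (LN N Q) ↔ y⁻¹⁻¹ * g * y⁻¹ ∈ (LN N Q) := fun g => by
      rw [inv_inv]
      refine and_congr ?_ ?_
      · exact ⟨fun hg => (NH Q).mul_mem ((NH Q).mul_mem hy hg) ((NH Q).inv_mem hy), fun hg => by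
          have h3 := (NH Q).mul_mem ((NH Q).mul_mem ((NH Q).inv_mem hy) hg) hy
          rw [show y⁻¹ * (y * g * y⁻¹) * y = g by group] at h3
          exact h3⟩
      · exact ⟨fun hg => ‹N.Normal›.conj_mem g hg y, fun hg => by
          simpa [mul_assoc] using ‹N.Normal›.conj_mem _ hg y⁻¹⟩
    refine ⟨_, hmem hK, ?_⟩
    have e1 : classInner (fun l : (LN N Q) => (ψ : (NH Q) → ℂ) (Subgroup.inclusion inf_le_left l))
        (mvChar (cjIso y⁻¹ hK) φ : (LN N Q) → ℂ) =
        classInner (fun l : (LN N Q) => (ψ : (NH Q) → ℂ) (Subgroup.inclusion inf_le_left l)) (φ : (LN N Q) → ℂ) := by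
      rw [← classInner_mulEquiv (cjIso y⁻¹ hK)]
      congr 1
      · funext l
        have e2 : Subgroup.inclusion inf_le_left (cjIso y⁻¹ hK l) =
            (⟨y, hy⟩ : (NH Q))⁻¹ * Subgroup.inclusion inf_le_left l * (⟨y, hy⟩ : (NH Q))⁻¹⁻¹ :=
          Subtype.ext (by simp [coe_cjIso])
        simp only [Function.comp_apply, e2]
        exact classFun_of_irr ψ.2 _ _
      · funext l
        simp only [Function.comp_apply, mvChar_apply, MulEquiv.symm_apply_apply]
    rwa [e1]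

omit hQ hQN hdQ hed in
/-- Covering above, by the orbit sum. -/
theorem covG_iff (χ : IrrCharacter G) :
    (∃ θ ∈ d, classInner (fun n : N => (χ : G → ℂ) n) (θ : N → ℂ) ≠ 0) ↔
      lam (χ : G → ℂ) (nSum M N d) ≠ 0 := by
  classical
  have hE := isClassCoeff_nSum (G := G) hM hd
  constructor
  · rintro ⟨θ, hθ, hcon⟩
    rw [← lam_constituent χ.2 θ.2 hcon hE (fun g hg => nSum_supp hM hd hg),
      lam_nSum_self hM hd hθ]
    exact one_ne_zero
  · intro h
    obtain ⟨φ, hφi, hφ⟩ := exists_constituent_res (N := N) χ.2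
    rw [← lam_constituent χ.2 hφi hφ hE (fun g hg => nSum_supp hM hd hg)] at h
    obtain ⟨θ', hθ', g, eg⟩ := conj_of_lam_nSum hM hd (θ := ⟨φ, hφi⟩) h
    refine ⟨θ', hθ', ?_⟩
    rw [← inner_res_conjN (classFun_of_irr χ.2) _ g]
    simpa only [← eg] using hφ

/-- A block over `e` with a defect group `D` meeting `N` in `Q`, seen in `N_G(D)`. -/
theorem exists_local_corr {c : Set (IrrCharacter (Subgroup.normalizer (Q : Set G)))}
    {B : Set (IrrCharacter G)} (hcB : IsInducedBlock M (Subgroup.normalizer (Q : Set G)) c B)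
    {D : Subgroup (Subgroup.normalizer (Q : Set G))}
    (hD : IsDefectGroup p M c D) (hDN : D.map (Subgroup.normalizer (Q : Set G)).subtype ⊓ N = Q) :
    ∃ (κ : Subgroup.normalizer (D : Set (Subgroup.normalizer (Q : Set G))) ≃*
        Subgroup.normalizer ((D.map (Subgroup.normalizer (Q : Set G)).subtype : Subgroup G) : Set G))
      (f : Set (IrrCharacter (Subgroup.normalizer (D : Set (Subgroup.normalizer (Q : Set G)))))),
      (∀ x, ((κ x : _) : G) = ((x : Subgroup.normalizer (Q : Set G)) : G)) ∧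
      IsInducedBlock M _ f c ∧ IsInducedBlock M _ (mvSet κ f) B ∧
      IsDefectGroup p M B (D.map (Subgroup.normalizer (Q : Set G)).subtype) := by
  classical
  set D' := D.map (NH Q).subtype with hD'
  have hle : Subgroup.normalizer (D' : Set G) ≤ (NH Q) := by
    intro g hg
    refine mem_normalizer_subgroup_iff.2 fun x => ?_
    have h1 := (mem_normalizer_subgroup_iff.1 hg) x
    have h2 : x ∈ N ↔ g⁻¹ * x * g ∈ N := ⟨fun h => by simpa using ‹N.Normal›.conj_mem x h g⁻¹,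
      fun h => by simpa [mul_assoc] using ‹N.Normal›.conj_mem _ h g⟩
    rw [← hDN]
    exact and_congr h1 h2
  have hmem : ∀ x : (NH Q), (x : G) ∈ D' ↔ x ∈ D := fun x =>
    ⟨fun ⟨x', hx', e⟩ => Subtype.ext (a1 := x') (a2 := x) e ▸ hx', fun hx => ⟨x, hx, rfl⟩⟩
  let κ : Subgroup.normalizer (D : Set (NH Q)) ≃* Subgroup.normalizer (D' : Set G) :=
    { toFun := fun x => ⟨((x : (NH Q)) : G), mem_normalizer_subgroup_iff.2 fun g => by
        constructor
        · rintro ⟨g', hg', rfl⟩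
          exact ⟨(x : (NH Q))⁻¹ * g' * x, ((mem_normalizer_subgroup_iff.1 x.2) g').1 hg', rfl⟩
        · rintro ⟨g', hg', e⟩
          refine ⟨(x : (NH Q)) * g' * (x : (NH Q))⁻¹,
            ((mem_normalizer_subgroup_iff.1 x.2) _).2 (by simpa [mul_assoc] using hg'), ?_⟩
          simp only [Subgroup.subtype_apply, Subgroup.coe_mul, Subgroup.coe_inv] at e ⊢
          rw [e]; group⟩
      invFun := fun y => ⟨⟨(y : G), hle y.2⟩, mem_normalizer_subgroup_iff.2 fun g => by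
        rw [← hmem, ← hmem]
        exact (mem_normalizer_subgroup_iff.1 y.2) (g : G)⟩
      left_inv := fun _ => rfl
      right_inv := fun _ => rfl
      map_mul' := fun _ _ => rfl }
  obtain ⟨f, hf, hfD⟩ := exists_induced_of_defectGroup hM (H := Subgroup.normalizer (D : Set (NH Q)))
    Subgroup.le_normalizer (Subgroup.centralizer_le_normalizer _) le_rfl hcB.1 hD
  have hind := induced_trans κ (fun _ => rfl) hf hcB
  refine ⟨κ, f, fun _ => rfl, hf, hind, ?_⟩
  refine defectGroup_induced_normalizer hM ((IsDefectGroup.isPGroup hD).map _) hind ?_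
  have h1 := isDefectGroup_mvSet κ hfD
  have h2 : (D.subgroupOf (Subgroup.normalizer (D : Set (NH Q)))).map κ.toMonoidHom =
      D'.subgroupOf (Subgroup.normalizer (D' : Set G)) := by
    ext x
    rw [Subgroup.mem_map_equiv, Subgroup.mem_subgroupOf, Subgroup.mem_subgroupOf, ← hmem]
    rfl
  rwa [h2] at h1

/-- At most one block over `e` induces a given block. -/
theorem unique [Fintype (LN N Q)] (he : IsPBlock M e)
    (heQ : IsDefectGroup p M e (Q.subgroupOf (LN N Q)))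
    {c c' : Set (IrrCharacter (Subgroup.normalizer (Q : Set G)))} {B : Set (IrrCharacter G)}
    (hc : IsInducedBlock M (Subgroup.normalizer (Q : Set G)) c B)
    (hc' : IsInducedBlock M (Subgroup.normalizer (Q : Set G)) c' B)
    (hcov : ∃ ψ ∈ c, ∃ ξ ∈ e, classInner (fun l : LN N Q =>
      (ψ : Subgroup.normalizer (Q : Set G) → ℂ) (Subgroup.inclusion inf_le_left l))
      (ξ : LN N Q → ℂ) ≠ 0)
    (hcov' : ∃ ψ ∈ c', ∃ ξ ∈ e, classInner (fun l : LN N Q =>
      (ψ : Subgroup.normalizer (Q : Set G) → ℂ) (Subgroup.inclusion inf_le_left l))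
      (ξ : LN N Q → ℂ) ≠ 0) : c = c' := by
  classical
  haveI : ((LN N Q).subgroupOf (NH Q)).Normal := ⟨fun x hx h => by
    refine ⟨(h * x * h⁻¹).2, ?_⟩
    exact ‹N.Normal›.conj_mem _ hx.2 _⟩
  haveI : Fintype ((LN N Q).subgroupOf (NH Q)) := Fintype.ofFinite _
  haveI : Fintype (NH Q) := Fintype.ofFinite _
  set κ := Subgroup.subgroupOfEquivOfLe (inf_le_left : (LN N Q) ≤ (NH Q)) with hκ
  have hQH : Q ≤ (NH Q) := Subgroup.le_normalizer
  have hQL : Q.subgroupOf (NH Q) ≤ (LN N Q).subgroupOf (NH Q) := fun x hx => ⟨x.2, hQN hx⟩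
  have he' : IsDefectGroup p M (mvSet κ.symm e)
      ((Q.subgroupOf (NH Q)).subgroupOf ((LN N Q).subgroupOf (NH Q))) := by
    have h1 := isDefectGroup_mvSet κ.symm heQ
    have h2 : (Q.subgroupOf (LN N Q)).map κ.symm.toMonoidHom =
        (Q.subgroupOf (NH Q)).subgroupOf ((LN N Q).subgroupOf (NH Q)) := by
      ext x
      rw [Subgroup.mem_map_equiv]
      exact Iff.rfl
    rwa [h2] at h1
  have key : ∀ c₀ : Set (IrrCharacter (NH Q)), IsInducedBlock M (NH Q) c₀ B →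
      (∃ ψ ∈ c₀, ∃ ξ ∈ e, classInner (fun l : (LN N Q) => (ψ : (NH Q) → ℂ)
        (Subgroup.inclusion inf_le_left l)) (ξ : (LN N Q) → ℂ) ≠ 0) →
      ∃ D : Subgroup (NH Q), IsDefectGroup p M c₀ D ∧ D.map (NH Q).subtype ⊓ N = Q := by
    rintro c₀ hc₀ ⟨ψ, hψ, ξ, hξ, hcon⟩
    have hcov₀ : ∃ χ ∈ c₀, ∃ θ ∈ mvSet κ.symm e,
        classInner (fun n : (LN N Q).subgroupOf (NH Q) => (χ : (NH Q) → ℂ) n) (θ : (LN N Q).subgroupOf (NH Q) → ℂ) ≠ 0 := by
      refine ⟨ψ, hψ, mvChar κ.symm ξ, (mem_mvSet _).2 hξ, ?_⟩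
      exact fun h0 => hcon ((classInner_mulEquiv κ
        (fun l : (LN N Q) => (ψ : (NH Q) → ℂ) (Subgroup.inclusion inf_le_left l)) (ξ : (LN N Q) → ℂ)).symm.trans h0)
    obtain ⟨D, hD, hDQ, -⟩ := exists_defect_inf hM (isPBlock_mvSet κ.symm he) hQL he' hc₀.1 hcov₀
    refine ⟨D, hD, ?_⟩
    ext x
    constructor
    · rintro ⟨⟨x', hx', rfl⟩, hxN⟩
      have h1 : x' ∈ D ⊓ (LN N Q).subgroupOf (NH Q) := ⟨hx', x'.2, hxN⟩
      rw [hDQ] at h1
      exact h1
    · intro hx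
      have h1 : (⟨x, hQH hx⟩ : (NH Q)) ∈ Q.subgroupOf (NH Q) := hx
      rw [← hDQ] at h1
      exact ⟨⟨_, h1.1, rfl⟩, hQN hx⟩
  obtain ⟨D, hD, hDN⟩ := key c hc hcov
  obtain ⟨D₂, hD₂, hD₂N⟩ := key c' hc' hcov'
  obtain ⟨κ₁, f, hκ₁, hf, hfB, hBD⟩ := exists_local_corr hM hQ hQN hd hdQ hed hc hD hDN
  obtain ⟨-, -, -, -, -, hBD₂⟩ := exists_local_corr hM hQ hQN hd hdQ hed hc' hD₂ hD₂N
  obtain ⟨g, hg⟩ := isDefectGroup_conj_eq hM hc.2.1 hBD hBD₂
  have hgH : g ∈ (NH Q) := by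
    have h2 : ∀ x, x ∈ D.map (NH Q).subtype ↔ g⁻¹ * x * g ∈ D₂.map (NH Q).subtype := fun x => by
      rw [← hg, mem_map_conj]
    have h3 : ∀ x, x ∈ N ↔ g⁻¹ * x * g ∈ N := fun x =>
      ⟨fun h => by simpa using ‹N.Normal›.conj_mem x h g⁻¹,
       fun h => by simpa [mul_assoc] using ‹N.Normal›.conj_mem _ h g⟩
    refine mem_normalizer_subgroup_iff.2 fun x => ?_
    conv_lhs => rw [← hDN]
    conv_rhs => rw [← hD₂N]
    exact and_congr (h2 x) (h3 x)
  have hD' : IsDefectGroup p M c' D := by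
    have h1 := IsDefectGroup.conj hD₂ (⟨g, hgH⟩ : (NH Q))
    have h2 : D₂.map (MulAut.conj (⟨g, hgH⟩ : (NH Q))).toMonoidHom = D := by
      apply Subgroup.map_injective (NH Q).subtype_injective
      rw [← hg, Subgroup.map_map, Subgroup.map_map]
      rfl
    rwa [h2] at h1
  obtain ⟨κ₂, f', hκ₂, hf', hfB', -⟩ := exists_local_corr hM hQ hQN hd hdQ hed hc' hD' hDN
  have hκe : κ₁ = κ₂ := MulEquiv.ext fun x => Subtype.ext ((hκ₁ x).trans (hκ₂ x).symm)
  subst hκe
  have h1 := induced_normalizer_unique hM hBD hfB hfB'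
  have h2 := mvSet_injective κ₁ h1
  exact isInducedBlock_unique _ hf (h2 ▸ hf')

/-- The correspondence. -/
theorem main [Fintype (LN N Q)] (he : IsPBlock M e)
    (heQ : IsDefectGroup p M e (Q.subgroupOf (LN N Q))) :
    (∀ c : Set (IrrCharacter (Subgroup.normalizer (Q : Set G))), IsPBlock M c →
      (∃ ψ ∈ c, ∃ ξ ∈ e, classInner (fun l : LN N Q =>
        (ψ : Subgroup.normalizer (Q : Set G) → ℂ) (Subgroup.inclusion inf_le_left l))
        (ξ : LN N Q → ℂ) ≠ 0) →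
      ∃! B : Set (IrrCharacter G), IsInducedBlock M (Subgroup.normalizer (Q : Set G)) c B ∧
        (∃ χ ∈ B, ∃ θ ∈ d, classInner (fun n : N => (χ : G → ℂ) n) (θ : N → ℂ) ≠ 0)) ∧
    (∀ B : Set (IrrCharacter G), IsPBlock M B →
      (∃ χ ∈ B, ∃ θ ∈ d, classInner (fun n : N => (χ : G → ℂ) n) (θ : N → ℂ) ≠ 0) →
      ∃! c : Set (IrrCharacter (Subgroup.normalizer (Q : Set G))),
        (IsPBlock M c ∧ ∃ ψ ∈ c, ∃ ξ ∈ e, classInner (fun l : LN N Q =>
          (ψ : Subgroup.normalizer (Q : Set G) → ℂ) (Subgroup.inclusion inf_le_left l))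
          (ξ : LN N Q → ℂ) ≠ 0) ∧
        IsInducedBlock M (Subgroup.normalizer (Q : Set G)) c B) := by
  classical
  haveI : CharP (Res M) p := charP_res hM
  have hQH : Q ≤ (NH Q) := Subgroup.le_normalizer
  have hCH : Subgroup.centralizer (Q : Set G) ≤ (NH Q) := Subgroup.centralizer_le_normalizer _
  have hE := isClassCoeff_nSum (G := G) hM hd
  refine ⟨fun c hc hcov => ?_, fun B hB hcov => ?_⟩
  · obtain ⟨B, hB⟩ := inducedBlockDefined_of_brauer hM Q (NH Q) hQ hQH hCH le_rfl hc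
    obtain ⟨ψ, hψ, hξ⟩ := hcov
    obtain ⟨χ, hχ⟩ := isPBlock_nonempty hB.2.1
    have h1 := (cov_iff hM hQ hQN hd hdQ hed ψ).1 hξ
    rw [induced_lam hB hψ hχ hE] at h1
    exact ⟨B, ⟨hB, χ, hχ, (covG_iff hM hd χ).2 h1⟩,
      fun B' hB' => isInducedBlock_unique _ hB'.1 hB⟩
  · obtain ⟨P, hP, hPN, -⟩ := exists_defect_inf hM hd hQN hdQ hB hcov
    have hbr : brMap Q (redA (blockIdem hM hB)) ≠ 0 :=
      (brMap_blockIdem_ne_zero_iff hM hB hP Q hQ).2 ⟨1, by
        rintro _ ⟨q, hq, rfl⟩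
        simpa using (hPN.ge hq).1⟩
    rw [← bid_eq hM hB] at hbr
    set z := resA (NH Q) (brMap Q (bid M B)) with hz
    have hbc := isClassCoeff_bid hM hB
    have hzc : IsClassCoeff z := isClassCoeff_resA_brMap Q (NH Q) le_rfl hbc
    have hzi : z * z = z := by
      rw [hz, ← resA_brMap_mul Q (NH Q) hQ hCH hbc hbc, bid_mul_self hM hB]
    have hz0 : z ≠ 0 := by
      intro h0
      refine hbr (MonoidAlgebra.coeff_injective (Finsupp.ext fun g => ?_))
      rw [MonoidAlgebra.coeff_zero, Finsupp.zero_apply]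
      by_cases hg : g ∈ Subgroup.centralizer (Q : Set G)
      · have := congrArg (fun w : KA M (NH Q) => w.coeff ⟨g, hCH hg⟩) h0
        simpa [z] using this
      · exact coeff_brMap_of_notMem Q _ hg
    obtain ⟨c, hc, hcz⟩ := exists_block_of_ne_zero hM hzc hzi hz0
    obtain ⟨B', hB'⟩ := inducedBlockDefined_of_brauer hM Q (NH Q) hQ hQH hCH le_rfl hc
    obtain ⟨ψ, hψ⟩ := isPBlock_nonempty hc
    obtain ⟨χ', hχ'⟩ := isPBlock_nonempty hB'.2.1
    have h1 := hcz ψ hψ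
    rw [hz, lam_brMap hM Q (NH Q) hQ hQH le_rfl ψ hbc, induced_lam hB' hψ hχ' hbc,
      lam_bid hM hB] at h1
    have hχB : χ' ∈ B := by by_contra hne; rw [if_neg hne] at h1; exact zero_ne_one h1
    have hBB : B' = B := (eq_blockOf hB'.2.1 hχ').trans (eq_blockOf hB hχB).symm
    subst hBB
    obtain ⟨χ, hχ, hθ⟩ := hcov
    have h2 := (covG_iff hM hd χ).1 hθ
    rw [← induced_lam hB' hψ hχ hE] at h2
    have hcc := (cov_iff hM hQ hQN hd hdQ hed ψ).2 h2
    refine ⟨c, ⟨⟨hc, ψ, hψ, hcc⟩, hB'⟩, fun c' hc' => ?_⟩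
    exact unique hM hQ hQN hd hdQ hed he heQ hc'.2 hB' hc'.1.2 ⟨ψ, hψ, hcc⟩

end CfsgLib.HarrisKnorr
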