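import Cfsg.Agent.Blk.SecondMain

/-!
Characters on the `p`-regular classes: lifting of local class functions, orthogonality between
blocks on regular elements, the linkage characterisation of blocks, the principal block.
-/

set_option autoImplicit false
set_option linter.style.haveILetI false
set_option linter.unusedSectionVars false

namespace CfsgLib.Blk

open Cfsg CfsgLib.Char MonoidAlgebra Finset IsLocalRing
open scoped ComplexConjugate

universe u

variable {G : Type u} [Group G] [Finite G] {M : Ideal AlgInt} [M.IsPrime] {p : ℕ}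

theorem regular_inv_iff (g : G) : ¬ p ∣ orderOf g⁻¹ ↔ ¬ p ∣ orderOf g := by rw [orderOf_inv]

theorem regular_conj_iff {g h : G} (hgh : IsConj g h) : ¬ p ∣ orderOf g ↔ ¬ p ∣ orderOf h := by
  obtain ⟨c, rfl⟩ := isConj_iff.1 hgh
  rw [isPPart_conj.orderOf_mulAut_conj]

variable [Fact p.Prime]

/-- Orthogonality on regular elements between different blocks. -/
theorem regular_orth (hM : IsPModular p M) [Fintype G] {χ ψ : IrrCharacter G}
    (h : ¬ SameBlock M (χ : G → ℂ) (ψ : G → ℂ)) :
    ∑ x : G, (if ¬ p ∣ orderOf x then (χ : G → ℂ) x * conj ((ψ : G → ℂ) x) else 0) = 0 := by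
  classical
  have hp : p.Prime := Fact.out
  set B := blockOf M (χ : G → ℂ)
  have hB : IsPBlock M B := blockOf_isPBlock χ
  have hχ : χ ∈ B := sameBlock_refl _
  have hψ : ψ ∉ B := h
  -- pair the block orthogonality with `χ` and `ψ`
  have key : ∀ u : G, ∀ v : G, ¬ p ∣ orderOf u → p ∣ orderOf v →
      ∑ θ : IrrCharacter G,
        (if θ ∈ B then (θ : G → ℂ) u * conj ((θ : G → ℂ) v) else 0) = 0 := by
    intro u v hu hv
    obtain ⟨v₁, hv₁⟩ := exists_isPPart hp v
    rw [← finsum_mem_eq_sum_ite]
    exact block_orth hM hB (isPPart_one_of_regular hu) hv₁ fun hc =>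
      (isPPart_eq_one_iff hp hv₁).1 (isConj_one_right.1 hc) hv
  let K : G → G → ℂ := fun u v =>
    ∑ θ : IrrCharacter G, if θ ∈ B then (θ : G → ℂ) u * conj ((θ : G → ℂ) v) else 0
  have hK1 : ∀ u, ∑ v : G, K u v * (χ : G → ℂ) v = (Nat.card G : ℂ) * (χ : G → ℂ) u := by
    intro u
    simp only [K, Finset.sum_mul]
    rw [Finset.sum_comm, Finset.sum_eq_single χ]
    · simp only [if_pos hχ]
      have h1 := irr_inner_self χ.2
      rw [classInner_def] at h1
      calc ∑ v : G, (χ : G → ℂ) u * conj ((χ : G → ℂ) v) * (χ : G → ℂ) v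
          = (χ : G → ℂ) u * ∑ v : G, (χ : G → ℂ) v * conj ((χ : G → ℂ) v) := by
            rw [Finset.mul_sum]; exact Finset.sum_congr rfl fun v _ => by ring
        _ = (χ : G → ℂ) u * ((Nat.card G : ℂ) * ((Nat.card G : ℂ)⁻¹ *
              ∑ v : G, (χ : G → ℂ) v * conj ((χ : G → ℂ) v))) := by
            rw [← mul_assoc (Nat.card G : ℂ), mul_inv_cancel₀ (natCard_ne_zero G), one_mul]
        _ = _ := by rw [h1]; ring
    · intro θ _ hθ
      have h1 : classInner (χ : G → ℂ) (θ : G → ℂ) = 0 := by
        rw [irrChar_inner, if_neg (Ne.symm hθ)]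
      rw [classInner_def, mul_eq_zero] at h1
      split_ifs
      · calc ∑ v : G, (θ : G → ℂ) u * conj ((θ : G → ℂ) v) * (χ : G → ℂ) v
            = (θ : G → ℂ) u * ∑ v : G, (χ : G → ℂ) v * conj ((θ : G → ℂ) v) := by
              rw [Finset.mul_sum]; exact Finset.sum_congr rfl fun v _ => by ring
          _ = 0 := by rw [h1.resolve_left (inv_ne_zero (natCard_ne_zero G)), mul_zero]
      · simp
    · simp
  have hK2 : ∀ v, ∑ u : G, K u v * conj ((ψ : G → ℂ) u) = 0 := by
    intro v
    simp only [K, Finset.sum_mul]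
    rw [Finset.sum_comm]
    refine Finset.sum_eq_zero fun θ _ => ?_
    split_ifs with hθ
    · have h1 : classInner (θ : G → ℂ) (ψ : G → ℂ) = 0 := by
        rw [irrChar_inner, if_neg (fun e => hψ (by rw [← e]; exact hθ))]
      rw [classInner_def, mul_eq_zero] at h1
      calc ∑ u : G, (θ : G → ℂ) u * conj ((θ : G → ℂ) v) * conj ((ψ : G → ℂ) u)
          = conj ((θ : G → ℂ) v) * ∑ u : G, (θ : G → ℂ) u * conj ((ψ : G → ℂ) u) := by
            rw [Finset.mul_sum]; exact Finset.sum_congr rfl fun v _ => by ring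
        _ = 0 := by rw [h1.resolve_left (inv_ne_zero (natCard_ne_zero G)), mul_zero]
    · simp
  have h0 : (Nat.card G : ℂ) *
      ∑ x : G, (if ¬ p ∣ orderOf x then (χ : G → ℂ) x * conj ((ψ : G → ℂ) x) else 0) = 0 := by
    calc _ = ∑ u : G, ∑ v : G, (if ¬ p ∣ orderOf v then
          K u v * (χ : G → ℂ) v * conj ((ψ : G → ℂ) u) else 0) := by
          rw [Finset.mul_sum]
          refine Finset.sum_congr rfl fun u _ => ?_
          by_cases hu : ¬ p ∣ orderOf u
          · rw [if_pos hu, ← mul_assoc, ← hK1, Finset.sum_mul]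
            refine Finset.sum_congr rfl fun v _ => ?_
            by_cases hv : ¬ p ∣ orderOf v
            · rw [if_pos hv]
            · rw [if_neg hv]
              simp only [K, key u v hu (not_not.1 hv), zero_mul]
          · rw [if_neg hu, mul_zero]
            refine (Finset.sum_eq_zero fun v _ => ?_).symm
            split_ifs with hv
            · rfl
            · have hc : K u v = conj (K v u) := by
                simp only [K, map_sum, apply_ite conj, map_mul, Complex.conj_conj, map_zero]
                exact Finset.sum_congr rfl fun θ _ => by split_ifs <;> ring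
              have : K v u = 0 := key v u hv (not_not.1 hu)
              rw [hc, this, map_zero, zero_mul, zero_mul]
      _ = ∑ v : G, (if ¬ p ∣ orderOf v then
          (χ : G → ℂ) v * ∑ u : G, K u v * conj ((ψ : G → ℂ) u) else 0) := by
          rw [Finset.sum_comm]
          refine Finset.sum_congr rfl fun v _ => ?_
          split_ifs
          · simp
          · rw [Finset.mul_sum]; exact Finset.sum_congr rfl fun u _ => by ring
      _ = 0 := by simp [hK2]
  exact (mul_eq_zero.1 h0).resolve_left (natCard_ne_zero G)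

/-- A local combination of the irreducible characters concentrated on one regular class, with
its coefficients spelled out. -/
theorem exists_comb_regular_sylow (hM : IsPModular p M) [Fintype G] {x : G}
    (hx : ¬ p ∣ orderOf x) :
    ∃ (P : Subgroup G) (c : IrrCharacter G → locRing M) (m : ℕ),
      IsSylowIn p P (Subgroup.centralizer ({x} : Set G)) ∧ ¬ p ∣ m ∧
      (∀ χ : IrrCharacter G, ((c χ : locRing M) : ℂ) =
        (Nat.card P : ℂ)⁻¹ * ∑ᶠ u : P, conj ((χ : G → ℂ) (x * (u : G)))) ∧
      ∀ g : G, ¬ p ∣ orderOf g → ∀ [Decidable (IsConj g x)],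
        ∑ χ : IrrCharacter G, ((c χ : locRing M) : ℂ) * (χ : G → ℂ) g =
          if IsConj g x then (m : ℂ) else 0 := by
  classical
  have hp : p.Prime := Fact.out
  obtain ⟨P, hP⟩ := exists_isSylowIn (p := p) (Subgroup.centralizer ({x} : Set G))
  haveI : Fintype P := Fintype.ofFinite _
  have hxN : x ∈ Subgroup.normalizer (P : Set G) := by
    rw [Subgroup.mem_normalizer_iff]
    intro y
    constructor
    · intro hy
      have := Subgroup.mem_centralizer_singleton_iff.1 (hP.le hy)
      rwa [← this, mul_inv_cancel_right]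
    · intro hy
      have h1 := Subgroup.mem_centralizer_singleton_iff.1 (hP.le hy)
      have h2 : x * y * x⁻¹ = y := by
        calc x * y * x⁻¹ = x⁻¹ * (x * (x * y * x⁻¹)) := by group
          _ = x⁻¹ * (x * y * x⁻¹ * x) := by rw [h1]
          _ = y := by group
      rwa [h2] at hy
  let E := Subgroup.normalizer (P : Set G)
  haveI : Fintype E := Fintype.ofFinite _
  have hint : ∀ χ : IrrCharacter G,
      (Nat.card P : ℂ)⁻¹ * ∑ u : P, conj ((χ : G → ℂ) (x * (u : G))) ∈ locRing M := by
    intro χ
    -- work in the normalizer of `P`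
    have hPE : P ≤ E := Subgroup.le_normalizer
    let a : MonoidAlgebra (locRing M) E := ∑ u : P, single ⟨(u : G), hPE u.2⟩ 1
    have ha : IsClassCoeff a := by
      intro g h
      simp only [a, MonoidAlgebra.coeff_sum, Finset.sum_apply', MonoidAlgebra.coeff_single,
        Finsupp.single_apply, Subtype.ext_iff, Subgroup.coe_mul, Subgroup.coe_inv]
      have hn := Subgroup.mem_normalizer_iff.1 h.2
      let e : P ≃ P :=
        { toFun := fun u : P => (⟨h * u * (h : G)⁻¹, (hn _).1 u.2⟩ : P)
          invFun := fun u : P => ⟨(h : G)⁻¹ * u * h, (hn _).2 (by simp [mul_assoc])⟩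
          left_inv := fun u => Subtype.ext (by simp [mul_assoc])
          right_inv := fun u => Subtype.ext (by simp [mul_assoc]) }
      refine congrArg _ (Eq.symm (Fintype.sum_equiv e _ _ fun u => ?_))
      refine if_congr ?_ rfl rfl
      exact (MulAut.conj (h : G)).injective.eq_iff.symm
    have ha2 : a * a = (Nat.card P : locRing M) • a := by
      simp only [a, Finset.sum_mul, Finset.mul_sum, single_mul_single, mul_one]
      refine (Finset.sum_congr rfl (g := fun _ : P => ∑ u : P, single (⟨(u : G), hPE u.2⟩ : E)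
        (1 : locRing M)) fun v _ => Fintype.sum_equiv (Equiv.mulRight v) _ _ fun u => rfl).trans ?_
      rw [Finset.sum_const, Finset.card_univ, Fintype.card_eq_nat_card, Nat.cast_smul_eq_nsmul]
    have hξ : ∀ ξ : IrrCharacter E,
        (Nat.card P : ℂ)⁻¹ * ∑ u : P, (ξ : E → ℂ) (⟨x, hxN⟩ * ⟨(u : G), hPE u.2⟩) ∈ locRing M := by
      intro ξ
      have h1 : omega (ξ : E → ℂ) a * (omega (ξ : E → ℂ) a - (Nat.card P : ℂ)) = 0 := by
        rw [mul_sub, ← omega_mul ξ.2 ha, ha2, omega_smul]
        push_cast
        ring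
      have h2 := omega_mul ξ.2 ha (single ⟨x, hxN⟩ (1 : locRing M))
      simp only [a, Finset.sum_mul, omega_sum, single_mul_single, mul_one, omega_single,
        OneMemClass.coe_one, one_mul, mul_div_assoc'] at h2
      simp only [← Finset.sum_div] at h2
      rw [div_left_inj' (irr_one_ne_zero ξ.2)] at h2
      simp only [← Finset.sum_mul, ← Finset.sum_div] at h2
      simp only [classFun_mul_comm (classFun_of_irr ξ.2) ⟨(_ : G), hPE (Subtype.property _)⟩] at h2
      have h3 : ∀ w : ℂ, w * (w - (Nat.card P : ℂ)) = 0 →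
          (Nat.card P : ℂ)⁻¹ * (w * (ξ : E → ℂ) ⟨x, hxN⟩) ∈ locRing M := by
        intro w hw
        rcases mul_eq_zero.1 hw with h | h
        · simp [h]
        · rw [sub_eq_zero.1 h, ← mul_assoc, inv_mul_cancel₀ (natCard_ne_zero P), one_mul]
          exact irr_mem ξ _
      rw [h2]
      refine h3 _ ?_
      simpa [a, omega_sum, omega_single, ← Finset.sum_div] using h1
    have hres := classFun_eq_sum (f := fun e : E => conj ((χ : G → ℂ) (e : G)))
      (classFun_of_char (isCharacter_conj (isCharacter_restrict E (isCharacter_of_isIrr χ.2))))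
    have h4 : ∀ u : P, conj ((χ : G → ℂ) (x * (u : G))) =
        ∑ ξ : IrrCharacter E, classInner (fun e : E => conj ((χ : G → ℂ) (e : G))) (ξ : E → ℂ) *
          (ξ : E → ℂ) (⟨x, hxN⟩ * ⟨(u : G), hPE u.2⟩) := by
      intro u
      have h5 := congrFun hres (⟨x, hxN⟩ * ⟨(u : G), hPE u.2⟩)
      simpa using h5
    simp only [h4]
    rw [Finset.sum_comm, Finset.mul_sum]
    refine sum_mem fun ξ _ => ?_
    rw [← Finset.mul_sum, mul_left_comm]
    refine mul_mem ?_ (hξ ξ)
    obtain ⟨n, hn⟩ := inner_char_irr
      (isCharacter_conj (isCharacter_restrict E (isCharacter_of_isIrr χ.2))) ξ.2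
    rw [hn]
    exact natCast_mem _ n
  obtain ⟨m, hm⟩ : Nat.card P ∣ Nat.card (Subgroup.centralizer ({x} : Set G)) :=
    Subgroup.card_dvd_of_le hP.le
  refine ⟨P, fun χ => ⟨_, hint χ⟩, m, hP, ?_, fun χ => by rw [finsum_eq_sum_of_fintype],
    fun g hg hdec => ?_⟩
  · intro hpm
    refine Nat.pow_succ_factorization_not_dvd
      (Nat.card_pos (α := Subgroup.centralizer ({x} : Set G))).ne' hp ?_
    rw [pow_succ, ← hP.card]
    exact (mul_dvd_mul_left _ hpm).trans (dvd_of_eq hm.symm)
  have hm' : (Nat.card (Subgroup.centralizer ({x} : Set G)) : ℂ) =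
      (Nat.card P : ℂ) * (m : ℂ) := by rw [hm]; push_cast; rfl
  calc ∑ χ : IrrCharacter G,
        (Nat.card P : ℂ)⁻¹ * (∑ u : P, conj ((χ : G → ℂ) (x * (u : G)))) * (χ : G → ℂ) g
      = (Nat.card P : ℂ)⁻¹ * ∑ u : P, ∑ χ : IrrCharacter G,
          (χ : G → ℂ) g * conj ((χ : G → ℂ) (x * (u : G))) := by
        simp only [Finset.mul_sum, Finset.sum_mul]
        rw [Finset.sum_comm]
        exact Finset.sum_congr rfl fun χ _ => Finset.sum_congr rfl fun u _ => by ring
    _ = _ := by
        simp only [second_orth]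
        rw [Finset.sum_eq_single (1 : P)]
        · simp only [Subgroup.coe_one, mul_one]
          by_cases hgx : IsConj g x
          · rw [if_pos hgx, if_pos hgx]
            have hcard : Nat.card (Subgroup.centralizer ({g} : Set G)) =
                Nat.card (Subgroup.centralizer ({x} : Set G)) := by
              obtain ⟨c, rfl⟩ := isConj_iff.1 hgx
              rw [← centralizer_singleton_conj, card_map_conj]
            rw [hcard, hm', ← mul_assoc, inv_mul_cancel₀ (natCard_ne_zero P), one_mul]
          · rw [if_neg hgx, if_neg hgx, mul_zero]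
        · intro u _ hu
          rw [if_neg]
          intro hc
          have hxu : Commute (u : G) x := Subgroup.mem_centralizer_singleton_iff.1 (hP.le u.2)
          obtain ⟨j, hj⟩ := IsPGroup.iff_orderOf.1 hP.isPGroup u
          have hpart : IsPPart p (x * (u : G)) (u : G) := by
            rw [← hxu.eq]
            exact isPPart_mul ⟨j, by rwa [Subgroup.orderOf_coe]⟩ hx hxu
          have h1 := (isPPart_eq_one_iff hp hpart).2 ((regular_conj_iff hc).1 hg)
          exact hu (Subtype.ext h1)
        · simp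

/-- A local combination of the irreducible characters concentrated on one regular class. -/
theorem exists_comb_regular (hM : IsPModular p M) [Fintype G] {x : G} (hx : ¬ p ∣ orderOf x) :
    ∃ (c : IrrCharacter G → locRing M) (m : ℕ), ¬ p ∣ m ∧
      ∀ g : G, ¬ p ∣ orderOf g → ∀ [Decidable (IsConj g x)],
        ∑ χ : IrrCharacter G, ((c χ : locRing M) : ℂ) * (χ : G → ℂ) g =
          if IsConj g x then (m : ℂ) else 0 := by
  obtain ⟨_, c, m, -, hm, -, hc⟩ := exists_comb_regular_sylow hM hx
  exact ⟨c, m, hm, hc⟩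

theorem principalChar_isIrr : IsIrrCharacter G (fun _ => (1 : ℂ)) := isIrr_one

theorem isPBlock_principalBlock : IsPBlock M (principalBlock M G) :=
  ⟨⟨_, isIrr_one⟩, rfl⟩

theorem one_mem_principalBlock :
    (⟨_, isIrr_one⟩ : IrrCharacter G) ∈ principalBlock M G := sameBlock_refl _

/-- A set of characters is a union of blocks as soon as it is orthogonal to its complement on the
regular elements. -/
theorem blockCoeff_mem_of_regular_orth (hM : IsPModular p M) [Fintype G]
    {A : Set (IrrCharacter G)}
    (hA : ∀ χ ∈ A, ∀ ψ ∉ A,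
      ∑ x : G, (if ¬ p ∣ orderOf x then (χ : G → ℂ) x * conj ((ψ : G → ℂ) x) else 0) = 0)
    (g : G) : blockCoeff A g ∈ locRing M := by
  classical
  have hp : p.Prime := Fact.out
  have h1o : ¬ p ∣ orderOf (1 : G) := by simpa using hp.ne_one
  obtain ⟨c, m, hm, hc⟩ := exists_comb_regular hM h1o
  let f : G → ℂ := fun x => if ¬ p ∣ orderOf x then
    ∑ χ : IrrCharacter G, (if χ ∈ A then ((c χ : locRing M) : ℂ) * (χ : G → ℂ) x else 0) else 0
  have hcl : IsClassFunction G f := by
    intro x y
    simp only [f]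
    rw [if_congr (regular_conj_iff (isConj_iff.2 ⟨y, rfl⟩)).symm rfl rfl]
    refine if_congr Iff.rfl (Finset.sum_congr rfl fun χ _ => ?_) rfl
    rw [classFun_of_irr χ.2 x y]
  have hm0 : (m : ℂ) ≠ 0 := Nat.cast_ne_zero.2 fun h0 => hm (h0 ▸ dvd_zero p)
  have hinner : ∀ ψ : IrrCharacter G, classInner f (ψ : G → ℂ) =
      if ψ ∈ A then (m : ℂ) * (Nat.card G : ℂ)⁻¹ * (ψ : G → ℂ) 1 else 0 := by
    intro ψ
    rw [classInner_def]
    have e : ∀ x : G, f x * conj ((ψ : G → ℂ) x) = ∑ χ : IrrCharacter G,
        (if χ ∈ A then ((c χ : locRing M) : ℂ) *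
          (if ¬ p ∣ orderOf x then (χ : G → ℂ) x * conj ((ψ : G → ℂ) x) else 0) else 0) := by
      intro x
      simp only [f]
      split_ifs with hx
      · simp
      · rw [Finset.sum_mul]
        refine Finset.sum_congr rfl fun χ _ => ?_
        split_ifs <;> ring
    simp only [e]
    rw [Finset.sum_comm]
    split_ifs with hψ
    · have e2 : ∀ χ : IrrCharacter G, (∑ x : G, if χ ∈ A then ((c χ : locRing M) : ℂ) *
          (if ¬ p ∣ orderOf x then (χ : G → ℂ) x * conj ((ψ : G → ℂ) x) else 0) else 0) =
          ∑ x : G, ((c χ : locRing M) : ℂ) *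
            (if ¬ p ∣ orderOf x then (χ : G → ℂ) x * conj ((ψ : G → ℂ) x) else 0) := by
        intro χ
        by_cases hχ : χ ∈ A
        · simp only [if_pos hχ]
        · simp only [if_neg hχ, Finset.sum_const_zero, ← Finset.mul_sum]
          have h2 := congrArg conj (hA ψ hψ χ hχ)
          simp only [map_sum, apply_ite conj, map_mul, Complex.conj_conj, map_zero] at h2
          rw [Finset.sum_congr rfl (g := fun x : G => if ¬ p ∣ orderOf x then
            conj ((ψ : G → ℂ) x) * (χ : G → ℂ) x else 0)
            fun x _ => by split_ifs <;> ring, h2, mul_zero]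
      rw [Finset.sum_congr rfl fun χ _ => e2 χ, Finset.sum_comm, Finset.sum_eq_single (1 : G)]
      · rw [← mul_comm ((Nat.card G : ℂ)⁻¹), mul_comm ((Nat.card G : ℂ)⁻¹) (m : ℂ)]
        simp only [if_pos h1o]
        have h3 := hc 1 h1o
        rw [if_pos (IsConj.refl _)] at h3
        simp only [← mul_assoc]
        rw [← Finset.sum_mul, h3, char_one_eq (isCharacter_of_isIrr ψ.2), Complex.conj_natCast]
        ring
      · intro x _ hx
        split_ifs with hreg
        · simp
        · simp only [← mul_assoc]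
          rw [← Finset.sum_mul, hc x hreg, if_neg, zero_mul]
          exact fun h => hx (isConj_one_left.1 h)
      · simp
    · rw [Finset.sum_eq_zero, mul_zero]
      intro χ _
      split_ifs with hχ
      · rw [← Finset.mul_sum, hA χ hχ ψ hψ, mul_zero]
      · simp
  have hval : ∀ x : G, f x ∈ locRing M := by
    intro x
    simp only [f]
    split_ifs
    · exact zero_mem _
    · refine sum_mem fun χ _ => ?_
      split_ifs
      · exact mul_mem (c χ).2 (irr_mem χ x)
      · exact zero_mem _
  have hfx := congrFun (classFun_eq_sum hcl) g⁻¹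
  simp only [Finset.sum_apply, Pi.smul_apply, smul_eq_mul, hinner] at hfx
  have hmem : (m : ℂ)⁻¹ * f g⁻¹ ∈ locRing M := mul_mem (natCast_inv_mem hM hm) (hval _)
  convert hmem using 1
  rw [hfx, blockCoeff, finsum_mem_eq_sum_ite, Finset.mul_sum, Finset.mul_sum]
  refine Finset.sum_congr rfl fun χ _ => ?_
  split_ifs
  · rw [char_conj_eq (isCharacter_of_isIrr χ.2)]
    field_simp
  · simp

/-- A set of characters with local idempotent coefficients is a union of blocks. -/
theorem blockOf_subset_of_blockCoeff_mem {A : Set (IrrCharacter G)}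
    (hA : ∀ g : G, blockCoeff A g ∈ locRing M) {χ : IrrCharacter G} (hχ : χ ∈ A) :
    blockOf M (χ : G → ℂ) ⊆ A := by
  classical
  haveI := Fintype.ofFinite G
  let e : MonoidAlgebra (locRing M) G := MonoidAlgebra.ofCoeff (Finsupp.ofSupportFinite
    (fun g => (⟨blockCoeff A g, hA g⟩ : locRing M)) (Set.toFinite _))
  have he : IsClassCoeff e := fun g h => Subtype.ext (blockCoeff_conj A g h)
  have hω : ∀ ψ : IrrCharacter G,
      omega (ψ : G → ℂ) e = if ψ ∈ A then 1 else 0 := by
    intro ψ
    rw [omega_eq]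
    change (∑ g : G, blockCoeff A g * (ψ : G → ℂ) g) / _ = _
    rw [sum_blockCoeff_mul]
    split_ifs
    · exact div_self (irr_one_ne_zero ψ.2)
    · exact zero_div _
  intro ψ hψ
  have h := omegaBar_congr χ.2 ψ.2 (mem_blockOf.1 hψ) he
  rw [omegaBar, omegaBar, hω, hω, if_pos hχ] at h
  by_contra hn
  rw [if_neg hn, red_one, red_zero] at h
  exact one_ne_zero h

theorem blockOf_subset_of_regular_orth (hM : IsPModular p M) [Fintype G]
    {A : Set (IrrCharacter G)}
    (hA : ∀ χ ∈ A, ∀ ψ ∉ A,
      ∑ x : G, (if ¬ p ∣ orderOf x then (χ : G → ℂ) x * conj ((ψ : G → ℂ) x) else 0) = 0)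
    {χ : IrrCharacter G} (hχ : χ ∈ A) : blockOf M (χ : G → ℂ) ⊆ A :=
  blockOf_subset_of_blockCoeff_mem (fun g => blockCoeff_mem_of_regular_orth hM hA g) hχ

/-- The sum of the regular elements. -/
noncomputable def regSum (R : Type*) [CommRing R] (p : ℕ) (G : Type u) [Group G] [Finite G] :
    MonoidAlgebra R G :=
  MonoidAlgebra.ofCoeff (Finsupp.ofSupportFinite
    (fun g : G => if p ∣ orderOf g then (0 : R) else 1) (Set.toFinite _))

theorem coeff_regSum (R : Type*) [CommRing R] (g : G) :
    (regSum R p G).coeff g = if p ∣ orderOf g then (0 : R) else 1 := rfl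

theorem isClassCoeff_regSum (R : Type*) [CommRing R] : IsClassCoeff (regSum R p G) := fun g h => by
  rw [coeff_regSum, coeff_regSum, isPPart_conj.orderOf_mulAut_conj]

theorem omega_regSum_eq_zero (hM : IsPModular p M) {χ : IrrCharacter G}
    (hχ : χ ∉ principalBlock M G) : omega (χ : G → ℂ) (regSum (locRing M) p G) = 0 := by
  classical
  haveI := Fintype.ofFinite G
  have h := regular_orth hM (χ := χ) (ψ := ⟨_, isIrr_one⟩) (fun h => hχ (sameBlock_symm h))
  rw [omega_eq]
  simp only [map_one, mul_one, ite_not] at h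
  rw [Finset.sum_congr rfl fun g _ => ?_, h, zero_div]
  rw [coeff_regSum]
  split_ifs <;> simp

theorem omegaBar_regSum_principal (hM : IsPModular p M) {χ : IrrCharacter G}
    (hχ : χ ∈ principalBlock M G) : omegaBar (χ : G → ℂ) (regSum (locRing M) p G) ≠ 0 := by
  classical
  haveI := Fintype.ofFinite G
  have hp : p.Prime := Fact.out
  have h1o : ¬ p ∣ orderOf (1 : G) := by simpa using hp.ne_one
  have hz := isClassCoeff_regSum (p := p) (G := G) (locRing M)
  set ζ : IrrCharacter G := ⟨_, isIrr_one⟩
  rw [omegaBar_congr χ.2 ζ.2 (sameBlock_of_mem isPBlock_principalBlock hχ one_mem_principalBlock) hz]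
  intro h0
  obtain ⟨c, m, hm, hc⟩ := exists_comb_regular hM h1o
  have h2 : ∑ ψ : IrrCharacter G,
      ((c ψ : locRing M) : ℂ) * ((ψ : G → ℂ) 1 * omega (ψ : G → ℂ) (regSum (locRing M) p G)) =
        (m : ℂ) := by
    have e : ∀ ψ : IrrCharacter G,
        (ψ : G → ℂ) 1 * omega (ψ : G → ℂ) (regSum (locRing M) p G) =
          ∑ g : G, ((regSum (locRing M) p G).coeff g : ℂ) * (ψ : G → ℂ) g := by
      intro ψ
      rw [omega_eq, mul_div_cancel₀ _ (irr_one_ne_zero ψ.2)]
    simp only [e, Finset.mul_sum]
    rw [Finset.sum_comm, Finset.sum_eq_single (1 : G)]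
    · have h3 := hc 1 h1o
      rw [if_pos (IsConj.refl _)] at h3
      simp only [coeff_regSum, if_neg h1o, OneMemClass.coe_one, one_mul]
      exact h3
    · intro g _ hg
      rw [coeff_regSum]
      split_ifs with h
      · simp
      · simp only [OneMemClass.coe_one, one_mul]
        rw [hc g h, if_neg]
        exact fun hh => hg (isConj_one_left.1 hh)
    · simp
  refine hm ((natCast_memLocalIdeal_iff hM m).1 ?_)
  rw [← h2]
  refine memLocalIdeal_sum _ _ fun ψ _ => memLocalIdeal_mul_left (c ψ).2
    (memLocalIdeal_mul_left (irr_mem ψ 1) ?_)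
  by_cases hψ : ψ ∈ principalBlock M G
  · rw [← red_eq_zero_iff (omega_mem ψ.2 hz), ← h0]
    exact omegaBar_congr ψ.2 ζ.2 (sameBlock_of_mem isPBlock_principalBlock hψ one_mem_principalBlock) hz
  · rw [omega_regSum_eq_zero hM hψ]
    exact memLocalIdeal_zero

theorem resA_regSum (R : Type*) [CommRing R] (H : Subgroup G) :
    resA H (regSum R p G) = regSum R p H := by
  refine MonoidAlgebra.coeff_injective (Finsupp.ext fun h => ?_)
  rw [coeff_resA, coeff_regSum, coeff_regSum, Subgroup.orderOf_coe]

/-- Brauer's third main theorem. -/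
theorem thirdMain (hM : IsPModular p M) (H : Subgroup G) {b : Set (IrrCharacter H)}
    {B : Set (IrrCharacter G)} (hind : IsInducedBlock M H b B) :
    B = principalBlock M G ↔ b = principalBlock M H := by
  obtain ⟨hb, hB, hω⟩ := (isInducedBlock_iff H).1 hind
  obtain ⟨χ, hχ⟩ := isPBlock_nonempty hB
  obtain ⟨ξ, hξ⟩ := isPBlock_nonempty hb
  have h := hω ξ hξ χ hχ _ (isClassCoeff_regSum (p := p) (locRing M))
  rw [resA_regSum] at h
  constructor
  · rintro rfl
    by_contra hne
    have hn : ξ ∉ principalBlock M H := fun h' =>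
      hne (eq_of_mem_of_mem hb isPBlock_principalBlock hξ h')
    refine omegaBar_regSum_principal hM hχ ?_
    rw [← h, omegaBar, omega_regSum_eq_zero hM hn, red_zero]
  · rintro rfl
    by_contra hne
    have hn : χ ∉ principalBlock M G := fun h' =>
      hne (eq_of_mem_of_mem hB isPBlock_principalBlock hχ h')
    refine omegaBar_regSum_principal hM hξ ?_
    rw [h, omegaBar, omega_regSum_eq_zero hM hn, red_zero]

end CfsgLib.Blk
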