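import Cfsg.Agent.Blk.SmallDefect
import Cfsg.Agent.Blk.SecondMain
import Cfsg.Agent.Blk.Pair.Principal
import Cfsg.Agent.S0936
import Cfsg.Agent.Char.Brauer

/-!
Height zero characters in blocks having a subsection of defect two.
-/

set_option autoImplicit false
set_option linter.style.haveILetI false
set_option linter.unusedSectionVars false
set_option maxHeartbeats 1000000

namespace CfsgLib.HeightZeroSection

open Cfsg CfsgLib.Char CfsgLib.Blk CfsgLib.SectionSplit CfsgLib.Contribution CfsgLib.SmallDefect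
open scoped ComplexConjugate CfsgLib.Char

universe u

variable {G : Type u} [Group G] {p : ℕ} [Fact p.Prime] {M : Ideal AlgInt} [M.IsPrime]

theorem heightZero_order_p (hM : IsPModular p M) [Finite G] {B : Set (IrrCharacter G)} (hB : IsPBlock M B)
    {u : G} (hou : orderOf u = p) {H : Subgroup G} (hH : Subgroup.centralizer ({u} : Set G) = H)
    {b : Set (IrrCharacter H)} (hind : IsInducedBlock M H b B) (hd : blockDefect p b = 2) :
    Nat.card {χ : IrrCharacter G // χ ∈ B ∧ blockHeight p B (χ : G → ℂ) = 0} ≤ p ^ 2 := by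
  classical
  haveI := Fintype.ofFinite G
  have hp : p.Prime := Fact.out
  obtain ⟨Z, hZn, hZ, hZc⟩ : ∃ Z : Subgroup H, Z.Normal ∧ Z ≤ Subgroup.center H ∧ Nat.card Z = p := by
    have huH : u ∈ H := hH ▸ Subgroup.mem_centralizer_singleton_iff.2 rfl
    have hcen : (⟨u, huH⟩ : H) ∈ Subgroup.center H := Subgroup.mem_center_iff.2 fun g =>
      Subtype.ext (Subgroup.mem_centralizer_singleton_iff.1 (hH.symm ▸ g.2 : (g : G) ∈ Subgroup.centralizer ({u} : Set G)))
    exact ⟨Subgroup.zpowers ⟨u, huH⟩, CfsgLib.Char.normal_of_le_center (Subgroup.zpowers_le.2 hcen),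
      Subgroup.zpowers_le.2 hcen, by rw [Nat.card_zpowers, Subgroup.orderOf_mk, hou]⟩
  haveI := hZn
  haveI := Fintype.ofFinite H
  obtain ⟨r₀, -, hr₀, hr₁⟩ := mm_red hM (u := u) ⟨1, by rw [hou, pow_one]⟩ hH hind.1
  have hmm0 : ∀ χ ∈ B, ∀ ψ ∈ B, blockHeight p B (χ : G → ℂ) = 0 → blockHeight p B (ψ : G → ℂ) = 0 →
      mm p u H b χ ψ ≠ 0 := by
    intro χ hχ ψ hψ h h' e
    haveI := charP_res (M := M) hM
    have h2 := (hr₀ χ ψ).2
    rw [e, red_zero, eq_comm, CharP.intCast_eq_zero_iff (Res M) p] at h2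
    exact hr₁ B hind χ hχ ψ hψ h h' h2
  haveI := Fintype.ofFinite (H ⧸ Z)
  have hZp := isPGroup_of_card_prime Z hZc
  have hbar := CentralQuotient.isPBlock_bar Z hZ hZp hM hind.1
  have hbd : blockDefect p (CentralQuotient.bar Z b) = 1 := by
    have := defect_bar_eq Z hZ hZc hM hind.1
    omega
  have hb0 := (defect_one hM hbar hbd).1
  set Bb := CentralQuotient.bar Z b with hBb
  haveI := Fintype.ofFinite Bb
  -- the integral matrix of the quotient block
  choose a ha0 haeq ha using fun θ : Bb => exists_int_regPart hM hbar θ.2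
  simp only [hbd, pow_one] at haeq ha
  let m : Matrix Bb Bb ℤ := Matrix.of fun i j => a i j.1
  have hrr : ∀ χ ψ : IrrCharacter (H ⧸ Z), classInner (regPart p (χ : H ⧸ Z → ℂ)) (regPart p (ψ : H ⧸ Z → ℂ)) =
      classInner (regPart p (χ : H ⧸ Z → ℂ)) (ψ : H ⧸ Z → ℂ) := fun χ ψ => by
    simp only [classInner_def, regPart]
    refine congrArg _ (Finset.sum_congr rfl fun x _ => ?_)
    split_ifs <;> simp
  have hsym' : ∀ i j : Bb, a j i.1 = a i j.1 := by
    intro i j
    have h1 := ha j i.1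
    rw [inner_regPart_conj] at h1
    have h2 := congrArg conj (ha i j.1)
    rw [map_mul, Complex.conj_natCast, ← h1, map_intCast] at h2
    exact_mod_cast h2.symm
  have hsym : m.transpose = m := by
    ext i j
    exact hsym' i j
  have hidem : m * m = (p : ℤ) • m := by
    ext i k
    have h1 := congrArg (fun f => classInner f (regPart p ((k : IrrCharacter (H ⧸ Z)) : H ⧸ Z → ℂ))) (haeq i)
    simp only [classInner_smul_left, classInner_sum_left, hrr] at h1
    rw [← ha i k.1] at h1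
    have h3 : ∀ ψ : IrrCharacter (H ⧸ Z), classInner (ψ : H ⧸ Z → ℂ) (regPart p ((k : IrrCharacter (H ⧸ Z)) : H ⧸ Z → ℂ)) =
        conj (classInner (regPart p ((k : IrrCharacter (H ⧸ Z)) : H ⧸ Z → ℂ)) (ψ : H ⧸ Z → ℂ)) := fun ψ =>
      (classInner_conj _ _).symm
    simp only [h3] at h1
    have h4 : ((p : ℤ) * a i k.1 : ℤ) = ((∑ ψ : IrrCharacter (H ⧸ Z), a i ψ * a k ψ : ℤ)) := by
      apply Int.cast_injective (α := ℂ)
      push_cast
      rw [h1, Finset.mul_sum]
      refine Finset.sum_congr rfl fun ψ _ => ?_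
      rw [mul_left_comm, ← Complex.conj_natCast p, ← map_mul, ← ha k ψ, map_intCast]
    simp only [Matrix.mul_apply, Matrix.smul_apply, smul_eq_mul, m, Matrix.of_apply]
    rw [h4, ← Finset.sum_subset (Finset.subset_univ Bb.toFinset) fun ψ _ hψ => by
      rw [ha0 i ψ (fun h => hψ (Set.mem_toFinset.2 h)), zero_mul]]
    rw [Finset.sum_subtype (p := (· ∈ Bb)) Bb.toFinset (fun _ => Set.mem_toFinset)]
    exact Finset.sum_congr rfl fun j _ => by rw [hsym' k j]
  haveI := charP_res (M := M) hM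
  obtain ⟨ξ, hξ, hξ0⟩ := exists_height_zero hM hbar
  have hred : ∀ i : Bb, ∃ w : Res M, ∀ j : Bb, (a i j.1 : Res M) = w * omegaBar (ξ : H ⧸ Z → ℂ) (regElt M p j.1) := by
    intro i
    obtain ⟨v, hv, hv'⟩ := exists_degreeRatio hM hbar i.2
    refine ⟨red M v, fun j => ?_⟩
    rw [← red_intCast, ha i j.1, ← pow_one (p : ℂ), ← hbd, inner_regPart (M := M),
      ← mul_assoc (Nat.card (H ⧸ Z) : ℂ)⁻¹, ← mul_assoc ((p : ℂ) ^ _), ← mul_assoc ((p : ℂ) ^ _), ← hv',
      red_mul hv (omega_mem i.1.2 (isClassCoeff_regElt j.1))]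
    congr 1
    exact omegaBar_congr i.1.2 ξ.2 (sameBlock_of_mem hbar i.2 hξ) (isClassCoeff_regElt j.1)
  choose w hw using hred
  have hminor : RankOneForm.Minors p m := by
    intro i j k l
    refine (CharP.intCast_eq_zero_iff (Res M) p _).1 ?_
    simp only [m, Matrix.of_apply, Int.cast_sub, Int.cast_mul, hw]
    ring
  have hdiag : ∀ i : Bb, m i i ≠ (p : ℤ) := by
    intro i h
    obtain ⟨a', v, hv, hv', hv0, h1, h2⟩ := exists_regCartan hM hbar i.2 i.1
    rw [hb0 _ i.2, pow_zero, one_mul] at h2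
    have e : a' = a i i.1 := by
      have h3 := ha i i.1
      rw [hbd, pow_one] at h1
      exact_mod_cast h1.trans h3.symm
    have h4 : red M ((a i i.1 : ℤ) : ℂ) ≠ 0 := by
      rw [← e, h2, red_mul hv (omega_mem i.1.2 (isClassCoeff_regElt i.1))]
      refine mul_ne_zero (fun h5 => ?_) fun h5 => ?_
      · rw [red_eq_zero_iff hv] at h5
        exact not_memLocalIdeal_one (M := M) (inv_mul_cancel₀ hv0 ▸ memLocalIdeal_mul_left hv' h5)
      · rw [red_eq_zero_iff (omega_mem i.1.2 (isClassCoeff_regElt i.1))] at h5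
        exact omega_regElt_unit hM hbar i.2 (hb0 _ i.2) i.2 h5
    refine h4 ?_
    rw [show a i i.1 = (p : ℤ) from h, red_intCast, Int.cast_natCast, CharP.cast_eq_zero]
  obtain ⟨r, F, L, hrank, hforms⟩ := RankOneForm.exists_forms hp m hsym hidem hminor hdiag
  -- the rank of the block
  have hl : blockRank p b ≤ r := by
    refine le_trans (le_of_eq (CentralQuotient.blockRank_bar Z hZ hZp hM hind.1).symm) (le_trans ?_ hrank)
    rw [blockRank_eq]
    let T : (H ⧸ Z → ℂ) →ₗ[ℂ] (Bb → ℂ) :=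
      { toFun := fun f i => (p : ℂ) * classInner f (regPart p ((i : IrrCharacter (H ⧸ Z)) : H ⧸ Z → ℂ))
        map_add' := fun f g => funext fun i => by simp [classInner_add_left, mul_add]
        map_smul' := fun c f => funext fun i => by simp [classInner_smul_left, mul_left_comm] }
    have hTmem : ∀ f ∈ regSpan p Bb, T f ∈ LinearMap.range (m.map (Int.cast : ℤ → ℂ)).mulVecLin := by
      intro f hf
      induction hf using Submodule.span_induction with
      | mem f hf =>
        obtain ⟨θ, hθ, rfl⟩ := hf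
        refine ⟨Pi.single (⟨θ, hθ⟩ : Bb) 1, funext fun i => ?_⟩
        show _ = (p : ℂ) * classInner (pRegularPart p (θ : H ⧸ Z → ℂ)) _
        rw [pRegularPart_eq, hrr, ← ha ⟨θ, hθ⟩ i.1]
        simp only [Matrix.mulVecLin_apply, Matrix.mulVec_single, mul_one, Matrix.map_apply, m, Matrix.of_apply]
        simp [hsym' ⟨θ, hθ⟩ i]
      | zero => rw [map_zero]; exact Submodule.zero_mem _
      | add x y _ _ hx hy => rw [map_add]; exact Submodule.add_mem _ hx hy
      | smul c x _ hx => rw [map_smul]; exact Submodule.smul_mem _ _ hx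
    refine LinearMap.finrank_le_finrank_of_injective
      (f := (T.domRestrict (regSpan p Bb)).codRestrict _ fun x => hTmem x.1 x.2) ?_
    refine (injective_iff_map_eq_zero _).2 fun v hv => Subtype.ext (eq_zero_of_norm ?_)
    have hv' : T v.1 = 0 := congrArg Subtype.val hv
    have h0 : ∀ g ∈ regSpan p Bb, classInner v.1 g = 0 := by
      intro g hg
      induction hg using Submodule.span_induction with
      | mem g hg =>
        obtain ⟨θ, hθ, rfl⟩ := hg
        have := congrFun hv' ⟨θ, hθ⟩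
        show classInner v.1 (pRegularPart p (θ : H ⧸ Z → ℂ)) = 0
        rw [pRegularPart_eq]
        exact (mul_eq_zero.1 this).resolve_left prime_cast_ne_zero
      | zero => exact classInner_zero_right _
      | add x y _ _ hx hy => rw [classInner_add_right, hx, hy, add_zero]
      | smul c x _ hx => rw [classInner_smul_right, hx, mul_zero]
    have := h0 v.1 v.2
    rw [classInner_def] at this
    exact (mul_eq_zero.1 this).resolve_left (inv_ne_zero (natCard_ne_zero _))
  -- the vectors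
  obtain ⟨ζ, hζ⟩ : ∃ ζ : ℂ, IsPrimitiveRoot ζ (orderOf u) := ⟨_, Complex.isPrimitiveRoot_exp _ (orderOf_pos u).ne'⟩
  have hN0 : orderOf u ≠ 0 := (orderOf_pos u).ne'
  obtain ⟨n, e, hcomp⟩ := exists_exponents hM hH hind.1 hζ (b := b)
  choose c hc using fun η : IrrCharacter H => exists_int_expansion (p := p) Z hZ hZc η
  let Q : IrrCharacter G → Bb → Polynomial ℤ := fun χ i =>
    ∑ η, if η ∈ b then Polynomial.C ((n χ η : ℤ) * c η i.1) * Polynomial.X ^ e η else 0
  have hq : ∀ (j : ℕ) (χ : IrrCharacter G), mm p (u ^ j) H b χ χ =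
      ∑ i : Bb, ∑ i' : Bb, Polynomial.aeval (ζ ^ j) (Q χ i) * (m i i' : ℂ) * conj (Polynomial.aeval (ζ ^ j) (Q χ i')) := by
    intro j χ
    have hQ : ∀ i, Polynomial.aeval (ζ ^ j) (Q χ i) =
        ∑ η, (if η ∈ b then (n χ η : ℂ) * ζ ^ (j * e η) else 0) * (c η i.1 : ℂ) := by
      intro i
      simp only [Q, map_sum]
      refine Finset.sum_congr rfl fun η _ => ?_
      split_ifs with h
      · simp [pow_mul, mul_comm, mul_left_comm]
      · simp
    set α : IrrCharacter H → ℂ := fun η => if η ∈ b then (n χ η : ℂ) * ζ ^ (j * e η) else 0 with hα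
    have hpair : ∀ η η', α η * conj (α η') * ((p : ℂ) ^ 2 * classInner (regPart p (η : H → ℂ)) (regPart p (η' : H → ℂ))) =
        α η * conj (α η') * ∑ i : Bb, ∑ i' : Bb, (c η i.1 : ℂ) * (c η' i'.1 : ℂ) * (m i i' : ℂ) := by
      intro η η'
      by_cases h : η ∈ b
      · by_cases h' : η' ∈ b
        · congr 1
          rw [sq, mul_assoc, inner_expansion Z hZ hZc hM hind.1 h h' (c η) (c η') (hc η) (hc η'), Finset.mul_sum]
          have hfilt : ∀ f : IrrCharacter (H ⧸ Z) → ℂ, (∀ θ, θ ∉ Bb → f θ = 0) → ∑ θ, f θ = ∑ i : Bb, f i.1 := by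
            intro f hf
            rw [← Finset.sum_subset (Finset.subset_univ Bb.toFinset) fun θ _ hθ => hf θ fun h => hθ (Set.mem_toFinset.2 h),
              Finset.sum_subtype (p := (· ∈ Bb)) Bb.toFinset (fun _ => Set.mem_toFinset)]
          rw [hfilt _ fun θ hθ => by rw [Finset.sum_eq_zero fun θ' _ => if_neg (show inflIrr Z θ ∉ b from hθ), mul_zero]]
          refine Finset.sum_congr rfl fun i _ => ?_
          rw [hfilt _ fun θ hθ => by simp [show inflIrr Z θ ∉ b from hθ], Finset.mul_sum]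
          refine Finset.sum_congr rfl fun i' _ => ?_
          rw [if_pos (show inflIrr Z i.1 ∈ b from i.2), if_pos (show inflIrr Z i'.1 ∈ b from i'.2), hrr,
            show (m i i' : ℂ) = (a i i'.1 : ℂ) from rfl, ha]
          ring
        · simp [hα, h']
      · simp [hα, h]
    rw [mm, hcomp, hd, classInner_sum_left, Finset.mul_sum]
    simp only [classInner_smul_left, classInner_sum_right, classInner_smul_right, Finset.mul_sum, hQ, Finset.sum_mul,
      map_sum]
    refine Eq.trans (b := ∑ η, ∑ η', (p : ℂ) ^ 2 * (α η *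
      (conj (α η') * classInner (regPart p (η : H → ℂ)) (regPart p (η' : H → ℂ))))) ?_ ?_
    · refine Finset.sum_congr rfl fun η _ => Finset.sum_congr rfl fun η' _ => ?_
      simp only [hα]
      ring
    calc ∑ η, ∑ η', (p : ℂ) ^ 2 * (α η * (conj (α η') * classInner (regPart p (η : H → ℂ)) (regPart p (η' : H → ℂ))))
        = ∑ η, ∑ η', ∑ i : Bb, ∑ i' : Bb, α η * conj (α η') * ((c η i.1 : ℂ) * (c η' i'.1 : ℂ) * (m i i' : ℂ)) := by
          refine Finset.sum_congr rfl fun η _ => Finset.sum_congr rfl fun η' _ => ?_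
          simp only [← Finset.mul_sum]
          rw [← hpair]
          ring
      _ = _ := by
          rw [Finset.sum_comm]
          conv_rhs => rw [Finset.sum_comm]; enter [2, i']; rw [Finset.sum_comm]
          refine Eq.trans ?_ (Finset.sum_comm)
          refine Eq.trans (Finset.sum_congr rfl fun η' _ => Finset.sum_comm) ?_
          refine Finset.sum_congr rfl fun η' _ => ?_
          conv_rhs => rw [Finset.sum_comm]
          refine Finset.sum_congr rfl fun i _ => ?_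
          rw [Finset.sum_comm]
          refine Finset.sum_congr rfl fun i' _ => Finset.sum_congr rfl fun η _ => ?_
          rw [map_mul, map_intCast]
          simp only [hα]
          ring
  have hroot : ∀ ζ' ∈ primitiveRoots (orderOf u) ℂ, ∃ j : ℕ, j.Coprime (orderOf u) ∧ ζ' = ζ ^ j := by
    intro ζ' hζ'
    haveI : NeZero (orderOf u) := ⟨hN0⟩
    obtain ⟨j, -, hj, h⟩ := (hζ.isPrimitiveRoot_iff (ξ := ζ')).1
      ((mem_primitiveRoots (Nat.pos_of_ne_zero hN0)).1 hζ')
    exact ⟨j, hj, h.symm⟩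
  set R := primitiveRoots (orderOf u) ℂ with hR
  have hζR : ζ ∈ R := (mem_primitiveRoots (Nat.pos_of_ne_zero hN0)).2 hζ
  obtain ⟨ψ₀, hψ₀, h0⟩ := exists_height_zero hM hB
  -- the lower bound at each character
  have hlow : ∀ χ ∈ B, blockHeight p B (χ : G → ℂ) = 0 → (R.card : ℝ) * r ≤ ∑ ζ' ∈ R, (∑ i : Bb, ∑ i' : Bb,
      Polynomial.aeval ζ' (Q χ i) * (m i i' : ℂ) * conj (Polynomial.aeval ζ' (Q χ i'))).re := by
    intro χ hχ hχ0
    have hne : ∃ i, ∑ j, (m i j : ℂ) * Polynomial.aeval ζ (Q χ j) ≠ 0 := by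
      by_contra! hcon
      have h1 := mm_idem hM (u := u) ⟨1, by rw [hou, pow_one]⟩ hH hind.1 χ χ
      have h2 : mm p u H b χ χ = 0 := by
        have h3 := hq 1 χ
        rw [pow_one, pow_one] at h3
        rw [h3]
        refine Finset.sum_eq_zero fun i _ => ?_
        simp only [mul_assoc, ← Finset.mul_sum]
        have h4 : ∑ i' : Bb, (m i i' : ℂ) * conj (Polynomial.aeval ζ (Q χ i')) = 0 := by
          have := congrArg conj (hcon i)
          simpa using this
        rw [h4, mul_zero]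
      rw [h2, mul_zero] at h1
      have h5 : mm p u H b χ ψ₀ = 0 := by
        have h6 : ∑ χ' : IrrCharacter G, ‖mm p u H b χ χ'‖ ^ 2 = 0 := by
          refine Complex.ofReal_injective ?_
          push_cast
          rw [← h1]
          refine Finset.sum_congr rfl fun χ' _ => ?_
          rw [← conj_mm b χ χ', Complex.mul_conj']
        simpa using (Finset.sum_eq_zero_iff_of_nonneg fun _ _ => sq_nonneg _).1 h6 ψ₀ (Finset.mem_univ _)
      exact hmm0 χ hχ ψ₀ hψ₀ hχ0 h0 h5
    let Lp : (Fin r → Option Bb) → Polynomial ℤ := fun f => ∑ i, Polynomial.C (L f i) * Q χ i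
    have hLp : ∀ (z : ℂ) (f), Polynomial.aeval z (Lp f) = ∑ i, (L f i : ℂ) * Polynomial.aeval z (Q χ i) := by
      intro z f
      simp [Lp]
    set F₀ := F.filter fun f => ∑ i, (L f i : ℂ) * Polynomial.aeval ζ (Q χ i) ≠ 0 with hF₀
    have hcount : r * r.factorial ≤ F₀.card := (hforms _).2 hne
    have h1 : ∀ f ∈ F₀, (R.card : ℝ) ≤ ∑ ζ' ∈ R, ‖∑ i, (L f i : ℂ) * Polynomial.aeval ζ' (Q χ i)‖ ^ 2 := by
      intro f hf
      simp only [← hLp]
      refine card_le_sum_primitive hN0 _ fun ζ' hζ' => aeval_ne_zero_primitive hN0 hζ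
        ((mem_primitiveRoots (Nat.pos_of_ne_zero hN0)).1 hζ') ?_
      rw [hLp]
      exact (Finset.mem_filter.1 hf).2
    have h2 : (F₀.card : ℝ) * R.card ≤ (r.factorial : ℝ) * ∑ ζ' ∈ R, (∑ i : Bb, ∑ i' : Bb,
        Polynomial.aeval ζ' (Q χ i) * (m i i' : ℂ) * conj (Polynomial.aeval ζ' (Q χ i'))).re := by
      calc (F₀.card : ℝ) * R.card = ∑ _f ∈ F₀, (R.card : ℝ) := by rw [Finset.sum_const, nsmul_eq_mul]
        _ ≤ ∑ f ∈ F₀, ∑ ζ' ∈ R, ‖∑ i, (L f i : ℂ) * Polynomial.aeval ζ' (Q χ i)‖ ^ 2 := Finset.sum_le_sum h1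
        _ ≤ ∑ f ∈ F, ∑ ζ' ∈ R, ‖∑ i, (L f i : ℂ) * Polynomial.aeval ζ' (Q χ i)‖ ^ 2 :=
            Finset.sum_le_sum_of_subset_of_nonneg (Finset.filter_subset _ _)
              fun _ _ _ => Finset.sum_nonneg fun _ _ => sq_nonneg _
        _ = ∑ ζ' ∈ R, ∑ f ∈ F, ‖∑ i, (L f i : ℂ) * Polynomial.aeval ζ' (Q χ i)‖ ^ 2 := Finset.sum_comm
        _ ≤ _ := by rw [Finset.mul_sum]; exact Finset.sum_le_sum fun ζ' _ => (hforms _).1
    have h3 : ((r * r.factorial : ℕ) : ℝ) * R.card ≤ (F₀.card : ℝ) * R.card :=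
      mul_le_mul_of_nonneg_right (by exact_mod_cast hcount) (Nat.cast_nonneg _)
    push_cast at h3
    refine le_of_mul_le_mul_left ?_ (Nat.cast_pos.2 r.factorial_pos : (0 : ℝ) < r.factorial)
    linarith
  -- summation
  set S₀ : Finset (IrrCharacter G) := Finset.univ.filter fun χ => χ ∈ B ∧ blockHeight p B (χ : G → ℂ) = 0 with hS₀
  have hpos : ∀ ζ' ∈ R, ∀ χ : IrrCharacter G, 0 ≤ (∑ i : Bb, ∑ i' : Bb,
      Polynomial.aeval ζ' (Q χ i) * (m i i' : ℂ) * conj (Polynomial.aeval ζ' (Q χ i'))).re := by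
    intro ζ' hζ' χ
    obtain ⟨j, hj, rfl⟩ := hroot ζ' hζ'
    have hu' : ∃ k : ℕ, orderOf (u ^ j) = p ^ k := ⟨1, by rw [Nat.Coprime.orderOf_pow hj.symm, hou, pow_one]⟩
    have hH' : Subgroup.centralizer ({u ^ j} : Set G) = H := (centralizer_pow hj).trans hH
    rw [← hq, mm]
    have e : (p : ℂ) ^ blockDefect p b = (((p : ℝ) ^ blockDefect p b : ℝ) : ℂ) := by simp
    rw [e, Complex.re_ofReal_mul]
    refine mul_nonneg (by positivity) ?_
    rw [classInner_self_re]
    positivity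
  have hsum : ∀ ζ' ∈ R, ∑ χ ∈ B.toFinset, (∑ i : Bb, ∑ i' : Bb,
      Polynomial.aeval ζ' (Q χ i) * (m i i' : ℂ) * conj (Polynomial.aeval ζ' (Q χ i'))).re =
      (p : ℝ) ^ 2 * (blockRank p b : ℝ) := by
    intro ζ' hζ'
    obtain ⟨j, hj, rfl⟩ := hroot ζ' hζ'
    have hu' : ∃ k : ℕ, orderOf (u ^ j) = p ^ k := ⟨1, by rw [Nat.Coprime.orderOf_pow hj.symm, hou, pow_one]⟩
    have hH' : Subgroup.centralizer ({u ^ j} : Set G) = H := (centralizer_pow hj).trans hH
    simp only [← hq]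
    rw [← Complex.re_sum, Finset.sum_subset (Finset.subset_univ _) fun χ _ hχ =>
      (mm_eq_zero hM hu' hH' hind (fun h => hχ (Set.mem_toFinset.2 h)) χ).1, mm_trace hM hu' hH' hind.1, hd]
    rw [← Complex.ofReal_natCast, ← Complex.ofReal_natCast (blockRank p b), ← Complex.ofReal_pow,
      ← Complex.ofReal_mul, Complex.ofReal_re]
  have hsum₀ : ∀ ζ' ∈ R, ∑ χ ∈ S₀, (∑ i : Bb, ∑ i' : Bb,
      Polynomial.aeval ζ' (Q χ i) * (m i i' : ℂ) * conj (Polynomial.aeval ζ' (Q χ i'))).re ≤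
      (p : ℝ) ^ 2 * (blockRank p b : ℝ) := fun ζ' hζ' =>
    (Finset.sum_le_sum_of_subset_of_nonneg (fun χ hχ => Set.mem_toFinset.2 (Finset.mem_filter.1 hχ).2.1)
      fun χ _ _ => hpos ζ' hζ' χ).trans (hsum ζ' hζ').le
  have hcard : Nat.card {χ : IrrCharacter G // χ ∈ B ∧ blockHeight p B (χ : G → ℂ) = 0} = S₀.card := by
    rw [Nat.card_eq_fintype_card, Fintype.card_subtype]
  have hfinal : (R.card : ℝ) * ((S₀.card : ℝ) * r) ≤ (R.card : ℝ) * ((p : ℝ) ^ 2 * r) := by
    calc (R.card : ℝ) * ((S₀.card : ℝ) * r) = ∑ _χ ∈ S₀, (R.card : ℝ) * r := by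
          rw [Finset.sum_const, nsmul_eq_mul]; ring
      _ ≤ _ := Finset.sum_le_sum fun χ hχ => hlow χ (Finset.mem_filter.1 hχ).2.1 (Finset.mem_filter.1 hχ).2.2
      _ ≤ ∑ _ζ' ∈ R, (p : ℝ) ^ 2 * (blockRank p b : ℝ) := by
          rw [Finset.sum_comm]; exact Finset.sum_le_sum hsum₀
      _ ≤ _ := by
          rw [Finset.sum_const, nsmul_eq_mul]
          gcongr
  have hr0 : 0 < r := by
    refine lt_of_lt_of_le ?_ hl
    rw [Nat.pos_iff_ne_zero]
    intro hz
    have hu0 : ∃ k : ℕ, orderOf u = p ^ k := ⟨1, by rw [hou, pow_one]⟩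
    have h1 := mm_idem hM (u := u) hu0 hH hind.1
    have h2 := mm_trace hM (u := u) hu0 hH hind.1
    rw [hz, Nat.cast_zero, mul_zero] at h2
    have h3 : ∑ χ : IrrCharacter G, ∑ χ' : IrrCharacter G, ‖mm p u H b χ χ'‖ ^ 2 = 0 := by
      refine Complex.ofReal_injective ?_
      push_cast
      refine (Finset.sum_congr rfl fun χ _ => ?_).trans (show ∑ χ : IrrCharacter G,
        (p : ℂ) ^ blockDefect p b * mm p u H b χ χ = 0 by rw [← Finset.mul_sum, h2, mul_zero])
      rw [← h1]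
      refine Finset.sum_congr rfl fun χ' _ => ?_
      rw [← conj_mm b χ χ', Complex.mul_conj']
    have h4 := (Finset.sum_eq_zero_iff_of_nonneg fun _ _ => by positivity).1 h3 ψ₀ (Finset.mem_univ _)
    have h5 := (Finset.sum_eq_zero_iff_of_nonneg fun _ _ => sq_nonneg _).1 h4 ψ₀ (Finset.mem_univ _)
    exact hmm0 ψ₀ hψ₀ ψ₀ hψ₀ h0 h0 (by simpa using h5)
  have h := le_of_mul_le_mul_left hfinal (Nat.cast_pos.2 (Finset.card_pos.2 ⟨ζ, hζR⟩) : (0 : ℝ) < R.card)
  have h' := le_of_mul_le_mul_right h (Nat.cast_pos.2 hr0 : (0 : ℝ) < r)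
  rw [hcard]
  exact_mod_cast h'

/-- A subsection of regular rank one bounds the number of height zero characters. -/
theorem heightZero_rank_one (hM : IsPModular p M) [Finite G] {B : Set (IrrCharacter G)}
    {u : G} {k : ℕ} (hu : orderOf u = p ^ k) {H : Subgroup G} (hH : Subgroup.centralizer ({u} : Set G) = H)
    {b : Set (IrrCharacter H)} (hind : IsInducedBlock M H b B) (hl : blockRank p b ≤ 1) :
    Nat.card {χ : IrrCharacter G // χ ∈ B ∧ blockHeight p B (χ : G → ℂ) = 0} ≤ p ^ blockDefect p b := by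
  classical
  haveI := Fintype.ofFinite G
  haveI := Fintype.ofFinite H
  haveI := charP_res (M := M) hM
  set N := orderOf u with hN
  have hN0 : N ≠ 0 := (orderOf_pos u).ne'
  haveI : NeZero N := ⟨hN0⟩
  obtain ⟨ζ, hζ⟩ : ∃ ζ : ℂ, IsPrimitiveRoot ζ N := ⟨_, Complex.isPrimitiveRoot_exp N hN0⟩
  obtain ⟨P, hP⟩ := exists_poly hM hH hind.1 hζ
  have hroot : ∀ ζ' ∈ primitiveRoots N ℂ, ∃ j : ℕ, j.Coprime N ∧ ζ' = ζ ^ j := by
    intro ζ' hζ'
    obtain ⟨j, -, hj, h⟩ := (hζ.isPrimitiveRoot_iff (ξ := ζ')).1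
      ((mem_primitiveRoots (Nat.pos_of_ne_zero hN0)).1 hζ')
    exact ⟨j, hj, h.symm⟩
  set S₀ : Finset (IrrCharacter G) := Finset.univ.filter fun χ => χ ∈ B ∧ blockHeight p B (χ : G → ℂ) = 0 with hS₀
  have hlow : ∀ ψ ∈ S₀, ∀ χ ∈ S₀, ((primitiveRoots N ℂ).card : ℝ) ≤
      ∑ ζ' ∈ primitiveRoots N ℂ, ‖Polynomial.aeval ζ' (P χ ψ)‖ ^ 2 := by
    intro ψ hψ χ hχ
    have h := le_sum_primitive hM hN0 (P χ ψ) 0 fun ζ' hζ' => ?_
    · simpa using h
    obtain ⟨j, hj, rfl⟩ := hroot ζ' hζ'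
    obtain ⟨r, -, hr, hr'⟩ := mm_red hM (u := u ^ j) ⟨k, (Nat.Coprime.orderOf_pow hj.symm).trans hu⟩
      ((centralizer_pow hj).trans hH) hind.1
    refine ⟨_, (hr χ ψ).1, fun hmem => ?_, by rw [pow_zero, one_mul, hP]⟩
    have h2 := (hr χ ψ).2
    rw [(red_eq_zero_iff (hr χ ψ).1).2 hmem, eq_comm, CharP.intCast_eq_zero_iff (Res M) p] at h2
    exact hr' B hind χ (Finset.mem_filter.1 hχ).2.1 ψ (Finset.mem_filter.1 hψ).2.1
      (Finset.mem_filter.1 hχ).2.2 (Finset.mem_filter.1 hψ).2.2 h2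
  have hup : ∀ ζ' ∈ primitiveRoots N ℂ, ∑ ψ ∈ S₀, ∑ χ ∈ S₀, ‖Polynomial.aeval ζ' (P χ ψ)‖ ^ 2 ≤
      ((p : ℝ) ^ blockDefect p b) ^ 2 * (blockRank p b : ℝ) := by
    intro ζ' hζ'
    obtain ⟨j, hj, rfl⟩ := hroot ζ' hζ'
    simp only [← hP]
    rw [← sum_sq_mm hM hH hu hind.1 hj, Finset.sum_comm]
    refine le_trans (Finset.sum_le_sum fun χ _ => Finset.sum_le_univ_sum_of_nonneg fun _ => sq_nonneg _)
      (Finset.sum_le_univ_sum_of_nonneg fun χ => Finset.sum_nonneg fun _ _ => sq_nonneg _)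
  have hpos : (0 : ℝ) < ((primitiveRoots N ℂ).card : ℝ) :=
    Nat.cast_pos.2 (Finset.card_pos.2 ⟨ζ, (mem_primitiveRoots (Nat.pos_of_ne_zero hN0)).2 hζ⟩)
  have key : ((primitiveRoots N ℂ).card : ℝ) * ((S₀.card : ℝ) ^ 2) ≤
      ((primitiveRoots N ℂ).card : ℝ) * ((p : ℝ) ^ blockDefect p b) ^ 2 := by
    calc _ = ∑ _ψ ∈ S₀, ∑ _χ ∈ S₀, ((primitiveRoots N ℂ).card : ℝ) := by
          simp only [Finset.sum_const, nsmul_eq_mul]; ring
      _ ≤ ∑ ψ ∈ S₀, ∑ χ ∈ S₀, ∑ ζ' ∈ primitiveRoots N ℂ, ‖Polynomial.aeval ζ' (P χ ψ)‖ ^ 2 :=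
          Finset.sum_le_sum fun ψ hψ => Finset.sum_le_sum fun χ hχ => hlow ψ hψ χ hχ
      _ = ∑ ζ' ∈ primitiveRoots N ℂ, ∑ ψ ∈ S₀, ∑ χ ∈ S₀, ‖Polynomial.aeval ζ' (P χ ψ)‖ ^ 2 :=
          (Finset.sum_congr rfl fun ψ _ => Finset.sum_comm).trans Finset.sum_comm
      _ ≤ ∑ _ζ' ∈ primitiveRoots N ℂ, ((p : ℝ) ^ blockDefect p b) ^ 2 * (blockRank p b : ℝ) :=
          Finset.sum_le_sum hup
      _ ≤ _ := by
          rw [Finset.sum_const, nsmul_eq_mul]
          refine mul_le_mul_of_nonneg_left (mul_le_of_le_one_right (by positivity) ?_) (Nat.cast_nonneg _)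
          exact_mod_cast hl
  have h := le_of_mul_le_mul_left key hpos
  rw [Nat.card_eq_fintype_card, Fintype.card_subtype]
  exact_mod_cast abs_le_of_sq_le_sq' h (by positivity) |>.2

/-- A block whose defect group is central and equal to `Z` has regular rank at most one. -/
theorem rank_le_one_of_central (hM : IsPModular p M) [Finite G] (Z : Subgroup G) [Z.Normal] (hZ : Z ≤ Subgroup.center G)
    {c : ℕ} (hZc : Nat.card Z = p ^ c) {b : Set (IrrCharacter G)} (hb : IsPBlock M b) (hd : blockDefect p b = c) :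
    blockRank p b ≤ 1 := by
  classical
  haveI := Fintype.ofFinite G
  haveI := Fintype.ofFinite (G ⧸ Z)
  have hZp : IsPGroup p Z := IsPGroup.of_card hZc
  obtain ⟨D, hD⟩ := exists_isDefectGroup hM hb
  have hle : Z ≤ D := normal_pgroup_le_defectGroup hM hb Z hZp hD
  have hDZ : D = Z := (Subgroup.eq_of_le_of_card_ge hle (by rw [hZc, card_defectGroup hM hb hD, hd])).symm
  have hbar := CentralQuotient.isPBlock_bar Z hZ hZp hM hb
  have h1 := card_defectGroup hM hbar (CentralQuotient.defect_bar Z hZ hZp hM hb hD)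
  rw [hDZ, show Z.map (QuotientGroup.mk' Z) = ⊥ from
    (Subgroup.map_eq_bot_iff _).2 (QuotientGroup.ker_mk' Z).ge, Subgroup.card_bot] at h1
  have h0 : blockDefect p (CentralQuotient.bar Z b) = 0 :=
    Nat.pow_right_injective (Fact.out : p.Prime).two_le (h1.symm.trans (pow_zero p).symm)
  haveI := Fintype.ofFinite (CentralQuotient.bar Z b)
  refine le_trans ?_ (card_le_one hM hbar h0)
  rw [← CentralQuotient.blockRank_bar Z hZ hZp hM hb, blockRank, Nat.card_eq_fintype_card, ← Set.toFinset_card]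
  rw [show (fun χ : IrrCharacter (G ⧸ Z) => pRegularPart p (χ : G ⧸ Z → ℂ)) '' CentralQuotient.bar Z b =
    ↑((CentralQuotient.bar Z b).toFinset.image fun χ : IrrCharacter (G ⧸ Z) => pRegularPart p (χ : G ⧸ Z → ℂ)) by simp]
  exact (finrank_span_finset_le_card _).trans Finset.card_image_le

/-- The principal block has full defect. -/
theorem blockDefect_principal (hM : IsPModular p M) [Finite G] :
    blockDefect p (principalBlock M G) = (Nat.card G).factorization p := by
  haveI := Fintype.ofFinite G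
  obtain ⟨S⟩ := (inferInstance : Nonempty (Sylow p G))
  have h := card_defectGroup hM (show IsPBlock M (principalBlock M G) from ⟨⟨_, isIrr_one⟩, rfl⟩) ((Pair.isDefectGroup_principal_iff hM _).2 ⟨S, rfl⟩)
  rw [Sylow.card_eq_multiplicity] at h
  exact (Nat.pow_right_injective (Fact.out : p.Prime).two_le h).symm

/-- At most `p^2` characters of degree prime to `p` in the principal block. -/
theorem main (hM : IsPModular p M) [Finite G] {x : G} {k : ℕ} (hx : orderOf x = p ^ k)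
    (hc : (Nat.card (Subgroup.centralizer ({x} : Set G))).factorization p ≤ 2) :
    Nat.card {χ : IrrCharacter G // χ ∈ principalBlock M G ∧ ¬ p ∣ charDegree (χ : G → ℂ)} ≤ p ^ 2 := by
  classical
  haveI := Fintype.ofFinite G
  have hp : p.Prime := Fact.out
  have hB : IsPBlock M (principalBlock M G) := ⟨⟨_, isIrr_one⟩, rfl⟩
  have hiff : ∀ χ : IrrCharacter G, χ ∈ principalBlock M G →
      (¬ p ∣ charDegree (χ : G → ℂ) ↔ blockHeight p (principalBlock M G) (χ : G → ℂ) = 0) := by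
    intro χ hχ
    have h := degExp_eq_height_add hM hB hχ
    rw [blockDefect_principal hM, pExp, Nat.sub_self, zero_add] at h
    rw [hp.dvd_iff_one_le_factorization (charDegree_pos χ.2).ne', ← h]
    show ¬ 1 ≤ degExp p (χ : G → ℂ) ↔ _
    omega
  rw [Nat.card_congr (Equiv.subtypeEquivRight fun χ => and_congr_right (hiff χ))]
  rcases eq_or_ne x 1 with rfl | hx1
  · have htop : Subgroup.centralizer ({(1 : G)} : Set G) = ⊤ := top_le_iff.1 fun g _ =>
      Subgroup.mem_centralizer_singleton_iff.2 (by simp)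
    rw [htop, Subgroup.card_top, ← blockDefect_principal hM] at hc
    refine le_trans (Nat.card_mono (Set.toFinite _) fun χ hχ => hχ.1) ?_
    exact (((card_le hM _ G _ hB rfl).1 hc)).trans (Nat.pow_le_pow_right hp.pos hc)
  have hxk : ∃ j : ℕ, orderOf x = p ^ j := ⟨k, hx⟩
  set H := Subgroup.centralizer ({x} : Set G) with hH
  have hb : IsPBlock M (principalBlock M H) := ⟨⟨_, isIrr_one⟩, rfl⟩
  have hind : IsInducedBlock M H (principalBlock M H) (principalBlock M G) :=
    (Cfsg.Agent.S0936.result p M hM H _ (inducedBlockDefined_centralizer hM hxk hb)).2 rfl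
  have hdH := blockDefect_principal (G := H) hM
  have hxH : x ∈ H := Subgroup.mem_centralizer_singleton_iff.2 rfl
  have hkc : k ≤ (Nat.card H).factorization p := by
    have h := orderOf_dvd_natCard (⟨x, hxH⟩ : H)
    rw [Subgroup.orderOf_mk, hx] at h
    exact (hp.pow_dvd_iff_le_factorization Nat.card_pos.ne').1 h
  have hk0 : k ≠ 0 := fun h => hx1 (orderOf_eq_one_iff.1 (by rw [hx, h, pow_zero]))
  rcases eq_or_lt_of_le hkc with he | hlt
  · have hcen : (⟨x, hxH⟩ : H) ∈ Subgroup.center H := Subgroup.mem_center_iff.2 fun g =>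
      Subtype.ext (Subgroup.mem_centralizer_singleton_iff.1 g.2)
    haveI := CfsgLib.Char.normal_of_le_center (Subgroup.zpowers_le.2 hcen)
    have hl : blockRank p (principalBlock M H) ≤ 1 :=
      rank_le_one_of_central hM (Subgroup.zpowers (⟨x, hxH⟩ : H)) (Subgroup.zpowers_le.2 hcen)
        (c := k) (by rw [Nat.card_zpowers, Subgroup.orderOf_mk, hx]) hb (by rw [hdH, he])
    refine (heightZero_rank_one hM hx hH.symm hind hl).trans (Nat.pow_le_pow_right hp.pos ?_)
    rw [hdH]; exact hc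
  · have hk1 : k = 1 := by omega
    exact heightZero_order_p hM hB (by rw [hx, hk1, pow_one]) hH.symm hind (by rw [hdH]; omega)

end CfsgLib.HeightZeroSection
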