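import Cfsg.Agent.Blk.Principal
import Cfsg.Agent.Blk.ZStarBasic

/-!
The three relations between an involution and a generalized coefficient vector of a block.
-/

set_option autoImplicit false
set_option linter.style.haveILetI false
set_option linter.unusedSectionVars false

namespace CfsgLib.Blk

open Cfsg CfsgLib.Char CfsgLib.Inv
open scoped ComplexConjugate

universe u

variable {G : Type u} [Group G] [Finite G] {p : ℕ} [Fact p.Prime] {M : Ideal AlgInt}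

/-- If the coefficients `a` come from a function on a `p`-subgroup which lives on elements not
conjugate to the `p`-part of a product of two conjugates of the involution `t`, then three
weighted sums vanish. -/
theorem invol_relations [Fintype G] (hM : IsPModular p M) {B : Set (IrrCharacter G)}
    (hB : IsPBlock M B) [DecidablePred (· ∈ B)] {P : Subgroup G} [Fintype ↥P] (hP : IsPGroup p ↥P)
    {t : G} (ht : orderOf t = 2) (θ : ↥P → ℂ) (c : ℂ) (a : IrrCharacter G → ℂ)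
    (ha : ∀ χ ∈ B, a χ = c * ∑ y : ↥P, (χ : G → ℂ) (y : G) * θ y)
    (h1 : ∀ y : ↥P, θ y ≠ 0 → (y : G) ≠ 1)
    (ht' : p = 2 → ∀ y : ↥P, θ y ≠ 0 → ¬ IsConj (y : G) t)
    (hst : ∀ y : ↥P, θ y ≠ 0 → ∀ s x : G, IsConj t s → IsPPart p (s * t)⁻¹ x →
      ¬ IsConj (y : G) x) :
    (∑ χ : IrrCharacter G, (if χ ∈ B then a χ * (χ : G → ℂ) 1 else 0) = 0) ∧
    (∑ χ : IrrCharacter G, (if χ ∈ B then a χ * (χ : G → ℂ) t else 0) = 0) ∧
    (∑ χ : IrrCharacter G,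
      (if χ ∈ B then a χ * ((χ : G → ℂ) t ^ 2 / (χ : G → ℂ) 1) else 0) = 0) := by
  classical
  haveI := CfsgLib.Blk.IsPModular.isPrime hM
  have hp : p.Prime := Fact.out
  have htinv : t⁻¹ = t := invol_inv ht
  have hpe : ∀ y : P, ∃ k : ℕ, orderOf (y : G) = p ^ k := fun y => by
    obtain ⟨k, hk⟩ := IsPGroup.iff_orderOf.1 hP y
    exact ⟨k, by rw [Subgroup.orderOf_coe, hk]⟩
  have key : ∀ F : IrrCharacter G → ℂ,
      (∀ y : P, θ y ≠ 0 →
        ∑ χ : IrrCharacter G, (if χ ∈ B then (χ : G → ℂ) (y : G) * F χ else 0) = 0) →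
      ∑ χ : IrrCharacter G, (if χ ∈ B then a χ * F χ else 0) = 0 := by
    intro F hF
    have e : ∑ χ : IrrCharacter G, (if χ ∈ B then a χ * F χ else 0) =
        c * ∑ y : P, θ y *
          ∑ χ : IrrCharacter G, (if χ ∈ B then (χ : G → ℂ) (y : G) * F χ else 0) := by
      simp only [Finset.mul_sum]
      rw [Finset.sum_comm]
      refine Finset.sum_congr rfl fun χ _ => ?_
      split_ifs with hχ
      · rw [ha χ hχ, Finset.mul_sum, Finset.sum_mul]
        exact Finset.sum_congr rfl fun y _ => by ring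
      · simp
    rw [e, Finset.sum_eq_zero fun y _ => ?_, mul_zero]
    by_cases hy : θ y = 0
    · rw [hy, zero_mul]
    · rw [hF y hy, mul_zero]
  have horth : ∀ (y : P) (b x : G), IsPPart p b x → ¬ IsConj (y : G) x →
      ∑ χ : IrrCharacter G, (if χ ∈ B then (χ : G → ℂ) (y : G) * conj ((χ : G → ℂ) b) else 0) = 0 := by
    intro y b x hx hxy
    have h := block_orth hM hB (isPPart_self (hpe y) hp) hx hxy
    rwa [finsum_mem_eq_sum_ite] at h
  refine ⟨key _ fun y hy => ?_, key _ fun y hy => ?_, key _ fun y hy => ?_⟩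
  · refine Eq.trans (Finset.sum_congr rfl fun χ _ => ?_)
      (horth y 1 1 (isPPart_one_of_regular (by simpa using hp.ne_one))
        fun h => h1 y hy (isConj_one_left.1 h))
    rw [irr_one_eq χ.2, Complex.conj_natCast]
  · have htr : ∀ χ : IrrCharacter G, conj ((χ : G → ℂ) t) = (χ : G → ℂ) t := fun χ => by
      rw [← char_conj_eq (isCharacter_of_isIrr χ.2), htinv]
    by_cases hp2 : p = 2
    · refine Eq.trans (Finset.sum_congr rfl fun χ _ => ?_)
        (horth y t t (isPPart_self ⟨1, by rw [ht, hp2, pow_one]⟩ hp) (ht' hp2 y hy))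
      rw [htr]
    · refine Eq.trans (Finset.sum_congr rfl fun χ _ => ?_)
        (horth y t 1 (isPPart_one_of_regular (by
          rw [ht]
          exact fun h => hp2 ((Nat.prime_dvd_prime_iff_eq hp Nat.prime_two).1 h)))
          fun h => h1 y hy (isConj_one_left.1 h))
      rw [htr]
  · have hi : ((Subgroup.centralizer ({t} : Set G)).index : ℂ) ≠ 0 :=
      Nat.cast_ne_zero.2 Subgroup.index_ne_zero_of_finite
    refine mul_left_cancel₀ hi ?_
    rw [mul_zero, Finset.mul_sum]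
    have e : ∀ χ : IrrCharacter G, ((Subgroup.centralizer ({t} : Set G)).index : ℂ) *
        (if χ ∈ B then (χ : G → ℂ) (y : G) * ((χ : G → ℂ) t ^ 2 / (χ : G → ℂ) 1) else 0) =
        ∑ s : G, (if IsConj t s then
          (if χ ∈ B then (χ : G → ℂ) (y : G) * conj ((χ : G → ℂ) (s * t)⁻¹) else 0) else 0) := by
      intro χ
      by_cases hχ : χ ∈ B
      · simp only [if_pos hχ]
        rw [Finset.sum_congr rfl (g := fun s => (χ : G → ℂ) (y : G) *
          (if IsConj t s then (χ : G → ℂ) (s * t) else 0)) fun s _ => by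
            rw [char_conj_eq (isCharacter_of_isIrr χ.2), Complex.conj_conj]; split_ifs <;> simp,
          ← Finset.mul_sum, sum_class_translate χ.2]
        ring
      · simp [hχ]
    simp only [e]
    rw [Finset.sum_comm]
    refine Finset.sum_eq_zero fun s _ => ?_
    split_ifs with hs
    swap
    · simp
    obtain ⟨x, hx⟩ := exists_isPPart hp (s * t)⁻¹
    exact horth y _ x hx (hst y hy s x hs hx)

/-- The shape of the three relations with three nontrivial characters, read off as signs and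
a square. -/
theorem signs_of_relations {f₁ f₂ f₃ S₁ S₂ S₃ e₁ e₂ e₃ : ℤ} (hf₁ : 0 < f₁) (hf₂ : 0 < f₂)
    (hf₃ : 0 < f₃) (he₁ : e₁ = 1 ∨ e₁ = -1) (he₂ : e₂ = 1 ∨ e₂ = -1) (he₃ : e₃ = 1 ∨ e₃ = -1)
    (hS₁ : S₁ ≠ f₁) (hS₂ : S₂ ≠ f₂) (hS₃ : S₃ ≠ f₃)
    (R2 : 1 + e₁ * f₁ + e₂ * f₂ + e₃ * f₃ = 0) (R3 : 1 + e₁ * S₁ + e₂ * S₂ + e₃ * S₃ = 0)
    (R1 : (1 : ℚ) + e₁ * ((S₁ : ℚ) ^ 2 / f₁) + e₂ * ((S₂ : ℚ) ^ 2 / f₂) +
      e₃ * ((S₃ : ℚ) ^ 2 / f₃) = 0) :
    ((if e₁ = -1 then 1 else 0) + (if e₂ = -1 then 1 else 0) + (if e₃ = -1 then 1 else 0) : ℕ) = 2 ∧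
      IsSquare (f₁ * f₂ * f₃) := by
  have q₁ : (f₁ : ℚ) ≠ 0 := by exact_mod_cast hf₁.ne'
  have q₂ : (f₂ : ℚ) ≠ 0 := by exact_mod_cast hf₂.ne'
  have q₃ : (f₃ : ℚ) ≠ 0 := by exact_mod_cast hf₃.ne'
  have E : (e₁ : ℚ) * ((S₁ - f₁ : ℤ) : ℚ) ^ 2 / f₁ + (e₂ : ℚ) * ((S₂ - f₂ : ℤ) : ℚ) ^ 2 / f₂ +
      (e₃ : ℚ) * ((S₃ - f₃ : ℤ) : ℚ) ^ 2 / f₃ = 0 := by
    have r2 : (1 : ℚ) + e₁ * f₁ + e₂ * f₂ + e₃ * f₃ = 0 := by exact_mod_cast R2
    have r3 : (1 : ℚ) + e₁ * S₁ + e₂ * S₂ + e₃ * S₃ = 0 := by exact_mod_cast R3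
    have hd : ∀ S f : ℚ, f ≠ 0 → (S - f) ^ 2 / f = S ^ 2 / f - 2 * S + f := fun S f h => by
      field_simp
      ring
    push_cast
    rw [mul_div_assoc, mul_div_assoc, mul_div_assoc, hd _ _ q₁, hd _ _ q₂, hd _ _ q₃]
    linear_combination R1 + r2 - 2 * r3
  have L : e₁ * (S₁ - f₁) + e₂ * (S₂ - f₂) + e₃ * (S₃ - f₃) = 0 := by linear_combination R3 - R2
  have E' : e₁ * (S₁ - f₁) ^ 2 * f₂ * f₃ + e₂ * (S₂ - f₂) ^ 2 * f₁ * f₃ +
      e₃ * (S₃ - f₃) ^ 2 * f₁ * f₂ = 0 := by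
    push_cast at E
    field_simp at E
    have : ((e₁ * (S₁ - f₁) ^ 2 * f₂ * f₃ + e₂ * (S₂ - f₂) ^ 2 * f₁ * f₃ +
        e₃ * (S₃ - f₃) ^ 2 * f₁ * f₂ : ℤ) : ℚ) = ((0 : ℤ) : ℚ) := by
      push_cast
      linear_combination E
    exact_mod_cast this
  have sq : ∀ {a b c A B C : ℤ}, 0 < a → A ≠ 0 → 1 + a = b + c → A = B + C →
      A ^ 2 * b * c = B ^ 2 * a * c + C ^ 2 * a * b → IsSquare (a * b * c) := by
    intro a b c A B C _ hA h1 h2 h3
    set W := a * (c * B - b * C) with hW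
    have hsq : a * b * c * A ^ 2 = W ^ 2 := by
      subst h2
      rw [hW]
      linear_combination (a + a ^ 2) * h3 + a ^ 2 * (c * B ^ 2 + b * C ^ 2) * h1
    obtain ⟨k, hk⟩ : A ∣ W := (Int.pow_dvd_pow_iff two_ne_zero).1 ⟨a * b * c, by rw [← hsq]; ring⟩
    refine ⟨k, mul_right_cancel₀ (pow_ne_zero 2 hA) ?_⟩
    rw [hsq, hk]
    ring
  have d₁ : 0 < (S₁ - f₁) ^ 2 * f₂ * f₃ :=
    mul_pos (mul_pos (sq_pos_of_ne_zero (sub_ne_zero.2 hS₁)) hf₂) hf₃
  have d₂ : 0 < (S₂ - f₂) ^ 2 * f₁ * f₃ :=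
    mul_pos (mul_pos (sq_pos_of_ne_zero (sub_ne_zero.2 hS₂)) hf₁) hf₃
  have d₃ : 0 < (S₃ - f₃) ^ 2 * f₁ * f₂ :=
    mul_pos (mul_pos (sq_pos_of_ne_zero (sub_ne_zero.2 hS₃)) hf₁) hf₂
  have one_neg : ∀ {a b c A B C : ℤ}, 0 < a → 0 < b → A ≠ 0 → c = 1 + a + b → C = A + B →
      c * (A ^ 2 * b + B ^ 2 * a) = C ^ 2 * a * b → False := by
    intro a b c A B C ha hb hA h1 h2 h3
    subst h1 h2
    have hpos : 0 < A ^ 2 * b := mul_pos (sq_pos_of_ne_zero hA) hb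
    nlinarith [sq_nonneg (A * b - B * a), mul_nonneg (sq_nonneg B) ha.le]
  rcases he₁ with rfl | rfl <;> rcases he₂ with rfl | rfl <;> rcases he₃ with rfl | rfl
  · linarith
  · exact (one_neg hf₁ hf₂ (c := f₃) (A := S₁ - f₁) (B := S₂ - f₂) (C := S₃ - f₃)
      (sub_ne_zero.2 hS₁) (by linarith) (by linarith) (by linarith)).elim
  · exact (one_neg hf₁ hf₃ (c := f₂) (A := S₁ - f₁) (B := S₃ - f₃) (C := S₂ - f₂)
      (sub_ne_zero.2 hS₁) (by linarith) (by linarith) (by linarith)).elim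
  · exact ⟨by norm_num, sq hf₁ (sub_ne_zero.2 hS₁) (b := f₂) (c := f₃) (B := S₂ - f₂)
      (C := S₃ - f₃) (by linarith) (by linarith) (by linarith)⟩
  · exact (one_neg hf₂ hf₃ (c := f₁) (A := S₂ - f₂) (B := S₃ - f₃) (C := S₁ - f₁)
      (sub_ne_zero.2 hS₂) (by linarith) (by linarith) (by linarith)).elim
  · refine ⟨by norm_num, ?_⟩
    have := sq hf₂ (sub_ne_zero.2 hS₂) (b := f₁) (c := f₃) (B := S₁ - f₁) (C := S₃ - f₃)
      (by linarith) (by linarith) (by linarith)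
    rwa [mul_comm f₂ f₁] at this
  · refine ⟨by norm_num, ?_⟩
    have := sq hf₃ (sub_ne_zero.2 hS₃) (b := f₁) (c := f₂) (B := S₁ - f₁) (C := S₂ - f₂)
      (by linarith) (by linarith) (by linarith)
    rwa [mul_assoc, mul_comm f₃] at this
  · linarith

end CfsgLib.Blk
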