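import Cfsg.Agent.Blk.ExcSylow
import Cfsg.Agent.Blk.InvolRel

/-! Homocyclic Sylow 2-subgroups of rank two: automizer and fusion of involutions. -/

set_option linter.style.haveILetI false
set_option linter.unusedSectionVars false

namespace CfsgLib.HomocyclicTwo

open Cfsg CfsgLib.Char CfsgLib.Blk CfsgLib.Blk.Exc CfsgLib.Inv Finset

universe u

variable {G : Type u} [Group G] [Finite G] (P : Sylow 2 G)

theorem exists_conj_mem [Fact (Nat.Prime 2)] {w : G} (hw : ∃ k : ℕ, orderOf w = 2 ^ k) :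
    ∃ d : G, d * w * d⁻¹ ∈ (P : Subgroup G) := by
  obtain ⟨k, hk⟩ := hw
  obtain ⟨Q, hQ⟩ := (IsPGroup.of_card (p := 2) (G := Subgroup.zpowers w) (n := k)
    (by rw [Nat.card_zpowers, hk])).exists_le_sylow
  obtain ⟨g, hg⟩ := MulAction.exists_smul_eq G Q P
  refine ⟨g, ?_⟩
  rw [← hg, Sylow.coe_subgroup_smul]
  exact ⟨w, hQ (Subgroup.mem_zpowers _), rfl⟩

theorem automizer (m : ℕ) (e : (P : Subgroup G) ≃* Multiplicative (ZMod (2 ^ m) × ZMod (2 ^ m))) :
    ((Subgroup.centralizer (P : Set G)).relIndex (Subgroup.normalizer (P : Set G)) = 1 ∨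
      (Subgroup.centralizer (P : Set G)).relIndex (Subgroup.normalizer (P : Set G)) = 3) ∧
    ((Subgroup.centralizer (P : Set G)).relIndex (Subgroup.normalizer (P : Set G)) ≠ 1 →
      ∀ z ∈ (P : Subgroup G), z ≠ 1 → Subgroup.centralizer ({z} : Set G) ⊓
        Subgroup.normalizer (P : Set G) = Subgroup.centralizer (P : Set G)) ∧
    ((Subgroup.centralizer (P : Set G)).relIndex (Subgroup.normalizer (P : Set G)) ≠ 1 →
      ∀ s t : G, orderOf s = 2 → orderOf t = 2 → IsConj s t) := by
  classical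
  haveI : Fact (Nat.Prime 2) := ⟨Nat.prime_two⟩
  haveI : NeZero (2 ^ m) := ⟨pow_ne_zero _ two_ne_zero⟩
  haveI : Fintype ↥(P : Subgroup G) := Fintype.ofFinite _
  have hab : IsMulCommutative ↥(P : Subgroup G) := ⟨⟨fun a b => e.injective (by rw [map_mul, map_mul, mul_comm])⟩⟩
  set C := Subgroup.centralizer ((P : Subgroup G) : Set G) with hC
  set N := Subgroup.normalizer ((P : Subgroup G) : Set G) with hN
  haveI hCn : (C.subgroupOf N).Normal := by
    refine ⟨fun c hc k => Subgroup.mem_subgroupOf.2 fun w hw => ?_⟩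
    have h1 : (k : G)⁻¹ * w * k ∈ (P : Subgroup G) := (cjP P k ⟨w, hw⟩).2
    have h2 := Subgroup.mem_subgroupOf.1 hc _ h1
    simp only [Subgroup.coe_mul, Subgroup.coe_inv]
    calc w * ((k : G) * c * (k : G)⁻¹) = k * ((k : G)⁻¹ * w * k * c) * (k : G)⁻¹ := by group
      _ = (k : G) * c * (k : G)⁻¹ * w := by rw [h2]; group
  set o := C.relIndex N with ho
  have hodd : Odd o := by
    refine Nat.odd_iff.2 (Nat.two_dvd_ne_zero.1 fun h2 => P.not_dvd_index (h2.trans ?_))
    have hPC : (P : Subgroup G) ≤ C := fun y hy => mem_centralizer_self P hab hy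
    exact (Subgroup.relIndex_dvd_index_of_le (Subgroup.centralizer_le_normalizer _)).trans (Subgroup.index_dvd_of_le hPC)
  have hpow : ∀ n : N, (n : G) ^ o ∈ C := fun n => by
    simpa [Subgroup.mem_subgroupOf, ho, Subgroup.relIndex] using Subgroup.pow_index_mem (C.subgroupOf N) n
  -- an element fixing the involutions centralizes
  have hfix : ∀ n : N, (∀ y : G, y ∈ (P : Subgroup G) → y * y = 1 → (n : G) * y * (n : G)⁻¹ = y) →
      (n : G) ∈ C := by
    intro n hn w hw
    suffices h : ∀ k : ℕ, ∀ y : G, y ∈ (P : Subgroup G) → y ^ 2 ^ k = 1 → (n : G) * y * (n : G)⁻¹ = y by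
      obtain ⟨k, hk⟩ := IsPGroup.iff_orderOf.1 P.2 ⟨w, hw⟩
      rw [Subgroup.orderOf_mk] at hk
      exact (mul_inv_eq_iff_eq_mul.1 (h k w hw (by rw [← hk, pow_orderOf_eq_one]))).symm
    intro k
    induction k with
    | zero => intro y _ hy; rw [pow_zero, pow_one] at hy; simp [hy]
    | succ k ih =>
      intro y hy hyk
      have hy2 := ih (y * y) (mul_mem hy hy) (by rw [← pow_two, ← pow_mul, ← pow_succ', hyk])
      have hny : (n : G) * y * (n : G)⁻¹ ∈ (P : Subgroup G) := (Subgroup.mem_normalizer_iff.1 n.2 y).1 hy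
      set z := y⁻¹ * ((n : G) * y * (n : G)⁻¹) with hz
      have hcomm : ∀ a b : G, a ∈ (P : Subgroup G) → b ∈ (P : Subgroup G) → a * b = b * a :=
        fun a b ha hb => congrArg Subtype.val (hab.is_comm.comm ⟨a, ha⟩ ⟨b, hb⟩)
      have hz2 : z * z = 1 := by
        rw [hz, hcomm y⁻¹ _ (inv_mem hy) hny]
        calc (n : G) * y * (n : G)⁻¹ * y⁻¹ * ((n : G) * y * (n : G)⁻¹ * y⁻¹)
            = (n : G) * y * (n : G)⁻¹ * (y⁻¹ * ((n : G) * y * (n : G)⁻¹)) * y⁻¹ := by group
          _ = (n : G) * (y * y) * (n : G)⁻¹ * (y * y)⁻¹ := by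
            rw [hcomm y⁻¹ _ (inv_mem hy) hny]; group
          _ = 1 := by rw [hy2, mul_inv_cancel]
      have hzf := hn z (mul_mem (inv_mem hy) hny) hz2
      have hn2 : (n : G) ^ 2 ∈ Subgroup.centralizer ({y} : Set G) := by
        rw [Subgroup.mem_centralizer_singleton_iff, ← mul_inv_eq_iff_eq_mul]
        have e1 : (n : G) * y * (n : G)⁻¹ = y * z := by rw [hz, mul_inv_cancel_left]
        calc (n : G) ^ 2 * y * ((n : G) ^ 2)⁻¹ = n * (n * y * (n : G)⁻¹) * (n : G)⁻¹ := by
              rw [pow_two]; group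
          _ = n * (y * z) * (n : G)⁻¹ := by rw [e1]
          _ = (n * y * (n : G)⁻¹) * (n * z * (n : G)⁻¹) := by group
          _ = y * (z * z) := by rw [e1, hzf, mul_assoc]
          _ = y := by rw [hz2, mul_one]
      have hno : (n : G) ^ o ∈ Subgroup.centralizer ({y} : Set G) :=
        Subgroup.mem_centralizer_singleton_iff.2 (hpow n y hy).symm
      obtain ⟨r, hr⟩ := hodd
      have hn1 := mul_mem (inv_mem (pow_mem hn2 r)) hno
      rw [hr, ← pow_mul, pow_succ _ (2 * r), inv_mul_cancel_left, Subgroup.mem_centralizer_singleton_iff] at hn1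
      rw [mul_inv_eq_iff_eq_mul, hn1]
  -- the action on the involutions
  let Ω := {y : ↥(P : Subgroup G) // y * y = 1 ∧ y ≠ 1}
  haveI : Fintype Ω := Fintype.ofFinite _
  have hΩ : Fintype.card Ω ≤ 3 := by
    have hS : (univ.filter fun a : ZMod (2 ^ m) => 2 • a = 0).card ≤ 2 :=
      IsAddCyclic.card_nsmul_eq_zero_le two_pos
    have hT : (univ.filter fun y : ↥(P : Subgroup G) => y * y = 1).card ≤ 4 := by
      refine le_trans (Finset.card_le_card_of_injOn (fun y => Multiplicative.toAdd (e y))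
        (t := (univ.filter fun a : ZMod (2 ^ m) => 2 • a = 0) ×ˢ
          (univ.filter fun a : ZMod (2 ^ m) => 2 • a = 0)) ?_ fun a _ b _ h => e.injective (Multiplicative.toAdd.injective h)) ?_
      · intro y hy
        have h := congrArg (fun z => Multiplicative.toAdd (e z)) (Finset.mem_filter.1 hy).2
        simp only [map_mul, map_one, toAdd_mul, toAdd_one, Prod.ext_iff, Prod.fst_add, Prod.snd_add,
          Prod.fst_zero, Prod.snd_zero] at h
        simp [two_mul, two_nsmul, h.1, h.2]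
      · rw [Finset.card_product]
        calc _ ≤ 2 * 2 := Nat.mul_le_mul hS hS
          _ = 4 := rfl
    have : Fintype.card Ω = ((univ.filter fun y : ↥(P : Subgroup G) => y * y = 1).erase 1).card :=
      Fintype.card_of_subtype _ fun y => by simp [and_comm]
    rw [this, Finset.card_erase_of_mem (by simp)]
    omega
  let act : N → Ω → Ω := fun n y => ⟨cjP P n⁻¹ y.1, by rw [← map_mul, y.2.1, map_one],
    fun h => y.2.2 (Subtype.ext (by
      have h' := congrArg Subtype.val h
      simp only [coe_cjP, Subgroup.coe_inv, inv_inv, OneMemClass.coe_one] at h'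
      exact conj_eq_one_iff.1 h'))⟩
  have hact : ∀ n y, ((act n y).1 : G) = (n : G) * y.1 * (n : G)⁻¹ := fun n y => by simp [act]
  have hmul : ∀ n k y, act (n * k) y = act n (act k y) := fun n k y =>
    Subtype.ext (Subtype.ext (by simp only [hact, Subgroup.coe_mul]; group))
  have hone : ∀ y, act 1 y = y := fun y => Subtype.ext (Subtype.ext (by simp [hact]))
  let φ : N →* Equiv.Perm Ω :=
    MonoidHom.mk' (fun n => ⟨act n, act n⁻¹, fun y => by rw [← hmul, inv_mul_cancel, hone],
      fun y => by rw [← hmul, mul_inv_cancel, hone]⟩) fun n k => Equiv.ext fun y => hmul n k y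
  have hker : φ.ker = C.subgroupOf N := by
    ext n
    rw [MonoidHom.mem_ker, Subgroup.mem_subgroupOf]
    refine ⟨fun h => hfix n fun y hy hy2 => ?_, fun h => Equiv.ext fun y => Subtype.ext (Subtype.ext ?_)⟩
    · by_cases hy1 : y = 1
      · simp [hy1]
      · have h' := congrArg (fun π : Equiv.Perm Ω => ((π ⟨⟨y, hy⟩, Subtype.ext hy2,
          fun e => hy1 (congrArg Subtype.val e)⟩).1 : G)) h
        simpa [φ, hact] using h'
    · show ((act n y).1 : G) = y.1
      rw [hact, mul_inv_eq_iff_eq_mul]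
      exact (h (y.1 : G) y.1.2).symm
  have ho13 : o = 1 ∨ o = 3 := by
    have h : o ∣ Nat.card (Equiv.Perm Ω) := by
      rw [ho, Subgroup.relIndex, ← hker, Subgroup.index_ker]
      exact Subgroup.card_subgroup_dvd_card _
    rw [Nat.card_perm, Nat.card_eq_fintype_card] at h
    have h6 : o ∣ 6 := h.trans (Nat.factorial_dvd_factorial hΩ)
    have hle := Nat.le_of_dvd (by norm_num) h6
    obtain ⟨r, hr⟩ := hodd
    clear_value o
    interval_cases o <;> omega
  have hπ3 : ∀ h3 : o = 3, ∀ n : N, φ n ^ 3 = 1 := by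
    intro h3 n
    rw [← map_pow, ← MonoidHom.mem_ker, hker, Subgroup.mem_subgroupOf]
    have := hpow n
    rw [h3] at this
    simpa using this
  have hnofix : o = 3 → ∀ (n : N) (w : Ω), φ n w = w → φ n = 1 := by
    intro h3 n w hw
    refine Equiv.ext fun x => ?_
    by_contra hx
    set π := φ n with hπdef
    have e3 : π (π (π x)) = x := DFunLike.congr_fun (hπ3 h3 n) x
    have d02 : x ≠ π (π x) := fun e => hx (by
      conv_lhs => rw [e]
      exact e3)
    have d12 : π x ≠ π (π x) := fun e => hx (π.injective e).symm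
    have w0 : x ≠ w := fun e => hx (by rw [e]; exact hw)
    have w1 : π x ≠ w := fun e => w0 (π.injective (e.trans hw.symm))
    have w2 : π (π x) ≠ w := fun e => w1 (π.injective (e.trans hw.symm))
    have hx' : x ≠ π x := fun e => hx e.symm
    have h4 : ({x, π x, π (π x), w} : Finset Ω).card = 4 := by simp [hx', d02, d12, w0, w1, w2]
    have := Finset.card_le_univ ({x, π x, π (π x), w} : Finset Ω)
    omega
  refine ⟨ho13, fun hne1 y hy hy1 => ?_, fun hne1 s t hs ht => ?_⟩
  · have h3 : o = 3 := ho13.resolve_left hne1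
    refine le_antisymm (fun n hn => ?_) fun n hn =>
      ⟨Subgroup.mem_centralizer_singleton_iff.2 (hn y hy).symm, Subgroup.centralizer_le_normalizer _ hn⟩
    obtain ⟨hny, hnN⟩ := hn
    obtain ⟨k, hk⟩ := IsPGroup.iff_orderOf.1 P.2 ⟨y, hy⟩
    rw [Subgroup.orderOf_mk] at hk
    obtain ⟨j, rfl⟩ : ∃ j, k = j + 1 := Nat.exists_eq_succ_of_ne_zero fun h0 => hy1 (by
      rw [h0, pow_zero, orderOf_eq_one_iff] at hk; exact hk)
    have hw2 : y ^ 2 ^ j * y ^ 2 ^ j = 1 := by
      rw [← pow_two, ← pow_mul, ← pow_succ, ← hk, pow_orderOf_eq_one]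
    have hw1 : y ^ 2 ^ j ≠ 1 := pow_ne_one_of_lt_orderOf (by positivity)
      (by rw [hk]; exact Nat.pow_lt_pow_right (by norm_num) (by omega))
    let w : Ω := ⟨⟨y ^ 2 ^ j, pow_mem hy _⟩, Subtype.ext hw2, fun e => hw1 (congrArg Subtype.val e)⟩
    have hπw : φ ⟨n, hnN⟩ w = w := Subtype.ext (Subtype.ext (by
      show ((act ⟨n, hnN⟩ w).1 : G) = _
      rw [hact, ← conj_pow, mul_inv_eq_iff_eq_mul.2 (Subgroup.mem_centralizer_singleton_iff.1 hny)]))
    have : (⟨n, hnN⟩ : N) ∈ φ.ker := hnofix h3 _ w hπw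
    rwa [hker, Subgroup.mem_subgroupOf] at this
  · have h3 : o = 3 := ho13.resolve_left hne1
    have hto : ∀ z : G, orderOf z = 2 → ∃ w : Ω, IsConj z (w.1 : G) := by
      intro z hz
      obtain ⟨d, hd⟩ := exists_conj_mem P (w := z) ⟨1, by rw [hz, pow_one]⟩
      have ho' : orderOf (d * z * d⁻¹) = 2 := by
        rw [← hz]; exact (MulAut.conj d).orderOf_eq z
      refine ⟨⟨⟨_, hd⟩, Subtype.ext ?_, fun e => ?_⟩, isConj_iff.2 ⟨d, rfl⟩⟩
      · show d * z * d⁻¹ * (d * z * d⁻¹) = 1
        rw [← pow_two, ← ho', pow_orderOf_eq_one]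
      · rw [show d * z * d⁻¹ = 1 from congrArg Subtype.val e, orderOf_one] at ho'
        omega
    obtain ⟨ws, hws⟩ := hto s hs
    obtain ⟨wt, hwt⟩ := hto t ht
    have hconj : ∀ (n : N) (w : Ω), IsConj (w.1 : G) ((φ n w).1 : G) := fun n w =>
      isConj_iff.2 ⟨n, (hact n w).symm⟩
    obtain ⟨n, hn⟩ : ∃ n : N, φ n ≠ 1 := by
      by_contra! hall
      have : φ.ker = ⊤ := eq_top_iff.2 fun n _ => hall n
      rw [hker, ← Subgroup.index_eq_one] at this
      exact absurd this (by
        show o ≠ 1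
        omega)
    set π := φ n with hπdef
    have hw : ∀ w : Ω, π w ≠ w := fun w e => hn (hnofix h3 n w e)
    have d2 : ws ≠ π (π ws) := fun e => hw ws (by
      conv_lhs => rw [e]
      exact DFunLike.congr_fun (hπ3 h3 n) ws)
    have h3c : ({ws, π ws, π (π ws)} : Finset Ω).card = 3 := by
      simp [(hw ws).symm, d2, (hw (π ws)).symm]
    have huniv : ({ws, π ws, π (π ws)} : Finset Ω) = Finset.univ :=
      Finset.eq_univ_of_card _ (le_antisymm (Finset.card_le_univ _) (by omega))
    have hmem : wt ∈ ({ws, π ws, π (π ws)} : Finset Ω) := by rw [huniv]; exact Finset.mem_univ _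
    simp only [Finset.mem_insert, Finset.mem_singleton] at hmem
    refine hws.trans (IsConj.trans ?_ hwt.symm)
    rcases hmem with rfl | rfl | rfl
    · exact IsConj.refl _
    · exact hconj n ws
    · exact (hconj n ws).trans (hconj n (π ws))

end CfsgLib.HomocyclicTwo
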