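import Cfsg.Agent.Blk.KleinMain
import Mathlib.NumberTheory.Basic
import Mathlib.RingTheory.IntegralDomain

/-!
The inertial quotient of a block with abelian or cyclic defect group.
-/

set_option autoImplicit false
set_option linter.style.haveILetI false
set_option linter.unusedSectionVars false

namespace CfsgLib.Inertial

open Cfsg CfsgLib.Char CfsgLib.Blk CfsgLib.Blk.Pair CfsgLib.SubsectionPairs
open scoped CfsgLib.Char

universe u

variable {G : Type u} [Group G] [Finite G] {M : Ideal AlgInt} [M.IsPrime] {p : ℕ} [Fact p.Prime]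
variable {B : Set (IrrCharacter G)} {P : Subgroup G} {c : Set (IrrCharacter (Cn P))} {T : Subgroup G}

/-- The centralizer lies in the stabilizer of its block. -/
theorem cn_le (hT : ∀ g : G, g ∈ T ↔ (g ∈ Subgroup.normalizer (P : Set G) ∧
    StabilizesBlock (Cn P) c g)) : Cn P ≤ T := by
  haveI := Fintype.ofFinite G
  intro g hg
  refine (hT g).2 ⟨Cn_le_normalizer P hg, Subgroup.le_normalizer hg, fun χ hχ => ⟨χ, hχ, ?_⟩⟩
  intro k k' hk
  rw [show k' = (⟨g, hg⟩ : Cn P) * k * (⟨g, hg⟩ : Cn P)⁻¹ from Subtype.ext hk]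
  exact classFun_of_irr χ.2 _ _

/-- With abelian defect group the inertial quotient is a `p'`-group: some power prime to `p` of
each element of the stabilizer centralizes `P`. -/
theorem exists_pow_mem (hM : IsPModular p M) (hB : IsPBlock M B) (hPD : IsDefectGroup p M B P)
    (hab : ∀ x ∈ P, ∀ y ∈ P, x * y = y * x) (hc : IsInducedBlock M (Cn P) c B)
    (hT : ∀ g : G, g ∈ T ↔ (g ∈ Subgroup.normalizer (P : Set G) ∧ StabilizesBlock (Cn P) c g))
    {g : G} (hg : g ∈ T) : ∃ m : ℕ, ¬ p ∣ m ∧ g ^ m ∈ Cn P := by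
  haveI := Fintype.ofFinite G
  have hPp : IsPGroup p P := IsDefectGroup.isPGroup hPD
  have hPC : P ≤ Cn P := fun x hx y hy => hab y hy x hx
  have hmax : IsMaximalBrauerPair p M B P c :=
    maximal_of_card hM ((pairOf_iff_induced hM hPp hPC hB).2 hc) hPD le_rfl
  obtain ⟨y, hyp⟩ := exists_isPPart (Fact.out : p.Prime) g
  have hyT : y ∈ T := Subgroup.zpowers_le.2 hg (isPPart_mem_zpowers (Fact.out : p.Prime) hyp)
  obtain ⟨r, hyr, hcyr, hy2, hr⟩ := hyp
  have hyC : y ∈ Cn P := by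
    have := stabilizer_pElem_of_maximal hM hmax ((hT y).1 hyT).1 ((hT y).1 hyT).2 hy2
    rwa [sup_eq_right.2 hPC] at this
  refine ⟨orderOf r, hr, ?_⟩
  rw [← hyr, Commute.mul_pow hcyr, pow_orderOf_eq_one, mul_one]
  exact pow_mem hyC _

/-- A cyclic defect group: the inertial quotient acts freely, is cyclic and its order divides
`p - 1`. -/
theorem cyclic_facts (hM : IsPModular p M) (hB : IsPBlock M B) (hPD : IsDefectGroup p M B P)
    (hP1 : P ≠ ⊥) (hcyc : IsCyclic P) (hc : IsInducedBlock M (Cn P) c B)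
    (hT : ∀ g : G, g ∈ T ↔ (g ∈ Subgroup.normalizer (P : Set G) ∧ StabilizesBlock (Cn P) c g))
    [hn : ((Cn P).subgroupOf T).Normal] :
    IsCyclic (T ⧸ (Cn P).subgroupOf T) ∧ (Cn P).relIndex T ∣ p - 1 ∧
      ∀ g ∈ T, ∀ x ∈ P, x ≠ 1 → g * x * g⁻¹ = x → g ∈ Cn P := by
  classical
  haveI := hcyc
  obtain ⟨⟨z, hz⟩, hgen⟩ := IsCyclic.exists_generator (α := P)
  have hzgen : ∀ x ∈ P, ∃ i : ℕ, z ^ i = x := fun x hx => by
    obtain ⟨i, hi⟩ := mem_powers_iff_mem_zpowers.2 (hgen ⟨x, hx⟩)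
    exact ⟨i, congrArg Subtype.val hi⟩
  have hab : ∀ x ∈ P, ∀ y ∈ P, x * y = y * x := by
    intro x hx y hy
    obtain ⟨i, rfl⟩ := hzgen x hx
    obtain ⟨j, rfl⟩ := hzgen y hy
    rw [← pow_add, ← pow_add, Nat.add_comm]
  obtain ⟨a, ha⟩ : ∃ a, orderOf z = p ^ (a + 1) := by
    obtain ⟨k, hk⟩ := IsPGroup.iff_orderOf.1 (IsDefectGroup.isPGroup hPD) ⟨z, hz⟩
    rw [Subgroup.orderOf_mk] at hk
    rcases k with _ | k
    · refine absurd (le_bot_iff.1 fun x hx => ?_) hP1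
      obtain ⟨i, rfl⟩ := hzgen x hx
      rw [pow_zero, orderOf_eq_one_iff] at hk
      simp [hk]
    · exact ⟨k, hk⟩
  set z₁ := z ^ p ^ a with hz₁
  have hz₁o : orderOf z₁ = p := by
    rw [hz₁, orderOf_pow' _ (pow_ne_zero _ (Fact.out : p.Prime).ne_zero), ha,
      Nat.gcd_eq_right (pow_dvd_pow p (Nat.le_succ a)), pow_succ,
      Nat.mul_div_cancel_left _ (pow_pos (Fact.out : p.Prime).pos a)]
  have hconj : ∀ g ∈ T, ∃ k : ℕ, g * z * g⁻¹ = z ^ k := by
    intro g hg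
    obtain ⟨i, hi⟩ := hzgen _ ((Subgroup.mem_normalizer_iff.1 ((hT g).1 hg).1 z).1 hz)
    exact ⟨i, hi.symm⟩
  have hfree : ∀ g ∈ T, g * z₁ * g⁻¹ = z₁ → g ∈ Cn P := by
    intro g hg hgz
    obtain ⟨k, hk⟩ := hconj g hg
    have h1 : z₁ ^ k = z₁ := by
      conv_rhs => rw [← hgz, hz₁, ← conj_pow, hk]
      rw [hz₁, ← pow_mul, ← pow_mul, mul_comm]
    have h2 : (p : ℤ) ∣ (k : ℤ) - 1 := by
      rw [← hz₁o, orderOf_dvd_iff_zpow_eq_one, zpow_sub, zpow_natCast, zpow_one, h1,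
        mul_inv_cancel]
    have h3 : ∀ j : ℕ, g ^ j * z * (g ^ j)⁻¹ = z ^ k ^ j := by
      intro j
      induction j with
      | zero => simp
      | succ j ih =>
        calc g ^ (j + 1) * z * (g ^ (j + 1))⁻¹ = g * (g ^ j * z * (g ^ j)⁻¹) * g⁻¹ := by
              rw [pow_succ']; group
          _ = (g * z * g⁻¹) ^ k ^ j := by rw [ih, conj_pow]
          _ = z ^ k ^ (j + 1) := by rw [hk, ← pow_mul, pow_succ']
    have h4 : g ^ p ^ a * z * (g ^ p ^ a)⁻¹ = z := by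
      rw [h3]
      have h5 := dvd_sub_pow_of_dvd_sub h2 a
      rw [one_pow] at h5
      have h6 : (orderOf z : ℤ) ∣ ((k ^ p ^ a : ℕ) : ℤ) - 1 := by
        rw [ha]; push_cast; exact h5
      rw [orderOf_dvd_iff_zpow_eq_one, zpow_sub, zpow_natCast, zpow_one, mul_inv_eq_one] at h6
      exact h6
    have h7 : g ^ p ^ a ∈ Cn P := by
      intro x hx
      obtain ⟨i, rfl⟩ := hzgen x hx
      have hcz : Commute (g ^ p ^ a) z := mul_inv_eq_iff_eq_mul.1 h4
      exact (hcz.pow_right i).eq.symm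
    obtain ⟨m, hm, hgm⟩ := exists_pow_mem hM hB hPD hab hc hT hg
    have hcop : Nat.gcd (p ^ a) m = 1 :=
      Nat.Coprime.pow_left a ((Fact.out : p.Prime).coprime_iff_not_dvd.2 hm)
    have hbez := Nat.gcd_eq_gcd_ab (p ^ a) m
    rw [hcop] at hbez
    have e : g = (g ^ p ^ a) ^ Nat.gcdA (p ^ a) m * (g ^ m) ^ Nat.gcdB (p ^ a) m := by
      rw [← zpow_natCast g (p ^ a), ← zpow_natCast g m, ← zpow_mul, ← zpow_mul, ← zpow_add,
        ← hbez, Nat.cast_one, zpow_one]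
    rw [e]
    exact mul_mem (zpow_mem h7 _) (zpow_mem hgm _)
  have hall : ∀ g ∈ T, ∀ x ∈ P, x ≠ 1 → g * x * g⁻¹ = x → g ∈ Cn P := by
    intro g hg x hx hx1 hgx
    refine hfree g hg ?_
    obtain ⟨k, hk⟩ := IsPGroup.iff_orderOf.1 (IsDefectGroup.isPGroup hPD) ⟨x, hx⟩
    rw [Subgroup.orderOf_mk] at hk
    rcases k with _ | k
    · exact absurd (orderOf_eq_one_iff.1 hk) hx1
    set y := x ^ p ^ k with hy
    have hyo : orderOf y = p := by
      rw [hy, orderOf_pow' _ (pow_ne_zero _ (Fact.out : p.Prime).ne_zero), hk,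
        Nat.gcd_eq_right (pow_dvd_pow p (Nat.le_succ k)), pow_succ,
        Nat.mul_div_cancel_left _ (pow_pos (Fact.out : p.Prime).pos k)]
    have hgy : g * y * g⁻¹ = y := by rw [hy, ← conj_pow, hgx]
    obtain ⟨i, hi⟩ := hzgen y (pow_mem hx _)
    have hpow : y ^ p = 1 := hyo ▸ pow_orderOf_eq_one y
    rw [← hi, ← pow_mul] at hpow
    have hd := orderOf_dvd_of_pow_eq_one hpow
    rw [ha, pow_succ] at hd
    obtain ⟨j, hj⟩ := Nat.dvd_of_mul_dvd_mul_right (Fact.out : p.Prime).pos hd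
    have hyz : z₁ ^ j = y := by rw [hz₁, ← pow_mul, ← hj, hi]
    have hz₁y : z₁ ∈ Subgroup.zpowers y := by
      have hle : Subgroup.zpowers y ≤ Subgroup.zpowers z₁ :=
        Subgroup.zpowers_le.2 (hyz ▸ Subgroup.npow_mem_zpowers z₁ j)
      have heq := Subgroup.eq_of_le_of_card_ge hle (by
        rw [Nat.card_zpowers, Nat.card_zpowers, hyo, hz₁o])
      rw [heq]
      exact Subgroup.mem_zpowers z₁
    obtain ⟨l, hl⟩ := hz₁y
    simp only [← hl, ← conj_zpow, hgy]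
  -- the action on the elements of order `p`
  have hstab : ∀ g ∈ T, ∀ w ∈ Subgroup.zpowers z₁, g * w * g⁻¹ ∈ Subgroup.zpowers z₁ := by
    intro g hg w hw
    obtain ⟨k, hk⟩ := hconj g hg
    obtain ⟨i, rfl⟩ := hw
    refine ⟨k * i, ?_⟩
    show z₁ ^ ((k : ℤ) * i) = g * z₁ ^ i * g⁻¹
    rw [← conj_zpow, hz₁, ← conj_pow, hk, zpow_mul, zpow_natCast, ← pow_mul, ← pow_mul, mul_comm]
  have hTN : T ≤ Subgroup.normalizer (Subgroup.zpowers z₁ : Set G) := by
    intro g hg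
    rw [Subgroup.mem_normalizer_iff]
    refine fun w => ⟨hstab g hg w, fun h => ?_⟩
    simpa [mul_assoc] using hstab g⁻¹ (inv_mem hg) _ h
  let φ : T →* MulAut (Subgroup.zpowers z₁) :=
    (Subgroup.zpowers z₁).normalizerMonoidHom.comp (Subgroup.inclusion hTN)
  have hker : φ.ker = (Cn P).subgroupOf T := by
    ext t
    rw [MonoidHom.mem_ker, Subgroup.mem_subgroupOf]
    constructor
    · intro h
      have h1 : (t : G) * z₁ * (t : G)⁻¹ = z₁ :=
        congrArg (fun σ : MulAut (Subgroup.zpowers z₁) =>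
          ((σ ⟨z₁, Subgroup.mem_zpowers z₁⟩ : Subgroup.zpowers z₁) : G)) h
      exact hfree (t : G) t.2 h1
    · intro h
      have hz₁P : z₁ ∈ P := pow_mem hz _
      refine MulEquiv.ext fun w => Subtype.ext ?_
      obtain ⟨i, hi⟩ := w.2
      show (t : G) * (w : G) * (t : G)⁻¹ = (w : G)
      rw [← hi]
      exact mul_inv_eq_iff_eq_mul.2 ((h (z₁ ^ i) (zpow_mem hz₁P _)).symm)
  have hcard : Nat.card (Subgroup.zpowers z₁) = p := by rw [Nat.card_zpowers, hz₁o]
  let ψ : T →* (ZMod p)ˣ := ((IsCyclic.mulAutMulEquiv (Subgroup.zpowers z₁)).trans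
    (Units.mapEquiv (ZMod.ringEquivCongr hcard).toMulEquiv)).toMonoidHom.comp φ
  have hkerψ : ψ.ker = (Cn P).subgroupOf T := by
    rw [← hker]
    ext t
    simp only [ψ, MonoidHom.mem_ker, MonoidHom.comp_apply, MulEquiv.coe_toMonoidHom,
      map_eq_one_iff _ (MulEquiv.injective _)]
  let e : (T ⧸ (Cn P).subgroupOf T) →* (ZMod p)ˣ :=
    QuotientGroup.lift _ ψ hkerψ.ge
  have he : Function.Injective e := by
    rw [← MonoidHom.ker_eq_bot_iff, QuotientGroup.ker_lift, hkerψ]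
    exact QuotientGroup.map_mk'_self _
  refine ⟨isCyclic_of_injective e he, ?_, hall⟩
  have h1 := Subgroup.card_subgroup_dvd_card e.range
  rw [← Nat.card_congr (MonoidHom.ofInjective he).toEquiv, ← Subgroup.index_eq_card,
    Nat.card_eq_fintype_card, ZMod.card_units p] at h1
  exact h1

end CfsgLib.Inertial
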