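import Cfsg.Agent.Blk.Canonical
import Cfsg.Agent.Blk.Pair.Maximal
import Cfsg.Agent.Blk.Pair.Local

/-!
When a Brauer pair is maximal.
-/

set_option autoImplicit false
set_option linter.style.haveILetI false
set_option linter.unusedSectionVars false

namespace CfsgLib.Blk.Pair

open Cfsg CfsgLib.Char CfsgLib.Blk MonoidAlgebra Finset IsLocalRing

universe u

variable {G : Type u} [Group G] [Finite G] {M : Ideal AlgInt} [M.IsPrime] {p : ℕ} [Fact p.Prime]
variable {Q : Subgroup G} {e : Set (IrrCharacter (Cn Q))}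

theorem centralizer_subgroupOf_Cn (Q : Subgroup G) :
    Subgroup.centralizer ((Q.subgroupOf (Cn Q) : Subgroup (Cn Q)) : Set (Cn Q)) = ⊤ :=
  top_le_iff.1 fun c _ y hy => Subtype.ext (c.2 _ (Subgroup.mem_subgroupOf.1 hy))

theorem central_top (Q : Subgroup G) :
    Q.subgroupOf (Cn Q) ⊔
      Subgroup.centralizer ((Q.subgroupOf (Cn Q) : Subgroup (Cn Q)) : Set (Cn Q)) = ⊤ := by
  rw [centralizer_subgroupOf_Cn]; exact sup_top_eq _

/-- A witness in the centralizer of a larger `p`-subgroup excludes maximality. -/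
theorem eq_of_maximal_of_witness (hM : IsPModular p M) {B : Set (IrrCharacter G)}
    (hmax : IsMaximalBrauerPair p M B Q e) {R : Subgroup G} (hR : IsPGroup p R) (hQR : Q ≤ R)
    (hRN : R ≤ Subgroup.normalizer (Q : Set G)) (hfix : Fix R (idA M Q e)) {x : Cn Q}
    (hx : (x : G) ∈ Cn R) (hu : ¬ MemLocalIdeal M (blockCoeff e x)) : R = Q := by
  classical
  haveI : CharP (Res M) p := charP_res hM
  have he := hmax.1.1
  have hadm : Adm R (idA M Q e) :=
    ⟨hfix, (fix_Cn_inA Q (isClassCoeff_bid hM he.2)).mono (Cn_antitone hQR)⟩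
  have hi : resA (Cn R) (idA M Q e) * resA (Cn R) (idA M Q e) = resA (Cn R) (idA M Q e) := by
    rw [← resA_Cn_mul hM hR hadm.1 hadm.1, ← map_mul, bid_mul_self hM he.2]
  have hne : resA (Cn R) (idA M Q e) ≠ 0 := by
    intro h0
    have h1 := congrArg (fun z : KA M (Cn R) => z.coeff ⟨(x : G), hx⟩) h0
    simp only [coeff_resA, MonoidAlgebra.coeff_zero, Finsupp.zero_apply] at h1
    rw [idA, coeff_inA, bid_eq hM he.2, coeff_redA] at h1
    exact (residue_blockIdem_ne_zero_iff hM he.2 x).2 hu h1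
  obtain ⟨g, hg, hv⟩ := exists_block_of_ne_zero hM hadm.classCoeff hi hne
  obtain ⟨ξ, hξ⟩ := isPBlock_nonempty hg
  have hn : IsNormalSubpair p M Q e R g :=
    isNormalSubpair_of_mem hM he ⟨hR, hg⟩ hQR hRN hfix hξ (hv ξ hξ)
  exact hmax.2 R g ((pairOf_congr_normal hM hn).2 hmax.1) (Relation.ReflTransGen.single hn)

/-- The canonical character of a maximal pair. -/
theorem exists_canonical_of_maximal (hM : IsPModular p M) {B : Set (IrrCharacter G)}
    (hmax : IsMaximalBrauerPair p M B Q e) :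
    IsDefectGroup p M e (Q.subgroupOf (Cn Q)) ∧
    ∃ θ ∈ e, (∀ z : Cn Q, (z : G) ∈ Q → (θ : Cn Q → ℂ) z = (θ : Cn Q → ℂ) 1) ∧
      (charDegree (θ : Cn Q → ℂ)).factorization p =
        (Q.subgroupOf (Cn Q)).index.factorization p := by
  classical
  haveI := Fintype.ofFinite (Cn Q)
  haveI := Fintype.ofFinite (Q.subgroupOf (Cn Q))
  have he := hmax.1.1
  haveI := normal_of_pc_top (central_top Q)
  have hP : IsPGroup p (Q.subgroupOf (Cn Q)) :=
    IsPGroup.comap_of_injective he.1 (Cn Q).subtype Subtype.val_injective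
  obtain ⟨D, hD⟩ := exists_isDefectGroup hM he.2
  have hDp := IsDefectGroup.isPGroup hD
  have hZD := normal_pgroup_le_defectGroup hM he.2 _ hP hD
  obtain ⟨x, hx, hs⟩ := isDefectGroup_iff.1 hD
  have hDn : D.map (Cn Q).subtype ≤ Cn Q := Subgroup.map_subtype_le D
  have hRN : D.map (Cn Q).subtype ≤ Subgroup.normalizer (Q : Set G) :=
    hDn.trans (Cn_le_normalizer Q)
  have hR : IsPGroup p (D.map (Cn Q).subtype ⊔ Q : Subgroup G) :=
    IsPGroup.to_sup_of_normal_right' (hDp.map _) he.1 hRN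
  obtain ⟨-, -, -, -, hfixQ, -⟩ := (isNormalSubpair_iff hM).1 (normalSubpair_self hM he)
  have hfix : Fix (D.map (Cn Q).subtype ⊔ Q : Subgroup G) (idA M Q e) :=
    fix_sup ((fix_Cn_inA Q (isClassCoeff_bid hM he.2)).mono hDn) hfixQ
  have hxR : (x : G) ∈ Cn (D.map (Cn Q).subtype ⊔ Q) := by
    rw [mem_Cn_sup_iff]
    refine ⟨?_, x.2⟩
    rintro y ⟨d, hd, rfl⟩
    exact congrArg Subtype.val (Subgroup.mem_centralizer_singleton_iff.1 (hs.le hd))
  have heq := eq_of_maximal_of_witness hM hmax hR le_sup_right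
    (sup_le hRN Subgroup.le_normalizer) hfix hxR hx.2.1
  have hDZ : D = Q.subgroupOf (Cn Q) := le_antisymm (fun d hd => by
    exact Subgroup.mem_subgroupOf.2 (heq.le (Subgroup.mem_sup_left ⟨d, hd, rfl⟩))) hZD
  subst hDZ
  obtain ⟨θ, hθ, htriv⟩ := exists_trivial_on hM he.2 _ hP
  exact ⟨hD, θ, hθ, fun z hz => htriv z hz,
    (canonical_facts hP (central_top Q) hM he.2 hD hθ htriv).1⟩

/-- A central character of defect zero modulo the intersection gives the defect group. -/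
theorem defectGroup_of_canonical (hM : IsPModular p M) (he : IsBrauerPair p M Q e)
    {θ : IrrCharacter (Cn Q)} (hθ : θ ∈ e)
    (htriv : ∀ z : Cn Q, (z : G) ∈ Q → (θ : Cn Q → ℂ) z = (θ : Cn Q → ℂ) 1)
    (hdeg : (charDegree (θ : Cn Q → ℂ)).factorization p =
      (Q.subgroupOf (Cn Q)).index.factorization p) :
    IsDefectGroup p M e (Q.subgroupOf (Cn Q)) := by
  classical
  haveI := Fintype.ofFinite (Cn Q)
  haveI := Fintype.ofFinite (Q.subgroupOf (Cn Q))
  haveI := normal_of_pc_top (central_top Q)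
  have hP : IsPGroup p (Q.subgroupOf (Cn Q)) :=
    IsPGroup.comap_of_injective he.1 (Cn Q).subtype Subtype.val_injective
  obtain ⟨K, -, hK, hKmul⟩ := exists_kernel (isCharacter_of_isIrr θ.2)
  obtain ⟨-, hreg⟩ := sec_norm hP (central_top Q) hM θ hdeg ⟨_, isIrr_one⟩ (fun y x _ => by
    rw [hKmul _ ((hK _).2 (htriv y (Subgroup.mem_subgroupOf.1 y.2)))]; exact (one_mul _).symm)
  have h0 := sec_height_zero hP (central_top Q) hM θ hdeg hreg
  rw [← eq_blockOf he.2 hθ] at h0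
  have hh := degExp_eq_height_add hM he.2 hθ
  obtain ⟨k, hk⟩ := IsPGroup.iff_card.1 hP
  have hfac : (Nat.card (Cn Q)).factorization p =
      k + (Q.subgroupOf (Cn Q)).index.factorization p := by
    rw [← Subgroup.card_mul_index (Q.subgroupOf (Cn Q)), Nat.factorization_mul Nat.card_pos.ne'
      Subgroup.index_ne_zero_of_finite, Finsupp.add_apply, hk,
      (Fact.out : p.Prime).factorization_pow, Finsupp.single_eq_same]
  simp only [degExp, pExp, h0, hdeg, hfac] at hh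
  have hle := blockDefect_le (p := p) hM e
  simp only [pExp, hfac] at hle
  obtain ⟨D, hD⟩ := exists_isDefectGroup hM he.2
  have hcard := card_defectGroup hM he.2 hD
  have hd : blockDefect p e = k := by omega
  rw [hd, ← hk] at hcard
  rwa [Subgroup.eq_of_le_of_card_ge (normal_pgroup_le_defectGroup hM he.2 _ hP hD) hcard.le]

/-- The inertial condition of a maximal pair. -/
theorem stabilizer_pElem_of_maximal (hM : IsPModular p M) {B : Set (IrrCharacter G)}
    (hmax : IsMaximalBrauerPair p M B Q e) {g : G} (hgN : g ∈ Subgroup.normalizer (Q : Set G))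
    (hgs : StabilizesBlock (Cn Q) e g) (hgp : ∃ k : ℕ, orderOf g = p ^ k) : g ∈ Q ⊔ Cn Q := by
  classical
  haveI : CharP (Res M) p := charP_res hM
  by_contra hgK
  have he := hmax.1.1
  obtain ⟨-, θ, hθ, -, -⟩ := exists_canonical_of_maximal hM hmax
  have hgf := ((stabilizesBlock_iff hM he.2 g).1 hgs).2
  haveI := Fintype.ofFinite (Cn Q)
  let T : Subgroup G := Subgroup.normalizer (Q : Set G) ⊓ fixer (idA M Q e)
  have hgT : g ∈ T := ⟨hgN, hgf⟩
  have hzT : Subgroup.zpowers g ≤ T := Subgroup.zpowers_le.2 hgT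
  haveI : Fintype (ConjClasses (Cn Q)) := Fintype.ofFinite _
  have hK : ∀ s : Subgroup.zpowers g, ∀ x : G, x ∈ Cn Q ↔ (s : G)⁻¹ * x * s ∈ Cn Q := fun s x =>
    mem_Cn_conj_iff (hzT s.2).1 x
  let act : Subgroup.zpowers g → ConjClasses (Cn Q) → ConjClasses (Cn Q) := fun s =>
    ConjClasses.map (cjIso (s : G) (hK s)).toMonoidHom
  letI : MulAction (Subgroup.zpowers g) (ConjClasses (Cn Q)) :=
    { smul := act
      one_smul := fun C => by
        refine Quotient.inductionOn C fun x => ?_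
        change ConjClasses.mk (cjIso ((1 : Subgroup.zpowers g) : G) _ x) = ConjClasses.mk x
        congr 1
        exact Subtype.ext (by simp [coe_cjIso])
      mul_smul := fun s t C => by
        refine Quotient.inductionOn C fun x => ?_
        change ConjClasses.mk (cjIso ((s * t : Subgroup.zpowers g) : G) _ x) =
          ConjClasses.mk (cjIso (s : G) _ (cjIso (t : G) _ x))
        congr 1
        exact Subtype.ext (by simp [coe_cjIso, mul_assoc]) }
  have hout : ∀ x : Cn Q, IsConj (ConjClasses.mk x).out x := fun x =>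
    ConjClasses.mk_eq_mk_iff_isConj.1 (Quotient.out_eq _)
  let w : ConjClasses (Cn Q) → Res M := fun C =>
    (bid M e).coeff C.out * red M (centralChar (θ : Cn Q → ℂ) C.out)
  have hw : ∀ x : Cn Q, w (ConjClasses.mk x) =
      (bid M e).coeff x * red M (centralChar (θ : Cn Q → ℂ) x) := by
    intro x
    obtain ⟨c, hc⟩ := isConj_iff.1 (hout x)
    simp only [w]
    rw [centralChar_isConj (classFun_of_irr θ.2) (hout x)]
    congr 1
    exact (isClassCoeff_bid hM he.2 _ c).symm.trans (by rw [hc])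
  have hsum : ∑ C : ConjClasses (Cn Q), w C = 1 := by
    have h := lam_bid hM he.2 θ
    rw [if_pos hθ, lam_eq_sum θ.2 (isClassCoeff_bid hM he.2)] at h
    exact h
  have hinv : ∀ (s : Subgroup.zpowers g) (C : ConjClasses (Cn Q)), w (s • C) = w C := by
    intro s C
    obtain ⟨x, rfl⟩ := ConjClasses.exists_rep C
    change w (ConjClasses.mk (cjIso (s : G) _ x)) = _
    rw [hw, hw]
    congr 1
    · rw [← coeff_inA (Cn Q) (bid M e), ← coeff_inA (Cn Q) (bid M e) x, coe_cjIso]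
      exact fix_iff.1 (fun y hy => (hzT hy).2) _ s.2 _
    · have hb : mvSet (cjIso (s : G) (hK s)) e = e := by
        refine bid_inj hM (isPBlock_mvSet _ he.2) he.2 (inA_injective _ ?_)
        rw [inA_bid_mvSet]
        exact (hzT s.2).2
      obtain ⟨θ', hθ', hθθ⟩ : ∃ θ' ∈ e, mvChar (cjIso (s : G) (hK s)) θ' = θ := by
        rw [← hb] at hθ
        obtain ⟨θ', hθ', hh⟩ := hθ
        exact ⟨θ', hθ', hh⟩
      conv_lhs => rw [← hθθ]
      rw [centralChar_mvChar]
      exact (sameBlock_iff_red θ'.2 θ.2).1 (sameBlock_of_mem he.2 hθ' hθ) x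
  have hgp' : IsPGroup p (Subgroup.zpowers g) := isPGroup_zpowers hgp
  rw [sum_eq_sum_fixedPoints hgp' w hinv] at hsum
  obtain ⟨C, hC, hC0⟩ := Finset.exists_ne_zero_of_sum_ne_zero (hsum ▸ one_ne_zero)
  obtain ⟨x, rfl⟩ := ConjClasses.exists_rep C
  rw [hw] at hC0
  have hu : ¬ MemLocalIdeal M (blockCoeff e x) := by
    have h := left_ne_zero_of_mul hC0
    rw [bid_eq hM he.2, coeff_redA] at h
    exact (residue_blockIdem_ne_zero_iff hM he.2 x).1 h
  have hfx := (Finset.mem_filter.1 hC).2 ⟨g, Subgroup.mem_zpowers g⟩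
  change ConjClasses.mk (cjIso g _ x) = ConjClasses.mk x at hfx
  obtain ⟨c, hc⟩ := isConj_iff.1 (ConjClasses.mk_eq_mk_iff_isConj.1 hfx)
  have hc' : (c : G) * g * x * ((c : G) * g)⁻¹ = x := by
    have := congrArg Subtype.val hc
    simp only [Subgroup.coe_mul, Subgroup.coe_inv, coe_cjIso] at this
    rw [mul_inv_rev]
    simpa [mul_assoc] using this
  obtain ⟨h', hh'⟩ := exists_isPPart (Fact.out : p.Prime) ((c : G) * g)
  have hhT : (c : G) * g ∈ T :=
    mul_mem ⟨Cn_le_normalizer Q c.2, fix_Cn_inA Q (isClassCoeff_bid hM he.2) _ c.2⟩ hgT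
  have hh'z := isPPart_mem_zpowers Fact.out hh'
  have hh'T : h' ∈ T := Subgroup.zpowers_le.2 hhT hh'z
  have hh'x : Commute h' (x : G) :=
    isPPart_commute Fact.out hh' (mul_inv_eq_iff_eq_mul.1 hc')
  obtain ⟨k, hk⟩ : ∃ k : ℕ, orderOf h' = p ^ k := by
    obtain ⟨_, -, -, hk, -⟩ := hh'
    exact hk
  have hR : IsPGroup p (Subgroup.zpowers h' ⊔ Q : Subgroup G) :=
    IsPGroup.to_sup_of_normal_right' (isPGroup_zpowers ⟨k, hk⟩) he.1
      (Subgroup.zpowers_le.2 hh'T.1)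
  obtain ⟨-, -, -, -, hfixQ, -⟩ := (isNormalSubpair_iff hM).1 (normalSubpair_self hM he)
  have hfix : Fix (Subgroup.zpowers h' ⊔ Q : Subgroup G) (idA M Q e) :=
    fix_sup (fun y hy => (Subgroup.zpowers_le.2 hh'T hy).2) hfixQ
  have hxR : (x : G) ∈ Cn (Subgroup.zpowers h' ⊔ Q) := by
    rw [mem_Cn_sup_iff]
    refine ⟨fun y hy => ?_, x.2⟩
    obtain ⟨i, rfl⟩ := Subgroup.mem_zpowers_iff.1 hy
    exact (hh'x.zpow_left i).eq
  have heq := eq_of_maximal_of_witness hM hmax hR le_sup_right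
    (sup_le (Subgroup.zpowers_le.2 hh'T.1) Subgroup.le_normalizer) hfix hxR hu
  have hh'Q : h' ∈ Q := heq ▸ Subgroup.mem_sup_left (Subgroup.mem_zpowers h')
  -- pass to the normalizer modulo `Q C(Q)`
  set N := Subgroup.normalizer (Q : Set G) with hN
  haveI : ((Q ⊔ Cn Q).subgroupOf N).Normal :=
    Subgroup.normal_subgroupOf_of_le_normalizer (normalizer_le_normalizer_pc Q)
  let π := QuotientGroup.mk' ((Q ⊔ Cn Q).subgroupOf N)
  obtain ⟨v, hv, -, -, hv'⟩ := hh'
  have hvN : v ∈ N := by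
    rw [show v = h'⁻¹ * ((c : G) * g) by rw [← hv, inv_mul_cancel_left]]
    exact mul_mem (inv_mem hh'T.1) hhT.1
  have hmem : ∀ y : N, π y = 1 ↔ (y : G) ∈ Q ⊔ Cn Q := fun y => by
    rw [QuotientGroup.mk'_apply, QuotientGroup.eq_one_iff, Subgroup.mem_subgroupOf]
  have h1 : π ⟨g, hgN⟩ = π ⟨v, hvN⟩ := by
    have e1 : (⟨(c : G), Cn_le_normalizer Q c.2⟩ : N) * ⟨g, hgN⟩ = ⟨h', hh'T.1⟩ * ⟨v, hvN⟩ :=
      Subtype.ext hv.symm
    have e2 := congrArg π e1
    rwa [map_mul, map_mul,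
      (hmem ⟨(c : G), Cn_le_normalizer Q c.2⟩).2 (Subgroup.mem_sup_right c.2),
      (hmem ⟨h', hh'T.1⟩).2 (Subgroup.mem_sup_left hh'Q), one_mul, one_mul] at e2
  obtain ⟨j, hj⟩ := hgp
  have h2 : orderOf (π ⟨g, hgN⟩) ∣ p ^ j :=
    (orderOf_map_dvd π _).trans (by rw [← Subgroup.orderOf_coe]; exact hj.dvd)
  have h3 : orderOf (π ⟨g, hgN⟩) ∣ orderOf v := by
    rw [h1]
    exact (orderOf_map_dvd π _).trans (by rw [← Subgroup.orderOf_coe])
  have h4 : orderOf (π ⟨g, hgN⟩) = 1 := by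
    obtain ⟨i, -, hi⟩ := (Nat.dvd_prime_pow (Fact.out : p.Prime)).1 h2
    rcases Nat.eq_zero_or_pos i with rfl | hi0
    · simpa using hi
    · exact absurd ((dvd_pow_self p hi0.ne').trans (hi ▸ h3)) hv'
  exact hgK ((hmem ⟨g, hgN⟩).1 (orderOf_eq_one_iff.1 h4))

/-- The conditions on the canonical character and the stabilizer give maximality. -/
theorem maximal_of_canonical (hM : IsPModular p M) (he : IsBrauerPair p M Q e)
    (hD : IsDefectGroup p M e (Q.subgroupOf (Cn Q)))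
    (hst : ∀ g : G, g ∈ Subgroup.normalizer (Q : Set G) → StabilizesBlock (Cn Q) e g →
      (∃ k : ℕ, orderOf g = p ^ k) → g ∈ Q ⊔ Cn Q) :
    ∃ B, IsMaximalBrauerPair p M B Q e := by
  classical
  obtain ⟨B, hB, -⟩ := existsUnique_block hM he
  obtain ⟨P, e', hmax, hle⟩ := exists_maximal_ge hM Q hB
  rcases eq_or_lt_of_le (subpairLE_le hle) with rfl | hlt
  · rcases subpairLE_cases hM hle with heq | ⟨R, g, hRQ, hQR, -⟩
    · obtain rfl : e = e' := by simpa using heq
      exact ⟨B, hmax⟩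
    · exact absurd (subpairLE_le hQR) (not_le_of_gt hRQ)
  exfalso
  obtain ⟨y, hyP, hyN, hyQ⟩ : ∃ y ∈ P, y ∈ Subgroup.normalizer (Q : Set G) ∧ y ∉ Q := by
    haveI := hmax.1.1.1.isNilpotent
    have hne : Q.subgroupOf P < ⊤ := lt_top_iff_ne_top.2 fun h =>
      not_le_of_gt hlt (Subgroup.subgroupOf_eq_top.1 h)
    obtain ⟨⟨y, hyP⟩, hy, hyQ⟩ := SetLike.exists_of_lt
      (Group.normalizerCondition_of_isNilpotent (G := P) _ hne)
    refine ⟨y, hyP, Subgroup.mem_normalizer_iff.2 fun x => ?_, fun h => hyQ h⟩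
    have hiff := fun x : P => Subgroup.mem_normalizer_iff.1 hy x
    refine ⟨fun hx => ?_, fun hx => ?_⟩
    · simpa [Subgroup.mem_subgroupOf] using (hiff ⟨x, hlt.le hx⟩).1 hx
    · have hxP : x ∈ P := by
        simpa [mul_assoc] using mul_mem (mul_mem (inv_mem hyP) (hlt.le hx)) hyP
      exact (hiff ⟨x, hxP⟩).2 (by simpa [Subgroup.mem_subgroupOf] using hx)
  set R := P ⊓ Subgroup.normalizer (Q : Set G) with hRdef
  have hQR : Q ≤ R := le_inf hlt.le Subgroup.le_normalizer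
  obtain ⟨k, hk, hkle⟩ := exists_subpair hM P hmax.1.1 (inf_le_left : R ≤ P)
  have hn := normalSubpair_of_le hM hk (subpair_between hM hk hQR hle hkle) inf_le_right
  obtain ⟨-, -, -, -, hfix, hv⟩ := (isNormalSubpair_iff hM).1 hn
  obtain ⟨η, hη⟩ := isPBlock_nonempty hk.2
  obtain ⟨x, hxR, hu⟩ : ∃ x : G, x ∈ Cn R ∧ (idA M Q e).coeff x ≠ 0 := by
    by_contra! hno
    have h0 : resA (Cn R) (idA M Q e) = 0 :=
      MonoidAlgebra.coeff_injective (Finsupp.ext fun z => by simpa using hno z z.2)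
    have h1 := hv η hη
    rw [val, h0, lam_zero η.2] at h1
    exact zero_ne_one h1
  have hxQ : x ∈ Cn Q := Cn_antitone hQR hxR
  have hu' : ¬ MemLocalIdeal M (blockCoeff e ⟨x, hxQ⟩) := by
    rw [idA, show x = ((⟨x, hxQ⟩ : Cn Q) : G) from rfl, coeff_inA, bid_eq hM he.2, coeff_redA] at hu
    exact (residue_blockIdem_ne_zero_iff hM he.2 _).1 hu
  have hyK : y ∈ Q ⊔ Cn Q := by
    refine hst y hyN ?_ ?_
    · exact (stabilizesBlock_iff hM he.2 y).2
        ⟨normalizer_le_normalizer_Cn Q hyN, hfix y ⟨hyP, hyN⟩⟩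
    · obtain ⟨j, hj⟩ := IsPGroup.iff_orderOf.1 hmax.1.1.1 ⟨y, hyP⟩
      exact ⟨j, (Subgroup.orderOf_coe (⟨y, hyP⟩ : P)).trans hj⟩
  obtain ⟨q, hq, c, hc, hqc⟩ : ∃ q ∈ Q, ∃ c ∈ Cn Q, q * c = y := by
    rw [← SetLike.mem_coe, Subgroup.coe_mul_of_left_le_normalizer_right Q (Cn Q)
      (Subgroup.le_normalizer.trans (normalizer_le_normalizer_Cn Q))] at hyK
    exact Set.mem_mul.1 hyK
  have hcR : c ∈ R := by
    rw [show c = q⁻¹ * y by rw [← hqc, inv_mul_cancel_left]]
    exact mul_mem (inv_mem (hQR hq)) ⟨hyP, hyN⟩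
  obtain ⟨z, hz⟩ := minmax_le hM he.2 hD ⟨x, hxQ⟩ hu' (Q := R.subgroupOf (Cn Q))
    (IsPGroup.comap_of_injective (hk.1) (Cn Q).subtype Subtype.val_injective)
    (fun r hr => Subgroup.mem_centralizer_singleton_iff.2
      (Subtype.ext (hxR _ (Subgroup.mem_subgroupOf.1 hr))))
  have h1 : z * ⟨c, hc⟩ * z⁻¹ ∈ Q.subgroupOf (Cn Q) := hz ⟨⟨c, hc⟩, hcR, rfl⟩
  haveI := normal_of_pc_top (central_top Q)
  have h2 := (inferInstance : (Q.subgroupOf (Cn Q)).Normal).conj_mem _ h1 z⁻¹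
  have h3 : c ∈ Q := by
    have : (⟨c, hc⟩ : Cn Q) ∈ Q.subgroupOf (Cn Q) := by simpa [mul_assoc] using h2
    exact this
  exact hyQ (hqc ▸ mul_mem hq h3)

end CfsgLib.Blk.Pair
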