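import Cfsg.Agent.Blk.Pair.Nilpotent
import Cfsg.Agent.Blk.SubsectionPairs
import Cfsg.Agent.Blk.PairCriterion

/-!
Free action of the inertial quotient and nilpotency of the local blocks.
-/

set_option autoImplicit false
set_option linter.style.haveILetI false
set_option linter.unusedSectionVars false

namespace CfsgLib.InertialFree

open Cfsg CfsgLib.Char CfsgLib.Blk CfsgLib.Blk.Pair
open scoped CfsgLib.Char

universe u

variable {G : Type u} [Group G] [Fintype G] {M : Ideal AlgInt} [M.IsPrime] {p : ℕ} [Fact p.Prime]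
variable {B : Set (IrrCharacter G)} {P : Subgroup G} {c : Set (IrrCharacter (Cn P))}

/-- Induction inside a subgroup, seen in the subgroup. -/
theorem inducedIn_iff {K Q : Subgroup G} (hC : Cn Q ≤ K) (hQ : Q ≤ K)
    (ξ : IrrCharacter (Cn Q)) (h : K) :
    inducedCentralChar (Cn (Q.subgroupOf K))
        (mvChar (cnEquiv hC hQ) ξ : Cn (Q.subgroupOf K) → ℂ) h =
      inducedCentralCharIn K (Cn Q) (ξ : Cn Q → ℂ) (h : G) := by
  classical
  rw [inducedCentralChar, inducedCentralCharIn]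
  symm
  refine finsum_mem_eq_of_bijOn (cnEquiv hC hQ) ⟨?_, (cnEquiv hC hQ).injective.injOn, ?_⟩
    fun k _ => ?_
  · rintro k ⟨x, hx⟩
    refine IsConj.symm (isConj_iff.2 ⟨x, Subtype.ext ?_⟩)
    rw [Subgroup.coe_mul, Subgroup.coe_mul, Subgroup.coe_inv, coe_cnEquiv]
    exact hx
  · intro k hk
    obtain ⟨x, hx⟩ := isConj_iff.1 (IsConj.symm hk)
    refine ⟨(cnEquiv hC hQ).symm k, ⟨x, congrArg Subtype.val hx⟩, MulEquiv.apply_symm_apply _ _⟩
  · rw [mvChar_apply, mvChar_apply, MulEquiv.symm_apply_apply, map_one]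

theorem induced_iff_inducedIn {K Q : Subgroup G} (hC : Cn Q ≤ K) (hQ : Q ≤ K)
    {e : Set (IrrCharacter (Cn Q))} {f : Set (IrrCharacter K)} :
    IsInducedBlock M (Cn (Q.subgroupOf K)) (subSet hC hQ e) f ↔
      IsInducedBlockIn M K (Cn Q) e f := by
  constructor
  · rintro ⟨he, hf, h⟩
    refine ⟨?_, hf, fun ξ hξ χ hχ k => ?_⟩
    · have := isPBlock_mvSet (cnEquiv hC hQ).symm he
      rwa [mvSet_symm] at this
    · rw [← inducedIn_iff hC hQ ξ k]
      exact h _ ((mem_mvSet _).2 hξ) χ hχ k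
  · rintro ⟨he, hf, h⟩
    refine ⟨isPBlock_mvSet _ he, hf, fun ξ' hξ' χ hχ k => ?_⟩
    obtain ⟨ξ, hξ, rfl⟩ := hξ'
    rw [inducedIn_iff hC hQ ξ k]
    exact h ξ hξ χ hχ k

variable (hM : IsPModular p M) (hmax : IsMaximalBrauerPair p M B P c)
  (hab : ∀ x ∈ P, ∀ y ∈ P, x * y = y * x)
include hM hmax hab

/-- The block below the maximal pair: its maximal pair inside the centralizer. -/
theorem local_maximal {Q : Subgroup G} (hQP : Q ≤ P) {f : Set (IrrCharacter (Cn Q))}
    (hsub : SubpairLE p M Q f P c) :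
    ∃ (hC : Cn P ≤ Cn Q) (hP : P ≤ Cn Q),
      IsMaximalBrauerPair p M f (P.subgroupOf (Cn Q)) (subSet hC hP c) ∧
      IsInducedBlockIn M (Cn Q) (Cn P) c f := by
  classical
  have he := hmax.1.1
  have hf := subpairLE_isBrauerPair he hsub
  have hC : Cn P ≤ Cn Q := Cn_antitone hQP
  have hP : P ≤ Cn Q := fun x hx q hq => hab q (hQP hq) x hx
  have hPN : P ≤ Subgroup.normalizer (Q : Set G) := hP.trans (Cn_le_normalizer Q)
  have hn := normalSubpair_of_le hM he hsub hPN
  have hof := isBrauerPairOf_local hM hf.2 (resA_inA _ _).symm hn hC hP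
  have hP'C : P.subgroupOf (Cn Q) ≤ Cn (P.subgroupOf (Cn Q)) := fun x hx y hy =>
    Subtype.ext (hab y hy x hx)
  have hind : IsInducedBlock M (Cn (P.subgroupOf (Cn Q))) (subSet hC hP c) f :=
    (CfsgLib.SubsectionPairs.pairOf_iff_induced hM hof.1.1 hP'C hf.2).1 hof
  refine ⟨hC, hP, ?_, (induced_iff_inducedIn hC hP).1 hind⟩
  obtain ⟨D, hD, -⟩ := local_le_defectGroup hM hf.2 (resA_inA _ _).symm (Cn_le_normalizer Q)
    he hsub le_rfl hP (fun g => by
      rw [sup_eq_right.2 hQP]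
      exact ⟨fun h => ⟨Cn_antitone hQP h, h⟩, fun h => h.2⟩)
  refine maximal_of_card hM hof hD ?_
  rw [Nat.card_congr (Subgroup.subgroupOfEquivOfLe hP).toEquiv]
  have hB := hmax.1.2.1
  have hQC : Q ≤ Cn Q := hQP.trans hP
  obtain ⟨E, hE, hDE⟩ := exists_defectGroup_ge hM
    ((CfsgLib.SubsectionPairs.pairOf_iff_induced hM hf.1 hQC hB).1
      ((pairOf_congr hM hsub).1 hmax.1)) hD
  have h1 := Subgroup.card_le_of_le hDE
  rw [Subgroup.card_subtype, card_defectGroup hM hB hE,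
    ← card_defectGroup hM hB (isDefectGroup_of_maximal hM hmax)] at h1
  exact h1

theorem main {T : Subgroup G}
    (hT : ∀ g : G, g ∈ T ↔ (g ∈ Subgroup.normalizer (P : Set G) ∧ StabilizesBlock (Cn P) c g)) :
    (∀ g ∈ T, ∀ x ∈ P, x ≠ 1 → g * x * g⁻¹ = x → g ∈ Cn P) ↔
      ∀ Q : Subgroup G, Q ≤ P → Q ≠ ⊥ → ∀ f : Set (IrrCharacter (Cn Q)),
        IsInducedBlockIn M (Cn Q) (Cn P) c f → IsNilpotentBlock p M f := by
  classical
  have he := hmax.1.1
  have htr : ∀ (Q : Subgroup G) (hC : Cn P ≤ Cn Q) (hP : P ≤ Cn Q) (x : Cn Q),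
      (x ∈ Subgroup.normalizer ((P.subgroupOf (Cn Q) : Subgroup (Cn Q)) : Set (Cn Q)) ∧
        StabilizesBlock (Cn (P.subgroupOf (Cn Q))) (subSet hC hP c) x) ↔ (x : G) ∈ T := by
    intro Q hC hP x
    have hN : x ∈ Subgroup.normalizer ((P.subgroupOf (Cn Q) : Subgroup (Cn Q)) : Set (Cn Q)) ↔
        (x : G) ∈ Subgroup.normalizer (P : Set G) := by
      rw [Subgroup.mem_normalizer_iff, Subgroup.mem_normalizer_iff]
      constructor
      · intro h z
        constructor
        · intro hz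
          exact (h ⟨z, hP hz⟩).1 hz
        · intro hz
          have hzQ : z ∈ Cn Q := by
            simpa [mul_assoc] using
              (Cn Q).mul_mem ((Cn Q).mul_mem ((Cn Q).inv_mem x.2) (hP hz)) x.2
          exact (h ⟨z, hzQ⟩).2 hz
      · intro h z
        exact h z
    rw [hT, hN, stabilizesBlock_iff hM he.2,
      stabilizesBlock_iff hM (isBrauerPair_subSet hC hP he).2]
    refine and_congr_right fun hx => ?_
    have hx' : x ∈ Subgroup.normalizer ((Cn (P.subgroupOf (Cn Q)) : Subgroup (Cn Q)) : Set (Cn Q)) :=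
      normalizer_le_normalizer_Cn _ (hN.2 hx)
    simp only [hx', normalizer_le_normalizer_Cn P hx, true_and]
    show cjA x (idA M _ (subSet hC hP c)) = idA M _ (subSet hC hP c) ↔
      cjA (x : G) (idA M P c) = idA M P c
    rw [← resA_idA hC hP c]
    constructor
    · intro h
      refine MonoidAlgebra.coeff_injective (Finsupp.ext fun g => ?_)
      rw [coeff_cjA]
      by_cases hg : g ∈ Cn Q
      · have h1 := congrArg (fun w : KA M (Cn Q) => w.coeff ⟨g, hg⟩) h
        simp only [coeff_cjA, coeff_resA] at h1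
        exact h1
      · rw [coeff_inA_of_notMem _ _ fun h' => hg (hC h'), coeff_inA_of_notMem _ _ fun h' => hg (by
          simpa [mul_assoc] using (Cn Q).mul_mem ((Cn Q).mul_mem x.2 (hC h')) ((Cn Q).inv_mem x.2))]
    · intro h
      refine MonoidAlgebra.coeff_injective (Finsupp.ext fun g => ?_)
      rw [coeff_cjA, coeff_resA, coeff_resA]
      have h1 := congrArg (fun w : KA M G => w.coeff (g : G)) h
      simp only [coeff_cjA] at h1
      exact h1
  constructor
  · intro hfree Q hQP hQ1 f hf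
    obtain ⟨f0, hf0, hsub⟩ := exists_subpair hM P he hQP
    obtain ⟨hC, hP, hmax0, hind0⟩ := local_maximal hM hmax hab hQP hsub
    obtain rfl : f = f0 := isInducedBlock_unique _ ((induced_iff_inducedIn hC hP).2 hf)
      ((induced_iff_inducedIn hC hP).2 hind0)
    refine (nilpotent_iff_abelian hM hmax0 fun y hy z hz => Subtype.ext (hab y hy z hz)).2
      fun x hx hst => ?_
    have hxT := (htr Q hC hP x).1 ⟨hx, hst⟩
    obtain ⟨q, hq, hq1⟩ := (Subgroup.ne_bot_iff_exists_ne_one.1 hQ1) |>.elim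
      fun q hq => (⟨(q : G), q.2, fun h => hq (Subtype.ext h)⟩ : ∃ q ∈ Q, q ≠ (1 : G))
    exact (mem_Cn_subgroupOf hP x).2 (hfree _ hxT q (hQP hq) hq1
      (mul_inv_eq_iff_eq_mul.2 (x.2 q hq).symm))
  · intro hnil g hg x hx hx1 hgx
    set Q := Subgroup.zpowers x with hQ
    have hQP : Q ≤ P := Subgroup.zpowers_le.2 hx
    have hQ1 : Q ≠ ⊥ := by rwa [hQ, Ne, Subgroup.zpowers_eq_bot]
    obtain ⟨f, hf, hsub⟩ := exists_subpair hM P he hQP
    obtain ⟨hC, hP, hmax0, hind0⟩ := local_maximal hM hmax hab hQP hsub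
    have hgQ : g ∈ Cn Q := by
      rw [hQ, ← CfsgLib.SubsectionPairs.cn_zpowers]
      exact Subgroup.mem_centralizer_singleton_iff.2 (mul_inv_eq_iff_eq_mul.1 hgx)
    obtain ⟨h1, h2⟩ := (htr Q hC hP ⟨g, hgQ⟩).2 hg
    exact (mem_Cn_subgroupOf hP _).1 ((nilpotent_iff_abelian hM hmax0
      fun y hy z hz => Subtype.ext (hab y hy z hz)).1 (hnil Q hQP hQ1 f hind0) _ h1 h2)

end CfsgLib.InertialFree
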