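import Cfsg.Agent.S4513
import Cfsg.Agent.Blk.SubsectionPairs
import Cfsg.Agent.Blk.CentralQuotient
import Cfsg.Agent.Blk.ContribTwoUse
import Cfsg.Agent.Blk.PairCriterion
import Mathlib.GroupTheory.SpecificGroups.KleinFour
import Mathlib.Data.ZMod.Basic

/-!
2-blocks with a Klein four defect group.
-/

set_option autoImplicit false
set_option linter.style.haveILetI false
set_option linter.unusedSectionVars false

namespace CfsgLib.KleinBlock

open Cfsg CfsgLib.Char CfsgLib.Blk CfsgLib.Blk.Pair CfsgLib.SectionSplit CfsgLib.SubsectionPairs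
open scoped CfsgLib.Char ComplexConjugate

universe u

variable {G : Type u} [Group G] [Finite G] {M : Ideal AlgInt} [M.IsMaximal]

/-- A 2-block with defect group of order two has regular rank one. -/
theorem blockRank_card_two (hM : IsPModular 2 M) {B : Set (IrrCharacter G)} (hB : IsPBlock M B)
    {D : Subgroup G} (hD : IsDefectGroup 2 M B D) (hc : Nat.card D = 2) : blockRank 2 B = 1 := by
  haveI : Fact (Nat.Prime 2) := ⟨Nat.prime_two⟩
  haveI := Fintype.ofFinite G
  haveI := isCyclic_of_prime_card hc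
  obtain ⟨g, hg⟩ := IsCyclic.exists_generator (α := D)
  have hgen : D = Subgroup.zpowers (g : G) := by
    refine le_antisymm (fun y hy => ?_) (Subgroup.zpowers_le.2 g.2)
    obtain ⟨i, hi⟩ := hg ⟨y, hy⟩
    exact ⟨i, congrArg Subtype.val hi⟩
  have hx : orderOf (g : G) = 2 := by rw [← Nat.card_zpowers, ← hgen, hc]
  rw [hgen] at hD
  set C := Subgroup.centralizer ({(g : G)} : Set G) with hC
  haveI : Fintype C := Fintype.ofFinite _
  have hxC : (g : G) ∈ C := Subgroup.mem_centralizer_singleton_iff.2 rfl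
  have hCC : Subgroup.centralizer ((Subgroup.zpowers (g : G) : Subgroup G) : Set G) ≤ C :=
    (cn_zpowers (g : G)).ge
  have hCN : C ≤ Subgroup.normalizer ((Subgroup.zpowers (g : G) : Subgroup G) : Set G) :=
    (cn_zpowers (g : G)).le.trans (Cn_le_normalizer _)
  obtain ⟨b, hb, hbD⟩ := exists_induced_of_defectGroup hM (Subgroup.zpowers_le.2 hxC) hCC hCN hB hD
  haveI : ((Subgroup.zpowers (g : G)).subgroupOf C).Normal :=
    Subgroup.normal_subgroupOf_of_le_normalizer hCN
  obtain ⟨θ, hθ, htriv⟩ := exists_trivial_on hM hb.1 ((Subgroup.zpowers (g : G)).subgroupOf C)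
    (IsDefectGroup.isPGroup hbD)
  obtain ⟨-, hreg, -⟩ := Cfsg.Agent.S4513.result M hM (g : G) hx B hB hD b hb θ hθ
    (fun z hz => htriv z (Subgroup.mem_subgroupOf.2 (hz ▸ Subgroup.mem_zpowers _)))
  obtain ⟨χ, hχ⟩ := isPBlock_nonempty hB
  have hspan : regSpan 2 B = ℂ ∙ pRegularPart 2 (χ : G → ℂ) := by
    refine le_antisymm (Submodule.span_le.2 ?_) (Submodule.span_mono ?_)
    · rintro _ ⟨ψ, hψ, rfl⟩
      refine Submodule.mem_span_singleton.2 ⟨1, funext fun y => ?_⟩
      by_cases hy : 2 ∣ orderOf y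
      · simp [pRegularPart, IsPRegular, hy]
      · simp [pRegularPart, IsPRegular, hy, hreg ψ hψ χ hχ y hy]
    · rintro _ rfl; exact ⟨χ, hχ, rfl⟩
  rw [blockRank_eq, hspan, finrank_span_singleton (regularPart_ne_zero χ)]

/-- A block with Klein four defect group having a central involution in it. -/
theorem blockRank_central_involution (hM : IsPModular 2 M) {B : Set (IrrCharacter G)}
    (hB : IsPBlock M B) {D : Subgroup G} (hD : IsDefectGroup 2 M B D) (hc : Nat.card D = 4)
    {z : G} (hz : orderOf z = 2) (hzc : z ∈ Subgroup.center G) : blockRank 2 B = 1 := by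
  haveI : Fact (Nat.Prime 2) := ⟨Nat.prime_two⟩
  set Z := Subgroup.zpowers z with hZdef
  have hZ : Z ≤ Subgroup.center G := Subgroup.zpowers_le.2 hzc
  haveI : Z.Normal := normal_of_le_center hZ
  have hZp : IsPGroup 2 Z := isPGroup_zpowers ⟨1, by rw [hz, pow_one]⟩
  have hZD : Z ≤ D := normal_pgroup_le_defectGroup hM hB Z hZp hD
  rw [← CentralQuotient.blockRank_bar Z hZ hZp hM hB]
  refine blockRank_card_two hM (CentralQuotient.isPBlock_bar Z hZ hZp hM hB)
    (CentralQuotient.defect_bar Z hZ hZp hM hB hD) ?_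
  rw [← Subgroup.relIndex_bot_left, ← Subgroup.map_bot (QuotientGroup.mk' Z), Subgroup.relIndex_map_map,
    bot_sup_eq, QuotientGroup.ker_mk', sup_eq_left.2 hZD]
  have h1 := Subgroup.card_mul_index (Z.subgroupOf D)
  rw [Nat.card_congr (Subgroup.subgroupOfEquivOfLe hZD).toEquiv, hc, Nat.card_zpowers, hz] at h1
  show (Z.subgroupOf D).index = 2
  omega

/-- The rule for two characters: impossible. -/
theorem two_impossible {a d m : ℤ} (ha : Odd a) (hd : Odd d) (ha0 : 0 ≤ a) (hd0 : 0 ≤ d)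
    (hs : a + d = 4) (hrow : a ^ 2 + m ^ 2 = 4 * a) : False := by
  obtain ⟨i, rfl⟩ := ha
  obtain ⟨j, rfl⟩ := hd
  have h1 : i = 0 ∨ i = 1 := by omega
  rcases h1 with rfl | rfl
  · have : m ^ 2 = 3 := by linarith
    have h2 : m < 2 := by nlinarith
    have h3 : -2 < m := by nlinarith
    interval_cases m <;> simp at this
  · have : m ^ 2 = 3 := by linarith
    have h2 : m < 2 := by nlinarith
    have h3 : -2 < m := by nlinarith
    interval_cases m <;> simp at this

/-- A major subsection of regular rank one in defect two: four or at most one character. -/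
theorem card_major [Fintype G] (hM : IsPModular 2 M) {u : G} {H : Subgroup G} [Fintype H]
    (hu : orderOf u = 2) (hH : Subgroup.centralizer ({u} : Set G) = H)
    {b : Set (IrrCharacter H)} {B : Set (IrrCharacter G)} (hind : IsInducedBlock M H b B)
    (hdb : blockDefect 2 b = 2) (hdB : blockDefect 2 B = 2) (hl : blockRank 2 b = 1) :
    (∀ χ ∈ B, blockHeight 2 B (χ : G → ℂ) = 0) ∧ Nat.card B ≤ 4 ∧ Nat.card B ≠ 2 ∧ Even (Nat.card B) := by
  classical
  haveI : Fact (Nat.Prime 2) := ⟨Nat.prime_two⟩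
  have hu' : ∃ k : ℕ, orderOf u = 2 ^ k := ⟨1, by rw [hu, pow_one]⟩
  have hB := hind.2.1
  have hh : ∀ χ ∈ B, blockHeight 2 B (χ : G → ℂ) = 0 := by
    intro χ hχ
    by_contra hne
    have := (height_bounds hM hB hχ (Nat.pos_of_ne_zero hne)).2
    omega
  obtain ⟨μ, hμ0, hout, htr, hrow, -⟩ := ContribTwo.exists_mu hM hu' hH hind
  set s : Finset (IrrCharacter G) := Finset.univ.filter (fun χ => χ ∈ B) with hs
  have hmem : ∀ χ, χ ∈ s ↔ χ ∈ B := fun χ => by simp [hs]
  have hk : Nat.card B = s.card := by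
    rw [← Nat.card_eq_finsetCard]
    exact Nat.card_congr (Equiv.subtypeEquivRight fun χ => (hmem χ).symm)
  have hodd : ∀ χ ∈ s, Odd (μ χ) := fun χ hχ => (hrow χ ((hmem χ).1 hχ) (hh χ ((hmem χ).1 hχ))).1
  have hsum : ∑ χ ∈ s, μ χ = 4 := by
    rw [hdb, hl] at htr
    rw [hs, Finset.sum_filter]
    refine Eq.trans (Finset.sum_congr rfl fun χ _ => ?_) htr
    split_ifs with h
    · rfl
    · exact (hout χ h).symm
  have hone : ∀ χ ∈ s, (1 : ℤ) ≤ μ χ := fun χ hχ => by
    obtain ⟨i, hi⟩ := hodd χ hχ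
    have := hμ0 χ
    omega
  refine ⟨hh, ?_, fun h2 => ?_, ?_⟩
  rotate_left 2
  · have h := congrArg (fun n : ℤ => (n : ZMod 2)) hsum
    simp only [Int.cast_sum] at h
    have h' : ∀ χ ∈ s, ((μ χ : ℤ) : ZMod 2) = 1 := fun χ hχ => by
      obtain ⟨i, hi⟩ := hodd χ hχ
      rw [hi]; push_cast
      rw [show (2 : ZMod 2) = 0 from rfl, zero_mul, zero_add]
    rw [Finset.sum_congr rfl h', Finset.sum_const, nsmul_eq_mul, mul_one] at h
    rw [hk, even_iff_two_dvd, ← ZMod.natCast_eq_zero_iff]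
    rw [h]; rfl
  · have := Finset.sum_le_sum hone
    rw [hsum, Finset.sum_const, nsmul_eq_mul, mul_one] at this
    rw [hk]; omega
  rw [hk] at h2
  obtain ⟨χ, ψ, hne, hs2⟩ := Finset.card_eq_two.1 h2
  have hχ : χ ∈ B := (hmem χ).1 (by simp [hs2])
  have hψ : ψ ∈ B := (hmem ψ).1 (by simp [hs2])
  -- the contributions are integers
  obtain ⟨n, a, z, -, -, hz, hmm⟩ := Contribution.mm_expand hM hu' hH hind.1
  have hint : ∀ θ θ', ∃ m : ℤ, Contribution.mm 2 u H b θ θ' = m := by
    intro θ θ'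
    have hz1 : ∀ η, ∃ c : ℤ, z η = c := fun η => by
      have := hz η
      rw [hu] at this
      rcases sq_eq_one_iff.1 this with h | h
      · exact ⟨1, by simp [h]⟩
      · exact ⟨-1, by simp [h]⟩
    choose c hc using hz1
    refine ⟨∑ η : IrrCharacter H, ∑ η' : IrrCharacter H,
      if η ∈ b then (if η' ∈ b then (n θ η : ℤ) * (n θ' η' : ℤ) * a η η' * (c η * c η') else 0) else 0, ?_⟩
    rw [hmm]
    push_cast
    refine Finset.sum_congr rfl fun η _ => Finset.sum_congr rfl fun η' _ => ?_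
    split_ifs <;> simp [hc]
  choose m hm using hint
  have hsym : m ψ χ = m χ ψ := by
    have := Contribution.conj_mm (p := 2) (u := u) b χ ψ
    rw [hm, hm, map_intCast] at this
    exact_mod_cast this.symm
  have hzero : ∀ θ, θ ∉ s → m χ θ = 0 := fun θ hθ => by
    have := (Contribution.mm_eq_zero hM hu' hH hind (fun h => hθ ((hmem θ).2 h)) χ).2
    rw [hm] at this
    exact_mod_cast this
  have hrowχ : m χ χ ^ 2 + m χ ψ ^ 2 = 4 * m χ χ := by
    have h := Contribution.mm_idem hM hu' hH hind.1 χ χ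
    rw [hdb] at h
    have hsum2 : ∑ θ : IrrCharacter G, m χ θ * m θ χ = m χ χ * m χ χ + m χ ψ * m ψ χ := by
      rw [← Finset.sum_subset (Finset.subset_univ s) fun θ _ hθ => by rw [hzero θ hθ, zero_mul], hs2,
        Finset.sum_pair hne]
    simp only [hm] at h
    have h' : ∑ θ : IrrCharacter G, m χ θ * m θ χ = 4 * m χ χ := by
      have : ((∑ θ : IrrCharacter G, m χ θ * m θ χ : ℤ) : ℂ) = ((4 * m χ χ : ℤ) : ℂ) := by
        push_cast
        rw [h]
        norm_num
      exact_mod_cast this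
    rw [hsum2, hsym] at h'
    linarith
  have hμm : ∀ θ ∈ s, Odd (m θ θ) ∧ 0 ≤ m θ θ := by
    intro θ hθ
    refine ⟨?_, ?_⟩
    · obtain ⟨r, -, hr, hru⟩ := Contribution.mm_red hM hu' hH hind.1
      have h1 := hru B hind θ ((hmem θ).1 hθ) θ ((hmem θ).1 hθ) (hh θ ((hmem θ).1 hθ)) (hh θ ((hmem θ).1 hθ))
      have h2 := (hr θ θ).2
      rw [hm, red_intCast] at h2
      haveI := charP_res (M := M) hM
      have h3 : ((m θ θ - r θ θ : ℤ) : Res M) = 0 := by rw [Int.cast_sub, h2, sub_self]
      have h4 := (CharP.intCast_eq_zero_iff (Res M) 2 _).1 h3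
      rw [Int.odd_iff]
      omega
    · have h := Contribution.mm_idem hM hu' hH hind.1 θ θ
      rw [hdb] at h
      simp only [hm] at h
      have h' : ∑ θ' : IrrCharacter G, m θ θ' * m θ' θ = 4 * m θ θ := by
        have : ((∑ θ' : IrrCharacter G, m θ θ' * m θ' θ : ℤ) : ℂ) = ((4 * m θ θ : ℤ) : ℂ) := by
          push_cast
          rw [h]
          norm_num
        exact_mod_cast this
      have hnn : 0 ≤ ∑ θ' : IrrCharacter G, m θ θ' * m θ' θ := Finset.sum_nonneg fun θ' _ => by
        have := Contribution.conj_mm (p := 2) (u := u) b θ θ'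
        rw [hm, hm, map_intCast] at this
        rw [show m θ' θ = m θ θ' by exact_mod_cast this.symm]
        exact mul_self_nonneg _
      linarith
  have hdiag : m χ χ + m ψ ψ = 4 := by
    have h := Contribution.mm_trace hM hu' hH hind.1 (b := b)
    rw [hdb, hl] at h
    have hz2 : ∀ θ, θ ∉ s → m θ θ = 0 := fun θ hθ => by
      have := (Contribution.mm_eq_zero hM hu' hH hind (fun h => hθ ((hmem θ).2 h)) θ).1
      rw [hm] at this
      exact_mod_cast this
    simp only [hm] at h
    have h' : ∑ θ : IrrCharacter G, m θ θ = 4 := by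
      have : ((∑ θ : IrrCharacter G, m θ θ : ℤ) : ℂ) = ((4 : ℤ) : ℂ) := by
        push_cast
        rw [h]
        norm_num
      exact_mod_cast this
    rw [← Finset.sum_subset (Finset.subset_univ s) (fun θ _ hθ => hz2 θ hθ), hs2, Finset.sum_pair hne] at h'
    exact h'
  have h1 := hμm χ (by simp [hs2])
  have h2 := hμm ψ (by simp [hs2])
  exact two_impossible h1.1 h2.1 h1.2 h2.2 hdiag hrowχ

end CfsgLib.KleinBlock
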