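import Cfsg.Agent.Blk.Principal
import Cfsg.Agent.Blk.ExcSylow
import Cfsg.Agent.Blk.Sections
import Cfsg.Agent.Blk.SylowIn
import Cfsg.Agent.Blk.ZStarBasic
import Cfsg.Agent.Solv.TransferTools

/-!
Groups with a Klein four Sylow 2-subgroup and one class of involutions: the principal 2-block.
-/

set_option autoImplicit false
set_option linter.style.haveILetI false
set_option linter.unusedSectionVars false

namespace CfsgLib.KleinFour

open Cfsg CfsgLib.Char CfsgLib.Blk
open scoped CfsgLib.Char ComplexConjugate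

universe u

variable {G : Type u} [Group G] [Finite G] (P : Sylow 2 G)
  (hP : Nat.card P = 4) (hexp : ∀ x ∈ (P : Subgroup G), x * x = 1)

include hexp in
theorem isMulComm : IsMulCommutative ↥(P : Subgroup G) :=
  ⟨⟨fun a b => by
    have hi : ∀ z : ↥(P : Subgroup G), z⁻¹ = z := fun z =>
      inv_eq_of_mul_eq_one_right (Subtype.ext (hexp z z.2))
    calc a * b = (a * b)⁻¹ := (hi _).symm
      _ = b * a := by rw [mul_inv_rev, hi, hi]⟩⟩

include hP hexp in
theorem elements {y w : G} (hy : y ∈ (P : Subgroup G)) (hw : w ∈ (P : Subgroup G)) (hy1 : y ≠ 1)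
    (hw1 : w ≠ 1) (hyw : y ≠ w) {z : G} (hz : z ∈ (P : Subgroup G)) :
    z = 1 ∨ z = y ∨ z = w ∨ z = y * w := by
  classical
  haveI := Fintype.ofFinite G
  have h3 : y * w ≠ 1 := fun h => hyw (by
    rw [mul_eq_one_iff_eq_inv] at h
    rw [h]; exact inv_eq_of_mul_eq_one_right (hexp w hw))
  have h4 : y * w ≠ y := fun h => hw1 (mul_eq_left.1 h)
  have h5 : y * w ≠ w := fun h => hy1 (mul_eq_right.1 h)
  let S : Finset G := {1, y, w, y * w}
  have hS : S.card = 4 := by
    simp [S, hy1.symm, hw1.symm, h3.symm, hyw, h4.symm, h5.symm]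
  have hsub : S ⊆ ((P : Subgroup G) : Set G).toFinset := fun a ha => by
    simp only [S, Finset.mem_insert, Finset.mem_singleton] at ha
    rw [Set.mem_toFinset]
    rcases ha with rfl | rfl | rfl | rfl
    exacts [one_mem _, hy, hw, mul_mem hy hw]
  have heq := Finset.eq_of_subset_of_card_le hsub (by
    rw [hS, Set.toFinset_card, ← Nat.card_eq_fintype_card]
    exact le_of_eq hP)
  have hzS : z ∈ S := by rw [heq, Set.mem_toFinset]; exact hz
  simpa [S] using hzS

include hexp in
/-- An element of the normalizer whose square centralizes `P` centralizes `P`. -/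
theorem centralizes_of_sq {n : G} (hn : n ∈ Subgroup.normalizer ((P : Subgroup G) : Set G))
    (h2 : n * n ∈ Subgroup.centralizer ((P : Subgroup G) : Set G)) :
    n ∈ Subgroup.centralizer ((P : Subgroup G) : Set G) := by
  have hn0 : orderOf n ≠ 0 := (orderOf_pos n).ne'
  obtain ⟨a, m, hm, he⟩ := Nat.exists_eq_two_pow_mul_odd hn0
  obtain ⟨k, rfl⟩ := hm
  have hpm : n ^ (2 * k + 1) ∈ (P : Subgroup G) := by
    have hz : (n ^ (2 * k + 1)) ^ 2 ^ a = 1 := by
      rw [← pow_mul, mul_comm, ← he, pow_orderOf_eq_one]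
    obtain ⟨j, -, hj⟩ := (Nat.dvd_prime_pow Nat.prime_two).1 (orderOf_dvd_of_pow_eq_one hz)
    have hZ : IsPGroup 2 (Subgroup.zpowers (n ^ (2 * k + 1))) :=
      IsPGroup.of_card (n := j) (by rw [Nat.card_zpowers, hj])
    have : n ^ (2 * k + 1) ∈ Subgroup.zpowers (n ^ (2 * k + 1)) ⊓
        Subgroup.normalizer ((P : Subgroup G) : Set G) :=
      ⟨Subgroup.mem_zpowers _, pow_mem hn _⟩
    exact ((hZ.inf_normalizer_sylow P).le this).2
  have hC : n ^ (2 * k + 1) ∈ Subgroup.centralizer ((P : Subgroup G) : Set G) :=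
    fun w hw => congrArg Subtype.val
      ((isMulComm P hexp).is_comm.comm (⟨w, hw⟩ : ↥(P : Subgroup G)) ⟨_, hpm⟩)
  rw [pow_succ, pow_mul, pow_two] at hC
  exact (Subgroup.mul_mem_cancel_left _ (pow_mem h2 k)).1 hC

include hP hexp in
theorem frob {y : G} (hy : y ∈ (P : Subgroup G)) (hy1 : y ≠ 1) :
    Subgroup.centralizer ({y} : Set G) ⊓ Subgroup.normalizer ((P : Subgroup G) : Set G) =
      Subgroup.centralizer ((P : Subgroup G) : Set G) := by
  refine le_antisymm ?_ (le_inf ?_ ?_)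
  · rintro n ⟨hny, hn⟩
    have hny : n * y = y * n := Subgroup.mem_centralizer_singleton_iff.1 hny
    have hfy : n * y * n⁻¹ = y := by rw [hny, mul_inv_cancel_right]
    refine centralizes_of_sq P hexp hn fun w hw => ?_
    by_cases hw1 : w = 1
    · simp [hw1]
    by_cases hwy : y = w
    · subst hwy
      rw [← mul_assoc, ← hny, mul_assoc n y n, ← hny, ← mul_assoc]
    have hnw := (Subgroup.mem_normalizer_iff.1 hn w).1 hw
    have hcw : n * (n * w * n⁻¹) * n⁻¹ = w := by
      rcases elements P hP hexp hy hw hy1 hw1 hwy hnw with h | h | h | h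
      · exact absurd (conj_eq_one_iff.1 h) hw1
      · exact absurd (conj_injective (h.trans hfy.symm)).symm hwy
      · rw [h, h]
      · rw [h, show n * (y * w) * n⁻¹ = n * y * n⁻¹ * (n * w * n⁻¹) by group, hfy, h, ← mul_assoc, hexp y hy, one_mul]
    calc w * (n * n) = n * (n * w * n⁻¹) * n⁻¹ * (n * n) := by rw [hcw]
      _ = n * n * w := by group
  · intro n hn
    exact Subgroup.mem_centralizer_singleton_iff.2 (hn y hy).symm
  · intro n hn
    refine Subgroup.mem_normalizer_iff.2 fun w => ⟨fun hw => ?_, fun hw => ?_⟩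
    · rwa [← hn w hw, mul_inv_cancel_right]
    · have h : n * w * n⁻¹ * n = n * (n * w * n⁻¹) := hn _ hw
      rw [show w = n⁻¹ * (n * w * n⁻¹ * n) by group, h, inv_mul_cancel_left]
      exact hw

include hP hexp in
theorem exists_compl {y : G} (hy : y ∈ (P : Subgroup G)) (hy1 : y ≠ 1) :
    ∃ N : Subgroup ↥(Subgroup.centralizer ({y} : Set G)), N.Normal ∧ ¬ 2 ∣ Nat.card N ∧
      N.index = 4 := by
  haveI : Fact (Nat.Prime 2) := ⟨Nat.prime_two⟩
  obtain ⟨N, h1, h2, h3⟩ := Exc.exists_complement P (isMulComm P hexp)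
    (fun z hz hz1 => frob P hP hexp hz hz1) hy hy1
  exact ⟨N, h1, h2, h3.trans hP⟩

theorem orderOf_eq_two_iff' {z : G} : orderOf z = 2 ↔ z * z = 1 ∧ z ≠ 1 := by
  haveI : Fact (Nat.Prime 2) := ⟨Nat.prime_two⟩
  rw [orderOf_eq_prime_iff, pow_two]

include hP hexp in
/-- Without a normal 2-complement there is one class of involutions. -/
theorem one_class (hnc : ¬ Cfsg.HasNormalPComplement 2 G) (s t : G) (hs : orderOf s = 2)
    (ht : orderOf t = 2) : IsConj s t := by
  haveI : Fact (Nat.Prime 2) := ⟨Nat.prime_two⟩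
  obtain ⟨n, hn, hnC⟩ : ∃ n, n ∈ Subgroup.normalizer ((P : Subgroup G) : Set G) ∧
      n ∉ Subgroup.centralizer ((P : Subgroup G) : Set G) := by
    by_contra h
    push Not at h
    exact hnc (CfsgLib.Solv.hnpc_of_normalizer_le_centralizer P fun n hn => h n hn)
  have key : ∀ y ∈ (P : Subgroup G), ∀ w ∈ (P : Subgroup G), y ≠ 1 → w ≠ 1 → IsConj y w := by
    intro y hy w hw hy1 hw1
    set a := n * y * n⁻¹ with ha
    have haP : a ∈ (P : Subgroup G) := (Subgroup.mem_normalizer_iff.1 hn y).1 hy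
    set b := n * a * n⁻¹ with hb
    have hbP : b ∈ (P : Subgroup G) := (Subgroup.mem_normalizer_iff.1 hn a).1 haP
    have ha1 : a ≠ 1 := fun h => hy1 (conj_eq_one_iff.1 h)
    have hb1 : b ≠ 1 := fun h => ha1 (conj_eq_one_iff.1 h)
    have hay : y ≠ a := fun h => hnC ((frob P hP hexp hy hy1).le
      ⟨Subgroup.mem_centralizer_singleton_iff.2 (mul_inv_eq_iff_eq_mul.1 h.symm), hn⟩)
    have hba : b ≠ a := fun h => hay (conj_injective (h.trans ha)).symm
    have hby : b ≠ y := fun h => by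
      refine hnC (centralizes_of_sq P hexp hn ((frob P hP hexp hy hy1).le
        ⟨Subgroup.mem_centralizer_singleton_iff.2 ?_, mul_mem hn hn⟩))
      conv_rhs => rw [← h, hb, ha]
      group
    have hya : IsConj y a := isConj_iff.2 ⟨n, rfl⟩
    have hyb : IsConj y b := hya.trans (isConj_iff.2 ⟨n, rfl⟩)
    rcases elements P hP hexp hy haP hy1 ha1 hay hw with h | h | h | h
    · exact absurd h hw1
    · exact h ▸ IsConj.refl _
    · exact h ▸ hya
    · rcases elements P hP hexp hy haP hy1 ha1 hay hbP with h' | h' | h' | h'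
      · exact absurd h' hb1
      · exact absurd h' hby
      · exact absurd h' hba
      · exact h.trans h'.symm ▸ hyb
  have hpush : ∀ z : G, orderOf z = 2 → ∃ w ∈ (P : Subgroup G), w ≠ 1 ∧ IsConj z w := by
    intro z hz
    have hZ : IsPGroup 2 (Subgroup.zpowers z) :=
      IsPGroup.of_card (n := 1) (by rw [Nat.card_zpowers, hz, pow_one])
    obtain ⟨Q, hQ⟩ := hZ.exists_le_sylow
    obtain ⟨g, hg⟩ := MulAction.exists_smul_eq G Q P
    have hz1 : z ≠ 1 := (orderOf_eq_two_iff'.1 hz).2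
    refine ⟨g * z * g⁻¹, ?_, fun h => hz1 (conj_eq_one_iff.1 h), isConj_iff.2 ⟨g, rfl⟩⟩
    rw [← hg]
    exact Subgroup.smul_mem_pointwise_smul z (MulAut.conj g) _ (hQ (Subgroup.mem_zpowers z))
  obtain ⟨v, hv, hv1, hsv⟩ := hpush s hs
  obtain ⟨w, hw, hw1, htw⟩ := hpush t ht
  exact hsv.trans ((key v hv w hw hv1 hw1).trans htw.symm)

variable (hone : ∀ s t : G, orderOf s = 2 → orderOf t = 2 → IsConj s t) {M : Ideal AlgInt}
  (hM : IsPModular 2 M) {J : G} (hJ : J ∈ (P : Subgroup G)) (hJ2 : orderOf J = 2)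

include hP hexp hM hJ hJ2 in
theorem apply_mul {χ : IrrCharacter G} (hχ : χ ∈ principalBlock M G) {v : G}
    (hv : v * J = J * v) (hreg : ¬ 2 ∣ orderOf v) : (χ : G → ℂ) (J * v) = (χ : G → ℂ) J := by
  haveI : M.IsMaximal := hM.2.1
  haveI : Fact (Nat.Prime 2) := ⟨Nat.prime_two⟩
  obtain ⟨N, hNn, hN, hidx⟩ := exists_compl P hP hexp hJ (orderOf_eq_two_iff'.1 hJ2).2
  haveI := hNn
  have hvC : v ∈ Subgroup.centralizer ({J} : Set G) := Subgroup.mem_centralizer_singleton_iff.2 hv
  exact principal_apply_mul_eq hM ⟨1, by rw [hJ2, pow_one]⟩ N hN (v := ⟨v, hvC⟩)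
    ((regular_iff_mem_complement N hN ⟨2, hidx⟩ _).1 (by rwa [Subgroup.orderOf_mk])) hχ

include hP hexp hM hJ hJ2 in
theorem sum_sq [Fintype (IrrCharacter G)] [DecidablePred (· ∈ principalBlock M G)] :
    ∑ χ : IrrCharacter G, (if χ ∈ principalBlock M G then
      (χ : G → ℂ) J * conj ((χ : G → ℂ) J) else 0) = 4 := by
  haveI : M.IsMaximal := hM.2.1
  haveI : Fact (Nat.Prime 2) := ⟨Nat.prime_two⟩
  obtain ⟨N, hNn, hN, hidx⟩ := exists_compl P hP hexp hJ (orderOf_eq_two_iff'.1 hJ2).2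
  haveI := hNn
  have h := principal_column_sum (z := J) hM ⟨1, by rw [hJ2, pow_one]⟩ _ rfl N hN ⟨2, hidx⟩
  rw [hidx] at h
  norm_num at h
  convert h using 2
  exact Finset.ext fun _ => iff_of_true (@Finset.mem_univ _ (_) _) (@Finset.mem_univ _ (_) _)

include hP hM hJ hJ2 in
theorem apply_ne_zero {χ : IrrCharacter G} (hχ : χ ∈ principalBlock M G)
    (hab : IsMulCommutative ↥(P : Subgroup G)) : (χ : G → ℂ) J ≠ 0 := by
  haveI : M.IsMaximal := hM.2.1
  haveI : Fact (Nat.Prime 2) := ⟨Nat.prime_two⟩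
  intro h0
  have h := mem_blockOf.1 hχ J
  simp only [centralChar, h0, mul_zero, zero_div, zero_sub, sub_zero, mul_one, div_one] at h
  have h1 : MemLocalIdeal M ((Subgroup.centralizer ({J} : Set G)).index : ℂ) := by
    simpa using h
  rw [natCast_memLocalIdeal_iff hM] at h1
  refine P.not_dvd_index (h1.trans (Subgroup.index_dvd_of_le fun w hw => ?_))
  exact Subgroup.mem_centralizer_singleton_iff.2
    (congrArg Subtype.val (hab.is_comm.comm (⟨w, hw⟩ : ↥(P : Subgroup G)) ⟨J, hJ⟩))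

include hP hexp hM hJ hJ2 in
theorem card_block :
    (∀ χ ∈ principalBlock M G, (χ : G → ℂ) J = 1 ∨ (χ : G → ℂ) J = -1) ∧
      Nat.card (principalBlock M G) = 4 := by
  classical
  haveI := Fintype.ofFinite G
  haveI : M.IsMaximal := hM.2.1
  have hJJ : J * J = 1 := (orderOf_eq_two_iff'.1 hJ2).1
  choose ε hε using fun χ : IrrCharacter G => char_apply_int_of_sq (isCharacter_of_isIrr χ.2) hJJ
  have hs := sum_sq P hP hexp hM hJ hJ2
  simp only [hε, map_intCast] at hs
  have hs' : ∑ χ ∈ Finset.univ.filter (· ∈ principalBlock M G), ε χ * ε χ = 4 := by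
    rw [← Finset.sum_filter] at hs
    exact_mod_cast hs
  set S := Finset.univ.filter (· ∈ principalBlock M G) with hS
  have hpos : ∀ χ ∈ S, 1 ≤ ε χ * ε χ := fun χ hχ => by
    have hne : ε χ ≠ 0 := fun h => apply_ne_zero P hP hM hJ hJ2 (Finset.mem_filter.1 hχ).2
      (isMulComm P hexp) (by rw [hε, h, Int.cast_zero])
    have := mul_self_pos.2 hne
    omega
  let T : IrrCharacter G := ⟨fun _ => 1, isIrr_one⟩
  have hT : T ∈ S := Finset.mem_filter.2 ⟨Finset.mem_univ _, one_mem_principalBlock⟩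
  have hT1 : ε T = 1 := by
    exact Int.cast_injective (α := ℂ) (by rw [← hε T, Int.cast_one])
  have hunit : ∀ χ ∈ S, ε χ = 1 ∨ ε χ = -1 := by
    intro χ hχ
    by_cases hχT : χ = T
    · exact Or.inl (hχT ▸ hT1)
    have hle : ∑ x ∈ ({χ, T} : Finset (IrrCharacter G)), ε x * ε x ≤ 4 := by
      rw [← hs']
      refine Finset.sum_le_sum_of_subset_of_nonneg ?_ fun i _ _ => mul_self_nonneg _
      simp [Finset.insert_subset_iff, hχ, hT]
    rw [Finset.sum_pair hχT, hT1] at hle
    have hub : -1 ≤ ε χ ∧ ε χ ≤ 1 := by constructor <;> nlinarith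
    have hne := hpos χ hχ
    rcases lt_trichotomy (ε χ) 0 with h | h | h
    · exact Or.inr (by omega)
    · rw [h] at hne; omega
    · exact Or.inl (by omega)
  refine ⟨fun χ hχ => ?_, ?_⟩
  · rcases hunit χ (Finset.mem_filter.2 ⟨Finset.mem_univ _, hχ⟩) with h | h <;> simp [hε, h]
  · rw [Finset.sum_congr rfl fun χ hχ => show ε χ * ε χ = 1 by
      rcases hunit χ hχ with h | h <;> simp [h]] at hs'
    rw [Finset.sum_const, nsmul_eq_mul, mul_one] at hs'
    rw [Nat.card_eq_fintype_card, Fintype.card_subtype]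
    exact_mod_cast hs'

include hexp hone hJ hJ2 in
/-- The 2-part of an element is 1 or a conjugate of `J`. -/
theorem ppart_cases {g z : G} (hz : IsPPart 2 g z) : z = 1 ∨ IsConj J z := by
  haveI : Fact (Nat.Prime 2) := ⟨Nat.prime_two⟩
  obtain ⟨v, -, -, ⟨k, hk⟩, -⟩ := hz
  obtain ⟨Q, hQ⟩ := (IsPGroup.of_card (n := k) (by rw [Nat.card_zpowers, hk]) :
    IsPGroup 2 (Subgroup.zpowers z)).exists_le_sylow
  obtain ⟨a, ha⟩ := MulAction.exists_smul_eq G Q P
  by_cases hz1 : z = 1
  · exact Or.inl hz1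
  have hm : a * z * a⁻¹ ∈ (P : Subgroup G) := by
    rw [← ha]
    exact Subgroup.smul_mem_pointwise_smul z (MulAut.conj a) _ (hQ (Subgroup.mem_zpowers z))
  refine Or.inr ((hone J _ hJ2 (orderOf_eq_two_iff'.2
    ⟨hexp _ hm, fun h => hz1 (conj_eq_one_iff.1 h)⟩)).trans ?_)
  exact (isConj_iff.2 ⟨a, rfl⟩ : IsConj z _).symm

/-- The hypotheses of the Klein four situation from the order. -/
theorem setup {g₀ : ℕ} (hg₀ : Odd g₀) (hG : Nat.card G = 4 * g₀)
    (hnc : ¬ ∃ N : Subgroup G, N.Normal ∧ Nat.card N = g₀) :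
    Nat.card P = 4 ∧ (∀ x ∈ (P : Subgroup G), x * x = 1) ∧
      ∀ s t : G, orderOf s = 2 → orderOf t = 2 → IsConj s t := by
  haveI : Fact (Nat.Prime 2) := ⟨Nat.prime_two⟩
  have hg : ¬ 2 ∣ g₀ := hg₀.not_two_dvd_nat
  have hf : (Nat.card G).factorization 2 = 2 := by
    rw [hG, Nat.factorization_mul (by norm_num) hg₀.pos.ne',
      show (4 : ℕ) = 2 ^ 2 by norm_num, Nat.Prime.factorization_pow Nat.prime_two,
      Finsupp.add_apply, Finsupp.single_eq_same, Nat.factorization_eq_zero_of_not_dvd hg, add_zero]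
  have hP : Nat.card P = 4 := by
    rw [P.card_eq_multiplicity, hf]
    norm_num
  have hnc' : ¬ Cfsg.HasNormalPComplement 2 G := by
    rintro ⟨S, N, hN, hNS⟩
    refine hnc ⟨N, hN, ?_⟩
    have h := hNS.card_mul
    rw [S.card_eq_multiplicity, hf, hG] at h
    norm_num at h
    omega
  have hexp : ∀ x ∈ (P : Subgroup G), x * x = 1 := by
    intro x hx
    by_contra h
    have hd : orderOf (⟨x, hx⟩ : ↥(P : Subgroup G)) ∣ 2 ^ 2 := by
      have := orderOf_dvd_natCard (⟨x, hx⟩ : ↥(P : Subgroup G))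
      rwa [hP] at this
    obtain ⟨i, hi, he⟩ := (Nat.dvd_prime_pow Nat.prime_two).1 hd
    rw [Subgroup.orderOf_mk] at he
    have hx4 : orderOf (⟨x, hx⟩ : ↥(P : Subgroup G)) = Nat.card P := by
      rw [Subgroup.orderOf_mk, hP, he]
      interval_cases i
      · rw [pow_zero, orderOf_eq_one_iff] at he
        exact absurd (by rw [he, one_mul]) h
      · rw [pow_one] at he
        exact absurd (orderOf_eq_two_iff'.1 he).1 h
      · norm_num
    obtain ⟨N, hN, -, hidx, -⟩ := exists_complement_of_cyclic_sylow P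
      (isCyclic_of_orderOf_eq_card _ hx4) ⟨2 * g₀, by rw [hG]; ring⟩
    refine hnc ⟨N, hN, ?_⟩
    have h' := N.index_mul_card
    rw [hidx, hP, hG] at h'
    omega
  exact ⟨hP, hexp, fun s t => one_class P hP hexp hnc' s t⟩

include hP hexp hone hM hJ hJ2 in
/-- The order formula of the principal block. -/
theorem order_formula [Fintype (IrrCharacter G)] [DecidablePred (· ∈ principalBlock M G)] :
    (Nat.card G : ℂ) * (∑ χ : IrrCharacter G, if χ ∈ principalBlock M G then
        (χ : G → ℂ) J * (χ : G → ℂ) J * (χ : G → ℂ) J / (χ : G → ℂ) 1 else 0) *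
      (Nat.card (Subgroup.centralizer ((P : Subgroup G) : Set G)) : ℂ) ^ 2 =
      8 * (Nat.card (Subgroup.centralizer ({J} : Set G)) : ℂ) ^ 3 := by
  classical
  haveI := Fintype.ofFinite G
  haveI : M.IsMaximal := hM.2.1
  haveI : Fact (Nat.Prime 2) := ⟨Nat.prime_two⟩
  obtain ⟨hJJ, hJ1⟩ := orderOf_eq_two_iff'.1 hJ2
  have hab := isMulComm P hexp
  set C := Subgroup.centralizer ({J} : Set G) with hC
  let K := Finset.univ.filter fun s : G => IsConj J s
  have hK : (K.card : ℂ) = (C.index : ℂ) := by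
    rw [Nat.cast_inj, ← card_isConj, Nat.card_eq_fintype_card, Fintype.card_subtype]
  let F : G → ℂ := fun g => ∑ χ : IrrCharacter G,
    if χ ∈ principalBlock M G then (χ : G → ℂ) g * (χ : G → ℂ) J else 0
  -- first evaluation
  have hT : ∑ a ∈ K, ∑ b ∈ K, F (a * b) = (C.index : ℂ) ^ 2 *
      ∑ χ : IrrCharacter G, if χ ∈ principalBlock M G then
        (χ : G → ℂ) J * (χ : G → ℂ) J * (χ : G → ℂ) J / (χ : G → ℂ) 1 else 0 := by
    rw [Finset.sum_comm, Finset.mul_sum]
    simp only [F]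
    simp only [fun b => Finset.sum_comm (s := K) (t := (Finset.univ : Finset (IrrCharacter G)))
      (f := fun a χ => if χ ∈ principalBlock M G then (χ : G → ℂ) (a * b) * (χ : G → ℂ) J else 0)]
    rw [Finset.sum_comm]
    refine Finset.sum_congr rfl fun χ _ => ?_
    by_cases hχ : χ ∈ principalBlock M G
    · simp only [if_pos hχ, ← Finset.sum_mul]
      have h1 : ∀ b : G, ∑ a ∈ K, (χ : G → ℂ) (a * b) =
          (C.index : ℂ) * (χ : G → ℂ) J * (χ : G → ℂ) b / (χ : G → ℂ) 1 := fun b => by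
        rw [Finset.sum_filter]; exact sum_class_translate χ.2 J b
      simp only [h1]
      rw [← Finset.sum_div, ← Finset.mul_sum, Finset.sum_congr rfl (g := fun _ => (χ : G → ℂ) J)
        fun b hb => (classFun_isConj (classFun_of_irr χ.2) (Finset.mem_filter.1 hb).2).symm,
        Finset.sum_const, nsmul_eq_mul, hK]
      ring
    · simp [hχ]
  -- values
  have hF : ∀ g : G, F g = if IsConj J (ppOf 2 g) then 4 else 0 := by
    intro g
    have hreal : ∀ χ : IrrCharacter G, conj ((χ : G → ℂ) J) = (χ : G → ℂ) J := fun χ => by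
      rw [← char_conj_eq (isCharacter_of_isIrr χ.2), inv_eq_of_mul_eq_one_right hJJ]
    obtain ⟨v, hv, hvc, -, hvr⟩ := ppOf_spec (p := 2) g
    split_ifs with hg
    · obtain ⟨c, hc⟩ := isConj_iff.1 hg.symm
      rw [← sum_sq P hP hexp hM hJ hJ2]
      refine Finset.sum_congr rfl fun χ _ => ?_
      split_ifs with hχ
      · have h1 : c * g * c⁻¹ = J * (c * v * c⁻¹) := by
          conv_lhs => rw [← hv]
          rw [← hc]; group
        rw [← classFun_of_irr χ.2 g c, h1, hreal, apply_mul P hP hexp hM hJ hJ2 hχ ?_ ?_]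
        · rw [← hc]
          calc c * v * c⁻¹ * (c * ppOf 2 g * c⁻¹) = c * (v * ppOf 2 g) * c⁻¹ := by group
            _ = _ := by rw [← hvc.eq]; group
        · rwa [← orderOf_injective (MulAut.conj c).toMonoidHom (MulEquiv.injective _) v] at hvr
      · rfl
    · have h := block_orth (a := g) (b := J) hM (isPBlock_principalBlock (M := M) (G := G))
        (ppOf_spec (p := 2) g) (isPPart_self ⟨1, by rw [hJ2, pow_one]⟩ Nat.prime_two) fun h => hg h.symm
      rw [finsum_mem_eq_sum_ite] at h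
      rw [← h]
      refine Finset.sum_congr rfl fun χ _ => ?_
      split_ifs <;> simp [hreal]
  -- the pairs with product in the section of J
  let D := (K ×ˢ K).filter fun q : G × G => ppOf 2 (q.1 * q.2) = J
  have hT2 : ∑ a ∈ K, ∑ b ∈ K, F (a * b) = 4 * ((C.index : ℂ) * (D.card : ℂ)) := by
    simp only [hF]
    rw [← Finset.sum_product' (f := fun a b => if IsConj J (ppOf 2 (a * b)) then (4 : ℂ) else 0),
      ← Finset.sum_filter, Finset.sum_const, nsmul_eq_mul, mul_comm, ← hK]
    congr 1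
    rw [← Nat.cast_mul, Nat.cast_inj]
    have hfib := Finset.card_eq_sum_card_fiberwise
      (s := (K ×ˢ K).filter fun q : G × G => IsConj J (ppOf 2 (q.1 * q.2))) (t := K)
      (f := fun q => ppOf 2 (q.1 * q.2))
      (fun q hq => Finset.mem_filter.2 ⟨Finset.mem_univ _, (Finset.mem_filter.1 hq).2⟩)
    rw [hfib, Finset.sum_congr rfl (g := fun _ => D.card), Finset.sum_const, smul_eq_mul]
    intro s hs
    obtain ⟨c, hc⟩ := isConj_iff.1 (Finset.mem_filter.1 hs).2
    rw [Finset.filter_filter]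
    symm
    refine Finset.card_bij (fun q _ => (c * q.1 * c⁻¹, c * q.2 * c⁻¹)) ?_ ?_ ?_
    · intro q hq
      simp only [D, K, Finset.mem_filter, Finset.mem_product, Finset.mem_univ, true_and] at hq ⊢
      have e : c * q.1 * c⁻¹ * (c * q.2 * c⁻¹) = c * (q.1 * q.2) * c⁻¹ := by group
      refine ⟨⟨hq.1.1.trans (isConj_iff.2 ⟨c, rfl⟩), hq.1.2.trans (isConj_iff.2 ⟨c, rfl⟩)⟩, ?_⟩
      rw [e, ppOf_conj, hq.2, hc]
      exact ⟨(Finset.mem_filter.1 hs).2, rfl⟩
    · rintro ⟨a, b⟩ - ⟨a', b'⟩ - h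
      simp only [Prod.mk.injEq, mul_left_inj, mul_right_inj] at h
      simp [h.1, h.2]
    · rintro ⟨a, b⟩ hq
      refine ⟨(c⁻¹ * a * c, c⁻¹ * b * c), ?_, by simp [mul_assoc]⟩
      simp only [D, K, Finset.mem_filter, Finset.mem_product, Finset.mem_univ, true_and] at hq ⊢
      have e : c⁻¹ * a * c * (c⁻¹ * b * c) = c⁻¹ * (a * b) * c⁻¹⁻¹ := by group
      refine ⟨⟨hq.1.1.trans (isConj_iff.2 ⟨c⁻¹, by group⟩),
        hq.1.2.trans (isConj_iff.2 ⟨c⁻¹, by group⟩)⟩, ?_⟩
      rw [e, ppOf_conj, hq.2.2, ← hc]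
      group
  -- counting the pairs
  have hD : (D.card : ℂ) * (Nat.card (Subgroup.centralizer ((P : Subgroup G) : Set G)) : ℂ) ^ 2 =
      2 * (Nat.card C : ℂ) ^ 2 := by
    obtain ⟨N, hNn, hN, hidx⟩ := exists_compl P hP hexp hJ hJ1
    haveI := hNn
    have hPC : (P : Subgroup G) ≤ C := fun w hw => Subgroup.mem_centralizer_singleton_iff.2
      (congrArg Subtype.val (hab.is_comm.comm (⟨w, hw⟩ : ↥(P : Subgroup G)) ⟨J, hJ⟩))
    have hcm : ∀ a ∈ (P : Subgroup G), ∀ b ∈ (P : Subgroup G), a * b = b * a := fun a ha b hb =>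
      congrArg Subtype.val (hab.is_comm.comm (⟨a, ha⟩ : ↥(P : Subgroup G)) ⟨b, hb⟩)
    let φ : ↥(P : Subgroup G) →* C ⧸ N := (QuotientGroup.mk' N).comp (Subgroup.inclusion hPC)
    have hφ : Function.Bijective φ := by
      rw [Nat.bijective_iff_injective_and_card]
      refine ⟨?_, by rw [hP, ← hidx]; rfl⟩
      rw [injective_iff_map_eq_one]
      intro w hw
      have h1 : Subgroup.inclusion hPC w ∈ N := (QuotientGroup.eq_one_iff _).1 hw
      by_contra hne
      have hw2 : orderOf (Subgroup.inclusion hPC w) = 2 := by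
        rw [← Subgroup.orderOf_coe]
        exact orderOf_eq_two_iff'.2 ⟨hexp w w.2, fun h => hne (Subtype.ext h)⟩
      exact hN (hw2 ▸ Subgroup.orderOf_dvd_natCard N h1)
    have hqc : ∀ x y : C ⧸ N, x * y = y * x := fun x y => by
      obtain ⟨u, rfl⟩ := hφ.2 x
      obtain ⟨v, rfl⟩ := hφ.2 y
      rw [← map_mul, ← map_mul, hab.is_comm.comm u v]
    obtain ⟨w, hw, hw1, hwJ⟩ : ∃ w, w ∈ (P : Subgroup G) ∧ w ≠ 1 ∧ J ≠ w := by
      by_contra h
      push Not at h
      have hsub : ((P : Subgroup G) : Set G) ⊆ {1, J} := fun z hz => by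
        by_cases hz1 : z = 1
        · exact Or.inl hz1
        · exact Or.inr (h z hz hz1).symm
      have := Set.ncard_le_ncard hsub
      rw [Set.ncard_pair (Ne.symm hJ1)] at this
      have hP' : ((P : Subgroup G) : Set G).ncard = 4 := hP
      omega
    let A : G → Finset G := fun v => Finset.univ.filter fun a => ∃ c ∈ C, c * v * c⁻¹ = a
    have hAcl : ∀ (v a : G) (hv : v ∈ (P : Subgroup G)), a ∈ A v → ∃ ha : a ∈ C,
        (QuotientGroup.mk' N) ⟨a, ha⟩ = φ ⟨v, hv⟩ := by
      intro v a hv ha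
      obtain ⟨c, hc, rfl⟩ := (Finset.mem_filter.1 ha).2
      refine ⟨C.mul_mem (C.mul_mem hc (hPC hv)) (C.inv_mem hc), ?_⟩
      have e : (⟨_, C.mul_mem (C.mul_mem hc (hPC hv)) (C.inv_mem hc)⟩ : C) =
          ⟨c, hc⟩ * Subgroup.inclusion hPC ⟨v, hv⟩ * (⟨c, hc⟩ : C)⁻¹ := rfl
      rw [e, map_mul, map_mul, map_inv, hqc, inv_mul_cancel_left]
      rfl
    have hcardA : ∀ v ∈ (P : Subgroup G), v ≠ 1 → J ≠ v →
        (A v).card * Nat.card (Subgroup.centralizer ((P : Subgroup G) : Set G)) = Nat.card C := by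
      intro v hv hv1 hvJ
      let v' : C := ⟨v, hPC hv⟩
      have h := index_mul_card_centralizer v'
      rw [← card_isConj] at h
      rw [← h]
      congr 1
      · rw [Nat.card_eq_fintype_card, Fintype.card_subtype]
        refine Finset.card_bij' (fun a ha => ⟨a, (hAcl v a hv ha).1⟩) (fun x _ => (x : G))
          (fun a ha => ?_) (fun x hx => ?_) (fun _ _ => rfl) fun _ _ => rfl
        · obtain ⟨c, hc, e⟩ := (Finset.mem_filter.1 ha).2
          exact Finset.mem_filter.2 ⟨Finset.mem_univ _, isConj_iff.2 ⟨⟨c, hc⟩, Subtype.ext e⟩⟩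
        · obtain ⟨c, hc⟩ := isConj_iff.1 (Finset.mem_filter.1 hx).2
          exact Finset.mem_filter.2 ⟨Finset.mem_univ _, c, c.2, congrArg Subtype.val hc⟩
      · refine Nat.card_congr
          { toFun := fun x => ⟨⟨x, Subgroup.mem_centralizer_singleton_iff.2 (x.2 J hJ).symm⟩,
              Subgroup.mem_centralizer_singleton_iff.2 (Subtype.ext (x.2 v hv).symm)⟩
            invFun := fun x => ⟨x.1.1, fun z hz => ?_⟩
            left_inv := fun _ => rfl
            right_inv := fun _ => rfl }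
        have h1 : (x.1.1 : G) * J = J * x.1.1 := Subgroup.mem_centralizer_singleton_iff.1 x.1.2
        have h2 : (x.1.1 : G) * v = v * x.1.1 :=
          congrArg Subtype.val (Subgroup.mem_centralizer_singleton_iff.1 x.2)
        rcases elements P hP hexp hJ hv hJ1 hv1 hvJ hz with rfl | rfl | rfl | rfl
        · simp
        · exact h1.symm
        · exact h2.symm
        · exact ((Commute.mul_right (h1 : Commute _ _) (h2 : Commute _ _)).eq).symm
    set w' := J * w with hw'
    have hw'P : w' ∈ (P : Subgroup G) := mul_mem hJ hw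
    have hw'1 : w' ≠ 1 := fun h => hwJ (by
      rw [hw', mul_eq_one_iff_inv_eq] at h
      rw [← h, inv_eq_of_mul_eq_one_right hJJ])
    have hw'J : J ≠ w' := fun h => hw1 (mul_eq_left.1 (hw' ▸ h.symm))
    have hdis : Disjoint (A w ×ˢ A w') (A w' ×ˢ A w) := by
      rw [Finset.disjoint_left]
      rintro ⟨a, b⟩ h h'
      obtain ⟨ha, e1⟩ := hAcl w a hw (Finset.mem_product.1 h).1
      obtain ⟨_, e2⟩ := hAcl w' a hw'P (Finset.mem_product.1 h').1
      exact hJ1 (mul_eq_right.1 (congrArg Subtype.val (hφ.1 (e1.symm.trans e2))).symm)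
    have hDeq : D = (A w ×ˢ A w') ∪ (A w' ×ˢ A w) := by
      have hin : ∀ u v : G, u ∈ (P : Subgroup G) → v ∈ (P : Subgroup G) → u ≠ 1 → v ≠ 1 →
          u * v = J → ∀ a ∈ A u, ∀ b ∈ A v, (a, b) ∈ D := by
        intro u v hu hv hu1 hv1 huv a ha b hb
        obtain ⟨ca, -, rfl⟩ := (Finset.mem_filter.1 ha).2
        obtain ⟨cb, -, rfl⟩ := (Finset.mem_filter.1 hb).2
        obtain ⟨haC, e1⟩ := hAcl u _ hu ha
        obtain ⟨hbC, e2⟩ := hAcl v _ hv hb
        refine Finset.mem_filter.2 ⟨Finset.mem_product.2 ⟨?_, ?_⟩, ?_⟩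
        · exact Finset.mem_filter.2 ⟨Finset.mem_univ _,
            (hone J u hJ2 (orderOf_eq_two_iff'.2 ⟨hexp u hu, hu1⟩)).trans (isConj_iff.2 ⟨ca, rfl⟩)⟩
        · exact Finset.mem_filter.2 ⟨Finset.mem_univ _,
            (hone J v hJ2 (orderOf_eq_two_iff'.2 ⟨hexp v hv, hv1⟩)).trans (isConj_iff.2 ⟨cb, rfl⟩)⟩
        · set r : C := ⟨J, hPC hJ⟩⁻¹ * (⟨_, haC⟩ * ⟨_, hbC⟩) with hr
          have hrN : r ∈ N := by
            rw [← QuotientGroup.eq_one_iff, ← QuotientGroup.mk'_apply, hr, map_mul, map_mul,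
              map_inv, e1, e2, ← map_mul, inv_mul_eq_one]
            exact (congrArg φ (Subtype.ext huv : (⟨u, hu⟩ * ⟨v, hv⟩ : ↥(P : Subgroup G)) = ⟨J, hJ⟩)).symm
          refine ppOf_eq ⟨(r : G), ?_, ?_, ⟨1, by rw [hJ2, pow_one]⟩, ?_⟩
          · simp [hr]
          · exact (Subgroup.mem_centralizer_singleton_iff.1 r.2).symm
          · rw [Subgroup.orderOf_coe]
            exact regular_of_mem hN hrN
      refine Finset.Subset.antisymm ?_ ?_
      · rintro ⟨a, b⟩ hq
        simp only [D, K, Finset.mem_filter, Finset.mem_product, Finset.mem_univ, true_and] at hq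
        obtain ⟨⟨haK, hbK⟩, hpp⟩ := hq
        have hconj2 : ∀ z, IsConj J z → z * z = 1 ∧ z ≠ 1 := by
          rintro z hz
          obtain ⟨c, rfl⟩ := isConj_iff.1 hz
          refine ⟨?_, fun h => hJ1 (conj_eq_one_iff.1 h)⟩
          rw [show c * J * c⁻¹ * (c * J * c⁻¹) = c * (J * J) * c⁻¹ by group, hJJ]
          group
        obtain ⟨haa, ha1⟩ := hconj2 a haK
        obtain ⟨hbb, hb1⟩ := hconj2 b hbK
        obtain ⟨r, hr, hrc, -, hrr⟩ := hpp ▸ ppOf_spec (p := 2) (a * b)
        obtain ⟨i, hi⟩ : J ∈ Subgroup.zpowers (a * b) :=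
          isPPart_mem_zpowers Nat.prime_two (hpp ▸ ppOf_spec (p := 2) (a * b))
        have haC : a ∈ C := by
          rw [hC, Subgroup.mem_centralizer_singleton_iff]
          have h1 : a * (a * b) * a⁻¹ = (a * b)⁻¹ := by
            rw [mul_inv_rev, inv_eq_of_mul_eq_one_right haa, inv_eq_of_mul_eq_one_right hbb,
              ← mul_assoc a a b, haa, one_mul]
          have h2 : a * J * a⁻¹ = J := by
            change (a * b) ^ i = J at hi
            rw [← hi, ← conj_zpow, h1, inv_zpow, hi]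
            exact inv_eq_of_mul_eq_one_right hJJ
          exact mul_inv_eq_iff_eq_mul.1 h2
        have hrC : r ∈ C := Subgroup.mem_centralizer_singleton_iff.2 hrc.symm
        have hbC : b ∈ C := by
          have : b = a * (J * r) := by rw [hr, ← mul_assoc, haa, one_mul]
          rw [this]
          exact C.mul_mem haC (C.mul_mem (hPC hJ) hrC)
        have hS : IsSylowIn 2 (P : Subgroup G) C := by
          refine ⟨hPC, ?_⟩
          have h := N.index_mul_card
          rw [hidx] at h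
          rw [← h, hP, Nat.factorization_mul (by norm_num) Nat.card_pos.ne',
            show (4 : ℕ) = 2 ^ 2 by norm_num, Nat.Prime.factorization_pow Nat.prime_two,
            Finsupp.add_apply, Finsupp.single_eq_same, Nat.factorization_eq_zero_of_not_dvd hN]
        have hcls : ∀ z : G, z ∈ C → z * z = 1 → z ≠ 1 →
            ∃ u, u ∈ (P : Subgroup G) ∧ u ≠ 1 ∧ z ∈ A u := by
          intro z hz hzz hz1
          have hZ : IsPGroup 2 (Subgroup.zpowers z) :=
            IsPGroup.of_card (n := 1)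
              (by rw [Nat.card_zpowers, orderOf_eq_two_iff'.2 ⟨hzz, hz1⟩, pow_one])
          obtain ⟨x, hx, hle⟩ := hS.exists_conj_le hZ (Subgroup.zpowers_le.2 hz)
          have hmem : x * z * x⁻¹ ∈ (P : Subgroup G) :=
            hle ⟨z, Subgroup.mem_zpowers z, by simp⟩
          exact ⟨_, hmem, fun h => hz1 (conj_eq_one_iff.1 h),
            Finset.mem_filter.2 ⟨Finset.mem_univ _, x⁻¹, C.inv_mem hx, by group⟩⟩
        obtain ⟨u, hu, hu1, hau⟩ := hcls a haC haa ha1
        obtain ⟨v, hv, hv1, hbv⟩ := hcls b hbC hbb hb1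
        obtain ⟨_, e1⟩ := hAcl u a hu hau
        obtain ⟨_, e2⟩ := hAcl v b hv hbv
        have huv : u * v = J := by
          have : φ (⟨u, hu⟩ * ⟨v, hv⟩) = φ ⟨J, hJ⟩ := by
            rw [map_mul, ← e1, ← e2, ← map_mul]
            refine ((QuotientGroup.mk'_eq_mk' N).2 ⟨⟨r, hrC⟩, ?_, ?_⟩).symm
            · exact (regular_iff_mem_complement N hN ⟨2, hidx⟩ _).1 (by rwa [Subgroup.orderOf_mk])
            · exact Subtype.ext hr
          exact congrArg Subtype.val (hφ.1 this)
        rw [Finset.mem_union, Finset.mem_product, Finset.mem_product]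
        rcases elements P hP hexp hJ hw hJ1 hw1 hwJ hu with rfl | rfl | rfl | rfl
        · exact absurd rfl hu1
        · exact absurd (mul_eq_left.1 huv) hv1
        · refine Or.inl ⟨hau, ?_⟩
          have : v = w' := by
            rw [hw', ← huv, mul_assoc, hcm v hv u hu]
            simp [← mul_assoc, hexp u hu]
          exact this ▸ hbv
        · refine Or.inr ⟨hau, ?_⟩
          have hwv : w * v = 1 := mul_eq_left.1 ((mul_assoc J w v).symm.trans huv)
          have : v = w := by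
            rw [mul_eq_one_iff_inv_eq, inv_eq_of_mul_eq_one_right (hexp w hw)] at hwv
            exact hwv.symm
          exact this ▸ hbv
      · intro q hq
        rcases Finset.mem_union.1 hq with h | h
        · exact hin w w' hw hw'P hw1 hw'1 (by
            rw [hw', ← mul_assoc, hcm w hw J hJ, mul_assoc, hexp w hw, mul_one])
            _ (Finset.mem_product.1 h).1 _ (Finset.mem_product.1 h).2
        · exact hin w' w hw'P hw hw'1 hw1 (by rw [hw', mul_assoc, hexp w hw, mul_one])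
            _ (Finset.mem_product.1 h).1 _ (Finset.mem_product.1 h).2
    rw [hDeq, Finset.card_union_of_disjoint hdis, Finset.card_product, Finset.card_product]
    have e1 := hcardA w hw hw1 hwJ
    have e2 := hcardA w' hw'P hw'1 hw'J
    calc _ = 2 * ((((A w).card * Nat.card (Subgroup.centralizer ((P : Subgroup G) : Set G))) : ℕ) : ℂ) *
          ((((A w').card * Nat.card (Subgroup.centralizer ((P : Subgroup G) : Set G))) : ℕ) : ℂ) := by
            push_cast; ring
      _ = _ := by rw [e1, e2]; ring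
  -- conclusion
  rw [hT] at hT2
  have hi0 : (C.index : ℂ) ≠ 0 := Nat.cast_ne_zero.2 Subgroup.index_ne_zero_of_finite
  set S := ∑ χ : IrrCharacter G, (if χ ∈ principalBlock M G then
      (χ : G → ℂ) J * (χ : G → ℂ) J * (χ : G → ℂ) J / (χ : G → ℂ) 1 else 0)
  have h3 : (C.index : ℂ) * S = 4 * (D.card : ℂ) :=
    mul_left_cancel₀ hi0 (by linear_combination hT2)
  have hGC : (Nat.card G : ℂ) = (C.index : ℂ) * (Nat.card C : ℂ) := by
    rw [← Nat.cast_mul, C.index_mul_card]
  rw [hGC]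
  linear_combination ((Nat.card C : ℂ) *
    (Nat.card (Subgroup.centralizer ((P : Subgroup G) : Set G)) : ℂ) ^ 2) * h3 +
    (4 * (Nat.card C : ℂ)) * hD

end CfsgLib.KleinFour
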