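import Cfsg.Agent.Blk.KleinMain
import Cfsg.Agent.Blk.PiKer
import Cfsg.Agent.Blk.RegExpand

/-!
Character values of a 2-block with Klein four defect group, and perfect isometries between two
such blocks with the same inertial index.
-/

set_option autoImplicit false
set_option linter.style.haveILetI false
set_option linter.unusedSectionVars false

namespace CfsgLib.KleinIsometry

open Cfsg CfsgLib.Char CfsgLib.Blk CfsgLib.Blk.Pair CfsgLib.SectionSplit CfsgLib.SubsectionPairs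
open scoped CfsgLib.Char ComplexConjugate

universe u v

variable {G : Type u} [Group G] [Finite G] {M : Ideal AlgInt} [M.IsMaximal]

theorem isKleinFour_of_equiv {A : Type*} [Group A] {A' : Type*} [Group A'] (e : A ≃* A')
    (h : IsKleinFour A) : IsKleinFour A' :=
  ⟨by rw [← Nat.card_congr e.toEquiv]; exact h.card_four,
    by rw [← Monoid.exponent_eq_of_mulEquiv e]; exact h.exponent_two⟩

/-- A function of the local character ring vanishing on singular elements is divisible, at a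
regular element, by the order of its centralizer. -/
theorem div_centralizer_mem (hM : IsPModular 2 M) {F : G → ℂ} (hF : F ∈ locChar M G)
    (hvan : ∀ y, 2 ∣ orderOf y → F y = 0) {g : G} (hg : ¬ 2 ∣ orderOf g) :
    F g / (Nat.card (Subgroup.centralizer ({g} : Set G)) : ℂ) ∈ locRing M := by
  haveI : Fact (Nat.Prime 2) := ⟨Nat.prime_two⟩
  let S : Sylow 2 (Subgroup.centralizer ({g} : Set G)) := default
  let P : Subgroup G := (S : Subgroup (Subgroup.centralizer ({g} : Set G))).map (Subgroup.subtype _)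
  have hP : IsPGroup 2 P := S.isPGroup'.map _
  have hPC : P ≤ Subgroup.centralizer ({g} : Set G) := Subgroup.map_subtype_le _
  have h := avg_regular_mem hF hP hPC fun w hw hw1 => hvan _ (by
    obtain ⟨k, hk⟩ := IsPGroup.iff_orderOf.1 hP ⟨w, hw⟩
    rw [Subgroup.orderOf_mk] at hk
    have hcop : (orderOf g).Coprime (orderOf w) := by
      rw [hk]; exact Nat.Coprime.pow_right _ ((Nat.prime_two.coprime_iff_not_dvd.2 hg).symm)
    have hcm : Commute g w := (Subgroup.mem_centralizer_singleton_iff.1 (hPC hw)).symm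
    rw [hcm.orderOf_mul_eq_mul_orderOf_of_coprime hcop, hk]
    refine Dvd.dvd.mul_left (dvd_pow_self 2 fun h0 => hw1 ?_) _
    rwa [h0, pow_zero, orderOf_eq_one_iff] at hk)
  have hcard := (S : Subgroup (Subgroup.centralizer ({g} : Set G))).card_mul_index
  rw [← Subgroup.card_map_of_injective (Subgroup.subtype_injective _)] at hcard
  rw [← hcard, Nat.cast_mul, div_eq_mul_inv, mul_inv, ← mul_assoc, mul_comm (F g)]
  exact mul_mem h (natCast_inv_mem hM (S.not_dvd_index))

/-- The sum of the values of a block, as a finite sum. -/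
noncomputable def fset (B : Set (IrrCharacter G)) : Finset (IrrCharacter G) := B.toFinite.toFinset

theorem mem_fset {B : Set (IrrCharacter G)} {χ : IrrCharacter G} : χ ∈ fset B ↔ χ ∈ B :=
  Set.Finite.mem_toFinset _

theorem card_fset (B : Set (IrrCharacter G)) : (fset B).card = Nat.card B := by
  rw [fset, Nat.card_coe_set_eq, Set.ncard_eq_toFinset_card B]

section block

variable (hM : IsPModular 2 M) {B : Set (IrrCharacter G)} (hB : IsPBlock M B) {P : Subgroup G}
  (hPD : IsDefectGroup 2 M B P) (hV : IsKleinFour P)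

include hM hB hPD hV

/-- Invariants without naming the inertial subgroup. -/
theorem invariants : (blockRank 2 B = 1 ∨ blockRank 2 B = 3) ∧ Nat.card B = 4 ∧
    (∀ χ ∈ B, blockHeight 2 B (χ : G → ℂ) = 0) ∧ blockDefect 2 B = 2 := by
  haveI : Fact (Nat.Prime 2) := ⟨Nat.prime_two⟩
  haveI := Fintype.ofFinite G
  obtain ⟨e, hmax⟩ := exists_maximal_of_defectGroup hM hB hPD
  have hPC : P ≤ Cn P := fun x hx y hy => KleinBlock.klein_comm hV y hy x hx
  have hc := (pairOf_iff_induced hM hmax.1.1.1 hPC hB).1 hmax.1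
  let T : Subgroup G :=
    { carrier := {g | g ∈ Subgroup.normalizer (P : Set G) ∧
        cjA g (inA (Cn P) (bid M e)) = inA (Cn P) (bid M e)}
      one_mem' := ⟨one_mem _, cjA_one _⟩
      mul_mem' := fun {x y} hx hy => ⟨mul_mem hx.1 hy.1, by rw [← cjA_mul_apply, hy.2, hx.2]⟩
      inv_mem' := fun {x} hx => ⟨inv_mem hx.1, by
        conv_lhs => rw [← hx.2]
        rw [cjA_mul_apply, inv_mul_cancel, cjA_one]⟩ }
  have hT : ∀ g : G, g ∈ T ↔ (g ∈ Subgroup.normalizer (P : Set G) ∧ StabilizesBlock (Cn P) e g) :=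
    fun g => and_congr_right fun hg => by
      rw [stabilizesBlock_iff hM hmax.1.1.2 g]
      exact (and_iff_right (normalizer_le_normalizer_Cn P hg)).symm
  obtain ⟨h1, h2, h3, h4⟩ := KleinBlock.klein_main hM hB hPD hV hc hT
  refine ⟨by rwa [h3], h2, h4, Nat.pow_right_injective le_rfl
    (show 2 ^ blockDefect 2 B = 2 ^ 2 by
      rw [← card_defectGroup hM hB hPD, hV.card_four])⟩

/-- The facts at a block of the centralizer of a nontrivial 2-element. -/
theorem local_of_induced {u : G} (hu : ∃ k : ℕ, orderOf u = 2 ^ k) (hu1 : u ≠ 1) {H : Subgroup G}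
    (hH : Subgroup.centralizer ({u} : Set G) = H) {b : Set (IrrCharacter H)}
    (hind : IsInducedBlock M H b B) :
    blockRank 2 b = 1 ∧ blockDefect 2 b = 2 ∧ orderOf u = 2 := by
  haveI : Fact (Nat.Prime 2) := ⟨Nat.prime_two⟩
  haveI := Fintype.ofFinite G
  obtain rfl := hH.symm.trans (cn_zpowers u)
  have hQC : Subgroup.zpowers u ≤ Cn (Subgroup.zpowers u) := by
    rw [← cn_zpowers]; exact Subgroup.zpowers_le.2 (Subgroup.mem_centralizer_singleton_iff.2 rfl)
  obtain ⟨R, g, hR, hle⟩ :=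
    exists_maximal_ge hM _ ((pairOf_iff_induced hM (isPGroup_zpowers hu) hQC hB).2 hind)
  obtain ⟨x, hx⟩ := isDefectGroup_conj_eq hM hB (isDefectGroup_of_maximal hM hR) hPD
  have hVR : IsKleinFour R := by
    subst hx
    exact isKleinFour_of_equiv
      (P.equivMapOfInjective (MulAut.conj x).toMonoidHom (MulEquiv.injective _)) hV
  have huR : u ∈ R := subpairLE_le hle (Subgroup.mem_zpowers u)
  obtain ⟨h1, h2, -⟩ := KleinBlock.local_facts hM hVR hR huR hu1 hle hind
  exact ⟨h1, h2, KleinBlock.klein_order hVR huR hu1⟩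

/-- There is a local block at some involution. -/
theorem exists_local : ∃ (u : G) (b : Set (IrrCharacter (Cn (Subgroup.zpowers u)))),
    u ≠ 1 ∧ (∃ k : ℕ, orderOf u = 2 ^ k) ∧ IsInducedBlock M (Cn (Subgroup.zpowers u)) b B := by
  haveI : Fact (Nat.Prime 2) := ⟨Nat.prime_two⟩
  haveI := Fintype.ofFinite G
  obtain ⟨e, hmax⟩ := exists_maximal_of_defectGroup hM hB hPD
  haveI := hV
  obtain ⟨⟨v, hv⟩, hv1⟩ : ∃ v : P, v ≠ 1 := by
    haveI : Nontrivial P := Finite.one_lt_card_iff_nontrivial.1 (by rw [hV.card_four]; norm_num)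
    exact exists_ne 1
  have hvp : ∃ k : ℕ, orderOf v = 2 ^ k :=
    ⟨1, by rw [pow_one]; exact KleinBlock.klein_order hV hv fun h => hv1 (Subtype.ext h)⟩
  obtain ⟨f, hf, hsub⟩ := exists_subpair hM P hmax.1.1 (Subgroup.zpowers_le.2 hv)
  have hQC : Subgroup.zpowers v ≤ Cn (Subgroup.zpowers v) := by
    rw [← cn_zpowers]; exact Subgroup.zpowers_le.2 (Subgroup.mem_centralizer_singleton_iff.2 rfl)
  exact ⟨v, f, fun h => hv1 (Subtype.ext h), hvp,
    (pairOf_iff_induced hM hf.1 hQC hB).1 ((pairOf_congr hM hsub).1 hmax.1)⟩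

/-- The column of a local block. -/
theorem section_data {u : G} (hu : ∃ k : ℕ, orderOf u = 2 ^ k) (hu1 : u ≠ 1) {H : Subgroup G}
    (hH : Subgroup.centralizer ({u} : Set G) = H) {b : Set (IrrCharacter H)}
    (hind : IsInducedBlock M H b B) {χ₀ : IrrCharacter G} (hχ₀ : χ₀ ∈ B) :
    ∃ W : IrrCharacter G → ℤ, (∀ χ ∈ B, W χ = 1 ∨ W χ = -1) ∧ W χ₀ = 1 ∧
      (∀ g : G, ¬ 2 ∣ orderOf g → ∑ χ ∈ fset B, (W χ : ℂ) * (χ : G → ℂ) g = 0) ∧
      (∀ χ ∈ B, compL 2 u H b (χ : G → ℂ) = (W χ : ℂ) • compL 2 u H b (χ₀ : G → ℂ)) ∧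
      ∀ s : H, ¬ 2 ∣ orderOf s → compL 2 u H b (χ₀ : G → ℂ) s ∈ locRing M ∧
        4 * compL 2 u H b (χ₀ : G → ℂ) s / (Nat.card (Subgroup.centralizer ({s} : Set H)) : ℂ) ∈
          locRing M := by
  classical
  haveI : Fact (Nat.Prime 2) := ⟨Nat.prime_two⟩
  haveI := Fintype.ofFinite G
  haveI : Fintype H := Fintype.ofFinite _
  obtain ⟨hlb, hdb, hu2⟩ := local_of_induced hM hB hPD hV hu hu1 hH hind
  obtain ⟨-, hk, hh, hdB⟩ := invariants hM hB hPD hV
  obtain ⟨μ, hμ0, -, -, -, -⟩ := ContribTwo.exists_mu hM hu hH hind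
  -- integrality of the contributions
  obtain ⟨n, a, z, hexp, -, hz, hmm⟩ := Contribution.mm_expand hM hu hH hind.1
  have hz1 : ∀ η, ∃ c : ℤ, z η = c := fun η => by
    have := hz η
    rw [hu2] at this
    rcases sq_eq_one_iff.1 this with h | h
    · exact ⟨1, by simp [h]⟩
    · exact ⟨-1, by simp [h]⟩
  choose cz hcz using hz1
  have hint : ∀ θ θ', ∃ m : ℤ, Contribution.mm 2 u H b θ θ' = m := by
    intro θ θ'
    refine ⟨∑ η : IrrCharacter H, ∑ η' : IrrCharacter H,
      if η ∈ b then (if η' ∈ b then (n θ η : ℤ) * (n θ' η' : ℤ) * a η η' * (cz η * cz η') else 0) else 0, ?_⟩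
    rw [hmm]
    push_cast
    refine Finset.sum_congr rfl fun η _ => Finset.sum_congr rfl fun η' _ => ?_
    split_ifs <;> simp [hcz]
  choose m hm using hint
  have hsym : ∀ χ ψ, m ψ χ = m χ ψ := fun χ ψ => by
    have := Contribution.conj_mm (p := 2) (u := u) b χ ψ
    rw [hm, hm, map_intCast] at this
    exact_mod_cast this.symm
  have hzero : ∀ θ, θ ∉ fset B → ∀ χ, m χ θ = 0 := fun θ hθ χ => by
    have := (Contribution.mm_eq_zero hM hu hH hind (fun h => hθ (mem_fset.2 h)) χ).2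
    rw [hm] at this
    exact_mod_cast this
  have hodd : ∀ χ ∈ B, ∀ ψ ∈ B, Odd (m χ ψ) := fun χ hχ ψ hψ => by
    obtain ⟨r, -, hr, hru⟩ := Contribution.mm_red hM hu hH hind.1
    have h1 := hru B hind χ hχ ψ hψ (hh χ hχ) (hh ψ hψ)
    have h2 := (hr χ ψ).2
    rw [hm, red_intCast] at h2
    haveI := charP_res (M := M) hM
    have h3 : ((m χ ψ - r χ ψ : ℤ) : Res M) = 0 := by rw [Int.cast_sub, h2, sub_self]
    have h4 := (CharP.intCast_eq_zero_iff (Res M) 2 _).1 h3
    rw [Int.odd_iff]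
    omega
  have hidem : ∀ χ, ∑ θ ∈ fset B, m χ θ ^ 2 = 4 * m χ χ := fun χ => by
    have h := Contribution.mm_idem hM hu hH hind.1 χ χ
    rw [hdb] at h
    simp only [hm] at h
    have h' : ∑ θ : IrrCharacter G, m χ θ * m θ χ = 4 * m χ χ := by
      have : ((∑ θ : IrrCharacter G, m χ θ * m θ χ : ℤ) : ℂ) = ((4 * m χ χ : ℤ) : ℂ) := by
        push_cast
        rw [h]
        norm_num
      exact_mod_cast this
    rw [← h', ← Finset.sum_subset (Finset.subset_univ (fset B)) fun θ _ hθ => by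
      rw [hzero θ hθ χ, zero_mul]]
    exact Finset.sum_congr rfl fun θ _ => by rw [hsym χ θ, sq]
  have hcard : (fset B).card = 4 := by rw [card_fset, hk]
  have hsq : ∀ χ ∈ B, ∀ ψ ∈ B, (1 : ℤ) ≤ m χ ψ ^ 2 := fun χ hχ ψ hψ => by
    obtain ⟨i, hi⟩ := hodd χ hχ ψ hψ
    rcases le_or_gt 0 i with h | h <;> nlinarith
  have hge : ∀ χ ∈ B, (1 : ℤ) ≤ m χ χ := fun χ hχ => by
    have h1 := Finset.sum_le_sum fun θ hθ => hsq χ hχ θ (mem_fset.1 hθ)
    rw [hidem, Finset.sum_const, hcard, nsmul_eq_mul] at h1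
    norm_num at h1
    omega
  have hdiag : ∀ χ ∈ B, m χ χ = 1 := by
    have h := Contribution.mm_trace hM hu hH hind.1 (b := b)
    rw [hdb, hlb] at h
    simp only [hm] at h
    have h' : ∑ θ : IrrCharacter G, m θ θ = 4 := by
      have : ((∑ θ : IrrCharacter G, m θ θ : ℤ) : ℂ) = ((4 : ℤ) : ℂ) := by
        push_cast
        rw [h]
        norm_num
      exact_mod_cast this
    rw [← Finset.sum_subset (Finset.subset_univ (fset B)) fun θ _ hθ => hzero θ hθ θ] at h'
    intro χ hχ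
    by_contra hne
    have h1 := Finset.sum_lt_sum (fun θ hθ => hge θ (mem_fset.1 hθ))
      ⟨χ, mem_fset.2 hχ, lt_of_le_of_ne (hge χ hχ) (Ne.symm hne)⟩
    rw [Finset.sum_const, hcard, h'] at h1
    norm_num at h1
  have hone : ∀ χ ∈ B, m χ χ₀ = 1 ∨ m χ χ₀ = -1 := fun χ hχ => by
    by_contra hne
    have h1 := Finset.sum_lt_sum (fun θ hθ => hsq χ hχ θ (mem_fset.1 hθ))
      ⟨χ₀, mem_fset.2 hχ₀, lt_of_le_of_ne (hsq χ hχ χ₀ hχ₀) fun h => hne (sq_eq_one_iff.1 h.symm)⟩
    rw [hidem, hdiag χ hχ, Finset.sum_const, hcard] at h1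
    norm_num at h1
  -- rank one
  have hclass : ∀ χ : IrrCharacter G, IsClassFunction G (χ : G → ℂ) := fun χ => classFun_of_irr χ.2
  set w := compL 2 u H b (χ₀ : G → ℂ) with hwdef
  have hw : w ∈ regSpan 2 b := compL_mem hM hH hind.1 (hclass χ₀)
  have hmin : ∀ χ, (m χ χ₀ : ℂ) = 4 * classInner (compL 2 u H b (χ : G → ℂ)) w := fun χ => by
    rw [← hm, Contribution.mm, hdb, hwdef]; norm_num
  have hw00 : 4 * classInner w w = 1 := by
    have := hmin χ₀
    rw [hdiag χ₀ hχ₀] at this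
    simpa using this.symm
  have hwne : (⟨w, hw⟩ : regSpan 2 b) ≠ 0 := fun h => by
    have h0 : w = 0 := congrArg Subtype.val h
    rw [h0] at hw00
    simp [classInner_zero_left] at hw00
  have hcomp : ∀ χ ∈ B, compL 2 u H b (χ : G → ℂ) = (m χ χ₀ : ℂ) • w := by
    intro χ _
    rw [blockRank_eq] at hlb
    obtain ⟨t, ht⟩ := exists_smul_eq_of_finrank_eq_one hlb hwne
      (⟨_, compL_mem hM hH hind.1 (hclass χ)⟩ : regSpan 2 b)
    have ht' : t • w = compL 2 u H b (χ : G → ℂ) := congrArg Subtype.val ht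
    have h1 := hmin χ
    rw [← ht', classInner_smul_left, mul_left_comm, hw00, mul_one] at h1
    rw [h1, ht']
  refine ⟨fun χ => m χ χ₀, hone, hdiag χ₀ hχ₀, fun g hg => ?_, hcomp, fun s hs => ?_⟩
  · -- the section function of `w` is orthogonal to the regular elements
    obtain ⟨hwc, hws⟩ := regSpan_facts hw
    obtain ⟨F, hFc, -, hF0, hFi⟩ := Subsection.exists_section hu hH hwc hws
    have hin : ∀ ψ : IrrCharacter G, classInner F (ψ : G → ℂ) =
        classInner w (compL 2 u H b (ψ : G → ℂ)) := fun ψ => by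
      rw [hFi, classInner_def, classInner_def, inner_compL hM hH hind.1 hw]
    have h0 : F g = 0 := hF0 g fun hc => hu1 (by
      rw [ppOf_eq (x := (1 : G)) ⟨g, one_mul g, Commute.one_left g, ⟨0, by simp⟩, hg⟩,
        isConj_one_right] at hc
      exact hc)
    rw [classFun_eq_sum hFc, Finset.sum_apply] at h0
    have hF : ∀ ψ : IrrCharacter G, classInner F (ψ : G → ℂ) =
        if ψ ∈ fset B then (4 : ℂ)⁻¹ * (m ψ χ₀ : ℂ) else 0 := fun ψ => by
      rw [hin]
      split_ifs with hψ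
      · rw [hcomp ψ (mem_fset.1 hψ), classInner_smul_right, map_intCast,
          ← mul_right_inj' (show (4 : ℂ) ≠ 0 by norm_num), mul_left_comm, hw00]
        ring
      · rw [compL_char_eq_zero hM hu hH hind fun h => hψ (mem_fset.2 h), classInner_zero_right]
    simp only [hF, Pi.smul_apply, smul_eq_mul, ite_mul, zero_mul, mul_assoc] at h0
    rw [Finset.sum_ite_mem, Finset.univ_inter, ← Finset.mul_sum] at h0
    simpa using h0
  · -- integrality
    let x' : H := ⟨u, Contribution.self_mem hH⟩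
    have hx'c : ∀ c, Commute x' c := fun c => Subtype.ext
      (Subgroup.mem_centralizer_singleton_iff.1 (hH.symm ▸ c.2)).symm
    choose q hq1 hq using fun η : IrrCharacter H => exists_central_scalar η hx'c
    have e : shiftL u H (χ₀ : G → ℂ) =
        ∑ η : IrrCharacter H, ((n χ₀ η : ℂ) * q η) • (η : H → ℂ) := by
      funext c
      show (χ₀ : G → ℂ) (u * c) = _
      rw [show u * (c : G) = ((x' ^ 1 * c : H) : G) by simp [x'], hexp]
      simp only [Finset.sum_apply, Pi.smul_apply, smul_eq_mul]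
      exact Finset.sum_congr rfl fun η _ => by rw [hq, pow_one, mul_assoc]
    have hbm : ∀ η : IrrCharacter H, bmul b (η : H → ℂ) s = if η ∈ b then (η : H → ℂ) s else 0 :=
      fun η => by rw [bmul_apply, sum_blockCoeff_mul_char hM hind.1]
    have hval : w s = ∑ η : IrrCharacter H,
        if η ∈ b then ((n χ₀ η : ℂ) * q η) * (η : H → ℂ) s else 0 := by
      rw [hwdef, compL, LinearMap.comp_apply, regL_val _ _ hs, LinearMap.comp_apply, e, map_sum,
        Finset.sum_apply]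
      refine Finset.sum_congr rfl fun η _ => ?_
      rw [map_smul, Pi.smul_apply, smul_eq_mul, hbm, mul_ite, mul_zero]
    have hqm : ∀ η, (n χ₀ η : ℂ) * q η ∈ locRing M := fun η =>
      mul_mem (natCast_mem _ _) (integral_mem
        (IsIntegral.of_pow (orderOf_pos x') (hq1 η ▸ isIntegral_one)))
    refine ⟨?_, ?_⟩
    · rw [hval]
      refine sum_mem fun η _ => ?_
      split_ifs
      exacts [mul_mem (hqm η) (irr_mem η s), zero_mem _]
    · rw [hval, Finset.mul_sum, Finset.sum_div]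
      refine sum_mem fun η _ => ?_
      split_ifs with hη
      swap
      · simp [zero_mem]
      rw [show 4 * ((n χ₀ η : ℂ) * q η * (η : H → ℂ) s) /
          (Nat.card (Subgroup.centralizer ({s} : Set H)) : ℂ) = (n χ₀ η : ℂ) * q η *
          (4 * (η : H → ℂ) s / (Nat.card (Subgroup.centralizer ({s} : Set H)) : ℂ)) by ring]
      refine mul_mem (hqm η) ?_
      obtain ⟨c, -, hc, -⟩ := exists_int_regPart hM hind.1 hη
      rw [hdb] at hc
      have hmem : (4 : ℂ) • regPart 2 (η : H → ℂ) ∈ locChar M H := by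
        rw [show (4 : ℂ) = ((2 : ℕ) : ℂ) ^ 2 by norm_num, hc]
        exact sum_mem fun ψ _ => smul_mem_locChar (intCast_mem _ _) (char_mem_locChar (isCharacter_of_isIrr ψ.2))
      have h := div_centralizer_mem hM hmem (fun y hy => by simp [regPart, hy]) hs
      simpa [regPart, hs] using h

/-- The values of the four characters. -/
theorem block_data : ∃ δ : IrrCharacter G → ℤ,
    (∀ χ ∈ B, δ χ = 1 ∨ δ χ = -1) ∧ (blockRank 2 B = 1 → ∀ χ ∈ B, δ χ = 1) ∧
    (∀ x : G, 2 ∣ orderOf x → ∃ (ι : Type u) (_ : Fintype ι) (W : ι → IrrCharacter G → ℤ)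
      (A : ι → ℂ),
      (∀ i, A i ∈ locRing M ∧
        4 * A i / (Nat.card (Subgroup.centralizer ({x} : Set G)) : ℂ) ∈ locRing M) ∧
      (∀ i, (∀ χ ∈ B, W i χ = 1 ∨ W i χ = -1) ∧ (blockRank 2 B = 1 → ∑ χ ∈ fset B, W i χ = 0) ∧
        (blockRank 2 B ≠ 1 → ∀ χ ∈ B, W i χ = δ χ)) ∧
      ∀ χ ∈ B, (χ : G → ℂ) x = ∑ i, (W i χ : ℂ) * A i) ∧
    ∀ g : G, ¬ 2 ∣ orderOf g →
      (blockRank 2 B = 1 → ∀ χ ∈ B, ∀ χ' ∈ B, (χ : G → ℂ) g = (χ' : G → ℂ) g) ∧
      (blockRank 2 B ≠ 1 → ∑ χ ∈ fset B, (δ χ : ℂ) * (χ : G → ℂ) g = 0) := by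
  classical
  haveI : Fact (Nat.Prime 2) := ⟨Nat.prime_two⟩
  haveI := Fintype.ofFinite G
  obtain ⟨hl, hk, hh, hdB⟩ := invariants hM hB hPD hV
  obtain ⟨χ₀, hχ₀⟩ := isPBlock_nonempty hB
  obtain ⟨u₀, b₀, hu₀1, hu₀, hb₀⟩ := exists_local hM hB hPD hV
  obtain ⟨W₀, hW₀1, hW₀0, hW₀r, -, -⟩ := section_data hM hB hPD hV hu₀ hu₀1 (cn_zpowers u₀) hb₀ hχ₀
  -- regular values when the rank is one
  have hprop : blockRank 2 B = 1 → ∀ χ ∈ B, ∀ g : G, ¬ 2 ∣ orderOf g →
      (χ : G → ℂ) g = (χ₀ : G → ℂ) g := by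
    intro h1
    rw [blockRank_eq] at h1
    set r : IrrCharacter G → G → ℂ := fun χ => regPart 2 (χ : G → ℂ) with hr
    have hrmem : ∀ χ ∈ B, r χ ∈ regSpan 2 B := fun χ hχ => by
      simp only [hr, ← pRegularPart_eq]
      exact Submodule.subset_span ⟨χ, hχ, rfl⟩
    have hr0 : (⟨r χ₀, hrmem χ₀ hχ₀⟩ : regSpan 2 B) ≠ 0 := fun h =>
      regularPart_ne_zero (p := 2) χ₀ ((pRegularPart_eq _).trans (congrArg Subtype.val h))
    have hr1 : ∀ χ : IrrCharacter G, r χ 1 = (χ : G → ℂ) 1 := fun χ => by simp [hr, regPart]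
    choose d hd using fun χ : IrrCharacter G => (irr_deg χ.2)
    have hd0 : ∀ χ, (d χ : ℂ) ≠ 0 := fun χ => Nat.cast_ne_zero.2 (hd χ).1.ne'
    have ht : ∀ χ ∈ B, r χ = ((d χ : ℂ) / d χ₀) • r χ₀ := by
      intro χ hχ
      obtain ⟨t, ht⟩ := exists_smul_eq_of_finrank_eq_one h1 hr0 (⟨r χ, hrmem χ hχ⟩ : regSpan 2 B)
      have ht' : t • r χ₀ = r χ := congrArg Subtype.val ht
      have := congrFun ht' 1
      rw [Pi.smul_apply, smul_eq_mul, hr1, hr1, (hd χ₀).2, (hd χ).2] at this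
      rw [← ht', ← this, mul_div_cancel_right₀ _ (hd0 χ₀)]
    have hrr : ∀ χ ψ : IrrCharacter G,
        classInner (r χ) (ψ : G → ℂ) = classInner (r χ) (r ψ) := fun χ ψ => by
      simp only [hr, classInner_def, regPart]
      refine congrArg _ (Finset.sum_congr rfl fun c _ => ?_)
      by_cases hc : 2 ∣ orderOf c <;> simp [hc]
    set n0 := classInner (r χ₀) (r χ₀) with hn0
    have hD : ∀ ψ ∈ B, ∃ D : ℤ, (D : ℂ) = 4 * (((d ψ : ℂ) / d χ₀) ^ 2 * n0) := by
      intro ψ hψ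
      obtain ⟨D, _, -, -, -, hD, -⟩ := exists_regCartan hM hB hψ ψ
      refine ⟨D, ?_⟩
      rw [hD, hdB]
      show _ * classInner (r ψ) _ = _
      rw [hrr, ht ψ hψ, classInner_smul_left, classInner_smul_right, map_div₀, Complex.conj_natCast,
        Complex.conj_natCast, hn0]
      norm_num
      ring
    choose! D hD using hD
    have hsum : ∑ ψ ∈ fset B, (D ψ : ℂ) = 4 := by
      have h := congrFun (regPart_eq_sum (p := 2) χ₀) 1
      rw [Finset.sum_apply] at h
      have h' : (d χ₀ : ℂ) = ∑ ψ ∈ fset B, ((d ψ : ℂ) / d χ₀ * n0) * d ψ := by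
        refine ((hd χ₀).2.symm.trans (hr1 χ₀).symm).trans ?_
        show regPart 2 (χ₀ : G → ℂ) 1 = _
        rw [h, ← Finset.sum_subset (Finset.subset_univ (fset B)) fun ψ _ hψ => by
          rw [inner_regPart_eq_zero_of_notMem hM hB hχ₀ fun h => hψ (mem_fset.2 h)]; simp]
        refine Finset.sum_congr rfl fun ψ hψ => ?_
        rw [Pi.smul_apply, smul_eq_mul, (hd ψ).2]
        show classInner (r χ₀) _ * _ = _
        rw [hrr, ht ψ (mem_fset.1 hψ), classInner_smul_right, map_div₀, Complex.conj_natCast,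
          Complex.conj_natCast]
      calc ∑ ψ ∈ fset B, (D ψ : ℂ) = 4 * (∑ ψ ∈ fset B, ((d ψ : ℂ) / d χ₀ * n0) * d ψ) / d χ₀ := by
            rw [Finset.mul_sum, Finset.sum_div]
            exact Finset.sum_congr rfl fun ψ hψ => by rw [hD ψ (mem_fset.1 hψ)]; ring
        _ = _ := by rw [← h', mul_div_cancel_right₀ _ (hd0 χ₀)]
    have hsum' : ∑ ψ ∈ fset B, D ψ = 4 := by exact_mod_cast hsum
    have hsc : ∀ ψ ∈ B, D ψ * (d χ₀ : ℤ) ^ 2 = D χ₀ * (d ψ : ℤ) ^ 2 := by
      intro ψ hψ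
      have h0 := hd0 χ₀
      have : (D ψ : ℂ) * (d χ₀ : ℂ) ^ 2 = (D χ₀ : ℂ) * (d ψ : ℂ) ^ 2 := by
        rw [hD ψ hψ, hD χ₀ hχ₀]
        field_simp
      exact_mod_cast this
    have hdpos : ∀ ψ, (0 : ℤ) < (d ψ : ℤ) ^ 2 := fun ψ => pow_pos (Int.natCast_pos.2 (hd ψ).1) 2
    have hD0 : 0 < D χ₀ := by
      by_contra hle
      have : ∑ ψ ∈ fset B, D ψ ≤ 0 := Finset.sum_nonpos fun ψ hψ =>
        nonpos_of_mul_nonpos_left
          (hsc ψ (mem_fset.1 hψ) ▸ mul_nonpos_of_nonpos_of_nonneg (not_lt.1 hle) (hdpos ψ).le)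
          (hdpos χ₀)
      omega
    have hpos : ∀ ψ ∈ fset B, (1 : ℤ) ≤ D ψ := fun ψ hψ =>
      pos_of_mul_pos_left (hsc ψ (mem_fset.1 hψ) ▸ mul_pos hD0 (hdpos ψ)) (hdpos χ₀).le
    have hone : ∀ ψ ∈ fset B, D ψ = 1 := by
      intro ψ hψ
      by_contra hne
      have h2 := Finset.sum_lt_sum hpos ⟨ψ, hψ, lt_of_le_of_ne (hpos ψ hψ) (Ne.symm hne)⟩
      rw [Finset.sum_const, card_fset, hk, hsum'] at h2
      norm_num at h2
    intro χ hχ g hg
    have h2 := hsc χ hχ
    rw [hone χ (mem_fset.2 hχ), hone χ₀ (mem_fset.2 hχ₀), one_mul, one_mul] at h2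
    have h3 : d χ₀ = d χ := Nat.pow_left_injective two_ne_zero (by exact_mod_cast h2)
    have h4 := congrFun (ht χ hχ) g
    rw [← h3, div_self (hd0 χ₀), one_smul] at h4
    simpa [hr, regPart, hg] using h4
  -- all the columns lie in the kernel of the restriction to regular elements
  set L : (fset B → ℂ) →ₗ[ℂ] (G → ℂ) :=
    Fintype.linearCombination ℂ (fun χ : fset B => pRegularPart 2 ((χ : IrrCharacter G) : G → ℂ))
    with hL
  have hker : ∀ W : IrrCharacter G → ℤ,
      (∀ g : G, ¬ 2 ∣ orderOf g → ∑ χ ∈ fset B, (W χ : ℂ) * (χ : G → ℂ) g = 0) →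
      (fun χ : fset B => (W χ : ℂ)) ∈ LinearMap.ker L := by
    intro W hW
    rw [LinearMap.mem_ker, hL, Fintype.linearCombination_apply]
    funext g
    rw [Finset.sum_apply]
    by_cases hg : 2 ∣ orderOf g
    · simp [pRegularPart, IsPRegular, hg]
    · simp only [Pi.smul_apply, smul_eq_mul, pRegularPart, IsPRegular, hg, not_false_eq_true, if_true,
        Pi.zero_apply]
      rw [Finset.sum_coe_sort (fset B) fun χ => (W χ : ℂ) * (χ : G → ℂ) g]
      exact hW g hg
  have hker3 : blockRank 2 B ≠ 1 → Module.finrank ℂ (LinearMap.ker L) = 1 := by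
    intro hne
    have hrange : LinearMap.range L = regSpan 2 B := by
      rw [hL, Fintype.range_linearCombination]
      refine congrArg _ (Set.ext fun f => ⟨?_, ?_⟩)
      · rintro ⟨⟨χ, hχ⟩, rfl⟩; exact ⟨χ, mem_fset.1 hχ, rfl⟩
      · rintro ⟨χ, hχ, rfl⟩; exact ⟨⟨χ, mem_fset.2 hχ⟩, rfl⟩
    have h := L.finrank_range_add_finrank_ker
    rw [hrange, ← blockRank_eq, hl.resolve_left hne, Module.finrank_pi, Fintype.card_coe, card_fset,
      hk] at h
    omega
  have hW : blockRank 2 B ≠ 1 → ∀ W : IrrCharacter G → ℤ, W χ₀ = 1 →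
      (∀ g : G, ¬ 2 ∣ orderOf g → ∑ χ ∈ fset B, (W χ : ℂ) * (χ : G → ℂ) g = 0) →
      ∀ χ ∈ B, W χ = W₀ χ := by
    intro hne W hW0 hWr χ hχ
    obtain ⟨t, ht⟩ := exists_smul_eq_of_finrank_eq_one (hker3 hne)
      (x := ⟨_, hker W₀ hW₀r⟩) (fun h => by
        have := congrFun (congrArg Subtype.val h) ⟨χ₀, mem_fset.2 hχ₀⟩
        simp [hW₀0] at this) ⟨_, hker W hWr⟩
    have h1 := congrFun (congrArg Subtype.val ht) ⟨χ₀, mem_fset.2 hχ₀⟩
    have h2 := congrFun (congrArg Subtype.val ht) ⟨χ, mem_fset.2 hχ⟩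
    simp only [SetLike.val_smul, Pi.smul_apply, smul_eq_mul, hW₀0, hW0, Int.cast_one, mul_one] at h1 h2
    rw [h1, one_mul] at h2
    exact_mod_cast h2.symm
  refine ⟨fun χ => if blockRank 2 B = 1 then 1 else W₀ χ, fun χ hχ => ?_, fun h1 χ _ => if_pos h1,
    fun x hx => ?_, fun g hg => ⟨fun h1 χ hχ χ' hχ' => ?_, fun hne => ?_⟩⟩
  · split_ifs
    exacts [Or.inl rfl, hW₀1 χ hχ]
  · obtain ⟨s, hs, hcs, hk2, hs'⟩ := ppOf_spec 2 x
    have hmz := isPPart_mem_zpowers Nat.prime_two (ppOf_spec 2 x)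
    generalize ppOf 2 x = w at hs hcs hk2 hmz
    have hw1 : w ≠ 1 := fun h => hs' (by rwa [show s = x by rw [← hs, h, one_mul]])
    set H := Subgroup.centralizer ({w} : Set G) with hH
    have hsC : s ∈ H := Subgroup.mem_centralizer_singleton_iff.2 hcs.symm.eq
    haveI : Fintype H := Fintype.ofFinite _
    haveI : Fintype {b : Set (IrrCharacter H) // IsPBlock M b} := Fintype.ofFinite _
    haveI : Fintype {b : Set (IrrCharacter H) // IsInducedBlock M H b B} := Fintype.ofFinite _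
    have hsr : ¬ 2 ∣ orderOf (⟨s, hsC⟩ : H) := by rwa [← Subgroup.orderOf_coe]
    choose W hW1 hW0 hWr hWc hWi using
      fun b : {b : Set (IrrCharacter H) // IsInducedBlock M H b B} =>
        section_data hM hB hPD hV hk2 hw1 hH.symm b.2 hχ₀
    have hcard : Nat.card (Subgroup.centralizer ({(⟨s, hsC⟩ : H)} : Set H)) =
        Nat.card (Subgroup.centralizer ({x} : Set G)) := by
      have hmem : ∀ g ∈ Subgroup.centralizer ({x} : Set G), g ∈ H ∧ g * s = s * g := by
        intro g hg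
        have hcg : Commute g x := Subgroup.mem_centralizer_singleton_iff.1 hg
        obtain ⟨i, hi⟩ := hmz
        have hgw : Commute g w := hi ▸ hcg.zpow_right i
        refine ⟨Subgroup.mem_centralizer_singleton_iff.2 hgw.eq, ?_⟩
        have : s = w⁻¹ * x := by rw [← hs, inv_mul_cancel_left]
        rw [this]; exact (hgw.inv_right.mul_right hcg).eq
      refine Nat.card_congr
        { toFun := fun g => ⟨((g : H) : G), ?_⟩
          invFun := fun g => ⟨⟨g, (hmem g g.2).1⟩, Subgroup.mem_centralizer_singleton_iff.2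
            (Subtype.ext (hmem g g.2).2)⟩
          left_inv := fun g => rfl
          right_inv := fun g => rfl }
      have h1 : ((g : H) : G) * w = w * (g : H) := Subgroup.mem_centralizer_singleton_iff.1 (g : H).2
      have h2 : ((g : H) : G) * s = s * (g : H) :=
        congrArg Subtype.val (Subgroup.mem_centralizer_singleton_iff.1 g.2)
      rw [Subgroup.mem_centralizer_singleton_iff, ← hs, ← mul_assoc, h1, mul_assoc, h2, mul_assoc]
    refine ⟨_, inferInstance, W,
      fun b => compL 2 w H b.1 (χ₀ : G → ℂ) ⟨s, hsC⟩, fun b => ?_, fun b => ⟨hW1 b, ?_, ?_⟩, ?_⟩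
    · have := hWi b ⟨s, hsC⟩ hsr
      rwa [hcard] at this
    · intro h1
      have h := hWr b 1 (by simp)
      rw [Finset.sum_congr rfl fun χ hχ => by rw [hprop h1 χ (mem_fset.1 hχ) 1 (by simp)],
        ← Finset.sum_mul, mul_eq_zero] at h
      rcases h with h | h
      · exact_mod_cast h
      · exact absurd h (irr_one_ne_zero χ₀.2)
    · intro hne χ hχ
      simp only [if_neg hne]
      exact hW hne (W b) (hW0 b) (hWr b) χ hχ
    · intro χ hχ
      have h3 := congrFun (sum_compL (p := 2) hM w H (χ : G → ℂ)) ⟨s, hsC⟩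
      rw [Finset.sum_apply, regL_val _ _ hsr] at h3
      have h4 : (χ : G → ℂ) x = shiftL w H (χ : G → ℂ) ⟨s, hsC⟩ := by rw [← hs]; rfl
      let e : {b : Set (IrrCharacter H) // IsInducedBlock M H b B} ↪
          {b : Set (IrrCharacter H) // IsPBlock M b} :=
        ⟨fun b => ⟨b.1, b.2.1⟩, fun a c h => Subtype.ext (congrArg Subtype.val h :)⟩
      rw [h4, ← h3, ← Finset.sum_subset (Finset.subset_univ (Finset.univ.map e)) fun b _ hb => ?_,
        Finset.sum_map]
      · refine Finset.sum_congr rfl fun b _ => ?_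
        show compL 2 w H b.1 (χ : G → ℂ) _ = _
        rw [hWc b χ hχ]; rfl
      · obtain ⟨B', hB'⟩ := inducedBlockDefined_centralizer hM hk2 b.2
        have hBB : B' ≠ B := fun h => hb (Finset.mem_map.2
          ⟨⟨b.1, h ▸ hB'⟩, Finset.mem_univ _, rfl⟩)
        rw [compL_char_eq_zero hM hk2 rfl hB' fun h => hBB (eq_of_mem_of_mem hB'.2.1 hB h hχ)]
        rfl
  · rw [hprop h1 χ hχ g hg, hprop h1 χ' hχ' g hg]
  · simp only [if_neg hne]
    exact hW₀r g hg

end block

section transport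

variable (hM : IsPModular 2 M) {B : Set (IrrCharacter G)} {P : Subgroup G}

include hM in
/-- A block and its Brauer correspondent have the same regular rank. -/
theorem blockRank_eq_correspondent (hPD : IsDefectGroup 2 M B P) (hV : IsKleinFour P)
    {c : Set (IrrCharacter (Subgroup.normalizer (P : Set G)))}
    (hcD : IsDefectGroup 2 M c (P.subgroupOf (Subgroup.normalizer (P : Set G))))
    (hc : IsInducedBlock M (Subgroup.normalizer (P : Set G)) c B) :
    blockRank 2 c = blockRank 2 B := by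
  haveI : Fact (Nat.Prime 2) := ⟨Nat.prime_two⟩
  haveI := Fintype.ofFinite G
  set N := Subgroup.normalizer (P : Set G) with hN
  haveI : Fintype N := Fintype.ofFinite _
  have hPN : P ≤ N := Subgroup.le_normalizer
  have hCN : Cn P ≤ N := Cn_le_normalizer P
  have hV' : IsKleinFour (P.subgroupOf N) :=
    isKleinFour_of_equiv (Subgroup.subgroupOfEquivOfLe hPN).symm hV
  obtain ⟨f', hmax'⟩ := exists_maximal_of_defectGroup hM hc.1 hcD
  have hPC : P ≤ Cn P := fun x hx y hy => KleinBlock.klein_comm hV y hy x hx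
  have hPC' : P.subgroupOf N ≤ Cn (P.subgroupOf N) := fun x hx => (mem_Cn_subgroupOf hPN x).2 (hPC hx)
  obtain ⟨f, hf, hff⟩ := pairOf_induced hM hc hPN hCN hmax'.1
  have hcf := (pairOf_iff_induced hM hf.1.1 hPC hc.2.1).1 hf
  have hcf' := (pairOf_iff_induced hM hmax'.1.1.1 hPC' hc.1).1 hmax'.1
  let T : Subgroup G :=
    { carrier := {g | g ∈ N ∧ cjA g (inA (Cn P) (bid M f)) = inA (Cn P) (bid M f)}
      one_mem' := ⟨one_mem _, cjA_one _⟩
      mul_mem' := fun {x y} hx hy => ⟨mul_mem hx.1 hy.1, by rw [← cjA_mul_apply, hy.2, hx.2]⟩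
      inv_mem' := fun {x} hx => ⟨inv_mem hx.1, by
        conv_lhs => rw [← hx.2]
        rw [cjA_mul_apply, inv_mul_cancel, cjA_one]⟩ }
  have hTN : T ≤ N := fun g hg => hg.1
  have hT : ∀ g : G, g ∈ T ↔ (g ∈ N ∧ StabilizesBlock (Cn P) f g) :=
    fun g => and_congr_right fun hg => by
      rw [stabilizesBlock_iff hM hf.1.2 g]
      exact (and_iff_right (normalizer_le_normalizer_Cn P hg)).symm
  have hnorm : ∀ g : N, g ∈ Subgroup.normalizer ((P.subgroupOf N : Subgroup N) : Set N) :=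
    fun g => Subgroup.mem_normalizer_iff.2 fun h => (Subgroup.mem_normalizer_iff.1 g.2 (h : G))
  have hT' : ∀ g : N, g ∈ T.subgroupOf N ↔
      (g ∈ Subgroup.normalizer ((P.subgroupOf N : Subgroup N) : Set N) ∧
        StabilizesBlock (Cn (P.subgroupOf N)) f' g) := by
    intro g
    rw [Subgroup.mem_subgroupOf, hT, and_iff_right g.2, and_iff_right (hnorm g), ← hff]
    constructor
    · rintro ⟨-, h2⟩
      refine ⟨normalizer_le_normalizer_Cn _ (hnorm g), ?_⟩
      rintro _ ⟨χ, hχ, rfl⟩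
      obtain ⟨χ', hχ', hcc⟩ := h2 χ hχ
      refine ⟨mvChar _ χ', (mem_mvSet _).2 hχ', fun k k' hk => ?_⟩
      rw [mvChar_apply, mvChar_apply]
      exact hcc _ _ (congrArg Subtype.val hk)
    · rintro ⟨-, h2⟩
      refine ⟨normalizer_le_normalizer_Cn P g.2, fun χ hχ => ?_⟩
      obtain ⟨_, ⟨χ', hχ', rfl⟩, hcc⟩ := h2 _ ((mem_mvSet (cnEquiv hCN hPN)).2 hχ)
      refine ⟨χ', hχ', fun k k' hk => ?_⟩
      have := hcc (cnEquiv hCN hPN k) (cnEquiv hCN hPN k') (Subtype.ext hk)
      simpa [mvChar_apply] using this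
  obtain ⟨-, -, h1, -⟩ := KleinBlock.klein_main hM hc.2.1 hPD hV hcf hT
  obtain ⟨-, -, h2, -⟩ := KleinBlock.klein_main hM hc.1 hcD hV' hcf' hT'
  rw [h1, h2, show Cn (P.subgroupOf N) = (Cn P).subgroupOf N from
    Subgroup.ext fun g => mem_Cn_subgroupOf hPN g, Subgroup.relIndex_subgroupOf hTN]

end transport

section divisibility

variable (hM : IsPModular 2 M) {B : Set (IrrCharacter G)}

include hM in
/-- With regular rank one the sum over the block is divisible by the centralizer order. -/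
theorem sum_div (hB : IsPBlock M B) {P : Subgroup G} (hPD : IsDefectGroup 2 M B P)
    (hV : IsKleinFour P) (h1 : blockRank 2 B = 1) {x : G} (hx : ¬ 2 ∣ orderOf x) :
    (∑ χ ∈ fset B, (χ : G → ℂ) x) / (Nat.card (Subgroup.centralizer ({x} : Set G)) : ℂ) ∈ locRing M := by
  obtain ⟨δ, -, -, hsing, -⟩ := block_data hM hB hPD hV
  have hF : (fun g => ∑ χ ∈ fset B, (χ : G → ℂ) g) ∈ locChar M G := by
    have h : (∑ χ ∈ fset B, (χ : G → ℂ)) ∈ locChar M G :=
      sum_mem fun χ _ => char_mem_locChar (isCharacter_of_isIrr χ.2)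
    convert h using 1
    funext g; rw [Finset.sum_apply]
  refine div_centralizer_mem hM hF (fun z hz => ?_) hx
  obtain ⟨ι, _, W, A, -, hWf, hval⟩ := hsing z hz
  show ∑ χ ∈ fset B, (χ : G → ℂ) z = 0
  rw [Finset.sum_congr rfl fun χ hχ => hval χ (mem_fset.1 hχ), Finset.sum_comm]
  refine Finset.sum_eq_zero fun i _ => ?_
  rw [← Finset.sum_mul, ← Int.cast_sum, (hWf i).2.1 h1]
  simp

include hM in
/-- With regular rank three signed differences are divisible by the centralizer order. -/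
theorem diff_div (δ : IrrCharacter G → ℤ) (hδ : ∀ χ ∈ B, δ χ = 1 ∨ δ χ = -1)
    (hsing : ∀ x : G, 2 ∣ orderOf x → ∃ (ι : Type u) (_ : Fintype ι) (W : ι → IrrCharacter G → ℤ)
      (A : ι → ℂ),
      (∀ i, A i ∈ locRing M ∧
        4 * A i / (Nat.card (Subgroup.centralizer ({x} : Set G)) : ℂ) ∈ locRing M) ∧
      (∀ i, (∀ χ ∈ B, W i χ = 1 ∨ W i χ = -1) ∧ (blockRank 2 B = 1 → ∑ χ ∈ fset B, W i χ = 0) ∧
        (blockRank 2 B ≠ 1 → ∀ χ ∈ B, W i χ = δ χ)) ∧
      ∀ χ ∈ B, (χ : G → ℂ) x = ∑ i, (W i χ : ℂ) * A i)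
    (h1 : blockRank 2 B ≠ 1) {χ χ' : IrrCharacter G} (hχ : χ ∈ B) (hχ' : χ' ∈ B) {x : G}
    (hx : ¬ 2 ∣ orderOf x) :
    ((δ χ : ℂ) * (χ : G → ℂ) x - (δ χ' : ℂ) * (χ' : G → ℂ) x) /
      (Nat.card (Subgroup.centralizer ({x} : Set G)) : ℂ) ∈ locRing M := by
  have hF : (δ χ : ℂ) • (χ : G → ℂ) + (-(δ χ' : ℂ)) • (χ' : G → ℂ) ∈ locChar M G :=
    add_mem (smul_mem_locChar (intCast_mem _ _) (char_mem_locChar (isCharacter_of_isIrr χ.2)))
      (smul_mem_locChar (neg_mem (intCast_mem _ _)) (char_mem_locChar (isCharacter_of_isIrr χ'.2)))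
  have h := div_centralizer_mem hM hF (fun z hz => ?_) hx
  · simpa [sub_eq_add_neg] using h
  obtain ⟨ι, _, W, A, -, hWf, hval⟩ := hsing z hz
  have key : ∀ θ ∈ B, (δ θ : ℂ) * (θ : G → ℂ) z = ∑ i, A i := fun θ hθ => by
    rw [hval θ hθ, Finset.mul_sum]
    refine Finset.sum_congr rfl fun i _ => ?_
    rw [(hWf i).2.2 h1 θ hθ, ← mul_assoc]
    rcases hδ θ hθ with h2 | h2 <;> simp [h2]
  simp [key χ hχ, key χ' hχ']

end divisibility

section product

variable {H : Type v} [Group H] [Finite H]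

theorem sum_balanced {ι : Type*} (s : Finset ι) (hs : s.card = 4) {f g : ι → ℤ}
    (hf : ∀ i ∈ s, f i = 1 ∨ f i = -1) (hg : ∀ i ∈ s, g i = 1 ∨ g i = -1)
    (hf0 : ∑ i ∈ s, f i = 0) (hg0 : ∑ i ∈ s, g i = 0) : (4 : ℤ) ∣ ∑ i ∈ s, f i * g i := by
  have h : ∑ i ∈ s, f i * g i = ∑ i ∈ s, (1 + f i) * (1 + g i) - 4 := by
    simp only [add_mul, mul_add, one_mul, mul_one, Finset.sum_add_distrib, hf0, hg0, Finset.sum_const, hs]
    norm_num
  rw [h]
  refine dvd_sub (Finset.dvd_sum fun i hi => ?_) dvd_rfl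
  rcases hf i hi with h1 | h1 <;> rcases hg i hi with h2 | h2 <;> simp [h1, h2]

/-- Two Klein four blocks with the same regular rank are perfectly isometric. -/
theorem perfect_isometry (hM : IsPModular 2 M) {B : Set (IrrCharacter G)} (hB : IsPBlock M B)
    {P : Subgroup G} (hPD : IsDefectGroup 2 M B P) (hV : IsKleinFour P)
    {C : Set (IrrCharacter H)} (hC : IsPBlock M C) {Q : Subgroup H}
    (hQD : IsDefectGroup 2 M C Q) (hW : IsKleinFour Q) (hl : blockRank 2 C = blockRank 2 B) :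
    ∃ (I : IrrCharacter H → IrrCharacter G) (ε : IrrCharacter H → ℤ),
      IsPerfectIsometry 2 M C B I ε := by
  classical
  haveI : Fact (Nat.Prime 2) := ⟨Nat.prime_two⟩
  obtain ⟨-, hk, -, -⟩ := invariants hM hB hPD hV
  obtain ⟨-, hk', -, -⟩ := invariants hM hC hQD hW
  obtain ⟨δ, hδ, hδ1, hsing, hreg⟩ := block_data hM hB hPD hV
  obtain ⟨δ', hδ', hδ1', hsing', hreg'⟩ := block_data hM hC hQD hW
  simp only [hl] at hδ1' hsing' hreg'
  obtain ⟨e⟩ : Nonempty (C ≃ B) := ⟨Finite.equivFinOfCardEq hk' |>.trans (Finite.equivFinOfCardEq hk).symm⟩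
  obtain ⟨χ₀, hχ₀⟩ := isPBlock_nonempty hB
  let I : IrrCharacter H → IrrCharacter G := fun η => if h : η ∈ C then (e ⟨η, h⟩ : IrrCharacter G) else χ₀
  have hI : ∀ η (h : η ∈ C), I η = e ⟨η, h⟩ := fun η h => dif_pos h
  have hbij : Set.BijOn I C B := by
    refine ⟨fun η h => by rw [hI η h]; exact (e ⟨η, h⟩).2, fun η h η' h' he => ?_, fun χ hχ => ?_⟩
    · rw [hI η h, hI η' h'] at he
      exact congrArg Subtype.val (e.injective (Subtype.ext he))
    · exact ⟨e.symm ⟨χ, hχ⟩, (e.symm ⟨χ, hχ⟩).2, by rw [hI _ (e.symm ⟨χ, hχ⟩).2]; simp⟩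
  have hre : ∀ F : IrrCharacter G → ℂ, ∑ η ∈ fset C, F (I η) = ∑ χ ∈ fset B, F χ := fun F =>
    Finset.sum_nbij I (fun η h => mem_fset.2 (hbij.1 (mem_fset.1 h)))
      (fun η h η' h' he => hbij.2.1 (mem_fset.1 h) (mem_fset.1 h') he)
      (fun χ h => by
        obtain ⟨η, hη, rfl⟩ := hbij.2.2 (mem_fset.1 h)
        exact ⟨η, mem_fset.2 hη, rfl⟩)
      fun η _ => rfl
  have hreZ : ∀ F : IrrCharacter G → ℤ, ∑ η ∈ fset C, F (I η) = ∑ χ ∈ fset B, F χ := fun F => by
    exact_mod_cast hre fun χ => (F χ : ℂ)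
  have hcard : (fset C).card = 4 := by rw [card_fset, hk']
  let ε : IrrCharacter H → ℤ := fun η => δ (I η) * δ' η
  have hε : ∀ η ∈ C, ε η = 1 ∨ ε η = -1 := fun η h => by
    rcases hδ (I η) (hbij.1 h) with h1 | h1 <;> rcases hδ' η h with h2 | h2 <;> simp [ε, h1, h2]
  refine ⟨I, ε, hbij, hε, fun x y => ?_⟩
  have hμ : signedBijectionKernel C I ε x y =
      ∑ η ∈ fset C, ((δ (I η) : ℂ) * (I η : G → ℂ) x) * ((δ' η : ℂ) * (η : H → ℂ) y) := by
    rw [signedBijectionKernel, finsum_mem_eq_finite_toFinset_sum _ C.toFinite]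
    exact Finset.sum_congr rfl fun η _ => by simp [ε]; ring
  rw [hμ]
  simp only [← mem_locRing, IsPRegular]
  by_cases hx : 2 ∣ orderOf x <;> by_cases hy : 2 ∣ orderOf y
  · obtain ⟨ι, _, W, A, hA, hWf, hval⟩ := hsing x hx
    obtain ⟨ι', _, W', A', hA', hWf', hval'⟩ := hsing' y hy
    have hmul : ∀ i j, ∃ m : ℤ, ∑ η ∈ fset C, (δ (I η) * W i (I η)) * (δ' η * W' j η) = 4 * m := by
      intro i j
      by_cases h1 : blockRank 2 B = 1
      · refine sum_balanced _ hcard ?_ ?_ ?_ ?_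
        · intro η hη
          rw [hδ1 h1 _ (hbij.1 (mem_fset.1 hη)), one_mul]
          exact (hWf i).1 _ (hbij.1 (mem_fset.1 hη))
        · intro η hη
          rw [hδ1' h1 _ (mem_fset.1 hη), one_mul]
          exact (hWf' j).1 _ (mem_fset.1 hη)
        · rw [hreZ fun χ => δ χ * W i χ, ← (hWf i).2.1 h1]
          exact Finset.sum_congr rfl fun χ hχ => by rw [hδ1 h1 χ (mem_fset.1 hχ), one_mul]
        · rw [← (hWf' j).2.1 h1]
          exact Finset.sum_congr rfl fun η hη => by rw [hδ1' h1 η (mem_fset.1 hη), one_mul]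
      · refine ⟨1, ?_⟩
        rw [Finset.sum_congr rfl fun η hη => ?_, Finset.sum_const, hcard]
        · rfl
        rw [(hWf i).2.2 h1 _ (hbij.1 (mem_fset.1 hη)), (hWf' j).2.2 h1 _ (mem_fset.1 hη)]
        rcases hδ (I η) (hbij.1 (mem_fset.1 hη)) with h2 | h2 <;>
          rcases hδ' η (mem_fset.1 hη) with h3 | h3 <;> simp [h2, h3]
    choose m hm using hmul
    have hsum : ∑ η ∈ fset C, ((δ (I η) : ℂ) * (I η : G → ℂ) x) * ((δ' η : ℂ) * (η : H → ℂ) y) =
        ∑ i, ∑ j, A i * A' j * (4 * (m i j : ℂ)) := by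
      calc _ = ∑ η ∈ fset C, ∑ i, ∑ j, A i * A' j *
            (((δ (I η) * W i (I η)) * (δ' η * W' j η) : ℤ) : ℂ) := by
              refine Finset.sum_congr rfl fun η hη => ?_
              rw [hval _ (hbij.1 (mem_fset.1 hη)), hval' _ (mem_fset.1 hη)]
              simp only [Finset.mul_sum, Finset.sum_mul]
              rw [Finset.sum_comm]
              refine Finset.sum_congr rfl fun i _ => Finset.sum_congr rfl fun j _ => ?_
              push_cast
              ring
        _ = _ := by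
              rw [Finset.sum_comm]
              refine Finset.sum_congr rfl fun i _ => ?_
              rw [Finset.sum_comm]
              refine Finset.sum_congr rfl fun j _ => ?_
              rw [← Finset.mul_sum, ← Int.cast_sum, hm]
              push_cast; ring
    refine ⟨?_, ?_, Or.inl (iff_of_false (not_not_intro hx) (not_not_intro hy))⟩
    · rw [hsum, Finset.sum_div]
      refine sum_mem fun i _ => ?_
      rw [Finset.sum_div]
      refine sum_mem fun j _ => ?_
      rw [show A i * A' j * (4 * (m i j : ℂ)) / (Nat.card (Subgroup.centralizer ({x} : Set G)) : ℂ) =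
        4 * A i / (Nat.card (Subgroup.centralizer ({x} : Set G)) : ℂ) * A' j * (m i j : ℂ) by ring]
      exact mul_mem (mul_mem (hA i).2 (hA' j).1) (intCast_mem _ _)
    · rw [hsum, Finset.sum_div]
      refine sum_mem fun i _ => ?_
      rw [Finset.sum_div]
      refine sum_mem fun j _ => ?_
      rw [show A i * A' j * (4 * (m i j : ℂ)) / (Nat.card (Subgroup.centralizer ({y} : Set H)) : ℂ) =
        A i * (4 * A' j / (Nat.card (Subgroup.centralizer ({y} : Set H)) : ℂ)) * (m i j : ℂ) by ring]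
      exact mul_mem (mul_mem (hA i).1 (hA' j).2) (intCast_mem _ _)
  · have h0 : ∑ η ∈ fset C, ((δ (I η) : ℂ) * (I η : G → ℂ) x) * ((δ' η : ℂ) * (η : H → ℂ) y) = 0 := by
      obtain ⟨ι, _, W, A, -, hWf, hval⟩ := hsing x hx
      by_cases h1 : blockRank 2 B = 1
      · obtain ⟨η₀, hη₀⟩ := isPBlock_nonempty hC
        calc _ = (∑ η ∈ fset C, (δ (I η) : ℂ) * (I η : G → ℂ) x) * (η₀ : H → ℂ) y := by
              rw [Finset.sum_mul]
              exact Finset.sum_congr rfl fun η hη => by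
                rw [hδ1' h1 η (mem_fset.1 hη), (hreg' y hy).1 h1 η (mem_fset.1 hη) η₀ hη₀]; simp
          _ = (∑ χ ∈ fset B, (δ χ : ℂ) * (χ : G → ℂ) x) * _ := by rw [hre fun χ => (δ χ : ℂ) * (χ : G → ℂ) x]
          _ = 0 := by
              rw [Finset.sum_congr rfl fun χ hχ => by
                rw [hδ1 h1 χ (mem_fset.1 hχ), hval χ (mem_fset.1 hχ), Int.cast_one, one_mul],
                Finset.sum_comm, Finset.sum_eq_zero fun i _ => ?_, zero_mul]
              rw [← Finset.sum_mul, ← Int.cast_sum, (hWf i).2.1 h1]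
              simp
      · calc _ = ∑ η ∈ fset C, (∑ i, A i) * ((δ' η : ℂ) * (η : H → ℂ) y) := by
              refine Finset.sum_congr rfl fun η hη => ?_
              rw [hval _ (hbij.1 (mem_fset.1 hη)), Finset.mul_sum]
              congr 1
              refine Finset.sum_congr rfl fun i _ => ?_
              rw [(hWf i).2.2 h1 _ (hbij.1 (mem_fset.1 hη)), ← mul_assoc]
              rcases hδ (I η) (hbij.1 (mem_fset.1 hη)) with h2 | h2 <;> simp [h2]
          _ = 0 := by rw [← Finset.mul_sum, (hreg' y hy).2 h1, mul_zero]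
    exact ⟨by rw [h0, zero_div]; exact zero_mem _, by rw [h0, zero_div]; exact zero_mem _, Or.inr h0⟩
  · have h0 : ∑ η ∈ fset C, ((δ (I η) : ℂ) * (I η : G → ℂ) x) * ((δ' η : ℂ) * (η : H → ℂ) y) = 0 := by
      obtain ⟨ι', _, W', A', -, hWf', hval'⟩ := hsing' y hy
      by_cases h1 : blockRank 2 B = 1
      · calc _ = (χ₀ : G → ℂ) x * ∑ η ∈ fset C, (η : H → ℂ) y := by
              rw [Finset.mul_sum]
              exact Finset.sum_congr rfl fun η hη => by
                rw [hδ1' h1 η (mem_fset.1 hη), hδ1 h1 _ (hbij.1 (mem_fset.1 hη)),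
                  (hreg x hx).1 h1 _ (hbij.1 (mem_fset.1 hη)) χ₀ hχ₀]; simp
          _ = 0 := by
              rw [Finset.sum_congr rfl fun η hη => hval' η (mem_fset.1 hη),
                Finset.sum_comm, Finset.sum_eq_zero fun i _ => ?_, mul_zero]
              rw [← Finset.sum_mul, ← Int.cast_sum, (hWf' i).2.1 h1]
              simp
      · calc _ = ∑ η ∈ fset C, ((δ (I η) : ℂ) * (I η : G → ℂ) x) * (∑ j, A' j) := by
              refine Finset.sum_congr rfl fun η hη => ?_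
              rw [hval' _ (mem_fset.1 hη)]
              congr 1
              rw [Finset.mul_sum]
              refine Finset.sum_congr rfl fun i _ => ?_
              rw [(hWf' i).2.2 h1 _ (mem_fset.1 hη), ← mul_assoc]
              rcases hδ' η (mem_fset.1 hη) with h2 | h2 <;> simp [h2]
          _ = 0 := by
              rw [← Finset.sum_mul, hre fun χ => (δ χ : ℂ) * (χ : G → ℂ) x, (hreg x hx).2 h1, zero_mul]
    exact ⟨by rw [h0, zero_div]; exact zero_mem _, by rw [h0, zero_div]; exact zero_mem _, Or.inr h0⟩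
  · refine ⟨?_, ?_, Or.inl (iff_of_true hx hy)⟩
    · by_cases h1 : blockRank 2 B = 1
      · obtain ⟨η₀, hη₀⟩ := isPBlock_nonempty hC
        have he : ∑ η ∈ fset C, ((δ (I η) : ℂ) * (I η : G → ℂ) x) * ((δ' η : ℂ) * (η : H → ℂ) y) =
            (∑ χ ∈ fset B, (χ : G → ℂ) x) * (η₀ : H → ℂ) y := by
          rw [← hre fun χ => (χ : G → ℂ) x, Finset.sum_mul]
          exact Finset.sum_congr rfl fun η hη => by
            rw [hδ1' h1 η (mem_fset.1 hη), hδ1 h1 _ (hbij.1 (mem_fset.1 hη)),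
              (hreg' y hy).1 h1 η (mem_fset.1 hη) η₀ hη₀]; simp
        rw [he, mul_div_right_comm]
        exact mul_mem (sum_div hM hB hPD hV h1 hx) (irr_mem η₀ y)
      · obtain ⟨η₀, hη₀⟩ := isPBlock_nonempty hC
        have he : ∑ η ∈ fset C, ((δ (I η) : ℂ) * (I η : G → ℂ) x) * ((δ' η : ℂ) * (η : H → ℂ) y) =
            ∑ η ∈ fset C, ((δ (I η) : ℂ) * (I η : G → ℂ) x - (δ (I η₀) : ℂ) * (I η₀ : G → ℂ) x) *
              ((δ' η : ℂ) * (η : H → ℂ) y) := by
          simp only [sub_mul, Finset.sum_sub_distrib, ← Finset.mul_sum, (hreg' y hy).2 h1, mul_zero, sub_zero]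
        rw [he, Finset.sum_div]
        refine sum_mem fun η hη => ?_
        rw [mul_div_right_comm]
        exact mul_mem (diff_div hM δ hδ hsing h1 (hbij.1 (mem_fset.1 hη)) (hbij.1 hη₀) hx)
          (mul_mem (intCast_mem _ _) (irr_mem η y))
    · by_cases h1 : blockRank 2 B = 1
      · have he : ∑ η ∈ fset C, ((δ (I η) : ℂ) * (I η : G → ℂ) x) * ((δ' η : ℂ) * (η : H → ℂ) y) =
            (χ₀ : G → ℂ) x * (∑ η ∈ fset C, (η : H → ℂ) y) := by
          rw [Finset.mul_sum]
          exact Finset.sum_congr rfl fun η hη => by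
            rw [hδ1' h1 η (mem_fset.1 hη), hδ1 h1 _ (hbij.1 (mem_fset.1 hη)),
              (hreg x hx).1 h1 _ (hbij.1 (mem_fset.1 hη)) χ₀ hχ₀]; simp
        rw [he, mul_div_assoc]
        exact mul_mem (irr_mem χ₀ x) (sum_div hM hC hQD hW (hl.trans h1) hy)
      · obtain ⟨η₀, hη₀⟩ := isPBlock_nonempty hC
        have he : ∑ η ∈ fset C, ((δ (I η) : ℂ) * (I η : G → ℂ) x) * ((δ' η : ℂ) * (η : H → ℂ) y) =
            ∑ η ∈ fset C, ((δ (I η) : ℂ) * (I η : G → ℂ) x) *
              ((δ' η : ℂ) * (η : H → ℂ) y - (δ' η₀ : ℂ) * (η₀ : H → ℂ) y) := by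
          simp only [mul_sub, Finset.sum_sub_distrib, ← Finset.sum_mul]
          rw [hre fun χ => (δ χ : ℂ) * (χ : G → ℂ) x, (hreg x hx).2 h1]
          simp
        rw [he, Finset.sum_div]
        refine sum_mem fun η hη => ?_
        rw [mul_div_assoc]
        exact mul_mem (mul_mem (intCast_mem _ _) (irr_mem (I η) x))
          (diff_div hM δ' hδ' (fun z hz => by simpa only [hl] using hsing' z hz) (hl ▸ h1)
            (mem_fset.1 hη) hη₀ hy)

end product

end CfsgLib.KleinIsometry
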