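import Cfsg.Agent.Blk.KleinBlock
import Mathlib.GroupTheory.Perm.Basic
import Mathlib.GroupTheory.GroupAction.CardCommute

/-!
Numerical invariants of a 2-block with Klein four defect group.
-/

set_option autoImplicit false
set_option linter.style.haveILetI false
set_option linter.unusedSectionVars false

namespace CfsgLib.KleinBlock

open Cfsg CfsgLib.Char CfsgLib.Blk CfsgLib.Blk.Pair CfsgLib.SubsectionPairs
open scoped CfsgLib.Char

universe u

variable {G : Type u} [Group G] [Finite G] {M : Ideal AlgInt} [M.IsMaximal]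
variable {B : Set (IrrCharacter G)} {P : Subgroup G}

theorem klein_comm (hV : IsKleinFour P) : ∀ x ∈ P, ∀ y ∈ P, x * y = y * x := by
  intro x hx y hy
  haveI := IsKleinFour.isMulCommutative (G := P)
  exact congrArg Subtype.val (mul_comm' (⟨x, hx⟩ : P) ⟨y, hy⟩)

theorem klein_order (hV : IsKleinFour P) {x : G} (hx : x ∈ P) (hx1 : x ≠ 1) : orderOf x = 2 := by
  refine orderOf_eq_prime_iff.2 ⟨?_, hx1⟩
  rw [pow_two]
  exact congrArg Subtype.val (IsKleinFour.mul_self (⟨x, hx⟩ : P))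

/-- The regular ranks of the local blocks. -/
theorem local_facts (hM : IsPModular 2 M) (hV : IsKleinFour P) {e : Set (IrrCharacter (Cn P))}
    (hmax : IsMaximalBrauerPair 2 M B P e) {v : G} (hv : v ∈ P) (hv1 : v ≠ 1)
    {f : Set (IrrCharacter (Cn (Subgroup.zpowers v)))}
    (hle : SubpairLE 2 M (Subgroup.zpowers v) f P e)
    (hind : IsInducedBlock M (Cn (Subgroup.zpowers v)) f B) :
    blockRank 2 f = 1 ∧ blockDefect 2 f = 2 ∧ blockDefect 2 B = 2 := by
  haveI : Fact (Nat.Prime 2) := ⟨Nat.prime_two⟩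
  haveI := Fintype.ofFinite G
  have hP4 : Nat.card P = 4 := IsKleinFour.card_four
  have hv2 := klein_order hV hv hv1
  have hDP := isDefectGroup_of_maximal hM hmax
  have hdB : blockDefect 2 B = 2 := Nat.pow_right_injective le_rfl
    (show 2 ^ blockDefect 2 B = 2 ^ 2 by rw [← card_defectGroup hM hind.2.1 hDP, hP4])
  obtain ⟨D, hD⟩ := exists_isDefectGroup hM hind.1
  have h1 := card_inf_Cn_le hM hmax.1.1 hle hD
  have hPC : P ≤ Cn (Subgroup.zpowers v) := fun c hc y hy =>
    klein_comm hV y (Subgroup.zpowers_le.2 hv hy) c hc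
  rw [inf_eq_left.2 hPC, hP4] at h1
  obtain ⟨E, hE, hDE⟩ := exists_defectGroup_ge hM hind hD
  have h2 := Subgroup.card_le_of_le hDE
  rw [Subgroup.card_subtype, card_defectGroup hM hind.2.1 hE, hdB] at h2
  norm_num at h2
  have hD4 : Nat.card D = 4 := le_antisymm h2 h1
  have hvC : v ∈ Cn (Subgroup.zpowers v) := hPC hv
  refine ⟨blockRank_central_involution hM hind.1 hD hD4 (z := ⟨v, hvC⟩)
    (by rw [← Subgroup.orderOf_coe]; exact hv2) ?_, ?_, hdB⟩
  · rw [Subgroup.mem_center_iff]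
    exact fun g => Subtype.ext (g.2 v (Subgroup.mem_zpowers v)).symm
  · exact Nat.pow_right_injective le_rfl
      (show 2 ^ blockDefect 2 f = 2 ^ 2 by rw [← card_defectGroup hM hind.1 hD, hD4])

/-- The automizer of a Klein four subgroup. -/
theorem card_range_dvd (hV : IsKleinFour P) {T : Type*} [Group T] (φ : T →* MulAut P) :
    Nat.card φ.range ∣ 6 := by
  classical
  haveI : Fintype P := Fintype.ofFinite P
  let ψ : MulAut P →* Equiv.Perm {x : P // x ≠ 1} :=
    { toFun := fun a => a.toEquiv.subtypeEquiv fun x => (MulEquiv.map_ne_one_iff a).symm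
      map_one' := Equiv.ext fun x => Subtype.ext rfl
      map_mul' := fun a c => Equiv.ext fun x => Subtype.ext rfl }
  have hψ : Function.Injective ψ := by
    intro a c h
    refine MulEquiv.ext fun x => ?_
    by_cases hx : x = 1
    · rw [hx, map_one, map_one]
    · exact congrArg (fun σ : Equiv.Perm {x : P // x ≠ 1} => ((σ ⟨x, hx⟩ : {x : P // x ≠ 1}) : P)) h
  have h1 : Nat.card φ.range = Nat.card (φ.range.map ψ) := (Subgroup.card_map_of_injective hψ).symm
  have h3 : Fintype.card {x : P // x ≠ 1} = 3 := by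
    rw [Fintype.card_subtype_compl, Fintype.card_subtype_eq, ← Nat.card_eq_fintype_card, IsKleinFour.card_four]
  rw [h1]
  refine (Subgroup.card_subgroup_dvd_card _).trans (dvd_of_eq ?_)
  rw [Nat.card_perm, Nat.card_eq_fintype_card, h3]
  rfl

/-- The invariants. -/
theorem klein_main (hM : IsPModular 2 M) (hB : IsPBlock M B) (hPD : IsDefectGroup 2 M B P)
    (hV : IsKleinFour P) {c : Set (IrrCharacter (Cn P))} (hc : IsInducedBlock M (Cn P) c B)
    {T : Subgroup G} (hT : ∀ g : G, g ∈ T ↔ (g ∈ Subgroup.normalizer (P : Set G) ∧ StabilizesBlock (Cn P) c g)) :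
    ((Cn P).relIndex T = 1 ∨ (Cn P).relIndex T = 3) ∧ Nat.card B = 4 ∧
      blockRank 2 B = (Cn P).relIndex T ∧ ∀ χ ∈ B, blockHeight 2 B (χ : G → ℂ) = 0 := by
  classical
  haveI : Fact (Nat.Prime 2) := ⟨Nat.prime_two⟩
  haveI := Fintype.ofFinite G
  have hab := klein_comm hV
  have hP4 : Nat.card P = 4 := IsKleinFour.card_four
  have hPp : IsPGroup 2 P := IsPGroup.of_card (n := 2) (by rw [hP4]; norm_num)
  have hPC : P ≤ Cn P := fun x hx y hy => hab y hy x hx
  have hpair := (pairOf_iff_induced hM hPp hPC hB).2 hc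
  have hmax : IsMaximalBrauerPair 2 M B P c := maximal_of_card hM hpair hPD le_rfl
  have hTN : T ≤ Subgroup.normalizer (P : Set G) := fun g hg => ((hT g).1 hg).1
  let φ : T →* MulAut P := P.normalizerMonoidHom.comp (Subgroup.inclusion hTN)
  have hker : φ.ker = (Cn P).subgroupOf T := by
    ext t
    rw [MonoidHom.mem_ker, MonoidHom.comp_apply, ← MonoidHom.mem_ker, Subgroup.normalizerMonoidHom_ker]
    rfl
  have hCT : Cn P ≤ T := by
    intro g hg
    refine (hT g).2 ⟨Cn_le_normalizer P hg, Subgroup.le_normalizer hg, fun χ hχ => ⟨χ, hχ, ?_⟩⟩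
    intro k k' hk
    rw [show k' = (⟨g, hg⟩ : Cn P) * k * (⟨g, hg⟩ : Cn P)⁻¹ from Subtype.ext hk]
    exact classFun_of_irr χ.2 _ _
  have heq : (Cn P).relIndex T = Nat.card φ.range := by
    rw [← Subgroup.index_ker, hker]; rfl
  have h6 : (Cn P).relIndex T ∣ 6 := heq ▸ card_range_dvd hV φ
  have hodd : ¬ 2 ∣ (Cn P).relIndex T := by
    intro h2
    rw [heq] at h2
    obtain ⟨⟨a, ⟨t, rfl⟩⟩, ha⟩ := exists_prime_orderOf_dvd_card' 2 h2
    rw [← Subgroup.orderOf_coe] at ha
    obtain ⟨y, hyp⟩ := exists_isPPart Nat.prime_two (t : G)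
    have hyT : y ∈ T := Subgroup.zpowers_le.2 t.2 (isPPart_mem_zpowers Nat.prime_two hyp)
    obtain ⟨r, hyr, hcyr, hy2, hr⟩ := hyp
    have hyC : y ∈ Cn P := by
      have := stabilizer_pElem_of_maximal hM hmax ((hT y).1 hyT).1 ((hT y).1 hyT).2 hy2
      rwa [sup_eq_right.2 hPC] at this
    have hrT : r ∈ T := by
      rw [show r = y⁻¹ * (t : G) by rw [← hyr, inv_mul_cancel_left]]
      exact mul_mem (inv_mem hyT) t.2
    have hφy : φ ⟨y, hyT⟩ = 1 := by
      rw [← MonoidHom.mem_ker, hker]; exact hyC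
    have hφt : φ t = φ ⟨r, hrT⟩ := by
      rw [show t = (⟨y, hyT⟩ : T) * ⟨r, hrT⟩ from Subtype.ext hyr.symm, map_mul, hφy, one_mul]
    have hd : orderOf (φ t) ∣ orderOf r := by
      rw [hφt, ← Subgroup.orderOf_mk r hrT]
      exact orderOf_map_dvd φ _
    rw [ha] at hd
    exact hr hd
  have h13 : (Cn P).relIndex T = 1 ∨ (Cn P).relIndex T = 3 := by
    have := Nat.le_of_dvd (by norm_num) h6
    rcases Nat.eq_zero_or_pos ((Cn P).relIndex T) with h | h
    · rw [h] at h6; simp at h6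
    · have key : ∀ n, n ≤ 6 → n ∣ 6 → ¬ 2 ∣ n → n = 1 ∨ n = 3 := by decide
      exact key _ this h6 hodd
  -- representatives
  have hstab : ∀ y, (y ∈ Subgroup.normalizer (P : Set G) ∧ StabilizesBlock (Cn P) c y) ↔ y ∈ T :=
    fun y => (hT y).symm
  have hfin : ∀ (ι : Type u) [Fintype ι] (v : ι → G), (∀ i, v i ∈ P ∧ v i ≠ 1) →
      (∀ i j, ∀ y ∈ T, y * v i * y⁻¹ = v j → i = j) →
      (∀ x ∈ P, x ≠ 1 → ∃ i, ∃ y ∈ T, y * v i * y⁻¹ = x) → Nonempty ι →
      Nat.card B = blockRank 2 B + Fintype.card ι ∧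
        (∀ χ ∈ B, blockHeight 2 B (χ : G → ℂ) = 0) ∧ Nat.card B ≤ 4 ∧ Nat.card B ≠ 2 ∧ Even (Nat.card B) := by
    intro ι _ v hv hsep hcov hι
    obtain ⟨f, hf, hk⟩ := card_abelian hM hmax hab v hv
      (fun i j y h1 h2 h3 => hsep i j y ((hstab y).1 ⟨h1, h2⟩) h3)
      (fun x hx hx1 => by
        obtain ⟨i, y, hy, hyx⟩ := hcov x hx hx1
        exact ⟨i, y, ((hstab y).2 hy).1, ((hstab y).2 hy).2, hyx⟩)
    have hl : ∀ i, blockRank 2 (f i) = 1 := fun i =>
      (local_facts hM hV hmax (hv i).1 (hv i).2 (hf i).1 (hf i).2).1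
    obtain ⟨i⟩ := hι
    obtain ⟨h1, h2, h3⟩ := local_facts hM hV hmax (hv i).1 (hv i).2 (hf i).1 (hf i).2
    haveI : Fintype (Cn (Subgroup.zpowers (v i))) := Fintype.ofFinite _
    refine ⟨?_, card_major hM (klein_order hV (hv i).1 (hv i).2) (cn_zpowers (v i)) (hf i).2 h2 h3 h1⟩
    rw [hk, Finset.sum_congr rfl fun i _ => hl i, Finset.sum_const, smul_eq_mul, mul_one, Finset.card_univ]
  have hne1 : Fintype.card {x : P // x ≠ 1} = 3 := by
    rw [Fintype.card_subtype_compl, Fintype.card_subtype_eq, ← Nat.card_eq_fintype_card, hP4]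
  have hlpos : 0 < blockRank 2 B := by
    obtain ⟨χ, hχ⟩ := isPBlock_nonempty hB
    rw [SectionSplit.blockRank_eq, Module.finrank_pos_iff]
    exact ⟨⟨⟨_, Submodule.subset_span ⟨χ, hχ, rfl⟩⟩, 0, fun h => regularPart_ne_zero (p := 2) χ (congrArg Subtype.val h)⟩⟩
  refine ⟨h13, ?_⟩
  rcases h13 with h1 | h3
  · have hTC : T ≤ Cn P := Subgroup.relIndex_eq_one.1 h1
    obtain ⟨hk, hh, hle, -, -⟩ := hfin {x : P // x ≠ 1} (fun x => ((x : P) : G))
      (fun x => ⟨(x : P).2, fun h => x.2 (Subtype.ext h)⟩)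
      (fun i j y hy h => by
        have hc' := hTC hy (i : P) (i : P).2
        rw [← hc', mul_inv_cancel_right] at h
        exact Subtype.ext (Subtype.ext h))
      (fun x hx hx1 => ⟨⟨⟨x, hx⟩, fun h => hx1 (congrArg Subtype.val h)⟩, 1, T.one_mem, by simp⟩)
      (Fintype.card_pos_iff.1 (by rw [hne1]; norm_num))
    rw [hne1] at hk
    exact ⟨by omega, by omega, hh⟩
  · letI act : MulAction T {x : P // x ≠ 1} :=
      { smul := fun t x => ⟨φ t x, (MulEquiv.map_ne_one_iff _).2 x.2⟩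
        one_smul := fun x => Subtype.ext (by show φ 1 (x : P) = x; rw [map_one]; rfl)
        mul_smul := fun s t x => Subtype.ext (by show φ (s * t) (x : P) = φ s (φ t x); rw [map_mul]; rfl) }
    obtain ⟨x₀, t₀, hmove⟩ : ∃ (x : {x : P // x ≠ 1}) (t : T), φ t (x : P) ≠ (x : P) := by
      by_contra hcon
      push Not at hcon
      have : φ.range = ⊥ := by
        rw [eq_bot_iff]
        rintro _ ⟨t, rfl⟩
        refine MulEquiv.ext fun z => ?_
        by_cases hz : z = 1
        · rw [hz, map_one]; rfl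
        · exact hcon ⟨z, hz⟩ t
      rw [this, Subgroup.card_bot] at heq
      omega
    have htrans : ∀ x : {x : P // x ≠ 1}, ∃ t : T, t • x₀ = x := by
      have hdvd : Nat.card (MulAction.orbit T x₀) ∣ Nat.card φ.range := by
        haveI := Fintype.ofFinite T
        have h := MulAction.index_stabilizer T x₀
        have hle' : φ.ker ≤ MulAction.stabilizer T x₀ := fun t ht => by
          rw [MulAction.mem_stabilizer_iff]
          refine Subtype.ext ?_
          show φ t (x₀ : P) = x₀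
          rw [MonoidHom.mem_ker.1 ht]; rfl
        have := Subgroup.index_dvd_of_le hle'
        rwa [Subgroup.index_ker, h, ← Nat.card_coe_set_eq] at this
      rw [← heq, h3] at hdvd
      have hgt : 1 < Nat.card (MulAction.orbit T x₀) := by
        rw [Finite.one_lt_card_iff_nontrivial]
        refine ⟨⟨⟨x₀, MulAction.mem_orbit_self x₀⟩, ⟨t₀ • x₀, MulAction.mem_orbit _ _⟩, fun h => hmove ?_⟩⟩
        exact (congrArg (fun y : MulAction.orbit T x₀ => ((y : {x : P // x ≠ 1}) : P)) h).symm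
      have h3' : Nat.card (MulAction.orbit T x₀) = 3 := by
        rcases (Nat.dvd_prime Nat.prime_three).1 hdvd with h | h <;> omega
      intro x
      have hall : MulAction.orbit T x₀ = Set.univ := Set.eq_of_subset_of_ncard_le (Set.subset_univ _)
        (by rw [Set.ncard_univ, ← Nat.card_coe_set_eq, h3', Nat.card_eq_fintype_card, hne1]) Set.finite_univ
      exact MulAction.mem_orbit_iff.1 (hall ▸ Set.mem_univ x)
    obtain ⟨hk, hh, hle, hne2, ⟨m, hm⟩⟩ := hfin PUnit (fun _ => ((x₀ : P) : G))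
      (fun _ => ⟨(x₀ : P).2, fun h => x₀.2 (Subtype.ext h)⟩) (fun _ _ _ _ _ => rfl)
      (fun x hx hx1 => by
        obtain ⟨t, ht⟩ := htrans ⟨⟨x, hx⟩, fun h => hx1 (congrArg Subtype.val h)⟩
        exact ⟨PUnit.unit, t, t.2, congrArg (fun y : {x : P // x ≠ 1} => ((y : P) : G)) ht⟩)
      inferInstance
    rw [Fintype.card_punit] at hk
    exact ⟨by omega, by omega, hh⟩

end CfsgLib.KleinBlock
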