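import Cfsg.Prelude.Def_Blocks
import Mathlib.RingTheory.Ideal.GoingUp
import Mathlib.RingTheory.LocalRing.ResidueField.Basic
import Mathlib.RingTheory.Int.Basic
import Mathlib.Data.Nat.Prime.Int
import Mathlib.RingTheory.Coprime.Lemmas
import Mathlib.FieldTheory.Minpoly.IsIntegrallyClosed
import Mathlib.RingTheory.IntegralClosure.IntegrallyClosed

/-!
The local ring of the algebraic integers at a prime ideal `M`, as a subring of `ℂ`.
-/

set_option autoImplicit false

namespace CfsgLib.Blk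

open Cfsg

theorem IsPModular.isPrime {p : ℕ} {M : Ideal AlgInt} (hM : IsPModular p M) : M.IsPrime :=
  hM.2.1.isPrime

theorem coe_ne_zero_of_notMem {M : Ideal AlgInt} {b : AlgInt} (hb : b ∉ M) : (b : ℂ) ≠ 0 := by
  intro h
  apply hb
  have : b = 0 := Subtype.ext h
  rw [this]
  exact M.zero_mem

/-- The local ring at `M`, as a subring of `ℂ`. -/
def locRing (M : Ideal AlgInt) [hM : M.IsPrime] : Subring ℂ where
  carrier := {z | MemLocalRing M z}
  zero_mem' := ⟨0, 1, M.ne_top_iff_one.1 hM.ne_top, by simp⟩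
  one_mem' := ⟨1, 1, M.ne_top_iff_one.1 hM.ne_top, by simp⟩
  add_mem' := by
    rintro x y ⟨a, b, hb, rfl⟩ ⟨c, d, hd, rfl⟩
    refine ⟨a * d + b * c, b * d, fun h => (hM.mem_or_mem h).elim hb hd, ?_⟩
    have := coe_ne_zero_of_notMem hb
    have := coe_ne_zero_of_notMem hd
    push_cast
    field_simp
  mul_mem' := by
    rintro x y ⟨a, b, hb, rfl⟩ ⟨c, d, hd, rfl⟩
    refine ⟨a * c, b * d, fun h => (hM.mem_or_mem h).elim hb hd, ?_⟩
    have := coe_ne_zero_of_notMem hb
    have := coe_ne_zero_of_notMem hd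
    push_cast
    field_simp
  neg_mem' := by
    rintro x ⟨a, b, hb, rfl⟩
    exact ⟨-a, b, hb, by push_cast; ring⟩

variable {M : Ideal AlgInt} [M.IsPrime]

theorem mem_locRing {z : ℂ} : z ∈ locRing M ↔ MemLocalRing M z := Iff.rfl

theorem algInt_mem (a : AlgInt) : (a : ℂ) ∈ locRing M :=
  ⟨a, 1, M.ne_top_iff_one.1 (Ideal.IsPrime.ne_top ‹_›), by simp⟩

theorem integral_mem {z : ℂ} (hz : IsIntegral ℤ z) : z ∈ locRing M := algInt_mem (⟨z, hz⟩ : AlgInt)

theorem memLocalIdeal_mem {z : ℂ} (hz : MemLocalIdeal M z) : z ∈ locRing M := by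
  obtain ⟨a, b, _, hb, rfl⟩ := hz
  exact ⟨a, b, hb, rfl⟩

theorem memLocalIdeal_algInt {a : AlgInt} : MemLocalIdeal M (a : ℂ) ↔ a ∈ M := by
  constructor
  · rintro ⟨c, d, hc, hd, h⟩
    rw [div_eq_iff (coe_ne_zero_of_notMem hd)] at h
    have hcd : c = a * d := Subtype.ext (by push_cast; exact h)
    rw [hcd] at hc
    exact (Ideal.IsPrime.mem_or_mem ‹_› hc).resolve_right hd
  · intro ha
    exact ⟨a, 1, ha, M.ne_top_iff_one.1 (Ideal.IsPrime.ne_top ‹_›), by simp⟩

theorem isUnit_loc_iff (x : locRing M) : IsUnit x ↔ ¬ MemLocalIdeal M (x : ℂ) := by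
  constructor
  · rintro ⟨u, rfl⟩ ⟨a, b, ha, hb, hab⟩
    obtain ⟨c, d, hd, hcd⟩ := mem_locRing.1 ((u⁻¹ : (locRing M)ˣ) : locRing M).2
    have h1 : ((u : locRing M) : ℂ) * (((u⁻¹ : (locRing M)ˣ) : locRing M) : ℂ) = 1 :=
      congrArg Subtype.val u.mul_inv
    rw [← hab, ← hcd] at h1
    field_simp [coe_ne_zero_of_notMem hb, coe_ne_zero_of_notMem hd] at h1
    have hbd : a * c = b * d := Subtype.ext (by push_cast; exact h1)
    have := M.mul_mem_right c ha
    rw [hbd] at this
    exact (Ideal.IsPrime.mem_or_mem ‹_› this).elim hb hd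
  · intro h
    obtain ⟨a, b, hb, hab⟩ := mem_locRing.1 x.2
    have ha : a ∉ M := fun ha => h ⟨a, b, ha, hb, hab⟩
    refine IsUnit.of_mul_eq_one (⟨(b : ℂ) / a, ⟨b, a, ha, rfl⟩⟩ : locRing M) (Subtype.ext ?_)
    have := coe_ne_zero_of_notMem ha
    have := coe_ne_zero_of_notMem hb
    push_cast
    rw [← hab]
    field_simp

theorem notUnit_iff (x : locRing M) : x ∈ nonunits (locRing M) ↔ MemLocalIdeal M (x : ℂ) := by
  rw [mem_nonunits_iff, isUnit_loc_iff, not_not]

theorem memLocalIdeal_add {x y : ℂ} (hx : MemLocalIdeal M x) (hy : MemLocalIdeal M y) :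
    MemLocalIdeal M (x + y) := by
  obtain ⟨a, b, ha, hb, rfl⟩ := hx
  obtain ⟨c, d, hc, hd, rfl⟩ := hy
  refine ⟨a * d + b * c, b * d, M.add_mem (M.mul_mem_right d ha) (M.mul_mem_left b hc),
    fun h => (Ideal.IsPrime.mem_or_mem ‹_› h).elim hb hd, ?_⟩
  have := coe_ne_zero_of_notMem hb
  have := coe_ne_zero_of_notMem hd
  push_cast
  field_simp

instance locRing_isLocalRing : IsLocalRing (locRing M) :=
  IsLocalRing.of_nonunits_add fun x y hx hy => by
    rw [notUnit_iff] at *
    exact memLocalIdeal_add hx hy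

/-- The residue field at `M`. -/
abbrev Res (M : Ideal AlgInt) [M.IsPrime] : Type := IsLocalRing.ResidueField (locRing M)

theorem residue_eq_zero_iff (x : locRing M) :
    IsLocalRing.residue (locRing M) x = 0 ↔ MemLocalIdeal M (x : ℂ) := by
  rw [IsLocalRing.residue_eq_zero_iff, IsLocalRing.mem_maximalIdeal, notUnit_iff]

theorem residue_eq_iff (x y : locRing M) :
    IsLocalRing.residue (locRing M) x = IsLocalRing.residue (locRing M) y ↔
      MemLocalIdeal M ((x : ℂ) - y) := by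
  rw [← sub_eq_zero, ← map_sub, residue_eq_zero_iff]
  rfl

/-- Reduction modulo `M`, extended by zero outside the local ring. -/
noncomputable def red (M : Ideal AlgInt) [M.IsPrime] (z : ℂ) : Res M :=
  letI := Classical.propDecidable (z ∈ locRing M)
  if h : z ∈ locRing M then IsLocalRing.residue (locRing M) ⟨z, h⟩ else 0

theorem red_of_mem {z : ℂ} (h : z ∈ locRing M) :
    red M z = IsLocalRing.residue (locRing M) ⟨z, h⟩ := by
  simp [red, h]

theorem red_coe (x : locRing M) : red M (x : ℂ) = IsLocalRing.residue (locRing M) x := by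
  rw [red_of_mem x.2]

theorem red_add {x y : ℂ} (hx : x ∈ locRing M) (hy : y ∈ locRing M) :
    red M (x + y) = red M x + red M y := by
  rw [red_of_mem hx, red_of_mem hy, red_of_mem (add_mem hx hy), ← map_add]
  rfl

theorem red_mul {x y : ℂ} (hx : x ∈ locRing M) (hy : y ∈ locRing M) :
    red M (x * y) = red M x * red M y := by
  rw [red_of_mem hx, red_of_mem hy, red_of_mem (mul_mem hx hy), ← map_mul]
  rfl

theorem red_sub {x y : ℂ} (hx : x ∈ locRing M) (hy : y ∈ locRing M) :
    red M (x - y) = red M x - red M y := by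
  rw [red_of_mem hx, red_of_mem hy, red_of_mem (sub_mem hx hy), ← map_sub]
  rfl

theorem red_natCast (n : ℕ) : red M (n : ℂ) = (n : Res M) := by
  rw [red_of_mem (natCast_mem _ n), ← map_natCast (IsLocalRing.residue (locRing M)) n]
  rfl

theorem red_one : red M 1 = 1 := by simpa using red_natCast (M := M) 1

theorem red_zero : red M 0 = 0 := by simpa using red_natCast (M := M) 0

theorem red_eq_zero_iff {z : ℂ} (h : z ∈ locRing M) : red M z = 0 ↔ MemLocalIdeal M z := by
  rw [red_of_mem h, residue_eq_zero_iff]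

theorem red_sum {ι : Type*} (s : Finset ι) (f : ι → ℂ) (hf : ∀ i ∈ s, f i ∈ locRing M) :
    red M (∑ i ∈ s, f i) = ∑ i ∈ s, red M (f i) := by
  classical
  induction s using Finset.induction_on with
  | empty => simp [red_zero]
  | insert a t ha ih =>
    rw [Finset.sum_insert ha, Finset.sum_insert ha,
      red_add (hf a (Finset.mem_insert_self a t))
        (sum_mem fun i hi => hf i (Finset.mem_insert_of_mem hi)),
      ih fun i hi => hf i (Finset.mem_insert_of_mem hi)]

theorem memLocalIdeal_zero : MemLocalIdeal M 0 := by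
  simpa using (memLocalIdeal_algInt (M := M) (a := 0)).2 M.zero_mem

theorem not_memLocalIdeal_one : ¬ MemLocalIdeal M 1 := by
  simpa using (memLocalIdeal_algInt (M := M) (a := 1)).not.2 (M.ne_top_iff_one.1 (Ideal.IsPrime.ne_top ‹_›))

theorem memLocalIdeal_mul_left {x y : ℂ} (hx : x ∈ locRing M) (hy : MemLocalIdeal M y) :
    MemLocalIdeal M (x * y) := by
  have hy' := memLocalIdeal_mem hy
  rw [← red_eq_zero_iff (mul_mem hx hy'), red_mul hx hy', (red_eq_zero_iff hy').2 hy, mul_zero]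

theorem memLocalIdeal_mul_right {x y : ℂ} (hx : MemLocalIdeal M x) (hy : y ∈ locRing M) :
    MemLocalIdeal M (x * y) := by
  rw [mul_comm]; exact memLocalIdeal_mul_left hy hx

theorem memLocalIdeal_neg {x : ℂ} (hx : MemLocalIdeal M x) : MemLocalIdeal M (-x) := by
  simpa using memLocalIdeal_mul_left (neg_mem (one_mem (locRing M))) hx

theorem memLocalIdeal_sub {x y : ℂ} (hx : MemLocalIdeal M x) (hy : MemLocalIdeal M y) :
    MemLocalIdeal M (x - y) := by
  simpa [sub_eq_add_neg] using memLocalIdeal_add hx (memLocalIdeal_neg hy)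

theorem memLocalIdeal_sum {ι : Type*} (s : Finset ι) (f : ι → ℂ)
    (hf : ∀ i ∈ s, MemLocalIdeal M (f i)) : MemLocalIdeal M (∑ i ∈ s, f i) :=
  Finset.sum_induction f (MemLocalIdeal M) (fun _ _ => memLocalIdeal_add) memLocalIdeal_zero hf

section pmod

variable {p : ℕ}

theorem natCast_memLocalIdeal_iff (hM : IsPModular p M) (n : ℕ) :
    MemLocalIdeal M (n : ℂ) ↔ p ∣ n := by
  have hcast : ((n : AlgInt) : ℂ) = (n : ℂ) := by norm_cast
  rw [← hcast, memLocalIdeal_algInt]
  constructor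
  · intro hn
    by_contra hd
    have hcop : IsCoprime (n : ℤ) (p : ℤ) :=
      Int.isCoprime_iff_nat_coprime.2
        (by simpa using ((Nat.coprime_comm.1 ((hM.1.coprime_iff_not_dvd).2 hd))))
    obtain ⟨u, v, huv⟩ := hcop
    apply M.ne_top_iff_one.1 (Ideal.IsPrime.ne_top ‹_›)
    have h1 : (1 : AlgInt) = (u : AlgInt) * n + (v : AlgInt) * p := by
      have := congrArg (Int.cast : ℤ → AlgInt) huv
      push_cast at this
      exact this.symm
    rw [h1]
    exact M.add_mem (M.mul_mem_left _ hn) (M.mul_mem_left _ hM.2.2)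
  · rintro ⟨m, rfl⟩
    push_cast
    exact M.mul_mem_right _ hM.2.2

theorem intCast_memLocalIdeal_iff (hM : IsPModular p M) (n : ℤ) :
    MemLocalIdeal M (n : ℂ) ↔ (p : ℤ) ∣ n := by
  rw [Int.natCast_dvd, ← natCast_memLocalIdeal_iff hM]
  obtain h | h := Int.natAbs_eq n <;> rw [h]
  · simp
  · simp only [Int.cast_neg, Int.cast_natCast, Int.natAbs_neg, Int.natAbs_natCast]
    exact ⟨fun h => by simpa using memLocalIdeal_neg h, memLocalIdeal_neg⟩

theorem charP_res (hM : IsPModular p M) : CharP (Res M) p :=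
  ⟨fun n => by rw [← red_natCast, red_eq_zero_iff (natCast_mem _ n),
    natCast_memLocalIdeal_iff hM]⟩

theorem natCast_inv_mem (hM : IsPModular p M) {n : ℕ} (hn : ¬ p ∣ n) :
    ((n : ℂ))⁻¹ ∈ locRing M := by
  refine ⟨1, (n : AlgInt), fun h => hn ?_, by push_cast; rw [one_div]⟩
  rw [← natCast_memLocalIdeal_iff (M := M) hM]
  simpa using (memLocalIdeal_algInt (M := M)).2 h

theorem memLocalIdeal_natCast_mul_iff (hM : IsPModular p M) {n : ℕ} (hn : ¬ p ∣ n) (z : ℂ) :
    MemLocalIdeal M ((n : ℂ) * z) ↔ MemLocalIdeal M z := by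
  refine ⟨fun h => ?_, memLocalIdeal_mul_left (natCast_mem _ n)⟩
  have hn0 : (n : ℂ) ≠ 0 := Nat.cast_ne_zero.2 (fun h0 => hn (h0 ▸ dvd_zero p))
  simpa [← mul_assoc, inv_mul_cancel₀ hn0] using memLocalIdeal_mul_left (natCast_inv_mem hM hn) h

theorem isMaximal_of_natCast_mem (hp : p.Prime) (P : Ideal AlgInt) [P.IsPrime]
    (h : (p : AlgInt) ∈ P) : P.IsMaximal := by
  haveI : Fact p.Prime := ⟨hp⟩
  have hPm : (Ideal.span {(p : ℤ)}).IsMaximal :=
    PrincipalIdealRing.isMaximal_of_irreducible (Nat.prime_iff_prime_int.1 hp).irreducible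
  have hle : Ideal.span {(p : ℤ)} ≤ P.comap (algebraMap ℤ AlgInt) := by
    rw [Ideal.span_le, Set.singleton_subset_iff]
    simpa using h
  have heq := hPm.eq_of_le (Ideal.IsPrime.ne_top (Ideal.IsPrime.comap (algebraMap ℤ AlgInt))) hle
  exact Ideal.isMaximal_of_isIntegral_of_isMaximal_comap P (heq ▸ hPm)

/-- Every element of the local ideal has a power in `n · locRing`, for `n ≠ 0`. -/
theorem exists_pow_dvd (hM : IsPModular p M) {x : locRing M} (hx : MemLocalIdeal M (x : ℂ))
    {n : ℕ} (hn : n ≠ 0) : ∃ k : ℕ, 0 < k ∧ (n : locRing M) ∣ x ^ k := by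
  obtain ⟨a, b, ha, hb, hab⟩ := hx
  have hrad : x ∈ (Ideal.span {(p : locRing M)}).radical := by
    rw [Ideal.radical_eq_sInf, Ideal.mem_sInf]
    rintro Q ⟨hQ, hQp⟩
    let f : AlgInt →+* locRing M :=
      (AlgInt.val : AlgInt →ₐ[ℤ] ℂ).toRingHom.codRestrict (locRing M) algInt_mem
    haveI : (Q.comap f).IsPrime := Ideal.IsPrime.comap f
    have hp' : (p : AlgInt) ∈ Q.comap f := by
      rw [Ideal.mem_comap, map_natCast]
      exact hQ (Ideal.mem_span_singleton_self _)
    have hle : Q.comap f ≤ M := by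
      intro c hc
      by_contra hcM
      have hu : IsUnit (f c) := (isUnit_loc_iff _).2 (fun h => hcM (memLocalIdeal_algInt.1 h))
      exact hQp.ne_top (Ideal.eq_top_of_isUnit_mem _ hc hu)
    have heq := (isMaximal_of_natCast_mem hM.1 _ hp').eq_of_le (Ideal.IsPrime.ne_top ‹_›) hle
    have haQ : f a ∈ Q := by
      rw [← heq] at ha
      exact ha
    have hxb : x * f b = f a := Subtype.ext (by
      change (x : ℂ) * (b : ℂ) = (a : ℂ)
      rw [← hab, div_mul_cancel₀ _ (coe_ne_zero_of_notMem hb)])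
    rw [← hxb] at haQ
    refine (hQp.mem_or_mem haQ).resolve_right fun h => hQp.ne_top
      (Ideal.eq_top_of_isUnit_mem _ h ?_)
    exact (isUnit_loc_iff _).2 (fun h => hb (memLocalIdeal_algInt.1 h))
  obtain ⟨j, hj⟩ := hrad
  rw [Ideal.mem_span_singleton] at hj
  obtain ⟨v, m, hm, rfl⟩ := Nat.exists_eq_pow_mul_and_not_dvd hn p hM.1.ne_one
  refine ⟨j * v + 1, Nat.succ_pos _, ?_⟩
  push_cast
  refine (IsUnit.mul_right_dvd ?_).2 (dvd_trans (pow_dvd_pow_of_dvd hj v)
    (by rw [← pow_mul]; exact pow_dvd_pow _ (Nat.le_succ _)))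
  rw [isUnit_loc_iff]
  simpa [natCast_memLocalIdeal_iff hM] using hm

end pmod

end CfsgLib.Blk
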