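import Cfsg.Agent.Blk.Rank
import Cfsg.Agent.Solv.CoprimeSylow
import Cfsg.Agent.Inv.CharTwo
import Cfsg.Agent.Inv.Dihedral

/-!
Groups without elements of order `2p`, `p` odd: either a character of `p`-defect zero exists, or
the Sylow `p`-subgroups are abelian, inverted by involutions, and all involutions are conjugate.
-/

set_option autoImplicit false
set_option linter.style.haveILetI false
set_option linter.unusedSectionVars false

namespace CfsgLib.Blk

open Cfsg

universe u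

variable {G : Type u} [Group G] [Finite G] {p : ℕ} [Fact p.Prime]

theorem odd_centralizer_of_no_two_p (hp2 : p ≠ 2) (h2p : ∀ g : G, orderOf g ≠ 2 * p) {u : G}
    (hu : ∃ k : ℕ, orderOf u = p ^ k) (hu1 : u ≠ 1) :
    Odd (Nat.card (Subgroup.centralizer ({u} : Set G))) := by
  have hp : p.Prime := Fact.out
  rw [← Nat.not_even_iff_odd, even_iff_two_dvd]
  intro h2
  haveI : Fact (Nat.Prime 2) := ⟨Nat.prime_two⟩
  obtain ⟨w, hw⟩ := exists_prime_orderOf_dvd_card' 2 h2
  obtain ⟨k, hk⟩ := hu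
  rcases Nat.eq_zero_or_pos k with rfl | hk0
  · exact hu1 (orderOf_eq_one_iff.1 (by rw [hk, pow_zero]))
  have hv : orderOf (u ^ (orderOf u / p)) = p :=
    orderOf_pow_orderOf_div (orderOf_pos u).ne' (hk ▸ dvd_pow_self p hk0.ne')
  have hc : Commute (w : G) (u ^ (orderOf u / p)) :=
    (show Commute (w : G) u from Subgroup.mem_centralizer_singleton_iff.1 w.2).pow_right _
  rw [← Subgroup.orderOf_coe] at hw
  refine h2p ((w : G) * u ^ (orderOf u / p)) ?_
  rw [hc.orderOf_mul_eq_mul_orderOf_of_coprime, hw, hv]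
  rw [hw, hv]
  exact (Nat.coprime_primes Nat.prime_two hp).2 (Ne.symm hp2)

/-- An involution inverting `u ≠ 1` inverts a Sylow subgroup of its centralizer. -/
theorem exists_inverted_sylow (hp2 : p ≠ 2) (h2p : ∀ g : G, orderOf g ≠ 2 * p) {u w : G}
    (hu : ∃ k : ℕ, orderOf u = p ^ k) (hu1 : u ≠ 1) (hw : orderOf w = 2)
    (hinv : w * u * w⁻¹ = u⁻¹) :
    ∃ Q : Subgroup G, IsSylowIn p Q (Subgroup.centralizer ({u} : Set G)) ∧
      ∀ x ∈ Q, w * x * w⁻¹ = x⁻¹ := by
  classical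
  have hp : p.Prime := Fact.out
  set L := Subgroup.centralizer ({u} : Set G) with hL
  have hodd : Odd (Nat.card L) := odd_centralizer_of_no_two_p hp2 h2p hu hu1
  have hnorm : Subgroup.zpowers w ≤ Subgroup.normalizer (L : Set G) := by
    rw [Subgroup.zpowers_le, Subgroup.mem_normalizer_iff]
    intro y
    have e : Subgroup.centralizer ({u⁻¹} : Set G) = L := by
      ext z
      simp only [hL, Subgroup.mem_centralizer_singleton_iff]
      exact ⟨fun h => by simpa using (Commute.inv_right (h : Commute z _)).eq,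
        fun h => (Commute.inv_right (h : Commute z _)).eq⟩
    have h1 : y ∈ L ↔ w * y * w⁻¹ ∈ Subgroup.centralizer ({w * u * w⁻¹} : Set G) := by
      rw [← centralizer_singleton_conj, mem_map_conj]
      simp [hL, mul_assoc]
    rw [hinv, e] at h1
    exact h1
  have hcop : Nat.Coprime (Nat.card (Subgroup.zpowers w)) (Nat.card L) := by
    rw [Nat.card_zpowers, hw]
    exact Nat.coprime_two_left.2 hodd
  obtain ⟨P, hP⟩ := CfsgLib.Solv.exists_invariant_sylow (p := p) hnorm hcop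
    (Or.inl inferInstance)
  have hQ := isSylowIn_map L P
  refine ⟨_, hQ, ?_⟩
  have hcardQ : Odd (Nat.card ((P : Subgroup L).map L.subtype)) :=
    hodd.of_dvd_nat (Subgroup.card_dvd_of_le hQ.le)
  refine CfsgLib.Inv.inverted_of_no_fixed hcardQ ?_ ?_ ?_
  · rw [← pow_two, ← hw, pow_orderOf_eq_one]
  · exact fun v hv => (Subgroup.mem_normalizer_iff.1 (hP (Subgroup.mem_zpowers w)) v).1 hv
  · intro v hv hc
    by_contra hv1
    obtain ⟨i, hi⟩ := IsPGroup.iff_orderOf.1 hQ.isPGroup ⟨v, hv⟩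
    have hodd' := odd_centralizer_of_no_two_p hp2 h2p ⟨i, by rwa [← Subgroup.orderOf_mk v hv]⟩ hv1
    have hwC : w ∈ Subgroup.centralizer ({v} : Set G) :=
      Subgroup.mem_centralizer_singleton_iff.2 hc.eq
    have := hodd'.of_dvd_nat (Subgroup.orderOf_dvd_natCard _ hwC)
    rw [hw] at this
    exact absurd this (by decide)

theorem commute_of_inverted {Q : Subgroup G} {w : G} (h : ∀ x ∈ Q, w * x * w⁻¹ = x⁻¹) :
    ∀ a ∈ Q, ∀ b ∈ Q, a * b = b * a := by
  intro a ha b hb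
  have h1 : w * (a * b) * w⁻¹ = a⁻¹ * b⁻¹ := by
    rw [← h a ha, ← h b hb]
    group
  rw [h _ (mul_mem ha hb), ← mul_inv_rev] at h1
  exact inv_injective h1

/-- Every `p`-element inverted by an involution forces an inverted Sylow subgroup. -/
theorem exists_inverted_full_sylow (hp2 : p ≠ 2) (h2p : ∀ g : G, orderOf g ≠ 2 * p) {u w : G}
    (hu : ∃ k : ℕ, orderOf u = p ^ k) (hu1 : u ≠ 1) (hw : orderOf w = 2)
    (hinv : w * u * w⁻¹ = u⁻¹) :
    ∃ S : Sylow p G, ∀ x ∈ (S : Subgroup G), w * x * w⁻¹ = x⁻¹ := by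
  classical
  have hp : p.Prime := Fact.out
  obtain ⟨Q, hQ, hQinv⟩ := exists_inverted_sylow hp2 h2p hu hu1 hw hinv
  obtain ⟨S, hQS⟩ := hQ.isPGroup.exists_le_sylow
  have huQ : u ∈ Q := by
    have hz : Subgroup.zpowers u ≤ Subgroup.centralizer ({u} : Set G) :=
      Subgroup.zpowers_le.2 (Subgroup.mem_centralizer_singleton_iff.2 rfl)
    obtain ⟨x, hx⟩ := hQ.exists_conj_le (isPGroup_zpowers hu) hz
    obtain ⟨hxC, hx⟩ := hx
    have := hx ⟨u, Subgroup.mem_zpowers u, rfl⟩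
    simpa [Subgroup.mem_centralizer_singleton_iff.1 hxC, mul_assoc] using this
  haveI : Nontrivial (S : Subgroup G) := (Subgroup.nontrivial_iff_ne_bot _).2 fun h =>
    hu1 (by simpa [h] using hQS huQ)
  haveI := S.isPGroup'.center_nontrivial
  obtain ⟨⟨v, hvc⟩, hv1⟩ := exists_ne (1 : Subgroup.center (S : Subgroup G))
  have hvS : ∀ x ∈ (S : Subgroup G), x * (v : G) = v * x := fun x hx =>
    congrArg Subtype.val (Subgroup.mem_center_iff.1 hvc ⟨x, hx⟩)
  have hvQ : (v : G) ∈ Q := by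
    have hR : IsPGroup p ↥(Q ⊔ Subgroup.zpowers (v : G)) :=
      S.isPGroup'.to_le (sup_le hQS (Subgroup.zpowers_le.2 v.2))
    have hRC : Q ⊔ Subgroup.zpowers (v : G) ≤ Subgroup.centralizer ({u} : Set G) :=
      sup_le hQ.le (Subgroup.zpowers_le.2 (Subgroup.mem_centralizer_singleton_iff.2
        (hvS u (hQS huQ)).symm))
    have := hQ.eq_of_le le_sup_left hRC hR
    rw [← this]
    exact Subgroup.mem_sup_right (Subgroup.mem_zpowers _)
  obtain ⟨i, hi⟩ := IsPGroup.iff_orderOf.1 S.isPGroup' v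
  obtain ⟨R, hR, hRinv⟩ := exists_inverted_sylow hp2 h2p (u := (v : G))
    ⟨i, by rw [Subgroup.orderOf_coe, hi]⟩ (fun h => hv1 (Subtype.ext (Subtype.ext h))) hw
    (hQinv _ hvQ)
  have hSC : (S : Subgroup G) ≤ Subgroup.centralizer ({(v : G)} : Set G) := fun x hx =>
    Subgroup.mem_centralizer_singleton_iff.2 (hvS x hx)
  obtain ⟨x, -, hx⟩ := hR.exists_conj_le S.isPGroup' hSC
  have h1 := Subgroup.card_le_of_le hx
  rw [card_map_conj] at h1
  obtain ⟨T, hRT⟩ := hR.isPGroup.exists_le_sylow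
  have hTR : R = (T : Subgroup G) := Subgroup.eq_of_le_of_card_ge hRT (by
    rw [T.card_eq_multiplicity, ← S.card_eq_multiplicity]; exact h1)
  exact ⟨T, fun y hy => hRinv y (hTR ▸ hy)⟩

theorem defect_zero_or_inverted (hp2 : p ≠ 2) (h2p : ∀ g : G, orderOf g ≠ 2 * p) :
    (∃ χ : IrrCharacter G, (charDegree (χ : G → ℂ)).factorization p = (Nat.card G).factorization p) ∨
      ∀ z : G, orderOf z = 2 → ∀ P : Sylow p G, ∃ g : G, IsConj z g ∧
        ∀ x ∈ (P : Subgroup G), g * x * g⁻¹ = x⁻¹ := by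
  classical
  haveI := Fintype.ofFinite G
  have hp : p.Prime := Fact.out
  by_cases hdz : ∃ χ : IrrCharacter G,
      (charDegree (χ : G → ℂ)).factorization p = (Nat.card G).factorization p
  · exact Or.inl hdz
  refine Or.inr fun z hz P => ?_
  have hzC : ¬ p ∣ Nat.card (Subgroup.centralizer ({z} : Set G)) := by
    intro h
    obtain ⟨v, hv⟩ := exists_prime_orderOf_dvd_card' p h
    rw [← Subgroup.orderOf_coe] at hv
    have hc : Commute z (v : G) :=
      (show Commute (v : G) z from Subgroup.mem_centralizer_singleton_iff.1 v.2).symm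
    refine h2p (z * (v : G)) ?_
    rw [hc.orderOf_mul_eq_mul_orderOf_of_coprime, hz, hv]
    rw [hz, hv]
    exact (Nat.coprime_primes Nat.prime_two hp).2 (Ne.symm hp2)
  obtain ⟨g, h, hg, hh, k, hk, hgh⟩ : ∃ g h : G, IsConj z g ∧ IsConj z h ∧
      ∃ k : ℕ, 0 < k ∧ orderOf (g * h⁻¹) = p ^ k := by
    by_contra! hno
    exact hdz (exists_defect_zero_of_separated hzC hno)
  have hord : ∀ a : G, IsConj z a → orderOf a = 2 := by
    intro a ha
    obtain ⟨c, rfl⟩ := isConj_iff.1 ha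
    rw [isPPart_conj.orderOf_mulAut_conj, hz]
  have hgg : g⁻¹ = g := inv_eq_of_mul_eq_one_left (by
    rw [← pow_two, ← hord g hg, pow_orderOf_eq_one])
  have hhh : h⁻¹ = h := inv_eq_of_mul_eq_one_left (by
    rw [← pow_two, ← hord h hh, pow_orderOf_eq_one])
  have hu1 : g * h⁻¹ ≠ 1 := fun e => by
    rw [e, orderOf_one] at hgh
    exact (Nat.one_lt_pow hk.ne' hp.one_lt).ne hgh
  have hinv : g * (g * h⁻¹) * g⁻¹ = (g * h⁻¹)⁻¹ := by
    rw [mul_inv_rev, inv_inv, hgg, hhh, ← mul_assoc, ← pow_two g, ← hord g hg, pow_orderOf_eq_one,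
      one_mul]
  obtain ⟨S, hS⟩ := exists_inverted_full_sylow hp2 h2p ⟨k, hgh⟩ hu1 (hord g hg) hinv
  obtain ⟨c, hc⟩ := MulAction.exists_smul_eq G S P
  refine ⟨c * g * c⁻¹, hg.trans (isConj_iff.2 ⟨c, rfl⟩), fun x hx => ?_⟩
  have hx' : c⁻¹ * x * c ∈ (S : Subgroup G) := by
    rw [← hc] at hx
    obtain ⟨y, hy, rfl⟩ := hx
    simpa [MulAut.conj_apply, mul_assoc] using SetLike.mem_coe.1 hy
  calc c * g * c⁻¹ * x * (c * g * c⁻¹)⁻¹ = c * (g * (c⁻¹ * x * c) * g⁻¹) * c⁻¹ := by group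
    _ = c * (c⁻¹ * x * c)⁻¹ * c⁻¹ := by rw [hS _ hx']
    _ = x⁻¹ := by group

end CfsgLib.Blk
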