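import Mathlib.GroupTheory.PGroup
import Mathlib.GroupTheory.Nilpotent
import Mathlib.GroupTheory.Sylow
import Mathlib.Algebra.BigOperators.Finprod

/-!
Alternating sums over normal chains of p-subgroups whose stabiliser contains a given p-element:
only the chain `{⟨u⟩}` survives.
-/

set_option autoImplicit false
set_option linter.style.haveILetI false
set_option linter.unusedSectionVars false

namespace CfsgLib.NormalChains

open scoped Classical

universe u

variable {G : Type u} [Group G] [Fintype G] {p : ℕ} [Fact p.Prime]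

/-- A chain of nontrivial p-subgroups, all normal in the largest. -/
def IsNChain (p : ℕ) (s : Finset (Subgroup G)) : Prop :=
  s.Nonempty ∧ (∀ Q ∈ s, ∀ R ∈ s, Q ≤ R ∨ R ≤ Q) ∧ (∀ Q ∈ s, Q ≠ ⊥ ∧ IsPGroup p Q) ∧
    ∃ T ∈ s, ∀ Q ∈ s, Q ≤ T ∧ T ≤ Subgroup.normalizer ((Q : Subgroup G) : Set G)

/-- The stabiliser of a chain. -/
def stab (s : Finset (Subgroup G)) : Subgroup G :=
  ⨅ Q ∈ s, Subgroup.normalizer ((Q : Subgroup G) : Set G)

theorem mem_stab {s : Finset (Subgroup G)} {x : G} :
    x ∈ stab s ↔ ∀ Q ∈ s, x ∈ Subgroup.normalizer ((Q : Subgroup G) : Set G) := by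
  simp [stab, Subgroup.mem_iInf]

theorem map_conj_normalizer {H : Subgroup G} {x : G} :
    x ∈ Subgroup.normalizer (H : Set G) ↔ H.map (MulAut.conj x).toMonoidHom = H := by
  constructor
  · intro hx
    ext y
    constructor
    · rintro ⟨h, hh, rfl⟩
      exact (Subgroup.mem_normalizer_iff.1 hx h).1 hh
    · intro hy
      refine ⟨x⁻¹ * y * x, (Subgroup.mem_normalizer_iff.1 hx _).2 ?_, ?_⟩
      · simpa [mul_assoc] using hy
      · simp [mul_assoc]
  · intro hx
    refine Subgroup.mem_normalizer_iff.2 fun h => ⟨fun hh => ?_, fun hh => ?_⟩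
    · rw [← hx]
      exact ⟨h, hh, rfl⟩
    · rw [← hx] at hh
      obtain ⟨k, hk, hke⟩ := hh
      have : k = h := (MulAut.conj x).injective hke
      exact this ▸ hk

variable (u : G)

/-- The largest member not containing `u`. -/
noncomputable def low (s : Finset (Subgroup G)) : Subgroup G := (s.filter fun Q => u ∉ Q).sup id

/-- The largest member, enlarged by `u`. -/
noncomputable def topU (s : Finset (Subgroup G)) : Subgroup G := s.sup id ⊔ Subgroup.zpowers u

/-- Normal closure of `u` in `H`, for `u ∈ H`. -/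
def ncl (H : Subgroup G) : Subgroup G := Subgroup.closure {y | ∃ t ∈ H, y = t * u * t⁻¹}

/-- The member to be toggled. -/
noncomputable def pivot (s : Finset (Subgroup G)) : Subgroup G := low u s ⊔ ncl u (topU u s)

/-- The toggled chain. -/
noncomputable def flip (s : Finset (Subgroup G)) : Finset (Subgroup G) :=
  if pivot u s ∈ s then s.erase (pivot u s) else insert (pivot u s) s

variable {u}

theorem ncl_le {H : Subgroup G} (hu : u ∈ H) : ncl u H ≤ H := by
  rw [ncl, Subgroup.closure_le]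
  rintro y ⟨t, ht, rfl⟩
  exact mul_mem (mul_mem ht hu) (inv_mem ht)

theorem mem_ncl (H : Subgroup G) : u ∈ ncl u H := Subgroup.subset_closure ⟨1, one_mem H, by simp⟩

theorem mem_topU (s : Finset (Subgroup G)) : u ∈ topU u s :=
  Subgroup.mem_sup_right (Subgroup.mem_zpowers u)

theorem zpowers_le_ncl (H : Subgroup G) : Subgroup.zpowers u ≤ ncl u H :=
  Subgroup.zpowers_le.2 (mem_ncl H)

/-- What the chain data says. -/
structure Data (p : ℕ) (u : G) (s : Finset (Subgroup G)) (T : Subgroup G) : Prop where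
  chain : IsNChain p s
  mem : T ∈ s
  le : ∀ Q ∈ s, Q ≤ T
  normal : ∀ Q ∈ s, T ≤ Subgroup.normalizer ((Q : Subgroup G) : Set G)
  stab : u ∈ stab s
  pelt : ∃ k : ℕ, orderOf u = p ^ k
  ne : u ≠ 1

theorem exists_data {s : Finset (Subgroup G)} (h : IsNChain p s) (hs : u ∈ stab s)
    (hu : ∃ k : ℕ, orderOf u = p ^ k) (hu1 : u ≠ 1) : ∃ T, Data p u s T := by
  obtain ⟨T, hT, hT'⟩ := h.2.2.2
  exact ⟨T, h, hT, fun Q hQ => (hT' Q hQ).1, fun Q hQ => (hT' Q hQ).2, hs, hu, hu1⟩

namespace Data

variable {s : Finset (Subgroup G)} {T : Subgroup G} (D : Data p u s T)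
include D

theorem sup_eq : s.sup id = T :=
  le_antisymm (Finset.sup_le D.le) (Finset.le_sup (f := id) D.mem)

theorem topU_eq : topU u s = T ⊔ Subgroup.zpowers u := by rw [topU, D.sup_eq]

theorem topU_le_normalizer {Q : Subgroup G} (hQ : Q ∈ s) :
    topU u s ≤ Subgroup.normalizer ((Q : Subgroup G) : Set G) := by
  rw [D.topU_eq]
  exact sup_le (D.normal Q hQ) (Subgroup.zpowers_le.2 (mem_stab.1 D.stab Q hQ))

theorem isPGroup_topU : IsPGroup p (topU u s) := by
  rw [D.topU_eq]
  refine IsPGroup.to_sup_of_normal_left' (D.chain.2.2.1 T D.mem).2 ?_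
    (Subgroup.zpowers_le.2 (mem_stab.1 D.stab T D.mem))
  obtain ⟨k, hk⟩ := D.pelt
  exact IsPGroup.of_card (n := k) (by rw [Nat.card_zpowers, hk])

theorem low_spec : u ∉ low u s ∧ (low u s = ⊥ ∨ low u s ∈ s) := by
  rcases (s.filter fun Q => u ∉ Q).eq_empty_or_nonempty with h | h
  · simp [low, h, D.ne]
  · obtain ⟨Q, hQ, hmax⟩ := Finset.exists_maximal h
    have hQs := Finset.mem_filter.1 hQ
    have e : low u s = Q := by
      refine le_antisymm (Finset.sup_le fun R hR => ?_) (Finset.le_sup (f := id) hQ)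
      rcases D.chain.2.1 R (Finset.mem_filter.1 hR).1 Q hQs.1 with h' | h'
      · exact h'
      · exact hmax hR h'
    rw [e]
    exact ⟨hQs.2, Or.inr hQs.1⟩

theorem low_le {Q : Subgroup G} (hQ : Q ∈ s) (hu : u ∈ Q) : low u s ≤ Q := by
  refine Finset.sup_le fun R hR => ?_
  obtain ⟨hR, huR⟩ := Finset.mem_filter.1 hR
  rcases D.chain.2.1 R hR Q hQ with h | h
  · exact h
  · exact absurd (h hu) huR

theorem le_low {Q : Subgroup G} (hQ : Q ∈ s) (hu : u ∉ Q) : Q ≤ low u s :=
  Finset.le_sup (f := id) (Finset.mem_filter.2 ⟨hQ, hu⟩)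

theorem normalizer_low {x : G} (hx : ∀ Q ∈ s, x ∈ Subgroup.normalizer ((Q : Subgroup G) : Set G)) :
    x ∈ Subgroup.normalizer ((low u s : Subgroup G) : Set G) := by
  rcases D.low_spec.2 with h | h
  · rw [h]
    exact map_conj_normalizer.2 (Subgroup.map_bot _)
  · exact hx _ h

theorem low_le_topU : low u s ≤ topU u s := by
  rw [D.topU_eq]
  exact le_sup_of_le_left (Finset.sup_le fun Q hQ => D.le Q (Finset.mem_filter.1 hQ).1)

theorem pivot_le : pivot u s ≤ topU u s := sup_le D.low_le_topU (ncl_le (mem_topU s))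

theorem mem_pivot : u ∈ pivot u s := Subgroup.mem_sup_right (mem_ncl _)

theorem pivot_normalizer {x : G} (hx : ∀ Q ∈ s, x ∈ Subgroup.normalizer ((Q : Subgroup G) : Set G))
    (hux : x ∈ topU u s ∨ x * u * x⁻¹ = u) :
    x ∈ Subgroup.normalizer ((pivot u s : Subgroup G) : Set G) := by
  have hT : (topU u s).map (MulAut.conj x).toMonoidHom = topU u s := by
    rcases hux with h | h
    · exact map_conj_normalizer.1 (Subgroup.le_normalizer h)
    · rw [D.topU_eq, Subgroup.map_sup, map_conj_normalizer.1 (hx T D.mem), MonoidHom.map_zpowers]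
      congr 2
  have hnc : (ncl u (topU u s)).map (MulAut.conj x).toMonoidHom = ncl u (topU u s) := by
    rw [ncl, MonoidHom.map_closure]
    congr 1
    ext y
    simp only [Set.mem_image, Set.mem_ofPred_eq, MulEquiv.coe_toMonoidHom, MulAut.conj_apply]
    constructor
    · rintro ⟨_, ⟨t, ht, rfl⟩, rfl⟩
      rcases hux with h | h
      · exact ⟨x * t, mul_mem h ht, by group⟩
      · refine ⟨x * t * x⁻¹, ?_, ?_⟩
        · rw [← hT]; exact ⟨t, ht, by simp⟩
        · conv_rhs => rw [← h]
          group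
    · rintro ⟨t, ht, rfl⟩
      rcases hux with h | h
      · exact ⟨x⁻¹ * t * u * (x⁻¹ * t)⁻¹, ⟨x⁻¹ * t, mul_mem (inv_mem h) ht, rfl⟩, by group⟩
      · have : t ∈ (topU u s).map (MulAut.conj x).toMonoidHom := by rwa [hT]
        obtain ⟨t', ht', rfl⟩ := this
        refine ⟨t' * u * t'⁻¹, ⟨t', ht', rfl⟩, ?_⟩
        simp only [MulEquiv.coe_toMonoidHom, MulAut.conj_apply]
        conv_rhs => rw [← h]
        group
  rw [map_conj_normalizer, pivot, Subgroup.map_sup, hnc, map_conj_normalizer.1 (D.normalizer_low hx)]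

theorem topU_le_normalizer_pivot : topU u s ≤ Subgroup.normalizer ((pivot u s : Subgroup G) : Set G) :=
  fun _ hx => D.pivot_normalizer (fun _ hQ => D.topU_le_normalizer hQ hx) (Or.inl hx)

theorem topU_eq_of_mem {Q : Subgroup G} (hQ : Q ∈ s) (hu : u ∈ Q) : topU u s = T := by
  rw [D.topU_eq]
  exact sup_eq_left.2 (Subgroup.zpowers_le.2 (D.le Q hQ hu))

theorem compare {Q : Subgroup G} (hQ : Q ∈ s) : Q ≤ pivot u s ∨ pivot u s ≤ Q := by
  by_cases hu : u ∈ Q
  · right
    refine sup_le (D.low_le hQ hu) ?_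
    rw [ncl, D.topU_eq_of_mem hQ hu, Subgroup.closure_le]
    rintro y ⟨t, ht, rfl⟩
    exact (Subgroup.mem_normalizer_iff.1 (D.normal Q hQ ht) u).1 hu
  · exact Or.inl ((D.le_low hQ hu).trans le_sup_left)

theorem insert_data : ∃ T', Data p u (insert (pivot u s) s) T' := by
  have hY : pivot u s ≠ ⊥ ∧ IsPGroup p (pivot u s) :=
    ⟨fun h => D.ne (by simpa [h] using D.mem_pivot), D.isPGroup_topU.to_le D.pivot_le⟩
  have hst : u ∈ NormalChains.stab (insert (pivot u s) s) := by
    refine mem_stab.2 fun Q hQ => ?_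
    rcases Finset.mem_insert.1 hQ with rfl | hQ
    · exact D.topU_le_normalizer_pivot (mem_topU s)
    · exact mem_stab.1 D.stab Q hQ
  have hcomp : ∀ Q ∈ insert (pivot u s) s, ∀ R ∈ insert (pivot u s) s, Q ≤ R ∨ R ≤ Q := by
    intro Q hQ R hR
    rcases Finset.mem_insert.1 hQ with rfl | hQ <;> rcases Finset.mem_insert.1 hR with rfl | hR
    · exact Or.inl le_rfl
    · exact (D.compare hR).symm
    · exact D.compare hQ
    · exact D.chain.2.1 Q hQ R hR
  have hp : ∀ Q ∈ insert (pivot u s) s, Q ≠ ⊥ ∧ IsPGroup p Q := by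
    intro Q hQ
    rcases Finset.mem_insert.1 hQ with rfl | hQ
    · exact hY
    · exact D.chain.2.2.1 Q hQ
  by_cases hu : u ∈ T
  · have hle : ∀ Q ∈ insert (pivot u s) s, Q ≤ T := by
      intro Q hQ
      rcases Finset.mem_insert.1 hQ with rfl | hQ
      · exact D.pivot_le.trans (D.topU_eq_of_mem D.mem hu).le
      · exact D.le Q hQ
    have hn : ∀ Q ∈ insert (pivot u s) s, T ≤ Subgroup.normalizer ((Q : Subgroup G) : Set G) := by
      intro Q hQ
      rcases Finset.mem_insert.1 hQ with rfl | hQ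
      · exact (D.topU_eq_of_mem D.mem hu).ge.trans D.topU_le_normalizer_pivot
      · exact D.normal Q hQ
    exact ⟨T, ⟨Finset.insert_nonempty _ _, hcomp, hp, T, Finset.mem_insert_of_mem D.mem,
      fun Q hQ => ⟨hle Q hQ, hn Q hQ⟩⟩, Finset.mem_insert_of_mem D.mem, hle, hn, hst, D.pelt, D.ne⟩
  · have hT : T ≤ pivot u s := (D.le_low D.mem hu).trans le_sup_left
    have hle : ∀ Q ∈ insert (pivot u s) s, Q ≤ pivot u s := by
      intro Q hQ
      rcases Finset.mem_insert.1 hQ with rfl | hQ
      · exact le_rfl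
      · exact (D.le Q hQ).trans hT
    have hn : ∀ Q ∈ insert (pivot u s) s, pivot u s ≤ Subgroup.normalizer ((Q : Subgroup G) : Set G) := by
      intro Q hQ
      rcases Finset.mem_insert.1 hQ with rfl | hQ
      · exact Subgroup.le_normalizer
      · exact D.pivot_le.trans (D.topU_le_normalizer hQ)
    exact ⟨pivot u s, ⟨Finset.insert_nonempty _ _, hcomp, hp, _, Finset.mem_insert_self _ _,
      fun Q hQ => ⟨hle Q hQ, hn Q hQ⟩⟩, Finset.mem_insert_self _ _, hle, hn, hst, D.pelt, D.ne⟩

theorem pivot_insert : pivot u (insert (pivot u s) s) = pivot u s := by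
  have h1 : low u (insert (pivot u s) s) = low u s := by
    rw [low, Finset.filter_insert, if_neg (not_not_intro D.mem_pivot)]
    rfl
  have h2 : topU u (insert (pivot u s) s) = topU u s := by
    rw [topU, Finset.sup_insert, id_eq, sup_assoc]
    exact sup_eq_right.2 D.pivot_le
  rw [pivot, h1, h2]
  rfl

theorem low_erase : low u (s.erase (pivot u s)) = low u s := by
  rw [low, Finset.filter_erase, Finset.erase_eq_of_notMem]
  · rfl
  · exact fun h => (Finset.mem_filter.1 h).2 D.mem_pivot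

theorem le_sup_zpowers (hT : pivot u s = T) : T ≤ low u s ⊔ Subgroup.zpowers u := by
  by_contra hlt
  have hY : topU u s = T := D.topU_eq_of_mem D.mem (hT ▸ D.mem_pivot)
  have hH : low u s ⊔ Subgroup.zpowers u ≤ T :=
    sup_le ((le_sup_left.trans_eq hT : low u s ≤ T)) (Subgroup.zpowers_le.2 (hT ▸ D.mem_pivot))
  have hne : (low u s ⊔ Subgroup.zpowers u).subgroupOf T ≠ ⊤ := fun e => hlt (Subgroup.subgroupOf_eq_top.1 e)
  obtain ⟨K, hK, hHK⟩ := (eq_top_or_exists_le_coatom _).resolve_left hne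
  haveI : Group.IsNilpotent T := (D.chain.2.2.1 T D.mem).2.isNilpotent
  haveI : K.Normal := Subgroup.NormalizerCondition.normal_of_coatom K Group.normalizerCondition_of_isNilpotent hK
  have hlow : low u s ≤ K.map T.subtype := fun x hx =>
    ⟨⟨x, hH (Subgroup.mem_sup_left hx)⟩, hHK (Subgroup.mem_subgroupOf.2 (Subgroup.mem_sup_left hx)), rfl⟩
  have hncl : ncl u T ≤ K.map T.subtype := by
    rw [ncl, Subgroup.closure_le]
    rintro y ⟨t, ht, rfl⟩
    have huT : u ∈ T := hT ▸ D.mem_pivot
    have huK : (⟨u, huT⟩ : T) ∈ K :=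
      hHK (Subgroup.mem_subgroupOf.2 (Subgroup.mem_sup_right (Subgroup.mem_zpowers u)))
    exact ⟨⟨t, ht⟩ * ⟨u, huT⟩ * ⟨t, ht⟩⁻¹, Subgroup.Normal.conj_mem inferInstance _ huK _, rfl⟩
  refine hK.1 (eq_top_iff.2 fun x _ => ?_)
  have hx : (x : G) ∈ pivot u s := hT ▸ x.2
  rw [pivot, hY] at hx
  obtain ⟨k, hk, hke⟩ := sup_le hlow hncl hx
  exact (Subtype.ext hke : k = x) ▸ hk

theorem erase_data (hY : pivot u s ∈ s) (hne : s ≠ {Subgroup.zpowers u}) :
    (∃ T', Data p u (s.erase (pivot u s)) T') ∧ pivot u (s.erase (pivot u s)) = pivot u s := by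
  have key : (∃ T', Data p u (s.erase (pivot u s)) T') ∧ topU u (s.erase (pivot u s)) = topU u s := by
    have hst : u ∈ NormalChains.stab (s.erase (pivot u s)) :=
      mem_stab.2 fun Q hQ => mem_stab.1 D.stab Q (Finset.mem_of_mem_erase hQ)
    have hcomp : ∀ Q ∈ s.erase (pivot u s), ∀ R ∈ s.erase (pivot u s), Q ≤ R ∨ R ≤ Q :=
      fun Q hQ R hR => D.chain.2.1 Q (Finset.mem_of_mem_erase hQ) R (Finset.mem_of_mem_erase hR)
    have hp : ∀ Q ∈ s.erase (pivot u s), Q ≠ ⊥ ∧ IsPGroup p Q :=
      fun Q hQ => D.chain.2.2.1 Q (Finset.mem_of_mem_erase hQ)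
    by_cases hT : pivot u s = T
    · have hle := D.le_sup_zpowers hT
      have hlow : low u s ∈ s.erase (pivot u s) := by
        rcases D.low_spec.2 with h | h
        · exfalso
          rw [h, bot_sup_eq] at hle
          have hTu : T = Subgroup.zpowers u :=
            le_antisymm hle (Subgroup.zpowers_le.2 (hT ▸ D.mem_pivot))
          refine hne (Finset.eq_singleton_iff_unique_mem.2 ⟨hTu ▸ D.mem, fun Q hQ => ?_⟩)
          by_cases hu : u ∈ Q
          · exact le_antisymm (hTu ▸ D.le Q hQ) (Subgroup.zpowers_le.2 hu)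
          · exact absurd (le_bot_iff.1 (h ▸ D.le_low hQ hu)) (D.chain.2.2.1 Q hQ).1
        · exact Finset.mem_erase.2 ⟨fun e => D.low_spec.1 (e ▸ D.mem_pivot), h⟩
      have hle' : ∀ Q ∈ s.erase (pivot u s), Q ≤ low u s := by
        intro Q hQ
        obtain ⟨hQY, hQs⟩ := Finset.mem_erase.1 hQ
        by_cases hu : u ∈ Q
        · refine absurd (le_antisymm ((D.le Q hQs).trans hT.ge) ?_) hQY
          refine sup_le (D.low_le hQs hu) ?_
          rw [ncl, D.topU_eq_of_mem hQs hu, Subgroup.closure_le]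
          rintro y ⟨t, ht, rfl⟩
          exact (Subgroup.mem_normalizer_iff.1 (D.normal Q hQs ht) u).1 hu
        · exact D.le_low hQs hu
      have hn : ∀ Q ∈ s.erase (pivot u s), low u s ≤ Subgroup.normalizer ((Q : Subgroup G) : Set G) :=
        fun Q hQ => D.low_le_topU.trans (D.topU_le_normalizer (Finset.mem_of_mem_erase hQ))
      have hD : Data p u (s.erase (pivot u s)) (low u s) := ⟨⟨⟨_, hlow⟩, hcomp, hp, _, hlow,
        fun Q hQ => ⟨hle' Q hQ, hn Q hQ⟩⟩, hlow, hle', hn, hst, D.pelt, D.ne⟩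
      refine ⟨⟨_, hD⟩, ?_⟩
      rw [hD.topU_eq, D.topU_eq_of_mem D.mem (hT ▸ D.mem_pivot)]
      exact le_antisymm (sup_le (D.le _ (Finset.mem_of_mem_erase hlow))
        (Subgroup.zpowers_le.2 (hT ▸ D.mem_pivot))) hle
    · have hTmem : T ∈ s.erase (pivot u s) := Finset.mem_erase.2 ⟨Ne.symm hT, D.mem⟩
      have hle' : ∀ Q ∈ s.erase (pivot u s), Q ≤ T := fun Q hQ => D.le Q (Finset.mem_of_mem_erase hQ)
      have hn : ∀ Q ∈ s.erase (pivot u s), T ≤ Subgroup.normalizer ((Q : Subgroup G) : Set G) :=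
        fun Q hQ => D.normal Q (Finset.mem_of_mem_erase hQ)
      have hD : Data p u (s.erase (pivot u s)) T := ⟨⟨⟨_, hTmem⟩, hcomp, hp, _, hTmem,
        fun Q hQ => ⟨hle' Q hQ, hn Q hQ⟩⟩, hTmem, hle', hn, hst, D.pelt, D.ne⟩
      exact ⟨⟨_, hD⟩, by rw [hD.topU_eq, D.topU_eq]⟩
  refine ⟨key.1, ?_⟩
  rw [pivot, D.low_erase, key.2]
  rfl

theorem stab_insert :
    NormalChains.stab (insert (pivot u s) s) ⊓ Subgroup.centralizer ({u} : Set G) =
      NormalChains.stab s ⊓ Subgroup.centralizer ({u} : Set G) := by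
  refine le_antisymm (inf_le_inf_right _ fun x hx => mem_stab.2 fun Q hQ => mem_stab.1 hx Q (Finset.mem_insert_of_mem hQ)) ?_
  rintro x ⟨hx, hxu⟩
  refine ⟨mem_stab.2 fun Q hQ => ?_, hxu⟩
  rcases Finset.mem_insert.1 hQ with rfl | hQ
  · refine D.pivot_normalizer (mem_stab.1 hx) (Or.inr ?_)
    rw [Subgroup.mem_centralizer_singleton_iff.1 hxu, mul_inv_cancel_right]
  · exact mem_stab.1 hx Q hQ

end Data

/-- The chains through whose stabiliser `u` passes cancel in pairs, except `{⟨u⟩}`. -/
theorem alternating_sum {A : Type*} [AddCommGroup A] (hu : ∃ k : ℕ, orderOf u = p ^ k) (hu1 : u ≠ 1)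
    (f : Subgroup G → A) :
    ∑ s ∈ (Finset.univ : Finset (Finset (Subgroup G))) with IsNChain p s ∧ u ∈ stab s,
        ((-1 : ℤ) ^ (s.card - 1)) • f (stab s ⊓ Subgroup.centralizer ({u} : Set G)) =
      f (Subgroup.centralizer ({u} : Set G)) := by
  obtain ⟨k, hk⟩ := hu
  have hz : IsPGroup p (Subgroup.zpowers u) := IsPGroup.of_card (n := k) (by rw [Nat.card_zpowers, hk])
  have hs0 : IsNChain p {Subgroup.zpowers u} ∧ u ∈ stab {Subgroup.zpowers u} := by
    refine ⟨⟨Finset.singleton_nonempty _, ?_, ?_, _, Finset.mem_singleton_self _, ?_⟩, ?_⟩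
    · intro Q hQ R hR
      rw [Finset.mem_singleton.1 hQ, Finset.mem_singleton.1 hR]
      exact Or.inl le_rfl
    · intro Q hQ
      rw [Finset.mem_singleton.1 hQ]
      exact ⟨fun h => hu1 (Subgroup.zpowers_eq_bot.1 h), hz⟩
    · intro Q hQ
      rw [Finset.mem_singleton.1 hQ]
      exact ⟨le_rfl, Subgroup.le_normalizer⟩
    · refine mem_stab.2 fun Q hQ => ?_
      rw [Finset.mem_singleton.1 hQ]
      exact Subgroup.le_normalizer (Subgroup.mem_zpowers u)
  have hC : stab {Subgroup.zpowers u} ⊓ Subgroup.centralizer ({u} : Set G) = Subgroup.centralizer ({u} : Set G) := by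
    refine inf_eq_right.2 fun x hx => mem_stab.2 fun Q hQ => ?_
    rw [Finset.mem_singleton.1 hQ, map_conj_normalizer, MonoidHom.map_zpowers]
    congr 1
    simp only [MulEquiv.coe_toMonoidHom, MulAut.conj_apply]
    rw [Subgroup.mem_centralizer_singleton_iff.1 hx, mul_inv_cancel_right]
  rw [← Finset.add_sum_erase _ _ (Finset.mem_filter.2 ⟨Finset.mem_univ ({Subgroup.zpowers u} : Finset (Subgroup G)), hs0⟩),
    Finset.card_singleton, hC]
  have hrest : ∑ s ∈ ((Finset.univ : Finset (Finset (Subgroup G))).filter fun s => IsNChain p s ∧ u ∈ stab s).erase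
      {Subgroup.zpowers u},
      ((-1 : ℤ) ^ (s.card - 1)) • f (stab s ⊓ Subgroup.centralizer ({u} : Set G)) = 0 := by
    have step : ∀ s, IsNChain p s ∧ u ∈ stab s → s ≠ {Subgroup.zpowers u} →
        (IsNChain p (flip u s) ∧ u ∈ stab (flip u s)) ∧ flip u (flip u s) = s ∧
        flip u s ≠ {Subgroup.zpowers u} ∧ flip u s ≠ s ∧
        stab (flip u s) ⊓ Subgroup.centralizer ({u} : Set G) = stab s ⊓ Subgroup.centralizer ({u} : Set G) ∧
        (-1 : ℤ) ^ (s.card - 1) + (-1 : ℤ) ^ ((flip u s).card - 1) = 0 := by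
      intro s hs hne
      obtain ⟨T, D⟩ := exists_data hs.1 hs.2 ⟨k, hk⟩ hu1
      by_cases hY : pivot u s ∈ s
      · obtain ⟨⟨T', D'⟩, hp⟩ := D.erase_data hY hne
        have e : flip u s = s.erase (pivot u s) := if_pos hY
        have hins : insert (pivot u (s.erase (pivot u s))) (s.erase (pivot u s)) = s := by
          rw [hp, Finset.insert_erase hY]
        refine ⟨e ▸ ⟨D'.chain, D'.stab⟩, ?_, ?_, ?_, ?_, ?_⟩
        · rw [e, flip, hp, if_neg (Finset.notMem_erase _ _), Finset.insert_erase hY]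
        · intro h
          rw [e] at h
          have h1 : pivot u s ∈ s.erase (pivot u s) := by
            have h2 : Subgroup.zpowers u = pivot u s := by
              rw [← hp, h, pivot, ncl, low, Finset.filter_singleton, if_neg (not_not_intro (Subgroup.mem_zpowers u)),
                Finset.sup_empty, bot_sup_eq, topU, Finset.sup_singleton, id_eq, sup_idem, Subgroup.zpowers_eq_closure]
              refine le_antisymm (Subgroup.closure_mono ?_) ?_
              · rintro _ rfl
                exact ⟨1, one_mem _, by simp⟩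
              · rw [Subgroup.closure_le]
                rintro y ⟨t, ht, rfl⟩
                exact mul_mem (mul_mem ht (Subgroup.subset_closure rfl)) (inv_mem ht)
            rw [h, h2]
            exact Finset.mem_singleton_self _
          exact Finset.notMem_erase _ _ h1
        · rw [e]
          exact fun h => Finset.notMem_erase (pivot u s) s (h.symm ▸ hY)
        · rw [e]
          have := D'.stab_insert
          rw [hins] at this
          exact this.symm
        · rw [e, Finset.card_erase_of_mem hY]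
          have h2 : 2 ≤ s.card := by
            have := D'.chain.1.card_pos
            rw [Finset.card_erase_of_mem hY] at this
            omega
          obtain ⟨m, hm⟩ := Nat.exists_eq_add_of_le h2
          rw [hm, show 2 + m - 1 = (m + 1) by omega, show m + 1 - 1 = m by omega, pow_succ]
          ring
      · obtain ⟨T', D'⟩ := D.insert_data
        have e : flip u s = insert (pivot u s) s := if_neg hY
        refine ⟨e ▸ ⟨D'.chain, D'.stab⟩, ?_, ?_, ?_, ?_, ?_⟩
        · rw [e, flip, D.pivot_insert, if_pos (Finset.mem_insert_self _ _), Finset.erase_insert hY]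
        · intro h
          rw [e] at h
          obtain ⟨x, hx⟩ := D.chain.1
          have h1 := Finset.mem_singleton.1 (h ▸ Finset.mem_insert_of_mem hx)
          have h2 := Finset.mem_singleton.1 (h ▸ Finset.mem_insert_self (pivot u s) s)
          exact hY (h2 ▸ h1 ▸ hx)
        · rw [e]
          exact fun h => hY (Finset.insert_eq_self.1 h)
        · rw [e]
          exact D.stab_insert
        · rw [e, Finset.card_insert_of_notMem hY]
          have := D.chain.1.card_pos
          obtain ⟨m, hm⟩ := Nat.exists_eq_add_of_le this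
          rw [hm, show Nat.succ 0 + m - 1 = m by omega, show Nat.succ 0 + m + 1 - 1 = m + 1 by omega, pow_succ]
          ring
    refine Finset.sum_involution (fun s _ => flip u s) ?_ ?_ ?_ ?_
    · intro s hs
      obtain ⟨hne, hs'⟩ := Finset.mem_erase.1 hs
      obtain ⟨-, -, -, -, e, hsign⟩ := step s (Finset.mem_filter.1 hs').2 hne
      rw [e, ← add_smul, hsign, zero_smul]
    · intro s hs _
      obtain ⟨hne, hs'⟩ := Finset.mem_erase.1 hs
      exact (step s (Finset.mem_filter.1 hs').2 hne).2.2.2.1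
    · intro s hs
      obtain ⟨hne, hs'⟩ := Finset.mem_erase.1 hs
      obtain ⟨h1, -, h3, -⟩ := step s (Finset.mem_filter.1 hs').2 hne
      exact Finset.mem_erase.2 ⟨h3, Finset.mem_filter.2 ⟨Finset.mem_univ _, h1⟩⟩
    · intro s hs
      obtain ⟨hne, hs'⟩ := Finset.mem_erase.1 hs
      exact (step s (Finset.mem_filter.1 hs').2 hne).2.1
  rw [hrest, add_zero]
  simp

end CfsgLib.NormalChains
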