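import Cfsg.Agent.Blk.CoverDefect
import Cfsg.Agent.Blk.SubsectionPairs
import Cfsg.Agent.Solv.CoprimeAction
import Cfsg.Agent.Solv.ThompsonPre
import Cfsg.Agent.Fus.CoreBasic
import Cfsg.Agent.Base.PPrimeP
import Cfsg.Agent.Perm.HallHigman

/-!
Blocks over an invariant character of a normal `p'`-subgroup with small centralizer.
-/

set_option autoImplicit false
set_option linter.style.haveILetI false
set_option linter.unusedSectionVars false

namespace CfsgLib.PrimeCore

open Cfsg CfsgLib.Char CfsgLib.Blk CfsgLib.Blk.Pair CfsgLib.FongReynolds CfsgLib.CoverDefect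
open scoped ComplexConjugate

universe u

variable {M : Ideal AlgInt} [M.IsPrime] {p : ℕ} [Fact p.Prime]
variable {G : Type u} [Group G] [Fintype G] {K : Subgroup G} [hKn : K.Normal] [Fintype K]

/-- A `p`-subgroup covering a normal `p'`-subgroup is Sylow. -/
theorem sylow_of_sup_top {X : Type u} [Group X] [Finite X] {K' D : Subgroup X} [K'.Normal]
    (hK : ¬ p ∣ Nat.card K') (hD : IsPGroup p D) (h : K' ⊔ D = ⊤) :
    Nat.card D = p ^ (Nat.card X).factorization p := by
  have hp := (Fact.out : p.Prime)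
  obtain ⟨n, hn⟩ := IsPGroup.iff_card.1 hD
  have h1 := CfsgLib.Solv.card_sup_mul_card_inf D K'
  rw [sup_comm, h, Subgroup.card_top] at h1
  rw [hn]
  congr 1
  refine le_antisymm ((hp.pow_dvd_iff_le_factorization Nat.card_pos.ne').1
    (hn ▸ Subgroup.card_subgroup_dvd_card D)) ?_
  have h2 : p ^ (Nat.card X).factorization p ∣ p ^ n * Nat.card K' :=
    hn ▸ h1 ▸ Dvd.dvd.mul_right (Nat.ordProj_dvd _ _) _
  exact (Nat.pow_dvd_pow_iff_le_right hp.one_lt).1
    ((Nat.Coprime.pow_left _ (hp.coprime_iff_not_dvd.2 hK)).dvd_of_dvd_mul_right h2)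

omit hKn [Fintype G] [Fintype K] in
/-- Conjugacy in a `p'`-group of elements centralized by a `p`-group. -/
theorem exists_transfer [Finite G] [hKn : K.Normal] (hKp : ¬ p ∣ Nat.card K) {R : Subgroup G}
    (hR : IsPGroup p R) {c d k : G} (hk : k ∈ K) (hc : c ∈ Cn R) (hd : d ∈ Cn R)
    (h : k * c * k⁻¹ = d) : ∃ k' ∈ K, k' ∈ Cn R ∧ k' * c * k'⁻¹ = d := by
  let X := {x : G // x ∈ K ∧ x * c * x⁻¹ = d}
  have hrc : ∀ r : R, (r : G)⁻¹ * c * r = c := fun r => by
    rw [mul_assoc, ← hc (r : G) r.2, inv_mul_cancel_left]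
  have hrd : ∀ r : R, (r : G) * d * (r : G)⁻¹ = d := fun r => by
    rw [hd (r : G) r.2, mul_inv_cancel_right]
  letI : MulAction R X :=
    { smul := fun r x => ⟨(r : G) * x.1 * (r : G)⁻¹, hKn.conj_mem _ x.2.1 r, by
        calc (r : G) * x.1 * (r : G)⁻¹ * c * ((r : G) * x.1 * (r : G)⁻¹)⁻¹
            = r * (x.1 * ((r : G)⁻¹ * c * r) * x.1⁻¹) * (r : G)⁻¹ := by group
          _ = d := by rw [hrc, x.2.2, hrd]⟩
      one_smul := fun x => Subtype.ext (by
        show ((1 : R) : G) * x.1 * ((1 : R) : G)⁻¹ = x.1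
        simp)
      mul_smul := fun r s x => Subtype.ext (by
        show ((r * s : R) : G) * x.1 * ((r * s : R) : G)⁻¹ = r * (s * x.1 * (s : G)⁻¹) * (r : G)⁻¹
        rw [Subgroup.coe_mul]; group) }
  have e : X ≃ (K ⊓ Subgroup.centralizer ({c} : Set G) : Subgroup G) :=
    { toFun := fun x => ⟨k⁻¹ * x.1, K.mul_mem (K.inv_mem hk) x.2.1,
        Subgroup.mem_centralizer_singleton_iff.2 (by
          have h1 : x.1 * c * x.1⁻¹ = k * c * k⁻¹ := x.2.2.trans h.symm
          calc k⁻¹ * x.1 * c = k⁻¹ * (x.1 * c * x.1⁻¹) * x.1 := by group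
            _ = c * (k⁻¹ * x.1) := by rw [h1]; group)⟩
      invFun := fun y => ⟨k * y.1, K.mul_mem hk y.2.1, by
        have h1 : y.1 * c = c * y.1 := Subgroup.mem_centralizer_singleton_iff.1 y.2.2
        rw [← h]
        calc k * y.1 * c * (k * y.1)⁻¹ = k * (y.1 * c * y.1⁻¹) * k⁻¹ := by group
          _ = k * c * k⁻¹ := by rw [h1, mul_inv_cancel_right]⟩
      left_inv := fun x => Subtype.ext (mul_inv_cancel_left k x.1)
      right_inv := fun y => Subtype.ext (inv_mul_cancel_left k y.1) }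
  obtain ⟨x, hx⟩ := hR.nonempty_fixed_point_of_prime_not_dvd_card X fun hd' => hKp
    ((Nat.card_congr e ▸ hd').trans (Subgroup.card_dvd_of_le inf_le_left))
  refine ⟨x.1, x.2.1, fun r hr => ?_, x.2.2⟩
  exact mul_inv_eq_iff_eq_mul.1 (congrArg Subtype.val (hx ⟨r, hr⟩))

variable (hM : IsPModular p M) (hKp : ¬ p ∣ Nat.card K) (θ : IrrCharacter K)

/-- The idempotent of `θ` in the group algebra of `G`. -/
noncomputable abbrev eθ (M : Ideal AlgInt) [M.IsPrime] (θ : IrrCharacter K) : KA M G :=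
  inA K (bid M (blockOf M (θ : K → ℂ)))

include hM in
theorem stable_of_invariant
    (hinv : ∀ (g : G) (n : K), (θ : K → ℂ) ⟨g * n * g⁻¹, hKn.conj_mem n n.2 g⟩ = (θ : K → ℂ) n)
    (hKp : ¬ p ∣ Nat.card K) (y : G) : cjA y (eθ M θ) = eθ M θ := by
  refine (mem_fixer_iff hM (blockOf_isPBlock θ) y).2 fun φ hφ φ' hφ' => ?_
  have h1 : θ = φ := eq_of_sameBlock_pPrime hM hKp hφ
  have h2 : φ' = θ := Subtype.ext (funext fun n => by rw [hφ' n, ← h1, hinv])
  rw [h2]
  exact sameBlock_refl _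

include hM hKp in
theorem eq_of_lam {φ : IrrCharacter K}
    (h : lam (φ : K → ℂ) (bid M (blockOf M (θ : K → ℂ))) = 1) : φ = θ := by
  classical
  rw [lam_bid hM (blockOf_isPBlock θ)] at h
  by_contra hne
  have hn : φ ∉ blockOf M (θ : K → ℂ) := fun hm => hne (eq_of_sameBlock_pPrime hM hKp hm).symm
  rw [if_neg hn] at h
  exact zero_ne_one h

variable (hst : ∀ y : G, cjA y (eθ M θ) = eθ M θ)

include hM hst

theorem eθ_class : IsClassCoeff (eθ M θ) := isClassCoeff_of_cjA hst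

theorem eθ_idem : eθ M θ * eθ M θ = eθ M θ := by
  rw [← map_mul, bid_mul_self hM (blockOf_isPBlock θ)]

theorem lam_eθ {χ : IrrCharacter G}
    (h : classInner (fun n : K => (χ : G → ℂ) n) (θ : K → ℂ) ≠ 0) :
    lam (χ : G → ℂ) (eθ M θ) = 1 := by
  classical
  rw [← lam_constituent χ.2 θ.2 h (eθ_class hM θ hst) fun g hg => coeff_inA_of_notMem K _ hg,
    resA_inA, lam_bid hM (blockOf_isPBlock θ)]
  exact if_pos (sameBlock_refl _)

include hKp in
theorem over_of_lam {χ : IrrCharacter G} (h : lam (χ : G → ℂ) (eθ M θ) = 1) :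
    classInner (fun n : K => (χ : G → ℂ) n) (θ : K → ℂ) ≠ 0 := by
  obtain ⟨φ, hφi, hφ⟩ := exists_constituent_res (N := K) χ.2
  rw [← lam_constituent χ.2 hφi hφ (eθ_class hM θ hst) fun g hg => coeff_inA_of_notMem K _ hg,
    resA_inA] at h
  rw [← eq_of_lam hM hKp θ (φ := ⟨φ, hφi⟩) h]
  exact hφ

include hKp in
/-- The block of a `p`-overgroup of `K` over `θ`; its defect groups are Sylow. -/
theorem exists_block_above {X : Subgroup G} (hKX : K ≤ X)
    (hidx : ∃ k : ℕ, (K.subgroupOf X).index = p ^ k) :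
    ∃ B1 : Set (IrrCharacter X), IsPBlock M B1 ∧ inA X (bid M B1) = eθ M θ ∧
      ∀ D : Subgroup X, IsDefectGroup p M B1 D → IsSylowIn p (D.map X.subtype) X := by
  classical
  haveI : Fintype X := Fintype.ofFinite _
  haveI : (K.subgroupOf X).Normal := hKn.subgroupOf X
  haveI : Fintype (K.subgroupOf X) := Fintype.ofFinite _
  have hb := blockOf_isPBlock (M := M) θ
  set e := (Subgroup.subgroupOfEquivOfLe hKX).symm with he
  have hbb := isPBlock_mvSet e hb
  obtain ⟨B1, hB1, hbid, -⟩ := exists_above (G := X) hM hbb hidx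
  have heq : inA (K.subgroupOf X) (bid M (mvSet e (blockOf M (θ : K → ℂ)))) =
      resA X (eθ M θ) := inA_bid_subgroupOf hKX _
  rw [nSum_of_stable hM hbb fun y => by
    rw [heq]; exact cjA_eq_of_isClassCoeff (isClassCoeff_resA X (eθ_class hM θ hst)) y] at hbid
  refine ⟨B1, hB1, ?_, fun D hD => ⟨Subgroup.map_subtype_le D, ?_⟩⟩
  · rw [hbid, heq]
    exact mapDomain_resA X fun g hg => coeff_inA_of_notMem K _ fun h => hg (hKX h)
  · obtain ⟨htop, -⟩ := stable_block_defect hM hbb hidx hB1 hbid hD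
    rw [Subgroup.card_subtype]
    exact sylow_of_sup_top (by
      rwa [Nat.card_congr (Subgroup.subgroupOfEquivOfLe hKX).toEquiv])
      (IsDefectGroup.isPGroup hD) htop

include hKp in
theorem brMap_eθ_ne_zero {R : Subgroup G} (hR : IsPGroup p R) : brMap R (eθ M θ) ≠ 0 := by
  classical
  set X := K ⊔ R with hX
  haveI : Fintype X := Fintype.ofFinite _
  have hKX : K ≤ X := le_sup_left
  have hRX : R ≤ X := le_sup_right
  obtain ⟨n, hn⟩ := IsPGroup.iff_card.1 hR
  have hidx : ∃ k : ℕ, (K.subgroupOf X).index = p ^ k := by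
    have h1 := CfsgLib.Solv.card_sup_mul_card_inf R K
    rw [sup_comm, ← hX, ← Subgroup.index_mul_card (K.subgroupOf X),
      Nat.card_congr (Subgroup.subgroupOfEquivOfLe hKX).toEquiv, hn, mul_right_comm] at h1
    obtain ⟨i, -, hi⟩ := (Nat.dvd_prime_pow (Fact.out : p.Prime)).1
      (Dvd.intro _ (Nat.eq_of_mul_eq_mul_right Nat.card_pos h1) :
        (K.subgroupOf X).index ∣ p ^ n)
    exact ⟨i, hi⟩
  obtain ⟨B1, hB1, hbid, hsyl⟩ := exists_block_above hM hKp θ hst hKX hidx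
  obtain ⟨D, hD⟩ := exists_isDefectGroup hM hB1
  obtain ⟨x, hx, hxle⟩ := (hsyl D hD).exists_conj_le hR hRX
  have hne := (brMap_blockIdem_ne_zero_iff hM hB1 hD (R.subgroupOf X)
    (hR.of_equiv (Subgroup.subgroupOfEquivOfLe hRX).symm)).2 ⟨⟨x, hx⟩, by
      rintro _ ⟨r, hr, rfl⟩
      obtain ⟨d, hd, hde⟩ := hxle ⟨(r : G), hr, rfl⟩
      have : d = (MulAut.conj (⟨x, hx⟩ : X)) r := Subtype.ext hde
      exact this ▸ hd⟩
  intro h0
  refine hne (MonoidAlgebra.coeff_injective (Finsupp.ext fun c => ?_))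
  rw [coeff_brMap, MonoidAlgebra.coeff_zero, Finsupp.zero_apply]
  split_ifs with hc
  · have hcR : (c : G) ∈ Subgroup.centralizer (R : Set G) := fun r hr =>
      congrArg Subtype.val (hc ⟨r, hRX hr⟩ hr)
    have h1 := congrArg (fun w : KA M G => w.coeff (c : G)) h0
    simp only [coeff_brMap, if_pos hcR, MonoidAlgebra.coeff_zero, Finsupp.zero_apply] at h1
    rw [← bid_eq hM hB1, ← coeff_inA X, hbid]
    exact h1
  · rfl

include hKp in
/-- One block over `θ` when the regular part of a local centralizer is small. -/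
theorem one_block {L : Subgroup G} [L.Normal] (hKL : K ≤ L)
    (hidx : ∃ k : ℕ, (K.subgroupOf L).index = p ^ k) {Q : Subgroup G} (hQ : IsSylowIn p Q L)
    (hC : ∀ g : G, ¬ p ∣ orderOf g → g ∈ Subgroup.centralizer (Q : Set G) → g ∈ L) :
    ∃ B : Set (IrrCharacter G), IsPBlock M B ∧ bid M B = eθ M θ ∧
      (∀ χ : IrrCharacter G, χ ∈ B ↔ classInner (fun n : K => (χ : G → ℂ) n) (θ : K → ℂ) ≠ 0) ∧
      ∀ S : Sylow p G, IsDefectGroup p M B (S : Subgroup G) := by
  classical
  haveI : CharP (Res M) p := charP_res hM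
  haveI : Fintype L := Fintype.ofFinite _
  haveI : Fintype (ConjClasses G) := Fintype.ofFinite _
  have he := eθ_class hM θ hst
  have hee := eθ_idem hM θ hst
  obtain ⟨B1, hB1, hbid1, hsyl⟩ := exists_block_above hM hKp θ hst hKL hidx
  have hQp : IsPGroup p Q := hQ.isPGroup
  have hQd : IsDefectGroup p M B1 (Q.subgroupOf L) := by
    obtain ⟨D, hD⟩ := exists_isDefectGroup hM hB1
    obtain ⟨x, hx, hxe⟩ := hQ.exists_conj_eq (hsyl D hD)
    have h1 := IsDefectGroup.conj hD (⟨x, hx⟩ : L)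
    have h2 : D.map (MulAut.conj (⟨x, hx⟩ : L)).toMonoidHom = Q.subgroupOf L := by
      ext y
      rw [CfsgLib.Blk.mem_map_conj, Subgroup.mem_subgroupOf, ← hxe, CfsgLib.Blk.mem_map_conj]
      exact ⟨fun h => ⟨_, h, rfl⟩, fun ⟨d, hd, hde⟩ => by
        rwa [show d = (⟨x, hx⟩ : L)⁻¹ * y * ⟨x, hx⟩ from Subtype.ext hde] at hd⟩
    rwa [h2] at h1
  have hzero : ∀ g : G, ¬ p ∣ orderOf g → g ∉ L → ∀ χ : IrrCharacter G,
      lam (χ : G → ℂ) (eθ M θ) = 1 → lam (χ : G → ℂ) (classSum (Res M) g) = 0 := by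
    intro g hg hgL χ hχ
    have hz := (isClassCoeff_classSum (Res M) g).mul he
    have hnil : IsNilpotent (classSum (Res M) g * eθ M θ) := by
      refine isNilpotent_of_brMap_defect hM hB1 hQ.le hQp hQd (fix_of_classCoeff L hz)
        (by rw [hbid1, mul_assoc, hee]) ?_
      rw [brMap_mul_class Q hQp (isClassCoeff_classSum _ g) he,
        brMap_classSum_eq_zero Q g, zero_mul]
      intro c hc hcQ
      obtain ⟨y, rfl⟩ := isConj_iff.1 hc
      have h1 := hC _ (by rwa [← MulAut.conj_apply, ← MulEquiv.coe_toMonoidHom,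
        orderOf_injective _ (MulAut.conj y).injective]) hcQ
      exact hgL (by simpa [mul_assoc] using (inferInstance : L.Normal).conj_mem _ h1 y⁻¹)
    have h2 := lam_eq_zero_of_isNilpotent χ.2 hz hnil
    rwa [lam_mul χ.2 (isClassCoeff_classSum _ g) he, hχ, mul_one] at h2
  have hsame : ∀ g : G, g ∈ L → ∀ χ χ' : IrrCharacter G, lam (χ : G → ℂ) (eθ M θ) = 1 →
      lam (χ' : G → ℂ) (eθ M θ) = 1 →
      lam (χ : G → ℂ) (classSum (Res M) g) = lam (χ' : G → ℂ) (classSum (Res M) g) := by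
    intro g hg χ χ' hχ hχ'
    have hsupp : ∀ x, x ∉ L → (classSum (Res M) g).coeff x = 0 := fun x hx => by
      rw [coeff_classSum, if_neg]
      intro hgx
      obtain ⟨y, hy⟩ := isConj_iff.1 hgx
      exact hx (hy ▸ (inferInstance : L.Normal).conj_mem g hg y)
    have hsuppe : ∀ x, x ∉ L → (eθ M θ).coeff x = 0 := fun x hx =>
      coeff_inA_of_notMem K _ fun h => hx (hKL h)
    have hcon : ∀ χ : IrrCharacter G, lam (χ : G → ℂ) (eθ M θ) = 1 → ∃ φ : IrrCharacter L, φ ∈ B1 ∧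
        classInner (fun n : L => (χ : G → ℂ) n) (φ : L → ℂ) ≠ 0 := by
      intro χ hχ
      obtain ⟨φ, hφi, hφ⟩ := exists_constituent_res (N := L) χ.2
      refine ⟨⟨φ, hφi⟩, ?_, hφ⟩
      by_contra hn
      have h1 := lam_bid hM hB1 (⟨φ, hφi⟩ : IrrCharacter L)
      rw [if_neg hn, ← resA_inA L (bid M B1), hbid1, lam_constituent χ.2 hφi hφ he hsuppe, hχ] at h1
      exact one_ne_zero h1
    obtain ⟨φ, hφ, hc⟩ := hcon χ hχ
    obtain ⟨φ', hφ', hc'⟩ := hcon χ' hχ'
    rw [← lam_constituent χ.2 φ.2 hc (isClassCoeff_classSum _ g) hsupp,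
      ← lam_constituent χ'.2 φ'.2 hc' (isClassCoeff_classSum _ g) hsupp]
    exact lam_congr φ.2 φ'.2 (sameBlock_of_mem hB1 hφ hφ')
      (isClassCoeff_resA L (isClassCoeff_classSum _ g))
  have hne : eθ M θ ≠ 0 := fun h => bid_ne_zero hM (blockOf_isPBlock θ)
    (inA_injective K (h.trans (map_zero _).symm))
  obtain ⟨B, hB, hBl⟩ := exists_block_of_ne_zero hM he hee hne
  obtain ⟨χ₀, hχ₀⟩ := isPBlock_nonempty hB
  have hmem : ∀ χ : IrrCharacter G, χ ∈ B ↔ lam (χ : G → ℂ) (eθ M θ) = 1 := by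
    intro χ
    refine ⟨hBl χ, fun hχ => by_contra fun hn => ?_⟩
    have hb := isClassCoeff_bid hM hB
    have h1 : lam (χ : G → ℂ) (bid M B) = lam (χ₀ : G → ℂ) (bid M B) := by
      rw [lam_eq_sum χ.2 hb, lam_eq_sum χ₀.2 hb]
      refine Finset.sum_congr rfl fun C _ => ?_
      rw [← lam_classSum χ.2, ← lam_classSum χ₀.2]
      by_cases hs : p ∣ orderOf C.out
      · rw [coeff_bid, blockCoeff_eq_zero_of_singular hM hB hs, red_zero, zero_mul, zero_mul]
      · by_cases hL : C.out ∈ L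
        · rw [hsame _ hL χ χ₀ hχ (hBl χ₀ hχ₀)]
        · rw [hzero _ hs hL χ hχ, hzero _ hs hL χ₀ (hBl χ₀ hχ₀)]
    rw [lam_bid hM hB, lam_bid hM hB, if_neg hn, if_pos hχ₀] at h1
    exact zero_ne_one h1
  have hbid : bid M B = eθ M θ := by
    refine eq_of_idem_lam hM (isClassCoeff_bid hM hB) he (bid_mul_self hM hB) hee fun χ => ?_
    rw [lam_bid hM hB]
    split_ifs with h
    · exact ((hmem χ).1 h).symm
    · exact ((lam_idem χ.2 he hee).resolve_right fun h1 => h ((hmem χ).2 h1)).symm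
  refine ⟨B, hB, hbid, fun χ => (hmem χ).trans
    ⟨over_of_lam hM hKp θ hst, lam_eθ hM θ hst⟩, fun S => ?_⟩
  obtain ⟨D, hD⟩ := exists_isDefectGroup hM hB
  have h1 := brMap_eθ_ne_zero hM hKp θ hst S.isPGroup'
  rw [← hbid, bid_eq hM hB] at h1
  obtain ⟨x, hx⟩ := (brMap_blockIdem_ne_zero_iff hM hB hD _ S.isPGroup').1 h1
  have h2 : (S : Subgroup G) ≤ D.map (MulAut.conj x⁻¹).toMonoidHom := fun s hs => by
    rw [CfsgLib.Blk.mem_map_conj]
    simpa using hx ⟨s, hs, rfl⟩
  have h3 := S.is_maximal' ((IsDefectGroup.isPGroup hD).map _) h2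
  exact h3 ▸ IsDefectGroup.conj hD x⁻¹

omit hst in
theorem coeff_inA_classSum (c : K) (g : G) [Decidable (∃ k : K, (k : G) * c * (k : G)⁻¹ = g)] :
    (inA K (classSum (Res M) c)).coeff g =
      if ∃ k : K, (k : G) * c * (k : G)⁻¹ = g then 1 else 0 := by
  classical
  by_cases hg : g ∈ K
  · rw [show (inA K (classSum (Res M) c)).coeff g = (classSum (Res M) c).coeff ⟨g, hg⟩ from
      coeff_inA K _ ⟨g, hg⟩, coeff_classSum]
    refine if_congr ?_ rfl rfl
    rw [isConj_iff]
    exact exists_congr fun k => Subtype.ext_iff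
  · rw [coeff_inA_of_notMem K _ hg, if_neg]
    rintro ⟨k, rfl⟩
    exact hg (K.mul_mem (K.mul_mem k.2 c.2) (K.inv_mem k.2))

include hKp in
/-- The Brauer image of `eθ` is the idempotent of a character of `K ∩ C(R)`. -/
theorem exists_local {R : Subgroup G} (hR : IsPGroup p R) [Fintype (Cn R)]
    [(K.subgroupOf (Cn R)).Normal] [Fintype (K.subgroupOf (Cn R))] :
    ∃ φ : IrrCharacter (K.subgroupOf (Cn R)), eθ M φ = resA (Cn R) (eθ M θ) := by
  classical
  haveI : CharP (Res M) p := charP_res hM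
  set C := K.subgroupOf (Cn R) with hCdef
  have he := eθ_class hM θ hst
  set eC := resA (Cn R) (eθ M θ) with heC
  have heCs : ∀ x, x ∉ C → eC.coeff x = 0 := fun x hx => by
    rw [heC, coeff_resA]; exact coeff_inA_of_notMem K _ hx
  let Φ : KA M G → KA M C := fun a => resA C (resA (Cn R) a)
  have hΦmul : ∀ a a' : KA M G, Fix R a → Fix R a' → (∀ g, g ∉ K → a.coeff g = 0) →
      (∀ g, g ∉ K → a'.coeff g = 0) → Φ (a * a') = Φ a * Φ a' := by
    intro a a' ha ha' hs hs'
    show resA C (resA (Cn R) (a * a')) = _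
    rw [resA_Cn_mul hM hR ha ha', resA_mul C (fun g hg => by rw [coeff_resA]; exact hs _ hg)
      (fun g hg => by rw [coeff_resA]; exact hs' _ hg)]
  have hes : ∀ g, g ∉ K → (eθ M θ).coeff g = 0 := fun g hg => coeff_inA_of_notMem K _ hg
  have hfe := fix_of_classCoeff R he
  have heCc : IsClassCoeff (Φ (eθ M θ)) := isClassCoeff_resA C (isClassCoeff_resA _ he)
  have heCi : Φ (eθ M θ) * Φ (eθ M θ) = Φ (eθ M θ) := by
    rw [← hΦmul _ _ hfe hfe hes hes, eθ_idem hM θ hst]
  have heC0 : Φ (eθ M θ) ≠ 0 := by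
    intro h0
    refine brMap_eθ_ne_zero hM hKp θ hst hR (MonoidAlgebra.coeff_injective (Finsupp.ext fun g => ?_))
    rw [coeff_brMap, MonoidAlgebra.coeff_zero, Finsupp.zero_apply]
    split_ifs with hg
    · by_cases hgK : g ∈ K
      · have h1 := congrArg (fun w : KA M C => w.coeff ⟨⟨g, hg⟩, hgK⟩) h0
        simpa [Φ] using h1
      · exact hes g hgK
    · rfl
  obtain ⟨b, hb, hbl⟩ := exists_block_of_ne_zero hM heCc heCi heC0
  obtain ⟨φ, hφ⟩ := isPBlock_nonempty hb
  have hb' : b = blockOf M (φ : C → ℂ) := eq_of_mem_of_mem hb (blockOf_isPBlock φ) hφ (sameBlock_refl _)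
  refine ⟨φ, ?_⟩
  show inA C (bid M (blockOf M (φ : C → ℂ))) = eC
  rw [← mapDomain_resA C heCs]
  congr 1
  show bid M (blockOf M (φ : C → ℂ)) = Φ (eθ M θ)
  refine eq_of_idem_lam hM (isClassCoeff_bid hM (blockOf_isPBlock φ)) heCc
    (bid_mul_self hM (blockOf_isPBlock φ)) heCi fun ψ => ?_
  rw [lam_bid hM (blockOf_isPBlock φ)]
  split_ifs with hψ
  · exact (hbl ψ (hb'.symm ▸ hψ)).symm
  refine ((lam_idem ψ.2 heCc heCi).resolve_right fun h1 => hψ ?_).symm
  -- two constituents of the Brauer image agree on every class sum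
  rw [mem_blockOf, sameBlock_iff_red φ.2 ψ.2]
  intro c
  rw [← lam_classSum φ.2, ← lam_classSum ψ.2]
  set cK : K := ⟨((c : Cn R) : G), c.2⟩ with hcK
  set z := inA K (classSum (Res M) cK) with hz
  have hzs : ∀ g, g ∉ K → z.coeff g = 0 := fun g hg => coeff_inA_of_notMem K _ hg
  have hzf : Fix R z := fix_iff.2 fun r hr g => by
    rw [hz, coeff_inA_classSum hM, coeff_inA_classSum hM]
    have hrc : r * (c : G) * r⁻¹ = c := by
      rw [(c : Cn R).2 r hr, mul_inv_cancel_right]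
    refine if_congr ⟨?_, ?_⟩ rfl rfl
    · rintro ⟨k, hk⟩
      refine ⟨⟨r⁻¹ * k * r, by simpa using hKn.conj_mem _ k.2 r⁻¹⟩, ?_⟩
      calc r⁻¹ * (k : G) * r * (c : G) * (r⁻¹ * (k : G) * r)⁻¹
          = r⁻¹ * ((k : G) * (r * (c : G) * r⁻¹) * (k : G)⁻¹) * r := by group
        _ = g := by rw [hrc, show (k : G) * (c : G) * (k : G)⁻¹ = r * g * r⁻¹ from hk]; group
    · rintro ⟨k, hk⟩
      refine ⟨⟨r * k * r⁻¹, hKn.conj_mem _ k.2 r⟩, ?_⟩
      calc r * (k : G) * r⁻¹ * (c : G) * (r * (k : G) * r⁻¹)⁻¹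
          = r * ((k : G) * (r⁻¹ * (r * (c : G) * r⁻¹) * r) * (k : G)⁻¹) * r⁻¹ := by
            rw [hrc]; group
        _ = r * g * r⁻¹ := by
          rw [show r⁻¹ * (r * (c : G) * r⁻¹) * r = (c : G) by group,
            show (k : G) * (c : G) * (k : G)⁻¹ = g from hk]
  have hΦz : Φ z = classSum (Res M) c := by
    refine MonoidAlgebra.coeff_injective (Finsupp.ext fun d => ?_)
    show (resA C (resA (Cn R) z)).coeff d = _
    rw [coeff_resA, coeff_resA, hz, coeff_inA_classSum hM, coeff_classSum]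
    refine if_congr ⟨?_, ?_⟩ rfl rfl
    · rintro ⟨k, hk⟩
      obtain ⟨k', hk', hk'R, he'⟩ := exists_transfer hKp hR k.2 (c : Cn R).2 (d : Cn R).2 hk
      exact isConj_iff.2 ⟨⟨⟨k', hk'R⟩, hk'⟩, Subtype.ext (Subtype.ext he')⟩
    · intro h
      obtain ⟨k, hk⟩ := isConj_iff.1 h
      exact ⟨⟨((k : Cn R) : G), k.2⟩, congrArg (fun w : C => ((w : Cn R) : G)) hk⟩
  set r := lam (θ : K → ℂ) (classSum (Res M) cK) with hr
  have hb0 := isClassCoeff_bid hM (blockOf_isPBlock (M := M) θ)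
  have hcs := isClassCoeff_classSum (Res M) cK
  have hnil : IsNilpotent (classSum (Res M) cK * bid M (blockOf M (θ : K → ℂ)) -
      r • bid M (blockOf M (θ : K → ℂ))) := by
    refine isNilpotent_of_lam hM ((hcs.mul hb0).sub (hb0.smul r)) fun η => ?_
    rw [lam_sub η.2 (hcs.mul hb0) (hb0.smul r), lam_mul η.2 hcs hb0, lam_smul η.2 r hb0,
      lam_bid hM (blockOf_isPBlock θ)]
    split_ifs with hη
    · rw [hr, (eq_of_sameBlock_pPrime hM hKp hη), sub_self]
    · rw [mul_zero, mul_zero, sub_zero]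
  obtain ⟨m, hm⟩ := hnil
  set w := z * eθ M θ - r • eθ M θ with hw
  have hwin : w = inA K (classSum (Res M) cK * bid M (blockOf M (θ : K → ℂ)) -
      r • bid M (blockOf M (θ : K → ℂ))) := by
    rw [map_sub, map_mul, inA_smul]
  have hws : ∀ i, ∀ g, g ∉ K → (w ^ i).coeff g = 0 := fun i g hg => by
    rw [hwin, ← map_pow]; exact coeff_inA_of_notMem K _ hg
  have hwf : Fix R w := fun y hy => by
    rw [hw, map_sub, map_mul, cjA_smul, hzf y hy, hfe y hy]
  have hwpow : ∀ i, Φ (w ^ i) = Φ w ^ i := by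
    intro i
    induction i with
    | zero =>
      show resA C (resA (Cn R) (w ^ 0)) = _
      rw [pow_zero, pow_zero, resA_one, resA_one]
    | succ i ih =>
      rw [pow_succ, pow_succ, hΦmul (w ^ i) w (fun y hy => by rw [map_pow, hwf y hy]) hwf (hws i)
        (fun g hg => by simpa using hws 1 g hg), ih]
  have hnil' : IsNilpotent (Φ w) := ⟨m, by
    rw [← hwpow, hwin, ← map_pow, hm, map_zero]
    refine MonoidAlgebra.coeff_injective (Finsupp.ext fun d => ?_)
    simp [Φ]⟩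
  have hΦw : Φ w = classSum (Res M) c * Φ (eθ M θ) - r • Φ (eθ M θ) := by
    rw [← hΦz, ← hΦmul z _ hzf hfe hzs hes]
    show resA C (resA (Cn R) w) = _
    rw [hw, resA_sub, resA_sub, resA_smul, resA_smul]
  rw [hΦw] at hnil'
  have hval : ∀ η : IrrCharacter C, lam (η : C → ℂ) (Φ (eθ M θ)) = 1 →
      lam (η : C → ℂ) (classSum (Res M) c) = r := by
    intro η hη
    have hcc := isClassCoeff_classSum (Res M) c
    have h2 := lam_eq_zero_of_isNilpotent η.2 ((hcc.mul heCc).sub (heCc.smul r)) hnil'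
    rwa [lam_sub η.2 (hcc.mul heCc) (heCc.smul r), lam_mul η.2 hcc heCc, lam_smul η.2 r heCc, hη,
      mul_one, mul_one, sub_eq_zero] at h2
  rw [hval φ (hbl φ hφ), hval ψ h1]

omit hst in
/-- Blocks of `C(R)` inducing `B` are those of the pairs of `B`. -/
theorem induced_iff {R : Subgroup G} (hR : IsPGroup p R) {B : Set (IrrCharacter G)}
    (hB : IsPBlock M B) {f : Set (IrrCharacter (Cn R))} (hf : IsPBlock M f) :
    IsInducedBlock M (Cn R) f B ↔ ∀ ξ ∈ f, lam (ξ : Cn R → ℂ) (resA (Cn R) (bid M B)) = 1 := by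
  classical
  have hlam : ∀ (ξ : IrrCharacter (Cn R)) (a : MonoidAlgebra (locRing M) G), IsClassCoeff a →
      omegaBar (ξ : Cn R → ℂ) (resA (Cn R) a) = val R (ξ : Cn R → ℂ) (redA a) := by
    intro ξ a ha
    rw [val, ← redA_resA, lam_redA ξ.2 (isClassCoeff_resA _ ha)]
  constructor
  · intro h ξ hξ
    obtain ⟨-, -, hω⟩ := (isInducedBlock_iff (Cn R)).1 h
    obtain ⟨χ, hχ⟩ := isPBlock_nonempty hB
    rw [bid_eq hM hB]
    show val R (ξ : Cn R → ℂ) _ = 1
    rw [← hlam ξ _ (isClassCoeff_blockIdem hM hB), hω ξ hξ χ hχ _ (isClassCoeff_blockIdem hM hB),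
      omegaBar_blockIdem, if_pos hχ]
  · intro h
    obtain ⟨ξ, hξ⟩ := isPBlock_nonempty hf
    obtain ⟨B', hB'⟩ := inducedBlockDefined_of_mul hM (Cn R) hf ξ hξ fun a a' ha ha' => by
      rw [hlam ξ _ (ha.mul ha'), hlam ξ _ ha, hlam ξ _ ha', map_mul,
        val_mul hM hR (adm_of_classCoeff ha.redA) (adm_of_classCoeff ha'.redA)]
    obtain ⟨-, hB'b, hω⟩ := (isInducedBlock_iff (Cn R)).1 hB'
    obtain ⟨χ', hχ'⟩ := isPBlock_nonempty hB'b
    have h1 := h ξ hξ
    rw [bid_eq hM hB, show lam (ξ : Cn R → ℂ) _ = val R (ξ : Cn R → ℂ) _ from rfl,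
      ← hlam ξ _ (isClassCoeff_blockIdem hM hB),
      hω ξ hξ χ' hχ' _ (isClassCoeff_blockIdem hM hB), omegaBar_blockIdem] at h1
    have hmem : χ' ∈ B := by
      by_contra hn
      rw [if_neg hn] at h1
      exact zero_ne_one h1
    exact eq_of_mem_of_mem hB'b hB hχ' hmem ▸ hB'

include hKp in
/-- Principal type. -/
theorem principal_type {L : Subgroup G} [L.Normal] (hKL : K ≤ L)
    (hidx : ∃ k : ℕ, (K.subgroupOf L).index = p ^ k)
    (hC : ∀ Q : Subgroup G, IsSylowIn p Q L → Subgroup.centralizer (Q : Set G) ≤ L)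
    {B : Set (IrrCharacter G)} (hB : IsPBlock M B) (hBe : bid M B = eθ M θ) {R : Subgroup G}
    (hR : IsPGroup p R) :
    ∃! f : Set (IrrCharacter (Cn R)), IsInducedBlock M (Cn R) f B := by
  classical
  haveI : Fintype (Cn R) := Fintype.ofFinite _
  haveI : (K.subgroupOf (Cn R)).Normal := hKn.subgroupOf _
  haveI : (L.subgroupOf (Cn R)).Normal := (inferInstance : L.Normal).subgroupOf _
  haveI : Fintype (K.subgroupOf (Cn R)) := Fintype.ofFinite _
  obtain ⟨φ, hφ⟩ := exists_local hM hKp θ hst hR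
  -- a Sylow subgroup of `L` normalized by `R`
  obtain ⟨S, hS⟩ := hR.exists_le_sylow
  set Q' := (S : Subgroup G) ⊓ L with hQ'def
  have hQ'p : IsPGroup p Q' := S.isPGroup'.to_le inf_le_left
  have hQ'L : IsSylowIn p Q' L := by
    obtain ⟨E, hE, hQE⟩ := exists_isSylowIn_ge hQ'p (inf_le_right : Q' ≤ L)
    obtain ⟨T, hT⟩ := hE.isPGroup.exists_le_sylow
    obtain ⟨x, hx⟩ := MulAction.exists_smul_eq G T S
    have hle : E.map (MulAut.conj x).toMonoidHom ≤ Q' := by
      refine le_inf ?_ ((Subgroup.map_mono hE.le).trans (Subgroup.Normal.map_conj_eq L x).le)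
      rintro _ ⟨t, ht, rfl⟩
      rw [← hx]
      exact ⟨t, hT ht, rfl⟩
    have hc := Subgroup.card_le_of_le hle
    rw [card_map_conj] at hc
    rw [Subgroup.eq_of_le_of_card_ge hQE hc]
    exact hE
  have hRQ : ∀ r ∈ R, ∀ q ∈ Q', r * q * r⁻¹ ∈ Q' := fun r hr q hq =>
    ⟨(S : Subgroup G).mul_mem ((S : Subgroup G).mul_mem (hS hr) hq.1)
        ((S : Subgroup G).inv_mem (hS hr)),
      (inferInstance : L.Normal).conj_mem q hq.2 r⟩
  obtain ⟨QH, hQH, hXQ⟩ := exists_isSylowIn_ge (p := p) (Q := Q'.subgroupOf (Cn R))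
    (H := L.subgroupOf (Cn R))
    ((hQ'p.to_le (inf_le_left : Q' ⊓ Cn R ≤ Q')).of_injective
      ({ toFun := fun q => (⟨((q : Cn R) : G), q.2, (q : Cn R).2⟩ : (Q' ⊓ Cn R : Subgroup G))
         map_one' := rfl
         map_mul' := fun _ _ => rfl } : Q'.subgroupOf (Cn R) →* (Q' ⊓ Cn R : Subgroup G))
      fun a b h => Subtype.ext (Subtype.ext (congrArg (fun w : (Q' ⊓ Cn R : Subgroup G) => (w : G)) h)))
    fun y hy => hy.2
  have hidxC : ∃ k : ℕ, ((K.subgroupOf (Cn R)).subgroupOf (L.subgroupOf (Cn R))).index = p ^ k := by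
    obtain ⟨k, hk⟩ := hidx
    haveI : (K.subgroupOf L).Normal := hKn.subgroupOf L
    have hq : IsPGroup p (L.subgroupOf (Cn R) ⧸ (K.subgroupOf (Cn R)).subgroupOf (L.subgroupOf (Cn R))) := by
      intro q
      obtain ⟨y, rfl⟩ := QuotientGroup.mk_surjective q
      refine ⟨k, ?_⟩
      rw [← QuotientGroup.mk_pow, QuotientGroup.eq_one_iff]
      have h1 : ((⟨((y : Cn R) : G), y.2⟩ : L) ^ p ^ k) ∈ K.subgroupOf L := by
        rw [← hk]; exact Subgroup.pow_index_mem _ _
      exact h1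
    obtain ⟨j, hj⟩ := IsPGroup.iff_card.1 hq
    exact ⟨j, by rw [Subgroup.index_eq_card, hj]⟩
  have hKpC : ¬ p ∣ Nat.card (K.subgroupOf (Cn R)) := fun h => hKp (h.trans
    (Subgroup.card_dvd_of_injective
      ({ toFun := fun q => (⟨((q : Cn R) : G), q.2⟩ : K)
         map_one' := rfl
         map_mul' := fun _ _ => rfl } : K.subgroupOf (Cn R) →* K)
      fun a b h => Subtype.ext (Subtype.ext (congrArg (fun w : K => (w : G)) h))))
  have hstC : ∀ y : Cn R, cjA y (eθ M φ) = eθ M φ := fun y => by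
    rw [hφ]
    exact cjA_eq_of_isClassCoeff (isClassCoeff_resA _ (eθ_class hM θ hst)) y
  obtain ⟨f, hf, hfe, -, -⟩ := one_block hM hKpC φ hstC (L := L.subgroupOf (Cn R))
    (fun y hy => hKL hy) hidxC hQH (by
      intro g hg hgQ
      -- Thompson's lemma in `G / K`
      set π := QuotientGroup.mk' K with hπ
      have hcop : ∀ {A : Subgroup G}, IsPGroup p A → (Nat.card A).Coprime (Nat.card K) := by
        intro A hA
        obtain ⟨i, hi⟩ := IsPGroup.iff_card.1 hA
        rw [hi]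
        exact Nat.Coprime.pow_left i ((Fact.out : p.Prime).coprime_iff_not_dvd.2 hKp)
      have hKQ : ∀ x, x ∈ Q' → x ∈ K → x = 1 := fun x h1 h2 => by
        have h3 := CfsgLib.Solv.inf_eq_bot_of_coprime_card (hcop hQ'p)
        exact Subgroup.mem_bot.1 (h3 ▸ (⟨h1, h2⟩ : x ∈ Q' ⊓ K))
      have hgo : (Nat.card (Subgroup.zpowers (π (g : G)))).Coprime p := by
        rw [Nat.card_zpowers]
        exact Nat.Coprime.coprime_dvd_left ((orderOf_map_dvd π (g : G)).trans
          (orderOf_map_dvd (Cn R).subtype g)) ((Fact.out : p.Prime).coprime_iff_not_dvd.2 hg).symm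
      have hgR : ∀ r ∈ R, r * (g : G) = (g : G) * r := fun r hr => g.2 r hr
      have h4 : Subgroup.zpowers (π (g : G)) ≤
          Subgroup.centralizer ((Q'.map π : Subgroup (G ⧸ K)) : Set (G ⧸ K)) := by
        refine CfsgLib.Solv.thompson_pq (hR.map π) hgo ?_ _ (hQ'p.map π) ?_ ?_ ?_
        · rintro _ ⟨r, hr, rfl⟩
          rw [Subgroup.zpowers_eq_closure, Subgroup.centralizer_closure,
            Subgroup.mem_centralizer_singleton_iff, ← map_mul, ← map_mul, hgR r hr]
        · refine Subgroup.le_normalizer_map π |>.trans' (Subgroup.map_mono ?_)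
          intro r hr
          rw [Subgroup.mem_normalizer_iff]
          refine fun q => ⟨hRQ r hr q, fun h => ?_⟩
          have := hRQ r⁻¹ (inv_mem hr) _ h
          simpa [mul_assoc] using this
        · have hLQ : Q'.map π = L.map π := by
            refine le_antisymm (Subgroup.map_mono inf_le_right) ?_
            have hsup : L ≤ K ⊔ Q' := by
              obtain ⟨k, hk⟩ := hidx
              have h5 := CfsgLib.Solv.card_sup_mul_card_inf Q' K
              rw [CfsgLib.Solv.inf_eq_bot_of_coprime_card (hcop hQ'p), Subgroup.card_bot, mul_one,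
                sup_comm] at h5
              refine (Subgroup.eq_of_le_of_card_ge (sup_le hKL inf_le_right) ?_).ge
              rw [h5, hQ'L.card]
              have hL : Nat.card L = p ^ k * Nat.card K := by
                rw [← Subgroup.index_mul_card (K.subgroupOf L), hk,
                  Nat.card_congr (Subgroup.subgroupOfEquivOfLe hKL).toEquiv]
              refine Nat.le_of_eq ?_
              rw [hL, Nat.factorization_mul (pow_ne_zero _ (Fact.out : p.Prime).ne_zero)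
                Nat.card_pos.ne', Finsupp.add_apply, Nat.factorization_eq_zero_of_not_dvd hKp,
                (Fact.out : p.Prime).factorization_pow, Finsupp.single_eq_same, add_zero]
            refine (Subgroup.map_mono hsup).trans ?_
            rw [Subgroup.map_sup, (Subgroup.map_eq_bot_iff K).2 (QuotientGroup.ker_mk' K).ge,
              bot_sup_eq]
          rw [hLQ]
          haveI : (L.map π).Normal :=
            (inferInstance : L.Normal).map π (QuotientGroup.mk'_surjective K)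
          rw [Subgroup.normalizer_eq_top]
          exact le_top
        · rintro _ ⟨⟨q, hq, rfl⟩, hqR⟩
          have hqC : q ∈ Cn R := fun r hr => by
            have h5 : π (r * q) = π (q * r) := by
              rw [map_mul, map_mul]; exact hqR _ ⟨r, hr, rfl⟩
            have h6 : r * q * r⁻¹ * q⁻¹ ∈ K := by
              rw [← QuotientGroup.ker_mk' K, MonoidHom.mem_ker, ← hπ, map_mul, map_mul, h5,
                ← map_mul, ← map_mul]
              simp
            have h7 := hKQ _ (mul_mem (hRQ r hr q hq) (inv_mem hq)) h6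
            exact mul_inv_eq_iff_eq_mul.1 (mul_inv_eq_one.1 h7)
          have h8 : ((⟨q, hqC⟩ : Cn R) : G) * g = g * q :=
            congrArg Subtype.val (hgQ ⟨q, hqC⟩ (hXQ hq))
          rw [Subgroup.zpowers_eq_closure, Subgroup.centralizer_closure,
            Subgroup.mem_centralizer_singleton_iff, ← map_mul, ← map_mul]
          exact congrArg π h8
      haveI := hQ'p.isNilpotent
      obtain ⟨c, hc, hce⟩ := CfsgLib.Solv.centralizer_map_mk'_le (hcop hQ'p) inferInstance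
        (h4 (Subgroup.mem_zpowers _))
      have h9 : c⁻¹ * (g : G) ∈ K := QuotientGroup.eq.1 hce
      show (g : G) ∈ L
      rw [← mul_inv_cancel_left c (g : G)]
      exact mul_mem (hC Q' hQ'L hc) (hKL h9))
  have hval : ∀ ξ : IrrCharacter (Cn R),
      lam (ξ : Cn R → ℂ) (resA (Cn R) (bid M B)) = if ξ ∈ f then 1 else 0 := fun ξ => by
    rw [hBe, ← hφ, ← hfe, lam_bid hM hf]
  refine ⟨f, (induced_iff hM hR hB hf).2 fun ξ hξ => by rw [hval, if_pos hξ], ?_⟩
  intro f' hf'
  have hf'b : IsPBlock M f' := hf'.1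
  obtain ⟨ξ, hξ⟩ := isPBlock_nonempty hf'b
  have h := (induced_iff hM hR hB hf'b).1 hf' ξ hξ
  rw [hval] at h
  refine eq_of_mem_of_mem hf'b hf hξ (by_contra fun hn => ?_)
  rw [if_neg hn] at h
  exact zero_ne_one h

end CfsgLib.PrimeCore

namespace CfsgLib.PrimeCore

open Cfsg CfsgLib.Blk

variable {G : Type*} [Group G] [Finite G] {p : ℕ} [Fact p.Prime]

theorem pPrimePCore_data :
    (pPrimePCore p G).Normal ∧ pPrimeCore p G ≤ pPrimePCore p G ∧
      (∃ k : ℕ, ((pPrimeCore p G).subgroupOf (pPrimePCore p G)).index = p ^ k) ∧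
      ∃ Q, IsSylowIn p Q (pPrimePCore p G) ∧ Q ⊔ pPrimeCore p G = pPrimePCore p G := by
  obtain ⟨S⟩ := (inferInstance : Nonempty (Sylow p G))
  haveI := CfsgLib.Solv.pPrimeCore_normal G p
  have hle := CfsgLib.Base.PPrimeP.pPrimeCore_le (G := G) (p := p)
  set Q := (S : Subgroup G) ⊓ pPrimePCore p G with hQ
  have hQp : IsPGroup p Q := S.isPGroup'.to_le inf_le_left
  have hsup : Q ⊔ pPrimeCore p G = pPrimePCore p G := CfsgLib.Base.PPrimeP.sylow_sup_core S
  have hbot : Q ⊓ pPrimeCore p G = ⊥ := CfsgLib.Base.PPrimeP.inf_pPrimeCore hQp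
  have hcard := CfsgLib.Solv.card_sup_mul_card_inf Q (pPrimeCore p G)
  rw [hsup, hbot, Subgroup.card_bot, mul_one] at hcard
  obtain ⟨n, hn⟩ := IsPGroup.iff_card.1 hQp
  refine ⟨CfsgLib.Base.PPrimeP.pPrimePCore_normal, hle, ⟨n, ?_⟩, Q, ⟨inf_le_right, ?_⟩, hsup⟩
  · have h1 := Subgroup.index_mul_card ((pPrimeCore p G).subgroupOf (pPrimePCore p G))
    rw [Nat.card_congr (Subgroup.subgroupOfEquivOfLe hle).toEquiv, hcard, hn] at h1
    exact Nat.eq_of_mul_eq_mul_right Nat.card_pos h1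
  · rw [hcard, hn, Nat.factorization_mul (pow_ne_zero _ (Fact.out : p.Prime).ne_zero)
      Nat.card_pos.ne', Finsupp.add_apply,
      Nat.factorization_eq_zero_of_not_dvd CfsgLib.Solv.not_dvd_card_pPrimeCore,
      (Fact.out : p.Prime).factorization_pow, Finsupp.single_eq_same, add_zero]

theorem centralizer_le_of_isSylowIn (hG : IsPSolvable p G) {Q : Subgroup G}
    (hsup : Q ⊔ pPrimeCore p G = pPrimePCore p G) :
    Subgroup.centralizer (Q : Set G) ≤ pPrimePCore p G := by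
  haveI := CfsgLib.Solv.pPrimeCore_normal G p
  intro c hc
  show QuotientGroup.mk' (pPrimeCore p G) c ∈ pCore p (G ⧸ pPrimeCore p G)
  refine CfsgLib.Perm.centralizer_pCore_le_of_pSolvable
    (CfsgLib.Perm.isPSolvable_quotient hG _) (CfsgLib.Fus.pPrimeCore_quotient_eq_bot p) ?_
  intro y hy
  obtain ⟨x, rfl⟩ := QuotientGroup.mk'_surjective (pPrimeCore p G) y
  have hx : x ∈ Q ⊔ pPrimeCore p G := hsup.ge hy
  rw [Subgroup.mem_sup_of_normal_right] at hx
  obtain ⟨q, hq, k, hk, rfl⟩ := hx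
  rw [map_mul, show QuotientGroup.mk' (pPrimeCore p G) k = 1 from (QuotientGroup.eq_one_iff k).2 hk,
    mul_one, ← map_mul, ← map_mul, hc q hq]

end CfsgLib.PrimeCore
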