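import Cfsg.Agent.Blk.FongReynolds
import Cfsg.Agent.Blk.PrimeCore
import Cfsg.Agent.Blk.MinMax
import Cfsg.Agent.Char.ExtMore
import Cfsg.Agent.Char.Gallagher
import Cfsg.Agent.Fus.SolvableRealized

/-!
Heights in blocks of `p`-solvable groups are at most the exponent of the index of the centre of a
defect group (Fong).
-/

set_option autoImplicit false
set_option linter.style.haveILetI false
set_option linter.unusedSectionVars false

namespace CfsgLib.Blk.PSolvHeight

open Cfsg CfsgLib.Char CfsgLib.Blk CfsgLib.Blk.Pair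
open scoped CfsgLib.Char

universe u

theorem center_index_congr {A B : Type*} [Group A] [Group B] [Finite A] (e : A ≃* B) :
    (Subgroup.center A).index = (Subgroup.center B).index := by
  have h1 : (Subgroup.center A).index * Nat.card (Subgroup.center A) =
      (Subgroup.center B).index * Nat.card (Subgroup.center A) := by
    rw [Subgroup.index_mul_card, Nat.card_congr e.toEquiv,
      Nat.card_congr (Subgroup.centerCongr e).toEquiv, Subgroup.index_mul_card]
  exact Nat.eq_of_mul_eq_mul_right Nat.card_pos h1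

variable {p : ℕ} [Fact p.Prime]

/-- An extension and Gallagher: characters over an invariant character of a normal `p'`-subgroup
with abelian `p`-quotient keep its degree. -/
theorem degree_eq {A : Type u} [Group A] [Finite A] {K : Subgroup A} [K.Normal] [Fintype K]
    (hKp : ¬ p ∣ Nat.card K) (hidx : ∃ k : ℕ, K.index = p ^ k)
    (hab : ∀ a b : A, a * b * a⁻¹ * b⁻¹ ∈ K) {θ : K → ℂ} (hθ : IsIrrCharacter K θ)
    (hinv : ∀ g : A, conjN θ g = θ) {φ : A → ℂ} (hφ : IsIrrCharacter A φ)
    (hc : classInner (fun n : K => φ n) θ ≠ 0) : φ 1 = θ 1 := by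
  haveI := Fintype.ofFinite A
  have hp : p.Prime := Fact.out
  obtain ⟨k, hk⟩ := hidx
  obtain ⟨D, hD⟩ := detChar_exists_hom (isCharacter_of_isIrr hθ)
  have hdet : detOrder θ ∣ Nat.card K := by
    rw [detOrder, hD, orderOf_coe_linear]
    exact orderOf_dvd_of_pow_eq_one (MonoidHom.ext fun x => by
      rw [MonoidHom.pow_apply, ← map_pow, pow_card_eq_one', map_one, MonoidHom.one_apply])
  have hdeg : charDegree θ ∣ Nat.card K := degree_dvd_card hθ
  have hcop : Nat.Coprime K.index (detOrder θ * charDegree θ) := by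
    rw [hk]
    refine Nat.Coprime.pow_left k (Nat.Coprime.mul_right ?_ ?_) <;>
      refine hp.coprime_iff_not_dvd.2 fun h => hKp (h.trans ?_)
    exacts [hdet, hdeg]
  obtain ⟨η, ⟨hη, hηK, -⟩, -⟩ := exists_canonical_extension hθ hinv (irr_one_eq hθ) hcop
  obtain ⟨β, ⟨hβ, hβK⟩, hβφ⟩ := (gallagher hθ (isCharacter_of_isIrr hη) hηK).surjOn
    (show φ ∈ {ψ : A → ℂ | IsIrrCharacter A ψ ∧ classInner (fun n : K => ψ n) θ ≠ 0} from ⟨hφ, hc⟩)
  haveI := Fintype.ofFinite (A ⧸ K)
  obtain ⟨β', hβ', hcomp⟩ := irr_descend (QuotientGroup.mk' K) (QuotientGroup.mk'_surjective K) hβ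
    fun x hx => hβK ⟨x, (QuotientGroup.eq_one_iff x).1 hx⟩
  have hcomm : ∀ a b : A ⧸ K, a * b = b * a := by
    intro a b
    obtain ⟨x, rfl⟩ := QuotientGroup.mk_surjective a
    obtain ⟨y, rfl⟩ := QuotientGroup.mk_surjective b
    have h1 : ((x * y * x⁻¹ * y⁻¹ : A) : A ⧸ K) = 1 := (QuotientGroup.eq_one_iff _).2 (hab x y)
    simp only [QuotientGroup.mk_mul, QuotientGroup.mk_inv] at h1
    rwa [mul_inv_eq_one, mul_inv_eq_iff_eq_mul] at h1
  have hβ1 : β 1 = 1 := by
    rw [← hcomp, Function.comp_apply, map_one]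
    exact irr_degree_one_of_comm hcomm hβ'
  rw [← hβφ]
  change β 1 * η 1 = θ 1
  rw [hβ1, one_mul, ← Subgroup.coe_one K, hηK]

variable {M : Ideal AlgInt} [M.IsPrime]

theorem height_le (hM : IsPModular p M) : ∀ (n : ℕ) (G : Type u) [Group G] [Finite G],
    Nat.card G = n → IsPSolvable p G → ∀ (B : Set (IrrCharacter G)), IsPBlock M B →
    ∀ P : Subgroup G, IsDefectGroup p M B P → ∀ χ ∈ B,
    blockHeight p B (χ : G → ℂ) ≤ (Subgroup.center P).index.factorization p := by
  intro n
  induction n using Nat.strong_induction_on with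
  | _ n ih =>
  intro G _ _ hn hsolv B hB P hP χ hχ
  classical
  haveI := Fintype.ofFinite G
  have hp : p.Prime := Fact.out
  set K := pPrimeCore p G with hK
  haveI : K.Normal := CfsgLib.Solv.pPrimeCore_normal G p
  haveI := Fintype.ofFinite K
  have hKp : ¬ p ∣ Nat.card K := CfsgLib.Solv.not_dvd_card_pPrimeCore
  obtain ⟨θ₀, hθ₀, hcon⟩ := exists_constituent_res (N := K) χ.2
  set θ : IrrCharacter K := ⟨θ₀, hθ₀⟩ with hθ
  by_cases hinv : ∀ g : G, conjN (θ : K → ℂ) g = (θ : K → ℂ)
  swap
  · -- reduction to the inertia group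
    set T := inertia (θ : K → ℂ) with hTdef
    haveI := Fintype.ofFinite T
    have hb := blockOf_isPBlock (M := M) θ
    have hsingle : ∀ φ ∈ blockOf M (θ : K → ℂ), φ = θ := fun φ hφ =>
      (eq_of_sameBlock_pPrime hM hKp hφ).symm
    have hT : ∀ g : G, g ∈ T ↔ ∀ φ ∈ blockOf M (θ : K → ℂ), ∀ φ' : IrrCharacter K,
        (∀ n : K, (φ' : K → ℂ) n =
          (φ : K → ℂ) ⟨g * n * g⁻¹, (inferInstance : K.Normal).conj_mem n n.2 g⟩) →
          φ' ∈ blockOf M (θ : K → ℂ) := by
      intro g
      constructor
      · intro hg φ hφ φ' hφ'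
        rw [hsingle φ hφ] at hφ'
        rw [show φ' = θ from Subtype.ext (funext fun m => (hφ' m).trans (congrFun hg m))]
        exact sameBlock_refl _
      · intro h
        have h1 := hsingle _ (h θ (sameBlock_refl _) ⟨conjN (θ : K → ℂ) g, irr_conjN θ.2 g⟩
          fun m => rfl)
        exact congrArg Subtype.val h1
    have hKT : K ≤ T := le_inertia (classFun_of_irr θ.2)
    have hcov : ∃ ψ ∈ B, ∃ φ ∈ blockOf M (θ : K → ℂ),
        classInner (fun m : K => (ψ : G → ℂ) m) (φ : K → ℂ) ≠ 0 :=
      ⟨χ, hχ, θ, sameBlock_refl _, hcon⟩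
    obtain ⟨B', hB', hcov', hind⟩ := FongReynolds.exists_below_of_cov hM hb hT hKT hB hcov
    obtain ⟨B₁, hB₁, -, -, hmem⟩ := FongReynolds.exists_block hM hb hT hKT hB' hcov'
    rw [isInducedBlock_unique T hB₁ hind] at hmem
    obtain ⟨hdefect, hheight⟩ := FongReynolds.induced_invariants hM hb hT hKT hB' hcov' hind
    obtain ⟨ψ, hψ, hψχ⟩ := (hmem χ).1 hχ
    obtain ⟨χ', -, hχ', hh⟩ := hheight ψ hψ
    obtain rfl : χ' = χ := Subtype.ext (hχ'.trans hψχ.symm)
    obtain ⟨D, hD⟩ := exists_isDefectGroup hM hB'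
    have hTn : Nat.card T < n := by
      refine hn ▸ lt_of_le_of_ne (Subgroup.card_le_card_group T) fun e => hinv fun g => ?_
      have hg : g ∈ T := (Subgroup.eq_top_of_card_eq T e) ▸ Subgroup.mem_top g
      exact mem_inertia.1 hg
    have hle := ih _ hTn T rfl (CfsgLib.Fus.SolvReal.isPSolvable_subgroup hsolv T) B' hB' D hD ψ hψ
    obtain ⟨x, hx⟩ := isDefectGroup_conj_eq hM hB hP (hdefect D hD)
    rw [hh]
    refine hle.trans (le_of_eq ?_)
    rw [center_index_congr (((Subgroup.equivMapOfInjective D T.subtype T.subtype_injective).trans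
      (Subgroup.equivMapOfInjective (D.map T.subtype) (MulAut.conj x).toMonoidHom
        (MulAut.conj x).injective)).trans (MulEquiv.subgroupCongr hx))]
  · -- the invariant case: full defect
    obtain ⟨hLn, hKL, hidx, Q, hQ, hsup⟩ := PrimeCore.pPrimePCore_data (G := G) (p := p)
    haveI := hLn
    set L := pPrimePCore p G with hL
    have hst := PrimeCore.stable_of_invariant hM θ (fun g m => congrFun (hinv g) m) hKp
    obtain ⟨B₀, hB₀, -, hmem, hsyl⟩ := PrimeCore.one_block hM hKp θ hst hKL hidx hQ
      fun g _ hg => PrimeCore.centralizer_le_of_isSylowIn hsolv hsup hg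
    obtain rfl : B = B₀ := eq_of_mem_of_mem hB hB₀ hχ ((hmem χ).2 hcon)
    obtain ⟨S⟩ := (inferInstance : Nonempty (Sylow p G))
    obtain ⟨x, hx⟩ := isDefectGroup_conj_eq hM hB hP (hsyl S)
    rw [← center_index_congr ((Subgroup.equivMapOfInjective (S : Subgroup G)
      (MulAut.conj x).toMonoidHom (MulAut.conj x).injective).trans (MulEquiv.subgroupCongr hx))]
    have hScard : Nat.card (S : Subgroup G) = p ^ (Nat.card G).factorization p :=
      S.card_eq_multiplicity
    have hd : blockDefect p B = pExp p G := by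
      have h1 := card_defectGroup hM hB (hsyl S)
      rw [hScard] at h1
      exact (Nat.pow_right_injective hp.two_le h1).symm
    have hh := degExp_eq_height_add hM hB hχ
    rw [hd, Nat.sub_self, zero_add] at hh
    rw [← hh]
    change (charDegree (χ : G → ℂ)).factorization p ≤ _
    -- the abelian normal section
    set Qb := pCore p (G ⧸ K) with hQb
    haveI : Qb.Normal := CfsgLib.Solv.pCore_normal (G ⧸ K) p
    set Ab := (Subgroup.center Qb).map Qb.subtype with hAb
    haveI : Ab.Normal := inferInstance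
    set A := Ab.comap (QuotientGroup.mk' K) with hA
    haveI : A.Normal := inferInstance
    haveI := Fintype.ofFinite A
    have hKA : K ≤ A := fun m hm => by
      rw [hA, Subgroup.mem_comap, QuotientGroup.mk'_apply, (QuotientGroup.eq_one_iff m).2 hm]
      exact one_mem _
    haveI : (K.subgroupOf A).Normal := Subgroup.Normal.subgroupOf inferInstance A
    haveI := Fintype.ofFinite (K.subgroupOf A)
    obtain ⟨φ, hφ, hcA⟩ := exists_constituent_res (N := A) χ.2
    obtain ⟨k, hk, hkdvd⟩ := degree_quotient χ.2 hφ hcA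
    -- `φ` has degree prime to `p`
    have hsub : ∀ a : A, QuotientGroup.mk' K (a : G) ∈ Ab := fun a => a.2
    have hab : ∀ a b : A, a * b * a⁻¹ * b⁻¹ ∈ K.subgroupOf A := by
      intro a b
      obtain ⟨u, hu, hua⟩ := hsub a
      obtain ⟨v, -, hvb⟩ := hsub b
      rw [Subgroup.mem_subgroupOf, ← QuotientGroup.eq_one_iff, ← QuotientGroup.mk'_apply]
      simp only [Subgroup.coe_mul, Subgroup.coe_inv, map_mul, map_inv, ← hua, ← hvb,
        ← Subgroup.coe_subtype]
      have hcm : v * u = u * v := Subgroup.mem_center_iff.1 hu v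
      rw [← map_inv Qb.subtype, ← map_inv Qb.subtype, ← map_mul, ← map_mul, ← map_mul,
        show u * v * u⁻¹ * v⁻¹ = 1 by rw [← hcm, mul_inv_cancel_right, mul_inv_cancel], map_one]
    have hidxA : ∃ j : ℕ, (K.subgroupOf A).index = p ^ j := by
      have hAbp : IsPGroup p Ab :=
        (CfsgLib.Solv.pCore_isPGroup (G := G ⧸ K) (p := p)).to_le (Subgroup.map_subtype_le _)
      obtain ⟨j, hj⟩ := IsPGroup.iff_card.1 hAbp
      refine ⟨j, ?_⟩
      let f : A →* Ab := ((QuotientGroup.mk' K).comp A.subtype).codRestrict Ab hsub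
      have hf : Function.Surjective f := by
        rintro ⟨q, hq⟩
        obtain ⟨g, rfl⟩ := QuotientGroup.mk'_surjective K q
        exact ⟨⟨g, hq⟩, rfl⟩
      have hker : f.ker = K.subgroupOf A := by
        ext a
        rw [MonoidHom.mem_ker, Subgroup.mem_subgroupOf, ← QuotientGroup.eq_one_iff]
        exact ⟨fun h => congrArg Subtype.val h, fun h => Subtype.ext h⟩
      rw [← hker, Subgroup.index_ker, MonoidHom.range_eq_top.2 hf,
        Nat.card_congr Subgroup.topEquiv.toEquiv, hj]
    have hKAp : ¬ p ∣ Nat.card (K.subgroupOf A) := by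
      rwa [Nat.card_congr (Subgroup.subgroupOfEquivOfLe hKA).toEquiv]
    obtain ⟨θ', hθ', hc'⟩ := exists_constituent_res (N := K.subgroupOf A) hφ
    have hθ'deg : ¬ p ∣ charDegree θ' := fun h =>
      hKAp (h.trans (degree_dvd_card hθ'))
    have hφdeg : ¬ p ∣ charDegree φ := by
      by_cases hinv' : ∀ a : A, conjN θ' a = θ'
      · rw [charDegree, degree_eq hKAp hidxA hab hθ' hinv' hφ hc']
        exact hθ'deg
      · exfalso
        apply hinv'
        let e : K.subgroupOf A ≃* K := Subgroup.subgroupOfEquivOfLe hKA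
        -- every constituent below `χ` on `K` is `θ`
        have hres : (fun m : K => (χ : G → ℂ) m) = classInner (fun m : K => (χ : G → ℂ) m) θ • (θ : K → ℂ) :=
          res_homogeneous χ.2 θ.2 hcon hinv
        have hθe : IsIrrCharacter (K.subgroupOf A) ((θ : K → ℂ) ∘ e) := irr_mulEquiv e θ.2
        have hind : θ' = (θ : K → ℂ) ∘ e := by
          by_contra hne
          have h1 : classInner (fun m : K.subgroupOf A => (χ : G → ℂ) (m : A)) θ' = 0 := by
            rw [show (fun m : K.subgroupOf A => (χ : G → ℂ) (m : A)) =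
              classInner (fun m : K => (χ : G → ℂ) m) θ • ((θ : K → ℂ) ∘ e) from
                funext fun m => congrFun hres (e m), classInner_smul_left,
              irr_inner hθe hθ', if_neg (Ne.symm hne), mul_zero]
          have hχA := isCharacter_restrict A (isCharacter_of_isIrr χ.2)
          obtain ⟨r, hr⟩ := inner_char_irr (isCharacter_restrict (K.subgroupOf A)
            (isCharacter_sub_constituent hχA hφ hcA)) hθ'
          obtain ⟨r', hr'⟩ := inner_char_irr (isCharacter_restrict (K.subgroupOf A)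
            (isCharacter_of_isIrr hφ)) hθ'
          have h2 : (fun m : K.subgroupOf A => ((fun a : A => (χ : G → ℂ) a) - φ) m) =
              (fun m : K.subgroupOf A => (χ : G → ℂ) (m : A)) - fun m : K.subgroupOf A => φ m := rfl
          rw [h2, classInner_sub_left, h1, hr', zero_sub, neg_eq_iff_add_eq_zero] at hr
          have h3 : r' + r = 0 := by exact_mod_cast hr
          exact hc' (by rw [hr', Nat.eq_zero_of_add_eq_zero_right h3, Nat.cast_zero])
        intro a
        rw [hind]
        ext m
        simp only [conjN, Function.comp_apply]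
        exact (congrArg (θ : K → ℂ) (Subtype.ext rfl)).trans (congrFun (hinv (a : G)) (e m))
    have hχdeg : charDegree (χ : G → ℂ) = k * charDegree φ :=
      charDegree_eq (by rw [hk, irr_one_eq hφ, Nat.cast_mul])
    have hk0 : k ≠ 0 := by
      intro h
      refine irr_one_ne_zero χ.2 ?_
      rw [hk, h, Nat.cast_zero, zero_mul]
    have hφ0 : charDegree φ ≠ 0 := fun h => irr_one_ne_zero hφ (by rw [irr_one_eq hφ, h, Nat.cast_zero])
    rw [hχdeg, Nat.factorization_mul hk0 hφ0, Finsupp.add_apply,
      Nat.factorization_eq_zero_of_not_dvd hφdeg, add_zero]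
    refine ((Nat.factorization_le_iff_dvd hk0 A.index_ne_zero_of_finite).2 hkdvd p).trans ?_
    -- the centre of a Sylow subgroup lies in `A`
    have hZA : (Subgroup.center (S : Subgroup G)).map (S : Subgroup G).subtype ≤ A := by
      rintro _ ⟨z, hz, rfl⟩
      have hzQ : QuotientGroup.mk' K (z : G) ∈ Subgroup.centralizer (Qb : Set (G ⧸ K)) := by
        intro q hq
        have hqS : q ∈ (S : Subgroup G).map (QuotientGroup.mk' K) :=
          CfsgLib.Solv.pCore_le_sylow (S.mapSurjective (QuotientGroup.mk'_surjective K)) hq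
        obtain ⟨s, hs, rfl⟩ := hqS
        rw [← map_mul, ← map_mul]
        exact congrArg _ (congrArg Subtype.val (Subgroup.mem_center_iff.1 hz ⟨s, hs⟩))
      have hzQb := CfsgLib.Perm.centralizer_pCore_le_of_pSolvable
        (CfsgLib.Perm.isPSolvable_quotient hsolv K) (CfsgLib.Fus.pPrimeCore_quotient_eq_bot p) hzQ
      exact ⟨⟨_, hzQb⟩, Subgroup.mem_center_iff.2 fun q => Subtype.ext (hzQ q.1 q.2), rfl⟩
    have hZdvd : Nat.card (Subgroup.center (S : Subgroup G)) ∣ Nat.card A := by
      rw [← Subgroup.card_map_of_injective (S : Subgroup G).subtype_injective]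
      exact Subgroup.card_dvd_of_le hZA
    have e1 : A.index.factorization p + (Nat.card A).factorization p =
        (Nat.card G).factorization p := by
      rw [← A.index_mul_card, Nat.factorization_mul A.index_ne_zero_of_finite Nat.card_pos.ne',
        Finsupp.add_apply]
    have e2 : (Subgroup.center (S : Subgroup G)).index.factorization p +
        (Nat.card (Subgroup.center (S : Subgroup G))).factorization p =
        (Nat.card G).factorization p := by
      rw [← Finsupp.add_apply, ← Nat.factorization_mul Subgroup.index_ne_zero_of_finite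
        Nat.card_pos.ne', Subgroup.index_mul_card, hScard, hp.factorization_pow, Finsupp.single_eq_same]
    have e3 := (Nat.factorization_le_iff_dvd Nat.card_pos.ne' Nat.card_pos.ne').2 hZdvd p
    omega

end CfsgLib.Blk.PSolvHeight
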