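import Cfsg.Agent.Blk.RealBlock
import Cfsg.Agent.Char.GaloisTwist
import Cfsg.Agent.Char.ExtMore

/-! Blocks stable under a power twist inverting the elements of odd order. -/

set_option autoImplicit false
set_option linter.style.haveILetI false
set_option linter.unusedSectionVars false

namespace CfsgLib.Blk

open Cfsg CfsgLib.Char MonoidAlgebra Finset IsLocalRing
open scoped ComplexConjugate

universe u

variable {G : Type u} [Group G] [Finite G] {M : Ideal AlgInt} [M.IsPrime]

theorem eq_principal_of_powStable (hM : IsPModular 2 M) (k : ℕ) (hk : k.Coprime (Nat.card G))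
    (hk₂ : ∀ g : G, Odd (orderOf g) → g ^ k = g⁻¹) {B : Set (IrrCharacter G)} (hB : IsPBlock M B)
    {χ : IrrCharacter G} (hχ : χ ∈ B) (hodd : Odd (charDegree (χ : G → ℂ)))
    (hstab : ∀ χ ∈ B, ∃ ψ ∈ B, ∀ g : G, (ψ : G → ℂ) g = (χ : G → ℂ) (g ^ k)) :
    B = principalBlock M G := by
  classical
  choose f hfmem hf using hstab
  have hreg : ∀ g : G, ¬ 2 ∣ orderOf g → g ^ k = g⁻¹ := fun g hg =>
    hk₂ g (Nat.not_even_iff_odd.mp fun h => hg (even_iff_two_dvd.mp h))
  let F : B → B := fun χ => ⟨f χ.1 χ.2, hfmem χ.1 χ.2⟩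
  have hFinj : Function.Injective F := by
    intro a b hab
    have h : f a.1 a.2 = f b.1 b.2 := congrArg Subtype.val hab
    refine Subtype.ext (Subtype.ext (funext fun g => ?_))
    obtain ⟨g', rfl⟩ := (pow_coprime_bijective hk).2 g
    show (a.1 : G → ℂ) (g' ^ k) = (b.1 : G → ℂ) (g' ^ k)
    rw [← hf a.1 a.2, ← hf b.1 b.2, h]
  haveI := Fintype.ofFinite B
  have hFbij : Function.Bijective F := Finite.injective_iff_bijective.mp hFinj
  have hbc : ∀ g : G, ¬ 2 ∣ orderOf g → blockCoeff B g⁻¹ = blockCoeff B g := by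
    intro g hg
    simp only [blockCoeff, finsum_mem_eq_toFinset_sum, ← Finset.sum_set_coe]
    congr 1
    symm
    refine Fintype.sum_bijective F hFbij _ _ fun a => ?_
    show _ = (f a.1 a.2 : G → ℂ) 1 * conj ((f a.1 a.2 : G → ℂ) g⁻¹)
    rw [hf, hf, one_pow, hreg g⁻¹ (by rwa [orderOf_inv]), inv_inv]
  obtain rfl := eq_blockOf hB hχ
  have hp := mem_principal_of_sym hM hodd hbc fun g hg => by
    have h1 : SameBlock M (χ : G → ℂ) (f χ hχ : G → ℂ) := hfmem χ hχ
    rw [(sameBlock_iff_red χ.2 (f χ hχ).2).mp h1 g, centralChar, centralChar, hf, hf, one_pow,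
      hreg g hg, index_centralizer_inv]
  exact eq_of_mem_of_mem (blockOf_isPBlock χ) isPBlock_principalBlock (sameBlock_refl _) hp

theorem mem_of_regular_inner (hM : IsPModular 2 M) [Fintype G] {χ : IrrCharacter G} {Φ : G → ℂ}
    (hΦ : IsClassFunction G Φ) (h : classInner (regPart 2 (χ : G → ℂ)) Φ ≠ 0) :
    ∃ ψ : IrrCharacter G, SameBlock M (χ : G → ℂ) (ψ : G → ℂ) ∧ classInner Φ (ψ : G → ℂ) ≠ 0 := by
  classical
  haveI := Fact.mk Nat.prime_two
  by_contra hno
  push Not at hno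
  refine h ?_
  conv_lhs => rw [classFun_eq_sum hΦ]
  rw [classInner_sum_right]
  refine Finset.sum_eq_zero fun ψ _ => ?_
  rw [classInner_smul_right]
  by_cases hs : SameBlock M (χ : G → ℂ) (ψ : G → ℂ)
  · rw [hno ψ hs, map_zero, zero_mul]
  · rw [inner_regPart_eq_zero hM hs, mul_zero]

end CfsgLib.Blk
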