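import Cfsg.Agent.Blk.Cover
import Cfsg.Agent.Blk.PrincipalNormal
import Cfsg.Agent.Char.Gallagher
import Cfsg.Agent.Char.ExtCrit
import Cfsg.Agent.Char.Coherence
import Cfsg.Agent.Blk.Criterion
import Mathlib.GroupTheory.FiniteAbelian.Duality
import Mathlib.Analysis.Complex.Polynomial.Basic
import Mathlib.GroupTheory.Nilpotent

/-!
The principal blocks of a group and of a normal subgroup of index prime to `p` supplemented by
the centralizer of a Sylow subgroup.
-/

set_option autoImplicit false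
set_option linter.style.haveILetI false
set_option linter.unusedSectionVars false

namespace CfsgLib.PrincipalIso

open Cfsg CfsgLib.Char CfsgLib.Blk CfsgLib.Blk.Pair
open scoped ComplexConjugate

universe u

variable {M : Ideal AlgInt} [M.IsPrime] {p : ℕ} [Fact p.Prime]

/-- The setting: `P` is a `p`-subgroup of `N` of index prime to `p` in `G`. -/
structure Setup {G : Type u} [Group G] (p : ℕ) (N P : Subgroup G) : Prop where
  le : P ≤ N
  isPGroup : IsPGroup p P
  index : ¬ p ∣ P.index

variable {G : Type u} [Group G] [Fintype G] {N : Subgroup G} [hN : N.Normal] [Fintype N]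
  {P : Subgroup G}

theorem Setup.sub (h : Setup p N P) {H : Subgroup G} (hNH : N ≤ H) :
    Setup p (N.subgroupOf H) (P.subgroupOf H) := by
  refine ⟨fun x hx => h.le hx, h.isPGroup.of_equiv (Subgroup.subgroupOfEquivOfLe (h.le.trans hNH)).symm,
    fun hd => h.index ?_⟩
  have e := Subgroup.relIndex_mul_index (h.le.trans hNH)
  exact hd.trans (dvd_of_mul_right_eq _ e)

theorem Setup.not_dvd_index (h : Setup p N P) : ¬ p ∣ N.index := fun hd =>
  h.index (hd.trans (Subgroup.index_dvd_of_le h.le))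

theorem unit_index (h : Setup p N P) {x : G} (hx : x ∈ Cn P) :
    ¬ p ∣ (Subgroup.centralizer ({x} : Set G)).index := fun hd =>
  h.index (hd.trans (Subgroup.index_dvd_of_le fun y hy =>
    Subgroup.mem_centralizer_singleton_iff.2 (hx y hy)))

/-- Congruence to one at the elements centralizing `P`. -/
def Cong (M : Ideal AlgInt) {G : Type u} [Group G] (P : Subgroup G) (χ : G → ℂ) : Prop :=
  ∀ h ∈ Cn P, MemLocalIdeal M (χ h / χ 1 - 1)

theorem ratio_mem (hM : IsPModular p M) (h : Setup p N P) {χ : G → ℂ} (hχ : IsIrrCharacter G χ)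
    {x : G} (hx : x ∈ Cn P) : χ x / χ 1 ∈ locRing M := by
  have h1 := mul_mem (natCast_inv_mem hM (unit_index h hx)) (centralChar_mem (M := M) hχ x)
  have h2 : ((Subgroup.centralizer ({x} : Set G)).index : ℂ) ≠ 0 :=
    natCast_ne_zero_of_not_dvd (p := p) (unit_index h hx)
  rwa [centralChar, mul_div_assoc, inv_mul_cancel_left₀ h2] at h1

theorem cong_of_mem (hM : IsPModular p M) (h : Setup p N P) {χ : IrrCharacter G}
    (hχ : χ ∈ principalBlock M G) : Cong M P (χ : G → ℂ) := by
  intro x hx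
  have h1 : MemLocalIdeal M (centralChar (χ : G → ℂ) x - centralChar (fun _ : G => (1 : ℂ)) x) := by
    have h2 := memLocalIdeal_mul_left (neg_mem (one_mem (locRing M))) (hχ x)
    simpa [neg_mul, neg_sub] using h2
  have h2 : ((Subgroup.centralizer ({x} : Set G)).index : ℂ) ≠ 0 :=
    natCast_ne_zero_of_not_dvd (p := p) (unit_index h hx)
  have h3 := memLocalIdeal_mul_left (natCast_inv_mem hM (unit_index h hx)) h1
  rwa [centralChar, centralChar, mul_div_assoc, mul_div_assoc, ← mul_sub,
    inv_mul_cancel_left₀ h2, div_one] at h3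

theorem exists_rep (hsup : N ⊔ Cn P = ⊤) (g : G) : ∃ n ∈ N, ∃ c ∈ Cn P, n * c = g := by
  have h1 : g ∈ ((N ⊔ Cn P : Subgroup G) : Set G) := by rw [hsup]; trivial
  rw [Subgroup.normal_mul N (Cn P)] at h1
  exact h1

theorem sup_sub {H : Subgroup G} (hNH : N ≤ H) (hP : P ≤ N) (hsup : N ⊔ Cn P = ⊤) :
    N.subgroupOf H ⊔ Cn (P.subgroupOf H) = ⊤ := by
  refine eq_top_iff.2 fun x _ => ?_
  obtain ⟨n, hn, c, hc, he⟩ := exists_rep hsup (x : G)
  have hcH : c ∈ H := by
    rw [show c = n⁻¹ * (x : G) by rw [← he, inv_mul_cancel_left]]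
    exact mul_mem (inv_mem (hNH hn)) x.2
  have h1 : x = (⟨n, hNH hn⟩ : H) * ⟨c, hcH⟩ := Subtype.ext he.symm
  rw [h1]
  exact mul_mem (Subgroup.mem_sup_left hn)
    (Subgroup.mem_sup_right ((mem_Cn_subgroupOf (hP.trans hNH) _).2 hc))

theorem cong_sub (hP : P ≤ N) {H : Subgroup G} (hNH : N ≤ H) {χ : G → ℂ} (hχ : Cong M P χ) :
    Cong M (P.subgroupOf H) (fun h : H => χ h) := fun x hx =>
  hχ _ ((mem_Cn_subgroupOf (hP.trans hNH) x).1 hx)

/-- The restriction of the trivial character is a constituent of itself. -/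
theorem inner_triv : classInner (fun _ : N => (1 : ℂ)) (fun _ : N => (1 : ℂ)) ≠ 0 := by
  rw [classInner_one_one]; exact one_ne_zero

/-- No zero at the centralizer over a commutative quotient. -/
theorem apply_ne_zero (hM : IsPModular p M) (h : Setup p N P)
    (hab : ∀ a b : G, a * b * a⁻¹ * b⁻¹ ∈ N) {θ : IrrCharacter N} (hθ : θ ∈ principalBlock M N)
    {χ : IrrCharacter G} (hcon : classInner (fun n : N => (χ : G → ℂ) n) (θ : N → ℂ) ≠ 0)
    {x : G} (hx : x ∈ Cn P) : (χ : G → ℂ) x ≠ 0 := by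
  classical
  haveI := charP_res (M := M) hM
  intro h0
  set z := classSum (Res M) x * classSum (Res M) x⁻¹ with hz
  have hzc : IsClassCoeff z := (isClassCoeff_classSum _ x).mul (isClassCoeff_classSum _ x⁻¹)
  have hzN : ∀ g, g ∉ N → z.coeff g = 0 := by
    intro g hg
    rw [hz, coeff_mul_sum]
    refine Finset.sum_eq_zero fun y _ => ?_
    rw [coeff_classSum, coeff_classSum]
    split_ifs with h1 h2
    · exfalso
      obtain ⟨c, rfl⟩ := isConj_iff.1 h1
      obtain ⟨d, hd⟩ := isConj_iff.1 h2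
      refine hg ?_
      rw [show g = (c * x * c⁻¹) * (d * x⁻¹ * d⁻¹) by rw [hd, mul_inv_cancel_left],
        show c * x * c⁻¹ * (d * x⁻¹ * d⁻¹) = (c * x * c⁻¹ * x⁻¹) * (x * d * x⁻¹ * d⁻¹) by group]
      exact mul_mem (hab c x) (hab x d)
    all_goals simp
  have h1 := isIrr_one (G := G)
  have e1 : lam (χ : G → ℂ) z = lam (fun _ : G => (1 : ℂ)) z := by
    rw [← lam_constituent χ.2 θ.2 hcon hzc hzN,
      ← lam_constituent (θ := fun _ : N => (1 : ℂ)) h1 isIrr_one inner_triv hzc hzN]
    exact (lam_congr isIrr_one θ.2 hθ (isClassCoeff_resA N hzc)).symm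
  have hx' : x⁻¹ ∈ Cn P := inv_mem hx
  rw [hz, lam_mul χ.2 (isClassCoeff_classSum _ x) (isClassCoeff_classSum _ x⁻¹),
    lam_mul h1 (isClassCoeff_classSum _ x) (isClassCoeff_classSum _ x⁻¹),
    lam_classSum χ.2, lam_classSum h1, lam_classSum h1] at e1
  have e2 : red M (centralChar (χ : G → ℂ) x) = 0 := by
    rw [centralChar, h0, mul_zero, zero_div, red_zero]
  rw [e2, zero_mul] at e1
  have hne : ∀ y ∈ Cn P, red M (centralChar (fun _ : G => (1 : ℂ)) y) ≠ 0 := fun y hy => by
    rw [centralChar, mul_one, div_one, red_natCast, Ne, CharP.cast_eq_zero_iff (Res M) p]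
    exact unit_index h hy
  exact mul_ne_zero (hne x hx) (hne _ hx') e1.symm

theorem conj_of_comm (hM : IsPModular p M) (h : Setup p N P)
    (hab : ∀ a b : G, a * b * a⁻¹ * b⁻¹ ∈ N) {θ : IrrCharacter N} (hθ : θ ∈ principalBlock M N)
    {x : G} (hx : x ∈ Cn P) : conjN (θ : N → ℂ) x = (θ : N → ℂ) := by
  by_contra hne
  haveI : Fintype (inertia (θ : N → ℂ)) := Fintype.ofFinite _
  have hNT : N ≤ inertia (θ : N → ℂ) := le_inertia (classFun_of_irr θ.2)
  haveI : (inertia (θ : N → ℂ)).Normal := ⟨fun t ht c => by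
    rw [show c * t * c⁻¹ = (c * t * c⁻¹ * t⁻¹) * t by group]
    exact mul_mem (hNT (hab c t)) ht⟩
  obtain ⟨χ, hχ⟩ := exists_constituent (isCharacter_indFun N (isCharacter_of_isIrr θ.2)) fun e => by
    have := congrFun e 1
    rw [indFun_one] at this
    rcases mul_eq_zero.mp this with h' | h'
    · exact N.index_ne_zero_of_finite (by exact_mod_cast h')
    · exact irr_one_ne_zero θ.2 h'
  have hcon : classInner (fun n : N => (χ : G → ℂ) n) (θ : N → ℂ) ≠ 0 := by
    rw [← classInner_conj, ← frobenius N _ (classFun_of_irr χ.2)]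
    intro e
    exact hχ (by simpa using congrArg conj e)
  obtain ⟨ψ, -, hψ, -⟩ := clifford_exists θ.2 (T := inertia (θ : N → ℂ)) (fun g => Iff.rfl) hNT
    χ.2 hcon
  refine apply_ne_zero hM h hab hθ hcon hx ?_
  rw [← hψ]
  exact indFun_outside _ (fun hm => hne hm)

/-- The centralizer fixes the principal block of `N` pointwise. -/
theorem invariant (hM : IsPModular p M) (h : Setup p N P) (hsup : N ⊔ Cn P = ⊤)
    {θ : IrrCharacter N} (hθ : θ ∈ principalBlock M N) (g : G) :
    conjN (θ : N → ℂ) g = (θ : N → ℂ) := by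
  classical
  obtain ⟨n, hn, c, hc, rfl⟩ := exists_rep hsup g
  rw [← conjN_mul, conjN_of_mem (classFun_of_irr θ.2) hn]
  set H := N ⊔ Subgroup.zpowers c with hH
  have hNH : N ≤ H := le_sup_left
  have hcH : c ∈ H := Subgroup.mem_sup_right (Subgroup.mem_zpowers c)
  haveI : Fintype H := Fintype.ofFinite _
  haveI : (N.subgroupOf H).Normal := hN.subgroupOf H
  haveI : Fintype (N.subgroupOf H) := Fintype.ofFinite _
  set e : N ≃* N.subgroupOf H := (Subgroup.subgroupOfEquivOfLe hNH).symm with he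
  have hθ' : mvChar e θ ∈ principalBlock M (N.subgroupOf H) := by
    rw [← mvSet_principal e]
    exact (mem_mvSet e).2 hθ
  have hab : ∀ a b : H, a * b * a⁻¹ * b⁻¹ ∈ N.subgroupOf H := by
    intro a b
    rw [← QuotientGroup.eq_one_iff]
    have hgen : ∀ y : H, ∃ i : ℤ, (y : H ⧸ N.subgroupOf H) = ((⟨c, hcH⟩ : H) : H ⧸ N.subgroupOf H) ^ i := by
      intro y
      have h1 : (y : G) ∈ ((N ⊔ Subgroup.zpowers c : Subgroup G) : Set G) := y.2
      rw [Subgroup.normal_mul N (Subgroup.zpowers c)] at h1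
      obtain ⟨m, hm, _, ⟨i, rfl⟩, hy⟩ := h1
      refine ⟨i, ?_⟩
      rw [← QuotientGroup.mk_zpow, show y = (⟨m, hNH hm⟩ : H) * (⟨c, hcH⟩ : H) ^ i from
        Subtype.ext (by simpa using hy.symm), QuotientGroup.mk_mul,
        (QuotientGroup.eq_one_iff (⟨m, hNH hm⟩ : H)).2 hm, one_mul]
    obtain ⟨i, hi⟩ := hgen a
    obtain ⟨j, hj⟩ := hgen b
    simp only [QuotientGroup.mk_mul, QuotientGroup.mk_inv, hi, hj]
    group
  have h2 := conj_of_comm hM (h.sub hNH) hab hθ' (x := ⟨c, hcH⟩)
    ((mem_Cn_subgroupOf (h.le.trans hNH) _).2 hc)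
  funext m
  have h3 := congrFun h2 (e m)
  simp only [conjN, mvChar_apply, MulEquiv.symm_apply_apply] at h3
  exact h3

/-- Over a commutative quotient a member of the principal block restricts irreducibly. -/
theorem restrict_of_comm (hM : IsPModular p M) (h : Setup p N P) (hsup : N ⊔ Cn P = ⊤)
    (hab : ∀ a b : G, a * b * a⁻¹ * b⁻¹ ∈ N) {θ : IrrCharacter N} (hθ : θ ∈ principalBlock M N)
    {χ : IrrCharacter G} (hcon : classInner (fun n : N => (χ : G → ℂ) n) (θ : N → ℂ) ≠ 0) :
    ∀ n : N, (χ : G → ℂ) n = (θ : N → ℂ) n := by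
  classical
  have hinv := invariant hM h hsup hθ
  obtain ⟨e, he⟩ := inner_char_irr (isCharacter_restrict N (isCharacter_of_isIrr χ.2)) θ.2
  have hhom := res_homogeneous χ.2 θ.2 hcon hinv
  letI : CommGroup (G ⧸ N) :=
    { (inferInstance : Group (G ⧸ N)) with
      mul_comm := fun x y => by
        obtain ⟨a, rfl⟩ := QuotientGroup.mk_surjective x
        obtain ⟨b, rfl⟩ := QuotientGroup.mk_surjective y
        have := (QuotientGroup.eq_one_iff (a * b * a⁻¹ * b⁻¹)).2 (hab a b)
        simp only [QuotientGroup.mk_mul, QuotientGroup.mk_inv] at this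
        rwa [mul_inv_eq_one, mul_inv_eq_iff_eq_mul] at this }
  haveI : Fintype ((G ⧸ N) →* ℂˣ) := Fintype.ofFinite _
  let tw : ((G ⧸ N) →* ℂˣ) → IrrCharacter G := fun μ =>
    ⟨fun g => (χ : G → ℂ) g * ((μ.comp (QuotientGroup.mk' N)) g : ℂ),
      irr_mul_linear χ.2 (μ.comp (QuotientGroup.mk' N))⟩
  have hinj : Function.Injective tw := by
    intro μ ν hμν
    refine MonoidHom.ext fun q => ?_
    obtain ⟨g, rfl⟩ := QuotientGroup.mk_surjective q
    obtain ⟨n, hn, c, hc, rfl⟩ := exists_rep hsup g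
    have h1 := congrFun (congrArg Subtype.val hμν) c
    simp only [tw, MonoidHom.comp_apply, QuotientGroup.mk'_apply] at h1
    have h2 := mul_left_cancel₀ (apply_ne_zero hM h hab hθ hcon hc) h1
    rw [QuotientGroup.mk_mul, (QuotientGroup.eq_one_iff n).2 hn, one_mul]
    exact Units.ext h2
  have hval : ∀ μ, classInner (indFun N (θ : N → ℂ)) (tw μ : G → ℂ) = e := by
    intro μ
    rw [frobenius N _ (classFun_of_irr (tw μ).2)]
    have : (fun n : N => (tw μ : G → ℂ) n) = fun n : N => (χ : G → ℂ) n := funext fun n => by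
      simp [tw, (QuotientGroup.eq_one_iff (n : G)).2 n.2]
    rw [this, ← classInner_conj, he, Complex.conj_natCast]
  have hnorm := norm_indFun_inv θ.2 hinv
  have hexp := classFun_eq_sum (indFun_classFun N (θ : N → ℂ))
  choose a ha using fun ψ : IrrCharacter G =>
    inner_char_irr (isCharacter_indFun N (isCharacter_of_isIrr θ.2)) ψ.2
  have hsq : ∑ ψ : IrrCharacter G, a ψ * a ψ = N.index := by
    have h1 : classInner (indFun N (θ : N → ℂ)) (indFun N (θ : N → ℂ)) =
        ∑ ψ : IrrCharacter G, (a ψ : ℂ) * a ψ := by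
      conv_lhs => arg 2; rw [hexp]
      rw [classInner_sum_right]
      refine Finset.sum_congr rfl fun ψ _ => ?_
      rw [classInner_smul_right, ha, Complex.conj_natCast]
    rw [hnorm] at h1
    exact_mod_cast h1.symm
  have hcard : Fintype.card ((G ⧸ N) →* ℂˣ) = N.index := by
    rw [← Nat.card_eq_fintype_card, CommGroup.card_monoidHom_of_hasEnoughRootsOfUnity,
      Subgroup.index]
  have hle : N.index * (e * e) ≤ N.index := by
    calc N.index * (e * e) = ∑ μ : (G ⧸ N) →* ℂˣ, a (tw μ) * a (tw μ) := by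
          rw [← hcard, ← Finset.card_univ, ← smul_eq_mul, ← Finset.sum_const]
          refine Finset.sum_congr rfl fun μ _ => ?_
          have : a (tw μ) = e := by exact_mod_cast (ha (tw μ)).symm.trans (hval μ)
          rw [this]
      _ = ∑ ψ ∈ Finset.univ.image tw, a ψ * a ψ :=
          (Finset.sum_image (f := fun ψ => a ψ * a ψ) fun _ _ _ _ h => hinj h).symm
      _ ≤ _ := hsq ▸ Finset.sum_le_sum_of_subset (Finset.subset_univ _)
  have he1 : e = 1 := by
    have h1 : e * e ≤ 1 := Nat.le_of_mul_le_mul_left (by simpa using hle)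
      (Nat.pos_of_ne_zero N.index_ne_zero_of_finite)
    have h0 : e ≠ 0 := fun h0 => hcon (by rw [he, h0, Nat.cast_zero])
    nlinarith [Nat.pos_of_ne_zero h0]
  intro n
  have h1 := congrFun hhom n
  rw [he, he1, Nat.cast_one, one_smul] at h1
  exact h1

theorem mem_principal_mv {A B : Type u} [Group A] [Finite A] [Group B] [Finite B] (e : A ≃* B)
    {θ : IrrCharacter A} (hθ : θ ∈ principalBlock M A) : mvChar e θ ∈ principalBlock M B := by
  rw [← mvSet_principal e]
  exact (mem_mvSet e).2 hθ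

/-- Over a nilpotent quotient every member of the principal block of `N` extends into the
principal block. -/
theorem exists_ext_nilpotent (hM : IsPModular p M) :
    ∀ (m : ℕ) {G : Type u} [Group G] [Fintype G] {N : Subgroup G} [N.Normal] [Fintype N]
      {P : Subgroup G}, N.index = m → Setup p N P → N ⊔ Cn P = ⊤ →
      Group.IsNilpotent (G ⧸ N) → ∀ θ ∈ principalBlock M N,
        ∃ χ ∈ principalBlock M G, ∀ n : N, (χ : G → ℂ) n = (θ : N → ℂ) n := by
  intro m
  induction m using Nat.strong_induction_on with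
  | _ m ih =>
    intro G _ _ N _ _ P hm h hsup hnil θ hθ
    by_cases hab : ∀ a b : G, a * b * a⁻¹ * b⁻¹ ∈ N
    · obtain ⟨χ, hχ, hcon⟩ := exists_principal_over hM N hθ
      exact ⟨χ, hχ, restrict_of_comm hM h hsup hab hθ hcon⟩
    set N1 : Subgroup G := (Subgroup.center (G ⧸ N)).comap (QuotientGroup.mk' N) with hN1
    haveI : N1.Normal := Subgroup.Normal.comap inferInstance _
    haveI : Fintype N1 := Fintype.ofFinite _
    have hNN1 : N ≤ N1 := fun n hn => by
      rw [hN1, Subgroup.mem_comap, QuotientGroup.mk'_apply, (QuotientGroup.eq_one_iff n).2 hn]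
      exact one_mem _
    haveI : Nontrivial (G ⧸ N) := by
      by_contra hn
      rw [not_nontrivial_iff_subsingleton] at hn
      exact hab fun a b => (QuotientGroup.eq_one_iff _).1 (Subsingleton.elim _ _)
    have hlt : N < N1 := by
      refine lt_of_le_of_ne hNN1 fun e => ?_
      haveI := hnil
      haveI : Nontrivial (Subgroup.center (G ⧸ N)) :=
        (Subgroup.nontrivial_iff_ne_bot _).2 (Group.IsNilpotent.center_ne_bot _)
      obtain ⟨⟨q, hq⟩, hq1⟩ := exists_ne (1 : Subgroup.center (G ⧸ N))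
      obtain ⟨g, rfl⟩ := QuotientGroup.mk_surjective q
      refine hq1 (Subtype.ext ((QuotientGroup.eq_one_iff g).2 ?_))
      rw [e]; exact hq
    have hidx : N1.index < m := by
      rw [← hm, ← Subgroup.relIndex_mul_index hNN1]
      refine lt_mul_left (Nat.pos_of_ne_zero N1.index_ne_zero_of_finite) ?_
      have h0 : N.relIndex N1 ≠ 0 := fun e => N.index_ne_zero_of_finite (by
        rw [← Subgroup.relIndex_mul_index hNN1, e, zero_mul])
      have h1 : N.relIndex N1 ≠ 1 := fun e => hlt.not_ge (Subgroup.relIndex_eq_one.1 e)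
      omega
    haveI : (N.subgroupOf N1).Normal := (inferInstance : N.Normal).subgroupOf N1
    haveI : Fintype (N.subgroupOf N1) := Fintype.ofFinite _
    have hab1 : ∀ a b : N1, a * b * a⁻¹ * b⁻¹ ∈ N.subgroupOf N1 := by
      intro a b
      rw [Subgroup.mem_subgroupOf, ← QuotientGroup.eq_one_iff]
      simp only [Subgroup.coe_mul, Subgroup.coe_inv, QuotientGroup.mk_mul, QuotientGroup.mk_inv]
      rw [show ((a : G) : G ⧸ N) * ((b : G) : G ⧸ N) = ((b : G) : G ⧸ N) * ((a : G) : G ⧸ N) from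
        Subgroup.mem_center_iff.1 (show ((b : G) : G ⧸ N) ∈ Subgroup.center (G ⧸ N) from b.2) _]
      group
    set θ' := mvChar (Subgroup.subgroupOfEquivOfLe hNN1).symm θ with hθ'
    have hθ'm := mem_principal_mv (M := M) (Subgroup.subgroupOfEquivOfLe hNN1).symm hθ
    obtain ⟨χ1, hχ1, hcon1⟩ := exists_principal_over hM (N.subgroupOf N1) hθ'm
    have hres1 := restrict_of_comm hM (h.sub hNN1) (sup_sub hNN1 h.le hsup) hab1 hθ'm hcon1
    have hsup1 : N1 ⊔ Cn P = ⊤ := eq_top_iff.2 (hsup ▸ sup_le_sup_right hNN1 _)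
    have hnil1 : Group.IsNilpotent (G ⧸ N1) := by
      haveI := hnil
      exact Group.nilpotent_of_surjective (QuotientGroup.map N N1 (MonoidHom.id G) hNN1)
        (QuotientGroup.map_surjective_of_surjective N N1 (MonoidHom.id G)
          (QuotientGroup.mk_surjective.comp Function.surjective_id) hNN1)
    obtain ⟨χ, hχ, hres⟩ := ih _ hidx rfl ⟨h.le.trans hNN1, h.isPGroup, h.index⟩ hsup1 hnil1 χ1 hχ1
    refine ⟨χ, hχ, fun n => ?_⟩
    have h1 := hres1 ⟨⟨(n : G), hNN1 n.2⟩, n.2⟩
    rw [mvChar_apply] at h1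
    rw [hres ⟨(n : G), hNN1 n.2⟩]
    exact h1

/-- An irreducible character of a `p'`-quotient congruent to one is trivial. -/
theorem trivial_of_cong (hM : IsPModular p M) (h : Setup p N P) (hsup : N ⊔ Cn P = ⊤)
    {β : G → ℂ} (hβ : IsIrrCharacter G β) (hker : ∀ n : N, β n = β 1)
    (hc : Cong M P β) : β = fun _ => 1 := by
  classical
  haveI := charP_res (M := M) hM
  haveI : Fintype (G ⧸ N) := Fintype.ofFinite _
  obtain ⟨β', hβ', rfl⟩ := irr_descend (QuotientGroup.mk' N) (QuotientGroup.mk'_surjective N) hβ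
    fun k hk => hker ⟨k, (QuotientGroup.eq_one_iff k).1 hk⟩
  have hidx : ¬ p ∣ Nat.card (G ⧸ N) := h.not_dvd_index
  obtain ⟨d, hd0, hd⟩ := irr_deg hβ'
  have hdvd := degree_dvd_card hβ'
  rw [charDegree_eq hd] at hdvd
  have hdp : ¬ p ∣ d := fun hp => hidx (hp.trans hdvd)
  have hone : (β' ∘ QuotientGroup.mk' N) 1 = β' 1 := congrArg β' (map_one _)
  have hq : ∀ q, red M (β' q) = (d : Res M) := by
    intro q
    obtain ⟨g, rfl⟩ := QuotientGroup.mk'_surjective N q
    obtain ⟨n, hn, c, hcc, rfl⟩ := exists_rep hsup g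
    rw [map_mul, show QuotientGroup.mk' N n = 1 from (QuotientGroup.eq_one_iff n).2 hn, one_mul]
    have h1 := memLocalIdeal_mul_left (natCast_mem (locRing M) d) (hc c hcc)
    rw [hone, hd, mul_sub, mul_one, mul_div_cancel₀ _ (natCast_ne_zero_of_not_dvd (p := p) hdp),
      ← red_eq_iff (irr_mem (⟨_, hβ⟩ : IrrCharacter G) c) (natCast_mem _ d), red_natCast] at h1
    exact h1
  have hsum : ∑ q, β' q ≠ 0 := by
    intro h0
    have h1 := congrArg (red M) h0
    rw [red_sum _ _ fun q _ => irr_mem (⟨β', hβ'⟩ : IrrCharacter (G ⧸ N)) q, red_zero,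
      Finset.sum_congr rfl fun q _ => hq q, Finset.sum_const, nsmul_eq_mul, Finset.card_univ,
      ← Nat.card_eq_fintype_card, mul_eq_zero, CharP.cast_eq_zero_iff (Res M) p,
      CharP.cast_eq_zero_iff (Res M) p] at h1
    tauto
  have h1 : β' = fun _ => 1 := by
    by_contra hne
    have h0 := irr_inner_ne hβ' isIrr_one hne
    simp only [classInner_def, map_one, mul_one, mul_eq_zero, inv_eq_zero] at h0
    exact hsum (h0.resolve_left (natCard_ne_zero _))
  funext g
  show β' (QuotientGroup.mk' N g) = 1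
  rw [h1]

/-- Two congruent characters over the same `θ`. -/
theorem eq_of_good (hM : IsPModular p M) (h : Setup p N P) (hsup : N ⊔ Cn P = ⊤)
    {θ : N → ℂ} (hθ : IsIrrCharacter N θ) {χ ψ : G → ℂ} (hχ : IsIrrCharacter G χ)
    (hext : ∀ n : N, χ n = θ n) (hχc : Cong M P χ) (hψ : IsIrrCharacter G ψ)
    (hcon : classInner (fun n : N => ψ n) θ ≠ 0) (hψc : Cong M P ψ) : ψ = χ := by
  obtain ⟨β, ⟨hβ, hker⟩, hβe⟩ := (gallagher hθ (isCharacter_of_isIrr hχ) hext).2.2
    (show ψ ∈ {ψ : G → ℂ | IsIrrCharacter G ψ ∧ classInner (fun n : N => ψ n) θ ≠ 0} from ⟨hψ, hcon⟩)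
  have hβe' : β * χ = ψ := hβe
  have hc : Cong M P β := by
    intro x hx
    have h1 := hψc x hx
    have h2 := hχc x hx
    have hm : β x / β 1 ∈ locRing M := ratio_mem hM h hβ hx
    rw [← hβe', Pi.mul_apply, Pi.mul_apply, mul_div_mul_comm] at h1
    have h3 := memLocalIdeal_mul_left hm h2
    rw [show β x / β 1 - 1 =
      (β x / β 1 * (χ x / χ 1) - 1) + (-1 : ℂ) * (β x / β 1 * (χ x / χ 1 - 1)) by ring]
    exact memLocalIdeal_add h1 (memLocalIdeal_mul_left (neg_mem (one_mem _)) h3)
  rw [← hβe', trivial_of_cong hM h hsup hβ hker hc]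
  funext g
  exact one_mul _

section local_ext

variable (hM : IsPModular p M) (h : Setup p N P) (hsup : N ⊔ Cn P = ⊤) {θ : IrrCharacter N}
  (hθ : θ ∈ principalBlock M N)

/-- A congruent extension of `θ` to a subgroup containing `N`. -/
def GoodOn (M : Ideal AlgInt) (P : Subgroup G) (θ : N → ℂ) (H : Subgroup G) (η : H → ℂ) : Prop :=
  IsIrrCharacter H η ∧ (∀ (x : H) (hx : (x : G) ∈ N), η x = θ ⟨x, hx⟩) ∧
    ∀ x : H, (x : G) ∈ Cn P → MemLocalIdeal M (η x / η 1 - 1)

include hM h hsup

theorem goodOn_unique {H : Subgroup G} (hNH : N ≤ H) {η η' : H → ℂ}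
    (hη : GoodOn M P (θ : N → ℂ) H η) (hη' : GoodOn M P (θ : N → ℂ) H η') : η' = η := by
  classical
  haveI : Fintype H := Fintype.ofFinite _
  haveI : (N.subgroupOf H).Normal := hN.subgroupOf H
  haveI : Fintype (N.subgroupOf H) := Fintype.ofFinite _
  refine eq_of_good hM (h.sub hNH) (sup_sub hNH h.le hsup)
    (mvChar (Subgroup.subgroupOfEquivOfLe hNH).symm θ).2 hη.1
    (fun n => ?_) (fun x hx => hη.2.2 x ((mem_Cn_subgroupOf (h.le.trans hNH) x).1 hx))
    hη'.1 ?_ (fun x hx => hη'.2.2 x ((mem_Cn_subgroupOf (h.le.trans hNH) x).1 hx))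
  · rw [mvChar_apply]
    exact hη.2.1 n n.2
  · have e : (fun n : N.subgroupOf H => η' n) =
        (mvChar (Subgroup.subgroupOfEquivOfLe hNH).symm θ : N.subgroupOf H → ℂ) :=
      funext fun n => by rw [mvChar_apply]; exact hη'.2.1 n n.2
    rw [e, irr_inner_self (mvChar _ θ).2]
    exact one_ne_zero

theorem goodOn_restrict {H K : Subgroup G} (hNK : N ≤ K) (hKH : K ≤ H) {η : H → ℂ}
    (hη : GoodOn M P (θ : N → ℂ) H η) :
    GoodOn M P (θ : N → ℂ) K (fun x : K => η ⟨x, hKH x.2⟩) := by
  refine ⟨?_, fun x hx => hη.2.1 _ hx, fun x hx => ?_⟩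
  · haveI : Finite K := inferInstance
    have hc : IsCharacter K (fun x : K => η ⟨x, hKH x.2⟩) :=
      isCharacter_comp (Subgroup.inclusion hKH) (isCharacter_of_isIrr hη.1)
    haveI : (N.subgroupOf K).Normal := hN.subgroupOf K
    haveI : Fintype (N.subgroupOf K) := Fintype.ofFinite _
    refine irr_of_res_irr (N.subgroupOf K) hc ?_
    have e : (fun n : N.subgroupOf K => η ⟨((n : K) : G), hKH (n : K).2⟩) =
        (θ : N → ℂ) ∘ (Subgroup.subgroupOfEquivOfLe hNK) := funext fun n => hη.2.1 ⟨((n : K) : G), hKH (n : K).2⟩ n.2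
    rw [e]
    exact irr_mulEquiv _ θ.2
  · exact hη.2.2 _ hx

include hθ

theorem exists_goodOn {H : Subgroup G} (hNH : N ≤ H) [(N.subgroupOf H).Normal]
    (hnil : Group.IsNilpotent (H ⧸ N.subgroupOf H)) :
    ∃ η : H → ℂ, GoodOn M P (θ : N → ℂ) H η := by
  classical
  haveI : Fintype H := Fintype.ofFinite _
  haveI : Fintype (N.subgroupOf H) := Fintype.ofFinite _
  have hθ' := mem_principal_mv (M := M) (Subgroup.subgroupOfEquivOfLe hNH).symm hθ
  obtain ⟨χ, hχ, hres⟩ := exists_ext_nilpotent hM _ rfl (h.sub hNH) (sup_sub hNH h.le hsup) hnil _ hθ'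
  refine ⟨(χ : H → ℂ), χ.2, fun x hx => ?_, fun x hx => ?_⟩
  · rw [hres ⟨x, hx⟩, mvChar_apply]
    rfl
  · exact cong_of_mem hM (h.sub hNH) hχ x ((mem_Cn_subgroupOf (h.le.trans hNH) x).2 hx)

/-- The extension to the whole group. -/
theorem exists_ext : ∃ χ : G → ℂ, IsIrrCharacter G χ ∧ (∀ n : N, χ n = (θ : N → ℂ) n) ∧ Cong M P χ := by
  classical
  have hcyc : ∀ g : G, ∀ [(N.subgroupOf (N ⊔ Subgroup.zpowers g)).Normal],
      Group.IsNilpotent ((N ⊔ Subgroup.zpowers g : Subgroup G) ⧸ N.subgroupOf (N ⊔ Subgroup.zpowers g)) := by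
    intro g _
    haveI : Group.IsNilpotent (Subgroup.zpowers g) := by
      letI : CommGroup (Subgroup.zpowers g) := IsCyclic.commGroup
      exact CommGroup.isNilpotent
    refine Group.nilpotent_of_surjective ((QuotientGroup.mk' _).comp
      (Subgroup.inclusion (le_sup_right : Subgroup.zpowers g ≤ N ⊔ Subgroup.zpowers g))) ?_
    intro q
    obtain ⟨y, rfl⟩ := QuotientGroup.mk'_surjective _ q
    have h1 : (y : G) ∈ ((N ⊔ Subgroup.zpowers g : Subgroup G) : Set G) := y.2
    rw [Subgroup.normal_mul N (Subgroup.zpowers g)] at h1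
    obtain ⟨m, hm, z, hz, hy⟩ := h1
    refine ⟨⟨z, hz⟩, ?_⟩
    simp only [MonoidHom.comp_apply, QuotientGroup.mk'_apply]
    rw [show y = (⟨m, le_sup_left (b := Subgroup.zpowers g) hm⟩ : (N ⊔ Subgroup.zpowers g : Subgroup G)) *
        Subgroup.inclusion le_sup_right ⟨z, hz⟩ from Subtype.ext hy.symm,
      QuotientGroup.mk_mul,
      (QuotientGroup.eq_one_iff (⟨m, le_sup_left (b := Subgroup.zpowers g) hm⟩ :
        (N ⊔ Subgroup.zpowers g : Subgroup G))).2 hm, one_mul]
  choose η hη using fun g : G =>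
    haveI : (N.subgroupOf (N ⊔ Subgroup.zpowers g)).Normal := hN.subgroupOf _
    exists_goodOn hM h hsup hθ (H := N ⊔ Subgroup.zpowers g) le_sup_left (hcyc g)
  have hmem : ∀ g : G, g ∈ N ⊔ Subgroup.zpowers g := fun g =>
    Subgroup.mem_sup_right (Subgroup.mem_zpowers g)
  set F : G → ℂ := fun g => η g ⟨g, hmem g⟩ with hF
  have hkey : ∀ {H : Subgroup G}, N ≤ H → ∀ {ζ : H → ℂ}, GoodOn M P (θ : N → ℂ) H ζ →
      ∀ x : H, F x = ζ x := by
    intro H hNH ζ hζ x
    have hle : N ⊔ Subgroup.zpowers (x : G) ≤ H := sup_le hNH (Subgroup.zpowers_le.2 x.2)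
    have h1 := goodOn_unique hM h hsup le_sup_left (hη x)
      (goodOn_restrict hM h hsup (θ := θ) le_sup_left hle hζ)
    exact (congrFun h1 ⟨x, hmem _⟩).symm
  have hFN : ∀ n : N, F n = (θ : N → ℂ) n := fun n => (hη (n : G)).2.1 _ n.2
  have hF1 : ∀ g, η g 1 = F 1 := fun g => (hkey le_sup_left (hη g) 1).symm
  have hFc : Cong M P F := fun x hx => by
    have := (hη x).2.2 ⟨x, hmem x⟩ hx
    rwa [hF1] at this
  have hinv := invariant hM h hsup hθ
  -- invariance under conjugation
  have hcl : IsClassFunction G F := by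
    intro g y
    obtain ⟨n, hn, c, hc, rfl⟩ := exists_rep hsup y
    have hNn : ∀ g : G, F (n * g * n⁻¹) = F g := fun g => by
      have h1 := hkey le_sup_left (hη g) ⟨n * g * n⁻¹,
        mul_mem (mul_mem (Subgroup.mem_sup_left hn) (hmem g)) (inv_mem (Subgroup.mem_sup_left hn))⟩
      rw [h1]
      exact classFun_of_irr (hη g).1 ⟨g, hmem g⟩ ⟨n, Subgroup.mem_sup_left hn⟩
    have hCc : ∀ g : G, F (c * g * c⁻¹) = F g := fun g => by
      set H := N ⊔ Subgroup.zpowers g
      set H' := H.map (MulAut.conj c).toMonoidHom with hH'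
      let φ : H ≃* H' := H.equivMapOfInjective (MulAut.conj c).toMonoidHom (MulEquiv.injective _)
      have hφ : ∀ x : H, (φ x : G) = c * x * c⁻¹ := fun x => rfl
      have hNH' : N ≤ H' := fun m hm =>
        ⟨c⁻¹ * m * c, Subgroup.mem_sup_left (by simpa using hN.conj_mem m hm c⁻¹), by simp [mul_assoc]⟩
      have hg' : GoodOn M P (θ : N → ℂ) H' (η g ∘ φ.symm) := by
        refine ⟨irr_mulEquiv φ.symm (hη g).1, fun x hx => ?_, fun x hx => ?_⟩
        · have e : ((φ.symm x : H) : G) = c⁻¹ * x * c := by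
            have := hφ (φ.symm x); rw [MulEquiv.apply_symm_apply] at this
            rw [this]; group
          have hxN : ((φ.symm x : H) : G) ∈ N := by rw [e]; simpa using hN.conj_mem _ hx c⁻¹
          show η g (φ.symm x) = _
          rw [(hη g).2.1 _ hxN, ← congrFun (hinv c⁻¹) ⟨x, hx⟩]
          exact congrArg (θ : N → ℂ) (Subtype.ext (by simp [e]))
        · have e : ((φ.symm x : H) : G) = c⁻¹ * x * c := by
            have := hφ (φ.symm x); rw [MulEquiv.apply_symm_apply] at this
            rw [this]; group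
          have hxC : ((φ.symm x : H) : G) ∈ Cn P := by
            rw [e]; exact mul_mem (mul_mem (inv_mem hc) hx) hc
          have := (hη g).2.2 _ hxC
          simpa using this
      have h1 := hkey hNH' hg' (φ ⟨g, hmem g⟩)
      rw [Function.comp_apply, MulEquiv.symm_apply_apply] at h1
      exact h1
    rw [show n * c * g * (n * c)⁻¹ = n * (c * g * c⁻¹) * n⁻¹ by group, hNn, hCc]
  -- a generalized character
  have hgen : IsGeneralizedCharacter G F := by
    refine isGeneralized_of_restrict hcl fun r hr x R hx hR hRC => ?_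
    haveI : Fact r.Prime := ⟨hr⟩
    set E := Subgroup.zpowers x ⊔ R with hE
    set H := N ⊔ E with hH
    haveI : (N.subgroupOf H).Normal := hN.subgroupOf H
    have hxH : Subgroup.zpowers x ≤ H := le_sup_left.trans le_sup_right
    have hRH : R ≤ H := le_sup_right.trans le_sup_right
    haveI : Group.IsNilpotent R := IsPGroup.isNilpotent hR
    haveI : Group.IsNilpotent (Subgroup.zpowers x) := by
      letI : CommGroup (Subgroup.zpowers x) := IsCyclic.commGroup
      exact CommGroup.isNilpotent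
    have hcomm : ∀ (a : Subgroup.zpowers x) (b : R), Commute
        ((QuotientGroup.mk' (N.subgroupOf H)).comp (Subgroup.inclusion hxH) a)
        ((QuotientGroup.mk' (N.subgroupOf H)).comp (Subgroup.inclusion hRH) b) := by
      intro a b
      refine Commute.map ?_ (QuotientGroup.mk' (N.subgroupOf H))
      refine Subtype.ext ?_
      obtain ⟨i, hi⟩ := a.2
      show (a : G) * b = b * a
      rw [← hi]
      exact ((show Commute x (b : G) from
        (Subgroup.mem_centralizer_singleton_iff.1 (hRC b.2)).symm).zpow_left i).eq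
    have hnilH : Group.IsNilpotent (H ⧸ N.subgroupOf H) := by
      refine Group.nilpotent_of_surjective (MonoidHom.noncommCoprod _ _ hcomm) ?_
      intro q
      obtain ⟨y, rfl⟩ := QuotientGroup.mk'_surjective _ q
      have h1 : (y : G) ∈ ((N ⊔ E : Subgroup G) : Set G) := y.2
      rw [Subgroup.normal_mul N E] at h1
      obtain ⟨m, hm, z, hz, hy⟩ := h1
      have hxR : Subgroup.zpowers x ≤ Subgroup.normalizer (R : Set G) := by
        refine (Subgroup.zpowers_le.2 ?_).trans (Subgroup.centralizer_le_normalizer _)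
        exact fun b hb => Subgroup.mem_centralizer_singleton_iff.1 (hRC hb)
      have h2 : z ∈ ((Subgroup.zpowers x ⊔ R : Subgroup G) : Set G) := hz
      rw [Subgroup.coe_mul_of_left_le_normalizer_right _ _ hxR] at h2
      obtain ⟨a, ha, b, hb, hab'⟩ := h2
      refine ⟨(⟨a, ha⟩, ⟨b, hb⟩), ?_⟩
      simp only [MonoidHom.noncommCoprod_apply, MonoidHom.comp_apply, ← map_mul]
      refine ((QuotientGroup.eq (s := N.subgroupOf H)).2 ?_)
      rw [Subgroup.mem_subgroupOf]
      simp only [Subgroup.coe_mul, Subgroup.coe_inv, Subgroup.coe_inclusion]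
      rw [show (y : G) = m * z from hy.symm, show z = a * b from hab'.symm]
      simpa [mul_assoc] using hN.conj_mem m hm (a * b)⁻¹
    obtain ⟨ζ, hζ⟩ := exists_goodOn hM h hsup hθ (H := H) le_sup_left hnilH
    have e : (fun y : E => F y) = fun y : E => ζ ⟨y, le_sup_right (a := N) y.2⟩ :=
      funext fun y => hkey le_sup_left hζ ⟨y, le_sup_right (a := N) y.2⟩
    rw [e]
    exact ⟨_, 0, isCharacter_comp (Subgroup.inclusion (le_sup_right : E ≤ H)) (isCharacter_of_isIrr hζ.1),
      isCharacter_zero, by funext y; simp [Subgroup.inclusion]⟩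
  -- norm one
  have hnorm : classInner F F = 1 := by
    haveI : Fintype (G ⧸ N) := Fintype.ofFinite _
    set d : G ⧸ N → ℂ := fun q => ∑ g ∈ Finset.univ.filter (fun g : G => (g : G ⧸ N) = q),
      (F g * conj (F g) - 1) with hd
    have hcycd : ∀ x : G, ∑ q ∈ Finset.univ.filter (fun q : G ⧸ N => q ∈ Subgroup.zpowers (x : G ⧸ N)), d q = 0 := by
      intro x
      set H := N ⊔ Subgroup.zpowers x with hH
      have hmemH : ∀ g : G, g ∈ H ↔ (g : G ⧸ N) ∈ Subgroup.zpowers (x : G ⧸ N) := by
        intro g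
        have e : H = (Subgroup.zpowers (x : G ⧸ N)).comap (QuotientGroup.mk' N) := by
          rw [← QuotientGroup.mk'_apply N x, ← MonoidHom.map_zpowers, Subgroup.comap_map_eq,
            QuotientGroup.ker_mk', sup_comm]
        rw [e]; rfl
      haveI : Fintype H := Fintype.ofFinite _
      calc _ = ∑ g ∈ Finset.univ.filter (fun g : G => g ∈ H), (F g * conj (F g) - 1) := by
            rw [← Finset.sum_fiberwise_of_maps_to (s := Finset.univ.filter (fun g : G => g ∈ H))
              (t := Finset.univ.filter (fun q : G ⧸ N => q ∈ Subgroup.zpowers (x : G ⧸ N)))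
              (g := fun g : G => (g : G ⧸ N)) fun g hg => by
                simpa [hmemH] using hg]
            refine Finset.sum_congr rfl fun q hq => Finset.sum_congr ?_ fun _ _ => rfl
            ext g
            simp only [Finset.mem_filter, Finset.mem_univ, true_and] at hq ⊢
            exact ⟨fun hg => ⟨(hmemH g).2 (hg ▸ hq), hg⟩, fun hg => hg.2⟩
        _ = ∑ g : H, (F g * conj (F g) - 1) := (Finset.sum_subtype _ (by simp) _)
        _ = 0 := by
            rw [Finset.sum_congr rfl fun g _ => by rw [hkey le_sup_left (hη x) g],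
              Finset.sum_sub_distrib, Finset.sum_const, nsmul_eq_mul, mul_one]
            have h1 := irr_inner_self (hη x).1
            rw [classInner_def, inv_mul_eq_iff_eq_mul₀ (natCard_ne_zero _), mul_one] at h1
            rw [h1, Finset.card_univ, Nat.card_eq_fintype_card, sub_self]
    -- the generators of each cyclic subgroup
    have hgenz : ∀ n, ∀ q : G ⧸ N, orderOf q = n →
        ∑ r ∈ Finset.univ.filter (fun r : G ⧸ N => Subgroup.zpowers r = Subgroup.zpowers q), d r = 0 := by
      intro n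
      induction n using Nat.strong_induction_on with
      | _ n ihn =>
        intro q hq
        obtain ⟨x, rfl⟩ := QuotientGroup.mk_surjective q
        have h1 := hcycd x
        set S := Finset.univ.filter (fun r : G ⧸ N => r ∈ Subgroup.zpowers (x : G ⧸ N)) with hS
        rw [← Finset.sum_fiberwise_of_maps_to (s := S) (t := S.image Subgroup.zpowers)
          (g := fun r : G ⧸ N => Subgroup.zpowers r) (fun r hr => Finset.mem_image_of_mem _ hr),
          Finset.sum_eq_single_of_mem (Subgroup.zpowers (x : G ⧸ N))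
            (Finset.mem_image_of_mem _ (by simp [hS]))] at h1
        · convert h1 using 2
          ext r
          simp only [hS, Finset.mem_filter, Finset.mem_univ, true_and]
          exact ⟨fun hr => ⟨hr ▸ Subgroup.mem_zpowers r, hr⟩, fun hr => hr.2⟩
        · intro K hK hne
          obtain ⟨r, hr, rfl⟩ := Finset.mem_image.1 hK
          have hrx : r ∈ Subgroup.zpowers (x : G ⧸ N) := (Finset.mem_filter.1 hr).2
          have hlt : orderOf r < n := by
            rw [← hq, ← Nat.card_zpowers, ← Nat.card_zpowers]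
            refine lt_of_le_of_ne (Subgroup.card_le_of_le (Subgroup.zpowers_le.2 hrx)) fun e => hne ?_
            exact Subgroup.eq_of_le_of_card_ge (Subgroup.zpowers_le.2 hrx) e.ge
          refine Eq.trans ?_ (ihn _ hlt r rfl)
          refine Finset.sum_congr ?_ fun _ _ => rfl
          ext s
          simp only [hS, Finset.mem_filter, Finset.mem_univ, true_and]
          exact ⟨fun hs => hs.2, fun hs => ⟨Subgroup.zpowers_le.2 hrx (hs ▸ Subgroup.mem_zpowers s), hs⟩⟩
    have htot : ∑ q : G ⧸ N, d q = 0 := by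
      rw [← Finset.sum_fiberwise_of_maps_to (s := (Finset.univ : Finset (G ⧸ N)))
        (t := Finset.univ.image Subgroup.zpowers) (g := fun r : G ⧸ N => Subgroup.zpowers r)
        (fun r _ => Finset.mem_image_of_mem _ (Finset.mem_univ r))]
      refine Finset.sum_eq_zero fun K hK => ?_
      obtain ⟨q, -, rfl⟩ := Finset.mem_image.1 hK
      exact hgenz _ q rfl
    rw [hd, Finset.sum_fiberwise (Finset.univ : Finset G) (fun g : G => (g : G ⧸ N))
      (fun g => F g * conj (F g) - 1), Finset.sum_sub_distrib, sub_eq_zero, Finset.sum_const,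
      nsmul_eq_mul, mul_one] at htot
    rw [classInner_def, htot, Finset.card_univ, ← Nat.card_eq_fintype_card,
      inv_mul_cancel₀ (natCard_ne_zero G)]
  refine ⟨F, ?_, hFN, hFc⟩
  rcases isIrr_or_neg_of_norm hgen hnorm with h1 | h1
  · exact h1
  · exfalso
    obtain ⟨a, ha, hav⟩ := irr_deg h1
    obtain ⟨b, hb, hbv⟩ := irr_deg θ.2
    have h2 := hFN 1
    simp only [Pi.neg_apply] at hav
    rw [OneMemClass.coe_one] at h2
    rw [h2, hbv] at hav
    have : ((a + b : ℕ) : ℂ) = 0 := by push_cast; rw [← hav]; ring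
    norm_cast at this
    omega

end local_ext

/-- Restriction is a bijection between the principal blocks. -/
theorem restriction_bijective (hM : IsPModular p M) (h : Setup p N P) (hsup : N ⊔ Cn P = ⊤) :
    (∀ χ ∈ principalBlock M G, ∃ θ ∈ principalBlock M N, ∀ n : N, (χ : G → ℂ) n = (θ : N → ℂ) n) ∧
    ∀ θ ∈ principalBlock M N, ∃! χ : IrrCharacter G,
      χ ∈ principalBlock M G ∧ ∀ n : N, (χ : G → ℂ) n = (θ : N → ℂ) n := by
  classical
  have huniq : ∀ χ ∈ principalBlock M G, ∀ θ ∈ principalBlock M N,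
      classInner (fun n : N => (χ : G → ℂ) n) (θ : N → ℂ) ≠ 0 →
      ∀ n : N, (χ : G → ℂ) n = (θ : N → ℂ) n := by
    intro χ hχ θ hθ hcon n
    obtain ⟨χ₀, hi, hext, hc⟩ := exists_ext hM h hsup hθ
    rw [eq_of_good hM h hsup θ.2 hi hext hc χ.2 hcon (cong_of_mem hM h hχ)]
    exact hext n
  refine ⟨fun χ hχ => ?_, fun θ hθ => ?_⟩
  · let t : IrrCharacter N := ⟨fun _ => 1, isIrr_one⟩
    have ht : t ∈ principalBlock M N := sameBlock_refl _
    have hred := fun n : N => red_centralChar_eq (χ := (⟨fun _ => 1, isIrr_one⟩ : IrrCharacter G))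
      (ψ := χ) (θ := t) (θ' := t) hχ (sameBlock_refl (M := M) _) inner_triv n
    obtain ⟨θ', hθ', hcon⟩ := exists_constituent_mem hM (isPBlock_principalBlock (M := M) (G := N))
      (χ := χ) (θ := t) ht hred
    exact ⟨θ', hθ', huniq χ hχ θ' hθ' hcon⟩
  · obtain ⟨χ, hχ, hcon⟩ := exists_principal_over hM N hθ
    have hext := huniq χ hχ θ hθ hcon
    refine ⟨χ, ⟨hχ, hext⟩, fun ψ hψ => Subtype.ext ?_⟩
    refine eq_of_good hM h hsup θ.2 χ.2 hext (cong_of_mem hM h hχ) ψ.2 ?_ (cong_of_mem hM h hψ.1)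
    rw [funext hψ.2, irr_inner_self θ.2]
    exact one_ne_zero

end CfsgLib.PrincipalIso
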