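import Cfsg.Agent.Blk.Inflate

/-!
Norm square sums over the principal block.
-/

set_option autoImplicit false
set_option linter.style.haveILetI false
set_option linter.unusedSectionVars false

namespace CfsgLib.Blk

open Cfsg CfsgLib.Char Finset
open scoped ComplexConjugate

universe u

variable {G : Type u} [Group G] [Finite G] {M : Ideal AlgInt} [M.IsPrime] {p : ℕ}

theorem normSq_sum_le (B : Set (IrrCharacter G)) (x : G) :
    ∑ᶠ χ ∈ B, Complex.normSq ((χ : G → ℂ) x) ≤
      (Nat.card ↥(Subgroup.centralizer ({x} : Set G)) : ℝ) := by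
  classical
  haveI := Fintype.ofFinite G
  rw [finsum_mem_eq_sum_ite]
  have h := congrArg Complex.re (second_orth (G := G) x x)
  rw [if_pos (IsConj.refl x), Complex.natCast_re, Complex.re_sum] at h
  rw [← h]
  refine Finset.sum_le_sum fun χ _ => ?_
  rw [Complex.mul_conj, Complex.ofReal_re]
  split_ifs
  exacts [le_rfl, Complex.normSq_nonneg _]

theorem normSq_sum_spec [Fact p.Prime] (hM : IsPModular p M) (x : G) :
    0 < ⌊∑ᶠ χ ∈ principalBlock M G, Complex.normSq ((χ : G → ℂ) x)⌋₊ ∧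
      ∃ _h : True, ∑ᶠ χ ∈ principalBlock M G, Complex.normSq ((χ : G → ℂ) x) =
        (⌊∑ᶠ χ ∈ principalBlock M G, Complex.normSq ((χ : G → ℂ) x)⌋₊ : ℝ) := by
  classical
  haveI := Fintype.ofFinite G
  let T : IrrCharacter G := ⟨fun _ => 1, isIrr_one⟩
  have hge : (1 : ℝ) ≤ ∑ᶠ χ ∈ principalBlock M G, Complex.normSq ((χ : G → ℂ) x) := by
    rw [finsum_mem_eq_sum_ite]
    refine le_trans ?_ (Finset.single_le_sum (f := fun χ : IrrCharacter G =>
      if χ ∈ principalBlock M G then Complex.normSq ((χ : G → ℂ) x) else 0) (fun χ _ => ?_)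
      (Finset.mem_univ T))
    · rw [if_pos (show T ∈ principalBlock M G from sameBlock_refl _)]
      simp [T]
    · split_ifs
      exacts [Complex.normSq_nonneg _, le_rfl]
  let F : IrrCharacter G → ℂ := fun χ =>
    if χ ∈ principalBlock M G then (χ : G → ℂ) x * (χ : G → ℂ) x⁻¹ else 0
  have hz : ((∑ᶠ χ ∈ principalBlock M G, Complex.normSq ((χ : G → ℂ) x) : ℝ) : ℂ) = ∑ χ, F χ := by
    rw [finsum_mem_eq_sum_ite, Complex.ofReal_sum]
    refine Finset.sum_congr rfl fun χ _ => ?_
    simp only [F]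
    split_ifs
    · rw [← Complex.mul_conj, char_conj_eq (isCharacter_of_isIrr χ.2)]
    · simp
  have hint : ∀ χ, IsIntegral ℤ (F χ) := fun χ => by
    simp only [F]
    split_ifs
    · exact (char_isIntegral (isCharacter_of_isIrr χ.2) x).mul
        (char_isIntegral (isCharacter_of_isIrr χ.2) x⁻¹)
    · exact isIntegral_zero
  obtain ⟨n, hn⟩ := int_of_fixed (IsIntegral.sum _ fun χ _ => hint χ) (z := ∑ χ, F χ) fun φ => by
    obtain ⟨m, hm, hφ⟩ := algHom_char_pow G φ
    have e : (⟨∑ χ, F χ, mem_qbar_of_integral (IsIntegral.sum _ fun χ _ => hint χ)⟩ : QBar) =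
        ∑ χ, ⟨F χ, mem_qbar_of_integral (hint χ)⟩ := Subtype.ext (by simp)
    rw [e, map_sum]
    have hbij : Function.Bijective (powIrr hm) :=
      Finite.injective_iff_bijective.1 (powIrr_injective hm)
    refine Fintype.sum_equiv (Equiv.ofBijective _ hbij) _ _ fun χ => ?_
    have hiff : powIrr hm χ ∈ principalBlock M G ↔ χ ∈ principalBlock M G := by
      constructor
      · intro h
        rw [← image_powIrr_principal hM hm] at h
        obtain ⟨χ', h1, h2⟩ := h
        exact powIrr_injective hm h2 ▸ h1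
      · intro h
        rw [← image_powIrr_principal hM hm]
        exact ⟨χ, h, rfl⟩
    simp only [Equiv.ofBijective_apply, F]
    by_cases hχ : χ ∈ principalBlock M G
    · have e2 : (⟨if χ ∈ principalBlock M G then (χ : G → ℂ) x * (χ : G → ℂ) x⁻¹ else 0,
          mem_qbar_of_integral (hint χ)⟩ : QBar) =
          ⟨(χ : G → ℂ) x, mem_qbar_of_integral (char_isIntegral (isCharacter_of_isIrr χ.2) x)⟩ *
          ⟨(χ : G → ℂ) x⁻¹, mem_qbar_of_integral (char_isIntegral (isCharacter_of_isIrr χ.2) x⁻¹)⟩ :=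
        Subtype.ext (by simp [hχ])
      rw [e2, map_mul, hφ _ (isCharacter_of_isIrr χ.2), hφ _ (isCharacter_of_isIrr χ.2),
        if_pos (hiff.2 hχ)]
      rfl
    · have e2 : (⟨if χ ∈ principalBlock M G then (χ : G → ℂ) x * (χ : G → ℂ) x⁻¹ else 0,
          mem_qbar_of_integral (hint χ)⟩ : QBar) = 0 := Subtype.ext (by simp [hχ])
      rw [e2, map_zero, if_neg fun h => hχ (hiff.1 h)]
  set S := ∑ᶠ χ ∈ principalBlock M G, Complex.normSq ((χ : G → ℂ) x) with hS
  have hSn : S = (n : ℝ) := by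
    have := hz.trans hn
    exact_mod_cast this
  have hn0 : 1 ≤ n := by
    rw [hSn] at hge
    exact_mod_cast hge
  obtain ⟨k, rfl⟩ := Int.eq_ofNat_of_zero_le (show (0 : ℤ) ≤ n by omega)
  have hf : ⌊S⌋₊ = k := by rw [hSn, Int.cast_natCast, Nat.floor_natCast]
  exact ⟨by rw [hf]; omega, trivial, by rw [hf, hSn, Int.cast_natCast]⟩

theorem deg_sq_eq_card_iff :
    (∑ᶠ χ ∈ principalBlock M G, charDegree (χ : G → ℂ) ^ 2) = Nat.card G ↔
      ∀ B : Set (IrrCharacter G), IsPBlock M B → B = principalBlock M G := by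
  classical
  haveI := Fintype.ofFinite G
  have hall : ∑ χ : IrrCharacter G, charDegree (χ : G → ℂ) ^ 2 = Nat.card G := by
    have h := sum_degree_sq (G := G)
    simp only [irr_one_eq (Subtype.prop _), ← sq] at h
    exact_mod_cast h
  rw [finsum_mem_eq_sum_ite, ← hall]
  rw [Finset.sum_eq_sum_iff_of_le fun χ _ => by split_ifs <;> simp]
  constructor
  · intro h B hB
    obtain ⟨χ, hχ⟩ := isPBlock_nonempty hB
    refine eq_of_mem_of_mem hB ⟨⟨_, isIrr_one⟩, rfl⟩ hχ ?_
    by_contra hne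
    have h1 := h χ (Finset.mem_univ _)
    rw [if_neg hne] at h1
    exact (charDegree_pos χ.2).ne' (pow_eq_zero_iff (n := 2) (by norm_num) |>.1 h1.symm)
  · intro h χ _
    rw [if_pos]
    rw [← h _ (blockOf_isPBlock χ)]
    exact sameBlock_refl _

end CfsgLib.Blk
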