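import Cfsg.Agent.Blk.SectionSplit
import Cfsg.Agent.Blk.NormalP
import Cfsg.Agent.Blk.Domination
import Cfsg.Agent.Char.Brauer

/-!
Blocks of a group and of its quotient by a `p`-subgroup whose centralizer has `p`-power index.
-/

set_option autoImplicit false
set_option linter.style.haveILetI false
set_option linter.unusedSectionVars false

namespace CfsgLib.QuotientRank

open Cfsg CfsgLib.Char CfsgLib.Blk CfsgLib.SectionSplit
open scoped CfsgLib.Char ComplexConjugate

universe u

variable {G : Type u} [Group G] [Finite G] {M : Ideal AlgInt} [M.IsPrime] {p : ℕ} [Fact p.Prime]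
variable (Z : Subgroup G) [Z.Normal] (hZ : ∃ k : ℕ, (Subgroup.centralizer (Z : Set G)).index = p ^ k) (hZp : IsPGroup p Z)

/-- The characters of the quotient inflating into `B`. -/
def bar (B : Set (IrrCharacter G)) : Set (IrrCharacter (G ⧸ Z)) := {χ | inflIrr Z χ ∈ B}

theorem coe_inflIrr (χ : IrrCharacter (G ⧸ Z)) :
    (inflIrr Z χ : G → ℂ) = (χ : G ⧸ Z → ℂ) ∘ QuotientGroup.mk := rfl

include hZ hZp

/-- The inflations of a block form a block. -/
theorem isPBlock_bar (hM : IsPModular p M) {B : Set (IrrCharacter G)} (hB : IsPBlock M B) :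
    IsPBlock M (bar Z B) := by
  obtain ⟨η, hη, htriv⟩ := exists_trivial_on hM hB Z hZp
  haveI := Fintype.ofFinite G
  haveI : Fintype (G ⧸ Z) := Fintype.ofFinite _
  obtain ⟨η', hη', hcomp⟩ := irr_descend (QuotientGroup.mk' Z) (QuotientGroup.mk'_surjective Z) η.2
    (fun k hk => htriv k ((QuotientGroup.eq_one_iff k).1 hk))
  have he : inflIrr Z ⟨η', hη'⟩ = η := Subtype.ext hcomp
  refine ⟨⟨η', hη'⟩, Set.ext fun χ => ?_⟩
  show inflIrr Z χ ∈ B ↔ SameBlock M η' (χ : G ⧸ Z → ℂ)
  rw [sameBlock_inflation_iff Z hZp hZ hM ⟨η', hη'⟩ χ, ← coe_inflIrr, ← coe_inflIrr, he,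
    eq_blockOf hB hη]
  rfl

/-- Regular ranks agree. -/
theorem blockRank_bar (hM : IsPModular p M) {B : Set (IrrCharacter G)} (hB : IsPBlock M B) :
    blockRank p (bar Z B) = blockRank p B := by
  classical
  haveI := Fintype.ofFinite G
  haveI : Fintype (G ⧸ Z) := Fintype.ofFinite _
  let L : (G ⧸ Z → ℂ) →ₗ[ℂ] (G → ℂ) := (regL p G).comp
    ({ toFun := fun f g => f (g : G ⧸ Z), map_add' := fun _ _ => rfl, map_smul' := fun _ _ => rfl } : (G ⧸ Z → ℂ) →ₗ[ℂ] (G → ℂ))
  have hLval : ∀ f g, ¬ p ∣ orderOf g → L f g = f (g : G ⧸ Z) := fun f g hg => regL_val _ g hg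
  have hmkreg : ∀ g : G, ¬ p ∣ orderOf g → ¬ p ∣ orderOf (g : G ⧸ Z) := fun g hg h =>
    hg (h.trans (orderOf_map_dvd (QuotientGroup.mk' Z) g))
  have hLinfl : ∀ χ : IrrCharacter (G ⧸ Z),
      L (pRegularPart p (χ : G ⧸ Z → ℂ)) = pRegularPart p (inflIrr Z χ : G → ℂ) := by
    intro χ
    funext g
    by_cases hg : p ∣ orderOf g
    · simp [L, regL_val' _ _ hg, pRegularPart, IsPRegular, hg]
    · rw [hLval _ _ hg]
      simp [pRegularPart, IsPRegular, hg, hmkreg g hg, coe_inflIrr]
  have hmap : (regSpan p (bar Z B)).map L = regSpan p B := by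
    refine le_antisymm ?_ (Submodule.span_le.2 ?_)
    · rw [regSpan, Submodule.map_span, Submodule.span_le]
      rintro _ ⟨_, ⟨χ, hχ, rfl⟩, rfl⟩
      rw [hLinfl]
      exact Submodule.subset_span ⟨_, hχ, rfl⟩
    · rintro _ ⟨η, hη, rfl⟩
      -- the regular values of `η` on the quotient
      have hlift : ∀ q : G ⧸ Z, ∃ s : G, ¬ p ∣ orderOf q → ¬ p ∣ orderOf s ∧ (s : G ⧸ Z) = q := by
        intro q
        by_cases hq : p ∣ orderOf q
        · exact ⟨1, fun h => absurd hq h⟩
        · obtain ⟨s, hs⟩ := exists_regular_lift Z hZp q hq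
          exact ⟨s, fun _ => hs⟩
      choose s hs using hlift
      have huniq : ∀ a c : G, ¬ p ∣ orderOf a → ¬ p ∣ orderOf c → (a : G ⧸ Z) = c → a = c := by
        intro a c ha hc hac
        have hz : a⁻¹ * c ∈ Z := QuotientGroup.eq.1 hac
        obtain ⟨k, hk⟩ := IsPGroup.iff_orderOf.1 hZp ⟨_, hz⟩
        have hcomm : Commute (a⁻¹ * c) a := regular_mem_centralizer Z hZ ha _ hz
        have hpart : IsPPart p c (a⁻¹ * c) :=
          ⟨a, by rw [hcomm.eq, mul_inv_cancel_left], hcomm, ⟨k, by rw [← hk, Subgroup.orderOf_mk]⟩, ha⟩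
        exact inv_mul_eq_one.1 (isPPart_unique Fact.out hpart (isPPart_one_of_regular hc))
      let h : G ⧸ Z → ℂ := fun q => if p ∣ orderOf q then 0 else (η : G → ℂ) (s q)
      have hh : IsClassFunction (G ⧸ Z) h := by
        intro q r
        have ho : orderOf (r * q * r⁻¹) = orderOf q :=
          orderOf_injective (MulAut.conj r).toMonoidHom (MulEquiv.injective _) q
        simp only [h, ho]
        by_cases hq : p ∣ orderOf q
        · simp [hq]
        · rw [if_neg hq, if_neg hq]
          obtain ⟨x, rfl⟩ := QuotientGroup.mk_surjective r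
          obtain ⟨h1, h2⟩ := hs q hq
          obtain ⟨h3, h4⟩ := hs ((x : G ⧸ Z) * q * (x : G ⧸ Z)⁻¹) (by rwa [ho])
          rw [huniq _ (x * s q * x⁻¹) h3 (by
            rwa [show orderOf (x * s q * x⁻¹) = orderOf (s q) from
              orderOf_injective (MulAut.conj x).toMonoidHom (MulEquiv.injective _) (s q)]) (by
            rw [h4, QuotientGroup.mk_mul, QuotientGroup.mk_mul, QuotientGroup.mk_inv, h2])]
          exact classFun_of_irr η.2 _ _
      have hη' : L h = pRegularPart p (η : G → ℂ) := by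
        funext g
        by_cases hg : p ∣ orderOf g
        · simp [L, regL_val' _ _ hg, pRegularPart, IsPRegular, hg]
        · rw [hLval _ _ hg]
          obtain ⟨h1, h2⟩ := hs _ (hmkreg g hg)
          simp [h, hmkreg g hg, pRegularPart, IsPRegular, hg, huniq _ g h1 hg h2]
      have hsum : pRegularPart p (η : G → ℂ) = ∑ χ : IrrCharacter (G ⧸ Z),
          classInner h (χ : G ⧸ Z → ℂ) • pRegularPart p (inflIrr Z χ : G → ℂ) := by
        rw [← hη']
        funext g
        have h1 := congrArg (fun F => L F g) (classFun_eq_sum hh)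
        simp only [map_sum, map_smul] at h1
        rw [h1]
        simp only [Finset.sum_apply, Pi.smul_apply, ← hLinfl]
        by_cases hg : p ∣ orderOf g
        · simp [L, regL_val' _ _ hg]
        · simp [hLval _ _ hg, pRegularPart, IsPRegular, hmkreg g hg]
      set A := ∑ χ ∈ Finset.univ.filter (fun χ : IrrCharacter (G ⧸ Z) => inflIrr Z χ ∈ B),
        classInner h (χ : G ⧸ Z → ℂ) • pRegularPart p (inflIrr Z χ : G → ℂ) with hA
      set O := ∑ χ ∈ Finset.univ.filter (fun χ : IrrCharacter (G ⧸ Z) => inflIrr Z χ ∉ B),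
        classInner h (χ : G ⧸ Z → ℂ) • pRegularPart p (inflIrr Z χ : G → ℂ) with hO
      have hsplit : pRegularPart p (η : G → ℂ) = A + O := by
        rw [hsum, hA, hO, Finset.sum_filter_add_sum_filter_not]
      have hOr : O ∈ regSpan p B := by
        rw [← sub_eq_of_eq_add' hsplit]
        refine Submodule.sub_mem _ (Submodule.subset_span ⟨η, hη, rfl⟩) ?_
        exact Submodule.sum_mem _ fun χ hχ => Submodule.smul_mem _ _
          (Submodule.subset_span ⟨_, (Finset.mem_filter.1 hχ).2, rfl⟩)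
      have hO0 : O = 0 := by
        refine eq_zero_of_norm ?_
        conv_lhs => enter [2, x, 1]; rw [hO]
        simp only [Finset.sum_apply, Pi.smul_apply, smul_eq_mul, Finset.sum_mul, mul_assoc]
        rw [Finset.sum_comm]
        refine Finset.sum_eq_zero fun χ hχ => ?_
        rw [← Finset.mul_sum, regSpan_orth hM (blockOf_isPBlock (inflIrr Z χ)) hB
          (fun e => (Finset.mem_filter.1 hχ).2 (e ▸ sameBlock_refl _))
          (Submodule.subset_span ⟨_, sameBlock_refl _, rfl⟩) hOr, mul_zero]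
      show pRegularPart p (η : G → ℂ) ∈ Submodule.map L _
      rw [hsplit, hO0, add_zero]
      refine Submodule.sum_mem _ fun χ hχ => Submodule.smul_mem _ _ ⟨pRegularPart p (χ : G ⧸ Z → ℂ), ?_, hLinfl χ⟩
      exact Submodule.subset_span ⟨χ, (Finset.mem_filter.1 hχ).2, rfl⟩
  rw [blockRank_eq, blockRank_eq, ← hmap]
  refine (LinearEquiv.ofBijective ((L.domRestrict (regSpan p (bar Z B))).codRestrict ((regSpan p (bar Z B)).map L)
    fun x => Submodule.mem_map_of_mem x.2) ⟨?_, ?_⟩).finrank_eq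
  · intro v w hvw
    have e : L v.1 = L w.1 := congrArg Subtype.val hvw
    refine Subtype.ext (funext fun q => ?_)
    by_cases hq : p ∣ orderOf q
    · rw [(regSpan_facts v.2).2 q hq, (regSpan_facts w.2).2 q hq]
    · obtain ⟨g, hg, rfl⟩ := exists_regular_lift Z hZp q hq
      have e1 := congrFun e g
      rw [hLval v.1 g hg, hLval w.1 g hg] at e1
      exact e1
  · rintro ⟨_, x, hx, rfl⟩
    exact ⟨⟨x, hx⟩, rfl⟩

end CfsgLib.QuotientRank
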