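import Cfsg.Agent.Blk.Bounds

/-!
Blocks attached to classes separated by `p`-elements: if the elements `x_i` have the common Sylow
subgroup `D` of their centralizers and no quotient of conjugates is a nontrivial `p`-element, the
central characters of the blocks with defect group `D` have full rank on the classes of the `x_i`.
-/

set_option autoImplicit false
set_option linter.style.haveILetI false
set_option linter.unusedSectionVars false

namespace CfsgLib.Blk

open Cfsg CfsgLib.Char MonoidAlgebra Finset
open scoped ComplexConjugate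

universe u

variable {G : Type u} [Group G] [Finite G] {M : Ideal AlgInt} [M.IsPrime] {p : ℕ} [Fact p.Prime]

theorem classFun_pElem [DecidablePred fun g : G => ∃ k : ℕ, orderOf g = p ^ k] :
    IsClassFunction G (fun g : G => if ∃ k : ℕ, orderOf g = p ^ k then (1 : ℂ) else 0) := fun g h => by
  simp only [isPPart_conj.orderOf_mulAut_conj]

/-- The sum of a character over the `p`-elements is divisible by the `p`-part of the order. -/
theorem sum_pElem_mem (hM : IsPModular p M) [Fintype G]
    [DecidablePred fun g : G => ∃ k : ℕ, orderOf g = p ^ k] (χ : IrrCharacter G) :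
    ∃ t ∈ locRing M, ∑ g : G, (if ∃ k : ℕ, orderOf g = p ^ k then
      conj ((χ : G → ℂ) g) else 0) = (p : ℂ) ^ pExp p G * t := by
  classical
  obtain ⟨m, hm, hmp⟩ := exists_card_eq (p := p) (G := G)
  have hf : IsCriterionFun p M
      (fun g : G => if ∃ k : ℕ, orderOf g = p ^ k then (1 : ℂ) else 0) := by
    refine ⟨classFun_pElem, fun x P hx hP hPx F hF _ => ?_⟩
    have hp : p.Prime := Fact.out
    have key : ∀ u : P, (∃ k : ℕ, orderOf (x * (u : G)) = p ^ k) ↔ x = 1 := by
      intro u
      obtain ⟨i, hi⟩ := IsPGroup.iff_orderOf.1 hP u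
      have hc : Commute (u : G) x := Subgroup.mem_centralizer_singleton_iff.1 (hPx u.2)
      constructor
      · intro hu
        have h1 : IsPPart p (x * (u : G)) (u : G) := by
          rw [← hc.eq]
          exact isPPart_mul ⟨i, by rwa [Subgroup.orderOf_coe]⟩ hx hc
        have h2 := isPPart_unique hp h1 (isPPart_self hu hp)
        simpa using h2.symm
      · rintro rfl
        exact ⟨i, by rw [one_mul, Subgroup.orderOf_coe, hi]⟩
    by_cases hx1 : x = 1
    · subst hx1
      have hv := avg_mem (⊤ : Subgroup P) (restrict_mem_locChar P hF) (1 : P)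
      convert hv using 2
      · rw [Subgroup.card_top]
      · refine Fintype.sum_equiv (Subgroup.topEquiv (G := P)).symm.toEquiv _ _ fun u => ?_
        have h0 := (key u).2 rfl
        simp only [one_mul] at h0 ⊢
        rw [if_pos h0, one_mul]
        simp
    · rw [Finset.sum_eq_zero fun u _ => ?_, mul_zero]
      · exact zero_mem _
      · simp only [if_neg fun h => hx1 ((key u).1 h), zero_mul]
  have h1 := criterion_inner_mem hM hf χ
  refine ⟨_, mul_mem (natCast_mem _ m) h1, ?_⟩
  rw [classInner_def, hm]
  have hp0 := prime_cast_ne_zero (p := p)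
  have hm0 := natCast_ne_zero_of_not_dvd hmp
  push_cast
  field_simp
  exact Finset.sum_congr rfl fun g _ => by split_ifs <;> simp

theorem coeff_classSum_mul [Fintype G] (R : Type*) [CommRing R] (x u : G) (z : MonoidAlgebra R G)
    [DecidablePred (IsConj x)] :
    (classSum R x * z).coeff u = ∑ g : G, if IsConj x g then z.coeff (g⁻¹ * u) else 0 := by
  classical
  have e : classSum R x = ∑ g : G, if IsConj x g then single g (1 : R) else 0 := by
    refine MonoidAlgebra.coeff_injective (Finsupp.ext fun y => ?_)
    rw [coeff_classSum, MonoidAlgebra.coeff_sum, Finset.sum_apply', Finset.sum_eq_single y]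
    · split_ifs <;> simp
    · intro g _ hg
      split_ifs
      · simp [MonoidAlgebra.coeff_single, Finsupp.single_apply, hg]
      · simp
    · simp
  rw [e, Finset.sum_mul, MonoidAlgebra.coeff_sum, Finset.sum_apply']
  refine Finset.sum_congr rfl fun g _ => ?_
  split_ifs
  · rw [coeff_single_mul_apply, one_mul]
  · simp

variable {r : ℕ} {x : Fin r → G} {D : Subgroup G}

/-- The separation identity. -/
theorem sum_pElem_separated [Fintype G] [DecidablePred fun g : G => ∃ k : ℕ, orderOf g = p ^ k]
    (hx : ∀ i j : Fin r, IsConj (x i) (x j) → i = j)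
    (hsep : ∀ i j : Fin r, ∀ g h : G, IsConj (x i) g → IsConj (x j) h →
      ∀ k : ℕ, 0 < k → orderOf (g * h⁻¹) ≠ p ^ k) (i j : Fin r) :
    ∑ u : G, (if ∃ k : ℕ, orderOf u = p ^ k then
      ((classSum (locRing M) (x i)⁻¹ * classSum (locRing M) (x j)).coeff u : ℂ) else 0) =
      if i = j then ((Subgroup.centralizer ({x i} : Set G)).index : ℂ) else 0 := by
  classical
  have hcl : ∀ a b : G, IsConj a⁻¹ b ↔ IsConj a b⁻¹ := fun a b => by
    simp only [isConj_iff]
    refine exists_congr fun c => ?_
    rw [← inv_inj, mul_inv_rev, mul_inv_rev, inv_inv, inv_inv, mul_assoc]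
  rw [Finset.sum_eq_single (1 : G)]
  · rw [if_pos ⟨0, by simp⟩, coeff_classSum_mul]
    simp only [mul_one, coeff_classSum, hcl]
    rw [← card_isConj, Nat.card_eq_fintype_card, Fintype.card_subtype]
    push_cast [apply_ite Subtype.val]
    split_ifs with hij
    · subst hij
      rw [← Fintype.sum_equiv (Equiv.inv G) (fun g => if IsConj (x i) g then (1 : ℂ) else 0) _
        fun g => by by_cases h : IsConj (x i) g <;> simp [h]]
      rw [Finset.sum_boole]
    · refine Finset.sum_eq_zero fun g _ => ?_
      split_ifs with h1 h2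
      · exact absurd (hx i j (h1.trans h2.symm)) hij
      · rfl
      · rfl
  · intro u _ hu1
    split_ifs with hu
    · rw [coeff_classSum_mul]
      push_cast [apply_ite Subtype.val]
      refine Finset.sum_eq_zero fun g _ => ?_
      split_ifs with h1
      · rw [coeff_classSum, if_neg]
        · rfl
        intro h2
        obtain ⟨k, hk⟩ := hu
        rcases Nat.eq_zero_or_pos k with rfl | hk0
        · exact hu1 (orderOf_eq_one_iff.1 (by rw [hk, pow_zero]))
        · refine hsep i j g⁻¹ (g⁻¹ * u) ((hcl _ _).1 h1) h2 k hk0 ?_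
          rw [mul_inv_rev, inv_inv, ← mul_assoc, show g⁻¹ * u⁻¹ * g = g⁻¹ * u⁻¹ * g⁻¹⁻¹ by
            rw [inv_inv], isPPart_conj.orderOf_mulAut_conj, orderOf_inv, hk]
      · rfl
    · rfl
  · simp

/-- Central characters of the blocks with defect group `D` separate the classes. -/
theorem eq_zero_of_forall_omega (hM : IsPModular p M) [Fintype G]
    (hx : ∀ i j : Fin r, IsConj (x i) (x j) → i = j)
    (hD : ∀ i : Fin r, IsSylowIn p D (Subgroup.centralizer ({x i} : Set G)))
    (hsep : ∀ i j : Fin r, ∀ g h : G, IsConj (x i) g → IsConj (x j) h →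
      ∀ k : ℕ, 0 < k → orderOf (g * h⁻¹) ≠ p ^ k)
    (c : Fin r → Res M)
    (hc : ∀ χ : IrrCharacter G, IsDefectGroup p M (blockOf M (χ : G → ℂ)) D →
      ∑ j, c j * red M (centralChar (χ : G → ℂ) (x j)) = 0) : c = 0 := by
  classical
  funext i
  obtain ⟨d, hd⟩ := IsPGroup.iff_card.1 (hD i).isPGroup
  have hcl : Subgroup.centralizer ({(x i)⁻¹} : Set G) = Subgroup.centralizer ({x i} : Set G) := by
    ext y
    simp only [Subgroup.mem_centralizer_singleton_iff]
    exact ⟨fun h => by simpa using (Commute.inv_right (h : Commute y _)).eq,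
      fun h => (Commute.inv_right (h : Commute y _)).eq⟩
  obtain ⟨mi, hmi, hidx⟩ := index_centralizer_eq (hD i) hd
  obtain ⟨m, hm, hmp⟩ := exists_card_eq (p := p) (G := G)
  choose t ht htT using sum_pElem_mem (p := p) hM (G := G)
  have hlift : ∀ j, ∃ w : ℂ, w ∈ locRing M ∧ red M w = c j := fun j => by
    obtain ⟨w, hw⟩ := Ideal.Quotient.mk_surjective (c j)
    exact ⟨w, w.2, by rw [red_coe]; exact hw⟩
  choose w hw hwc using hlift
  -- the Gram identity
  have key : ∀ j, (if i = j then (mi : ℂ) else 0) = ((mi : ℂ) * (m : ℂ)⁻¹) *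
      ∑ χ : IrrCharacter G, t χ * (χ : G → ℂ) (x i)⁻¹ * centralChar (χ : G → ℂ) (x j) := by
    intro j
    have h1 := sum_pElem_separated (M := M) (p := p) hx hsep i j
    simp only [omega_inversion ((isClassCoeff_classSum _ _).mul (isClassCoeff_classSum _ _))] at h1
    have hp0 := prime_cast_ne_zero (p := p)
    have hm0 := natCast_ne_zero_of_not_dvd hmp
    refine mul_left_cancel₀ (pow_ne_zero (pExp p G - d) hp0) ?_
    calc (p : ℂ) ^ (pExp p G - d) * (if i = j then (mi : ℂ) else 0)
        = if i = j then ((Subgroup.centralizer ({x i} : Set G)).index : ℂ) else 0 := by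
          split_ifs
          · rw [hidx]; push_cast; ring
          · rw [mul_zero]
      _ = ∑ χ : IrrCharacter G, (Nat.card G : ℂ)⁻¹ * (omega (χ : G → ℂ)
            (classSum (locRing M) (x i)⁻¹ * classSum (locRing M) (x j)) * (χ : G → ℂ) 1 *
            ((p : ℂ) ^ pExp p G * t χ)) := by
          rw [← h1]
          simp only [← htT, Finset.mul_sum]
          rw [Finset.sum_comm]
          refine Finset.sum_congr rfl fun u _ => ?_
          split_ifs
          · rfl
          · simp
      _ = _ := by
          rw [Finset.mul_sum, Finset.mul_sum]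
          refine Finset.sum_congr rfl fun χ _ => ?_
          rw [omega_mul χ.2 (isClassCoeff_classSum _ _), omega_classSum (classFun_of_irr χ.2),
            omega_classSum (classFun_of_irr χ.2), hm]
          conv_lhs => rw [centralChar, hcl, hidx]
          have := irr_one_ne_zero χ.2
          push_cast
          field_simp
  -- pair with `c`
  have hterm : ∀ χ : IrrCharacter G, MemLocalIdeal M
      (t χ * (χ : G → ℂ) (x i)⁻¹ * ∑ j, w j * centralChar (χ : G → ℂ) (x j)) := by
    intro χ
    have hB : IsPBlock M (blockOf M (χ : G → ℂ)) := blockOf_isPBlock χ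
    have hχ : χ ∈ blockOf M (χ : G → ℂ) := sameBlock_refl _
    by_cases hall : ∀ j, MemLocalIdeal M (centralChar (χ : G → ℂ) (x j))
    · exact memLocalIdeal_mul_left (mul_mem (ht χ) (irr_mem χ _))
        (memLocalIdeal_sum _ _ fun j _ => memLocalIdeal_mul_left (hw j) (hall j))
    push Not at hall
    obtain ⟨j, hj⟩ := hall
    obtain ⟨E, hE⟩ := exists_isDefectGroup hM hB
    obtain ⟨y, hy⟩ := minmax_ge hM hB hE hχ (x j) hj (hD j)
    have hE' := IsDefectGroup.conj hE y
    rcases eq_or_lt_of_le (Subgroup.card_le_of_le hy) with heq | hlt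
    · -- defect group `D`
      rw [Subgroup.eq_of_le_of_card_ge hy heq.ge] at hE'
      refine memLocalIdeal_mul_left (mul_mem (ht χ) (irr_mem χ _)) ?_
      rw [← red_eq_zero_iff (sum_mem fun j _ => mul_mem (hw j) (centralChar_mem χ.2 _)),
        red_sum _ _ fun j _ => mul_mem (hw j) (centralChar_mem χ.2 _), ← hc χ hE']
      exact Finset.sum_congr rfl fun j _ => by rw [red_mul (hw j) (centralChar_mem χ.2 _), hwc]
    · -- smaller defect: the value at `x i` lies in `M`
      rw [hd, card_map_conj, card_defectGroup hM hB hE] at hlt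
      have hlt' := (Nat.pow_lt_pow_iff_right (Fact.out : p.Prime).one_lt).1 hlt
      refine memLocalIdeal_mul_right (memLocalIdeal_mul_left (ht χ) ?_)
        (sum_mem fun j _ => mul_mem (hw j) (centralChar_mem χ.2 _))
      obtain ⟨n, hn, hnp⟩ := exists_deg_eq (p := p) χ.2
      have hh := degExp_eq_height_add hM hB hχ
      have hd' : d ≤ pExp p G := ((Fact.out : p.Prime).pow_dvd_iff_le_factorization
        Nat.card_pos.ne').1 (hd ▸ Subgroup.card_subgroup_dvd_card D)
      obtain ⟨e, he⟩ := Nat.exists_eq_add_of_lt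
        (show pExp p G - d < degExp p (χ : G → ℂ) by omega)
      have hmi0 := natCast_ne_zero_of_not_dvd hmi
      have hn0 := natCast_ne_zero_of_not_dvd hnp
      have hp0 := prime_cast_ne_zero (p := p)
      have e1 : (χ : G → ℂ) (x i)⁻¹ = (p : ℂ) ^ (e + 1) *
          ((n : ℂ) * (mi : ℂ)⁻¹ * centralChar (χ : G → ℂ) (x i)⁻¹) := by
        rw [centralChar, hcl, hidx, hn, he]
        push_cast
        rw [pow_add, pow_add]
        field_simp
        ring
      rw [e1]
      exact pow_mul_memLocalIdeal hM (Nat.succ_pos e)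
        (mul_mem (mul_mem (natCast_mem _ n) (natCast_inv_mem hM hmi)) (centralChar_mem χ.2 _))
  have hmem : MemLocalIdeal M ((mi : ℂ) * w i) := by
    have e : (mi : ℂ) * w i = ((mi : ℂ) * (m : ℂ)⁻¹) * ∑ χ : IrrCharacter G,
        t χ * (χ : G → ℂ) (x i)⁻¹ * ∑ j, w j * centralChar (χ : G → ℂ) (x j) := by
      calc (mi : ℂ) * w i = ∑ j, w j * (if i = j then (mi : ℂ) else 0) := by
            simp [mul_comm]
        _ = _ := by
            simp only [key, Finset.mul_sum]
            rw [Finset.sum_comm]
            exact Finset.sum_congr rfl fun χ _ => Finset.sum_congr rfl fun j _ => by ring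
    rw [e]
    exact memLocalIdeal_mul_left (mul_mem (natCast_mem _ mi) (natCast_inv_mem hM hmp))
      (memLocalIdeal_sum _ _ fun χ _ => hterm χ)
  rw [memLocalIdeal_natCast_mul_iff hM hmi, ← red_eq_zero_iff (hw i), hwc] at hmem
  exact hmem

/-- A class with no nontrivial `p`-element among the quotients of its members gives a block. -/
theorem exists_block_of_separated (hM : IsPModular p M) [Fintype G] {z : G} {D : Subgroup G}
    (hD : IsSylowIn p D (Subgroup.centralizer ({z} : Set G)))
    (hsep : ∀ g h : G, IsConj z g → IsConj z h → ∀ k : ℕ, 0 < k → orderOf (g * h⁻¹) ≠ p ^ k) :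
    ∃ χ : IrrCharacter G, IsDefectGroup p M (blockOf M (χ : G → ℂ)) D := by
  by_contra! hno
  have := eq_zero_of_forall_omega hM (r := 1) (x := fun _ => z) (D := D)
    (fun i j _ => Subsingleton.elim i j) (fun _ => hD) (fun _ _ => hsep) 1
    fun χ hχ => absurd hχ (hno χ)
  exact one_ne_zero (congrFun this 0)

/-- Characters of defect zero from an element whose centralizer has order prime to `p`. -/
theorem exists_defect_zero_of_separated [Fintype G] {z : G}
    (hz : ¬ p ∣ Nat.card (Subgroup.centralizer ({z} : Set G)))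
    (hsep : ∀ g h : G, IsConj z g → IsConj z h → ∀ k : ℕ, 0 < k → orderOf (g * h⁻¹) ≠ p ^ k) :
    ∃ χ : IrrCharacter G, (charDegree (χ : G → ℂ)).factorization p = pExp p G := by
  obtain ⟨M, hM⟩ := exists_isPModular (Fact.out : p.Prime)
  haveI := CfsgLib.Blk.IsPModular.isPrime hM
  obtain ⟨D, hD⟩ := exists_isSylowIn (p := p) (Subgroup.centralizer ({z} : Set G))
  obtain ⟨χ, hχ⟩ := exists_block_of_separated hM hD hsep
  have hB : IsPBlock M (blockOf M (χ : G → ℂ)) := blockOf_isPBlock χ
  have hd := card_defectGroup hM hB hχ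
  rw [hD.card, Nat.factorization_eq_zero_of_not_dvd hz, pow_zero] at hd
  have hd0 : blockDefect p (blockOf M (χ : G → ℂ)) = 0 :=
    (Nat.pow_eq_one.1 hd.symm).resolve_left (Fact.out : p.Prime).ne_one
  refine ⟨χ, ?_⟩
  have h2 := degExp_eq_height_add hM hB (χ := χ) (sameBlock_refl _)
  have h3 := degExp_le (p := p) χ.2
  simp only [degExp] at *
  omega

end CfsgLib.Blk
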