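import Mathlib.LinearAlgebra.Matrix.SchurComplement
import Mathlib.LinearAlgebra.Matrix.Rank
import Mathlib.LinearAlgebra.FreeModule.PID
import Mathlib.LinearAlgebra.Matrix.ToLin
import Mathlib.RingTheory.Int.Basic
import Mathlib.Analysis.Complex.Basic

/-!
Integral scaled idempotents of rank one modulo a prime: the quadratic form is bounded below by
sufficiently many squared integral linear forms.
-/

set_option autoImplicit false
set_option linter.style.haveILetI false
set_option linter.unusedSectionVars false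
set_option maxHeartbeats 1000000

namespace CfsgLib.RankOneForm

open Matrix
open scoped ComplexConjugate

/-- The Cauchy-Binet formula, summed over all row selections. -/
theorem cauchy_binet {R : Type*} [CommRing R] {J : Type*} [Fintype J] [DecidableEq J] {r : ℕ}
    (A B : Matrix J (Fin r) R) :
    (r.factorial : R) * (Aᵀ * B).det =
      ∑ f : Fin r → J, (A.submatrix f id).det * (B.submatrix f id).det := by
  classical
  have h1 : (Aᵀ * B).det = ∑ f : Fin r → J, (∏ a, A (f a) a) * (B.submatrix f id).det := by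
    have e : (Aᵀ * B : Matrix (Fin r) (Fin r) R) = fun a => ∑ j : J, A j a • B j := by
      ext a b
      show (Aᵀ * B) a b = (∑ j : J, A j a • B j) b
      simp [Matrix.mul_apply, Finset.sum_apply]
    rw [e]
    show (Matrix.detRowAlternating : (Fin r → R) [⋀^Fin r]→ₗ[R] R).toMultilinearMap
      (fun a => ∑ j : J, A j a • B j) = _
    rw [MultilinearMap.map_sum]
    refine Finset.sum_congr rfl fun f _ => ?_
    rw [MultilinearMap.map_smul_univ, smul_eq_mul]
    rfl
  have h2 : ∀ σ : Equiv.Perm (Fin r), ∑ f : Fin r → J,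
      (Equiv.Perm.sign σ : R) * (∏ a, A (f (σ a)) a) * (B.submatrix f id).det =
      (Aᵀ * B).det := by
    intro σ
    rw [h1]
    refine Fintype.sum_equiv (Equiv.arrowCongr σ.symm (Equiv.refl J)) _ _ fun f => ?_
    have e : (Equiv.arrowCongr σ.symm (Equiv.refl J)) f = f ∘ σ := rfl
    rw [e, show B.submatrix (f ∘ σ) id = (B.submatrix f id).submatrix σ id from rfl, Matrix.det_permute]
    simp only [Function.comp_apply]
    ring
  rw [show (r.factorial : R) * (Aᵀ * B).det = ∑ _σ : Equiv.Perm (Fin r), (Aᵀ * B).det by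
    simp [Finset.sum_const, Fintype.card_perm], ← Finset.sum_congr rfl fun σ _ => h2 σ, Finset.sum_comm]
  refine Finset.sum_congr rfl fun f _ => ?_
  rw [Matrix.det_apply' (A.submatrix f id), Finset.sum_mul]
  rfl

/-- All two by two minors are divisible by `p`. -/
def Minors {I J : Type*} (p : ℕ) (m : Matrix I J ℤ) : Prop :=
  ∀ i j k l, (p : ℤ) ∣ m i j * m k l - m i l * m k j

theorem Minors.transpose {I J : Type*} {p : ℕ} {m : Matrix I J ℤ} (h : Minors p m) : Minors p mᵀ :=
  fun i j k l => by
    have := h j i l k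
    simpa [mul_comm, Matrix.transpose_apply] using this

theorem Minors.mul_left {I J K : Type*} [Fintype I] {p : ℕ} {m : Matrix I J ℤ} (h : Minors p m)
    (R : Matrix K I ℤ) : Minors p (R * m) := by
  intro a j c l
  have e : (R * m) a j * (R * m) c l - (R * m) a l * (R * m) c j =
      ∑ i : I, ∑ k : I, R a i * R c k * (m i j * m k l - m i l * m k j) := by
    simp only [Matrix.mul_apply, Finset.sum_mul_sum, ← Finset.sum_sub_distrib]
    exact Finset.sum_congr rfl fun i _ => Finset.sum_congr rfl fun k _ => by ring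
  rw [e]
  exact Finset.dvd_sum fun i _ => Finset.dvd_sum fun k _ => Dvd.dvd.mul_left (h i j k l) _

theorem pow_dvd_det {r p : ℕ} (hp : p.Prime) {S : Matrix (Fin r) (Fin r) ℤ} (h : Minors p S) :
    (p : ℤ) ^ (r - 1) ∣ S.det := by
  classical
  by_cases hall : ∀ i j, (p : ℤ) ∣ S i j
  · choose S' hS' using hall
    have e : S = Matrix.of fun i j => (p : ℤ) * S' i j := by ext i j; exact hS' i j
    rw [e, show (Matrix.of fun i j => (p : ℤ) * S' i j).det = (∏ _i : Fin r, (p : ℤ)) * (Matrix.of S').det from
      Matrix.det_mul_column (fun _ : Fin r => (p : ℤ)) (Matrix.of S'), Finset.prod_const, Finset.card_univ,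
      Fintype.card_fin]
    exact Dvd.dvd.mul_right (pow_dvd_pow _ (Nat.sub_le r 1)) _
  push Not at hall
  obtain ⟨i0, j0, hs⟩ := hall
  set s := S i0 j0 with hsdef
  let A : Matrix (Fin r) (Fin r) ℤ := Matrix.of fun i j => (if i = i0 then 1 else s) * S i j
  let A' : Matrix (Fin r) (Fin r) ℤ :=
    Matrix.of fun i j => if i = i0 then S i0 j else s * S i j - S i j0 * S i0 j
  have hA : A.det = s ^ (r - 1) * S.det := by
    rw [Matrix.det_mul_column, Finset.prod_ite, Finset.prod_const_one, one_mul, Finset.prod_const,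
      show (Finset.univ.filter fun i : Fin r => ¬ i = i0) = Finset.univ.erase i0 by ext; simp,
      Finset.card_erase_of_mem (Finset.mem_univ _), Finset.card_univ, Fintype.card_fin]
  have hA' : A'.det = A.det := by
    refine Matrix.det_eq_of_forall_row_eq_smul_add_const (fun i => if i = i0 then 0 else - S i j0) i0
      (if_pos rfl) fun i j => ?_
    simp only [A, A', Matrix.of_apply, if_true]
    split_ifs with hi
    · rw [hi]; ring
    · ring
  have hrow : ∀ i j, ∃ t : ℤ, A' i j = (if i = i0 then 1 else (p : ℤ)) * t := by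
    intro i j
    simp only [A', Matrix.of_apply]
    split_ifs with hi
    · exact ⟨_, (one_mul _).symm⟩
    · obtain ⟨t, ht⟩ := h i0 j0 i j
      exact ⟨t, by rw [← ht, hsdef]; ring⟩
  choose T hT using hrow
  have hdvd : (p : ℤ) ^ (r - 1) ∣ A'.det := by
    rw [show A' = Matrix.of fun i j => (if i = i0 then 1 else (p : ℤ)) * T i j from Matrix.ext hT,
      show (Matrix.of fun i j => (if i = i0 then 1 else (p : ℤ)) * T i j).det =
        (∏ i : Fin r, if i = i0 then 1 else (p : ℤ)) * (Matrix.of T).det from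
        Matrix.det_mul_column (fun i => if i = i0 then 1 else (p : ℤ)) (Matrix.of T),
      Finset.prod_ite, Finset.prod_const_one, one_mul, Finset.prod_const,
      show (Finset.univ.filter fun i : Fin r => ¬ i = i0) = Finset.univ.erase i0 by ext; simp,
      Finset.card_erase_of_mem (Finset.mem_univ _), Finset.card_univ, Fintype.card_fin]
    exact dvd_mul_right _ _
  rw [hA', hA] at hdvd
  exact (((Nat.prime_iff_prime_int.1 hp).coprime_iff_not_dvd.2 hs).pow).dvd_of_dvd_mul_left hdvd

variable {I : Type*} [Fintype I] [DecidableEq I]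

/-- The forms: the quadratic form of `m` dominates squared integral linear forms, and at least `r r!`
of them do not vanish off the kernel. -/
theorem exists_forms {p : ℕ} (hp : p.Prime) (m : Matrix I I ℤ) (hsym : mᵀ = m)
    (hidem : m * m = (p : ℤ) • m) (hminor : Minors p m) (hdiag : ∀ i, m i i ≠ (p : ℤ)) :
    ∃ (r : ℕ) (F : Finset (Fin r → Option I)) (L : (Fin r → Option I) → I → ℤ),
      (m.map (Int.cast : ℤ → ℂ)).rank ≤ r ∧
      ∀ n : I → ℂ, (∑ f ∈ F, ‖∑ i, (L f i : ℂ) * n i‖ ^ 2 ≤
          (r.factorial : ℝ) * (∑ i, ∑ j, n i * (m i j : ℂ) * conj (n j)).re) ∧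
        ((∃ i, ∑ j, (m i j : ℂ) * n j ≠ 0) →
          r * r.factorial ≤ (F.filter fun f => ∑ i, (L f i : ℂ) * n i ≠ 0).card) := by
  classical
  -- the lattice of fixed vectors and an integral retraction
  let φ : (I → ℤ) →ₗ[ℤ] (I → ℤ) := m.mulVecLin - (p : ℤ) • LinearMap.id
  have hmemΛ : ∀ v, v ∈ LinearMap.ker φ ↔ m *ᵥ v = (p : ℤ) • v := fun v => by
    simp [φ, LinearMap.mem_ker, sub_eq_zero]
  let r := Module.finrank ℤ (LinearMap.ker φ)
  let b : Module.Basis (Fin r) ℤ (LinearMap.ker φ) := Module.finBasis ℤ _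
  obtain ⟨sec, hsec⟩ := Module.projective_lifting_property φ.rangeRestrict LinearMap.id
    φ.surjective_rangeRestrict
  let P0 : (I → ℤ) →ₗ[ℤ] LinearMap.ker φ :=
    (LinearMap.id - sec ∘ₗ φ.rangeRestrict).codRestrict _ fun v => by
      have h1 := congrArg Subtype.val (LinearMap.congr_fun hsec (φ.rangeRestrict v))
      simp only [LinearMap.comp_apply, LinearMap.id_apply] at h1
      rw [LinearMap.mem_ker]
      show φ (v - sec (φ.rangeRestrict v)) = 0
      rw [map_sub, sub_eq_zero]
      exact h1.symm
  have hP0 : ∀ x : LinearMap.ker φ, P0 x = x := fun x => by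
    have h0 : φ.rangeRestrict (x : I → ℤ) = 0 := Subtype.ext (LinearMap.mem_ker.1 x.2)
    exact Subtype.ext (by simp [P0, h0])
  let R0 : (I → ℤ) →ₗ[ℤ] (Fin r → ℤ) := b.equivFun.toLinearMap ∘ₗ P0
  let B : Matrix I (Fin r) ℤ := Matrix.of fun i a => (b a : I → ℤ) i
  let R : Matrix (Fin r) I ℤ := LinearMap.toMatrix' R0
  have hBv : ∀ c : Fin r → ℤ, B *ᵥ c = ((b.equivFun.symm c : LinearMap.ker φ) : I → ℤ) := by
    intro c
    funext i
    rw [Module.Basis.equivFun_symm_apply, Submodule.coe_sum, Finset.sum_apply]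
    simp [B, Matrix.mulVec, dotProduct, mul_comm]
  have hRv : ∀ v, R *ᵥ v = R0 v := fun v => LinearMap.toMatrix'_mulVec R0 v
  have hRB : R * B = 1 := by
    refine Matrix.ext_iff_mulVec.2 fun c => ?_
    rw [← Matrix.mulVec_mulVec, hBv, hRv, Matrix.one_mulVec]
    simp only [R0, LinearMap.comp_apply, hP0, LinearEquiv.coe_coe, LinearEquiv.apply_symm_apply]
  have hBR : ∀ v, v ∈ LinearMap.ker φ → B *ᵥ (R *ᵥ v) = v := fun v hv => by
    rw [hRv, hBv]
    simp [R0, hP0 ⟨v, hv⟩]
  have hmB : m * B = (p : ℤ) • B := by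
    refine Matrix.ext_iff_mulVec.2 fun c => ?_
    rw [← Matrix.mulVec_mulVec, Matrix.smul_mulVec, hBv]
    exact (hmemΛ _).1 (Subtype.coe_prop _)
  have hBRm : B * R * m = m := by
    refine Matrix.ext_iff_mulVec.2 fun v => ?_
    rw [← Matrix.mulVec_mulVec, ← Matrix.mulVec_mulVec]
    refine hBR _ ((hmemΛ _).2 ?_)
    rw [Matrix.mulVec_mulVec, hidem, Matrix.smul_mulVec]
  let C : Matrix (Fin r) (Fin r) ℤ := Bᵀ * B
  let S : Matrix (Fin r) (Fin r) ℤ := R * m * Rᵀ
  have hBtm : Bᵀ * m = (p : ℤ) • Bᵀ := by
    have := congrArg Matrix.transpose hmB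
    rwa [Matrix.transpose_mul, hsym, Matrix.transpose_smul] at this
  have hCS : C * S = (p : ℤ) • 1 := by
    calc C * S = Bᵀ * (B * R * m) * Rᵀ := by simp only [C, S, Matrix.mul_assoc]
      _ = (p : ℤ) • (R * B)ᵀ := by rw [hBRm, hBtm, Matrix.smul_mul, Matrix.transpose_mul]
      _ = _ := by rw [hRB, Matrix.transpose_one]
  have hmS : B * S * Bᵀ = m := by
    calc B * S * Bᵀ = (B * R * m) * (Rᵀ * Bᵀ) := by simp only [S, Matrix.mul_assoc]
      _ = m * (Rᵀ * Bᵀ) := by rw [hBRm]
      _ = (B * R * m)ᵀ := by rw [Matrix.transpose_mul, Matrix.transpose_mul, hsym]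
      _ = m := by rw [hBRm, hsym]
  have hSminor : Minors p S := by
    have h1 := ((hminor.mul_left R).transpose).mul_left R
    rwa [Matrix.transpose_mul, hsym, ← Matrix.mul_assoc] at h1
  -- the determinant of the Gram matrix
  have hdetC : C.det ≠ 0 ∧ |C.det| ≤ (p : ℤ) := by
    have h := congrArg Matrix.det hCS
    rw [Matrix.det_mul, Matrix.det_smul, Matrix.det_one, mul_one, Fintype.card_fin] at h
    have hp0 : (p : ℤ) ≠ 0 := Int.natCast_ne_zero.2 hp.ne_zero
    refine ⟨fun h0 => pow_ne_zero r hp0 (by rw [← h, h0, zero_mul]), ?_⟩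
    rcases Nat.eq_zero_or_pos r with hr | hr
    · haveI : IsEmpty (Fin r) := by rw [hr]; infer_instance
      rw [Matrix.det_isEmpty, abs_one]
      exact_mod_cast hp.one_lt.le
    obtain ⟨e, he⟩ := pow_dvd_det hp hSminor
    have h' : C.det * e = (p : ℤ) := by
      refine mul_left_cancel₀ (pow_ne_zero (r - 1) hp0) ?_
      rw [← pow_succ, Nat.sub_add_cancel hr, ← h, he]
      ring
    exact Int.le_of_dvd (by exact_mod_cast hp.pos) ((abs_dvd _ _).2 ⟨e, h'.symm⟩)
  -- complex versions
  let cast : ℤ →+* ℂ := Int.castRingHom ℂ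
  let Bc : Matrix I (Fin r) ℂ := B.map cast
  let Cc : Matrix (Fin r) (Fin r) ℂ := C.map cast
  let Sc : Matrix (Fin r) (Fin r) ℂ := S.map cast
  let mc : Matrix I I ℂ := m.map cast
  have hmSc : Bc * Sc * Bcᵀ = mc := by
    have := congrArg (fun X : Matrix I I ℤ => X.map cast) hmS
    simp only [Matrix.map_mul, ← Matrix.transpose_map] at this
    exact this
  have hCSc : Cc * Sc = (p : ℂ) • 1 := by
    have := congrArg (fun X : Matrix (Fin r) (Fin r) ℤ => X.map cast) hCS
    simp only [Matrix.map_mul] at this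
    rw [this]
    ext i j
    rcases eq_or_ne i j with h | h <;> simp [cast, h, Matrix.natCast_apply]
  have hmBc : mc * Bc = (p : ℂ) • Bc := by
    have := congrArg (fun X : Matrix I (Fin r) ℤ => X.map cast) hmB
    simp only [Matrix.map_mul] at this
    rw [this]
    ext i j
    simp [Bc, cast]
  have hCdet : Cc.det = (C.det : ℂ) := (RingHom.map_det cast C).symm
  have hCc : Cc = Bcᵀ * Bc := by
    simp only [Cc, C, Matrix.map_mul, Bc, Matrix.transpose_map]
  have hnn : ∀ {J : Type _} [Fintype J] [DecidableEq J] (X : Matrix J (Fin r) ℂ) (f : Fin r → J),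
      ((X.map conj).submatrix f id).det = conj ((X.submatrix f id).det) := fun X f => by
    rw [RingHom.map_det]; rfl
  have hBreal : Bc.map conj = Bc := by
    ext i a; simp [Bc, cast]
  have hCB : (r.factorial : ℂ) * (C.det : ℂ) = ((∑ g : Fin r → I, ‖(Bc.submatrix g id).det‖ ^ 2 : ℝ) : ℂ) := by
    rw [← hCdet, hCc]
    conv_lhs => enter [2, 1, 1, 1]; rw [← hBreal]
    rw [cauchy_binet, Complex.ofReal_sum]
    refine Finset.sum_congr rfl fun g _ => ?_
    rw [hnn, Complex.conj_mul', Complex.ofReal_pow]
  have hCpos : 0 < C.det ∧ C.det ≤ p := by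
    refine ⟨lt_of_le_of_ne ?_ hdetC.1.symm, le_trans (le_abs_self _) hdetC.2⟩
    have h : (r.factorial : ℝ) * (C.det : ℝ) = ∑ g : Fin r → I, ‖(Bc.submatrix g id).det‖ ^ 2 :=
      Complex.ofReal_injective (by rw [Complex.ofReal_mul, Complex.ofReal_natCast, Complex.ofReal_intCast]; exact hCB)
    have : (0 : ℝ) ≤ (C.det : ℝ) := by
      refine nonneg_of_mul_nonneg_right ?_ (Nat.cast_pos.2 r.factorial_pos)
      rw [h]
      exact Finset.sum_nonneg fun g _ => sq_nonneg _
    exact_mod_cast this
  -- the forms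
  let L : (Fin r → Option I) → I → ℤ := fun f i =>
    (Matrix.of fun a : Fin r => (f a).elim (B i) fun j => B j).det
  let F : Finset (Fin r → Option I) := Finset.univ.filter fun f => ∃! a, f a = none
  refine ⟨r, F, L, ?_, fun n => ?_⟩
  · rw [show m.map (Int.cast : ℤ → ℂ) = mc from rfl, ← hmSc, Matrix.mul_assoc]
    exact (Matrix.rank_mul_le_left _ _).trans (Matrix.rank_le_card_width _ |>.trans (Fintype.card_fin r).le)
  set y : Fin r → ℂ := fun a => ∑ i, n i * Bc i a with hy
  let B' : Matrix (Option I) (Fin r) ℂ := Matrix.of fun o => o.elim y fun i => Bc i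
  have hform : ∀ f ∈ F, ∑ i, (L f i : ℂ) * n i = (B'.submatrix f id).det := by
    intro f hf
    obtain ⟨a, ha, huniq⟩ := (Finset.mem_filter.1 hf).2
    set M0 := B'.submatrix f id
    let v : I → Fin r → ℂ := fun i => Bc i
    have e1 : M0 = M0.updateRow a (∑ i, n i • v i) := by
      ext a' c
      by_cases h : a' = a
      · subst h
        rw [Matrix.updateRow_self]
        show (f a').elim y (fun i => Bc i) c = _
        rw [ha]
        simp [v, hy, Finset.sum_apply]
      · simp [h]
    rw [e1]
    let M0' : Fin r → Fin r → ℂ := fun a' c => M0 a' c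
    show _ = (Matrix.detRowAlternating : (Fin r → ℂ) [⋀^Fin r]→ₗ[ℂ] ℂ).toMultilinearMap
      (Function.update M0' a (∑ i, n i • v i))
    rw [MultilinearMap.map_update_sum]
    refine Finset.sum_congr rfl fun i _ => ?_
    rw [MultilinearMap.map_update_smul, smul_eq_mul, mul_comm]
    congr 1
    show (L f i : ℂ) = (Matrix.det (Matrix.updateRow M0 a (Bc i)))
    rw [show ((L f i : ℤ) : ℂ) = cast (L f i) from rfl, RingHom.map_det]
    congr 1
    ext a' c
    by_cases h : a' = a
    · subst h
      rw [Matrix.updateRow_self]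
      show cast ((f a').elim (B i) (fun i => B i) c) = _
      rw [ha]
      rfl
    · obtain ⟨j, hj⟩ := Option.ne_none_iff_exists'.1 fun e => h (huniq a' e)
      rw [Matrix.updateRow_ne h]
      show cast ((f a').elim (B i) (fun i => B i) c) = (f a').elim y (fun i => Bc i) c
      rw [hj]
      rfl
  set q : ℂ := ∑ i, ∑ j, n i * (m i j : ℂ) * conj (n j) with hq
  have hkey : (r.factorial : ℂ) * (C.det : ℂ) * q =
      (p : ℂ) * (((∑ f : Fin r → Option I, ‖(B'.submatrix f id).det‖ ^ 2) -
        ∑ g : Fin r → I, ‖(Bc.submatrix g id).det‖ ^ 2 : ℝ) : ℂ) := by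
    have hA' : (B'.map conj)ᵀ * B' =
        Cc + Matrix.replicateCol (Fin 1) (fun a => conj (y a)) * Matrix.replicateRow (Fin 1) y := by
      ext a c
      rw [hCc, Matrix.add_apply, Matrix.mul_apply, Matrix.mul_apply, Matrix.mul_apply, Fintype.sum_option,
        add_comm]
      congr 1
      · refine Finset.sum_congr rfl fun i _ => ?_
        show conj (Bc i a) * Bc i c = Bc i a * Bc i c
        rw [show conj (Bc i a) = Bc i a by simp [Bc, cast]]
      · rw [Fin.sum_univ_one]; rfl
    have hunit : IsUnit Cc.det := by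
      rw [hCdet]
      exact isUnit_iff_ne_zero.2 (Int.cast_ne_zero.2 hdetC.1)
    have hinv : Cc⁻¹ = (p : ℂ)⁻¹ • Sc := by
      refine Matrix.inv_eq_right_inv ?_
      rw [Matrix.mul_smul, hCSc, smul_smul, inv_mul_cancel₀ (Nat.cast_ne_zero.2 hp.ne_zero), one_smul]
    have hdet : ((B'.map conj)ᵀ * B').det = (C.det : ℂ) * (1 + (p : ℂ)⁻¹ * q) := by
      erw [hA', Matrix.det_add_replicateCol_mul_replicateRow hunit]
      rw [hCdet]
      congr 1
      letI : DecidableEq (Fin 1) := fun a b => decidableEq_of_subsingleton a b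
      refine (Matrix.det_eq_elem_of_subsingleton _ (0 : Fin 1)).trans ?_
      rw [Matrix.add_apply, Matrix.one_apply_eq, hinv, Matrix.mul_smul, Matrix.smul_mul, Matrix.smul_apply,
        smul_eq_mul]
      congr 2
      rw [Matrix.mul_apply]
      simp only [Matrix.mul_apply, Matrix.replicateRow_apply, Matrix.replicateCol_apply]
      calc ∑ c, (∑ a, y a * Sc a c) * conj (y c) = (y ᵥ* Sc) ⬝ᵥ (fun c => conj (y c)) := rfl
        _ = ((n ᵥ* Bc) ᵥ* Sc) ⬝ᵥ (Bcᵀ *ᵥ fun j => conj (n j)) := by
          have e1 : y = n ᵥ* Bc := funext fun a => rfl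
          have e2 : (fun c => conj (y c)) = Bcᵀ *ᵥ fun j => conj (n j) := funext fun a => by
            simp only [hy, map_sum, map_mul, Matrix.mulVec, dotProduct, Matrix.transpose_apply]
            refine Finset.sum_congr rfl fun j _ => ?_
            rw [show conj (Bc j a) = Bc j a by simp [Bc, cast], mul_comm]
          rw [e2, e1]
        _ = n ⬝ᵥ (mc *ᵥ fun j => conj (n j)) := by
          rw [Matrix.vecMul_vecMul, Matrix.dotProduct_mulVec, Matrix.vecMul_vecMul, Matrix.dotProduct_mulVec,
            hmSc]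
        _ = q := by
          simp only [hq, Matrix.mulVec, dotProduct, Finset.mul_sum, mc, cast, Matrix.map_apply, Int.coe_castRingHom,
            mul_assoc]
    have h1 := cauchy_binet (B'.map conj) B'
    rw [hdet] at h1
    rw [Complex.ofReal_sub, ← hCB, Complex.ofReal_sum,
      Finset.sum_congr rfl fun f _ => show ((‖(B'.submatrix f id).det‖ ^ 2 : ℝ) : ℂ) =
        ((B'.map conj).submatrix f id).det * (B'.submatrix f id).det by
        rw [hnn, Complex.conj_mul', Complex.ofReal_pow], ← h1]
    have hp0 : (p : ℂ) ≠ 0 := Nat.cast_ne_zero.2 hp.ne_zero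
    field_simp
    ring
  constructor
  · set T : ℝ := ∑ f ∈ F, ‖∑ i, (L f i : ℂ) * n i‖ ^ 2
    have hT : T + ∑ g : Fin r → I, ‖(Bc.submatrix g id).det‖ ^ 2 ≤
        ∑ f : Fin r → Option I, ‖(B'.submatrix f id).det‖ ^ 2 := by
      let emb : (Fin r → I) ↪ (Fin r → Option I) :=
        ⟨fun g => some ∘ g, fun g g' h => funext fun a => Option.some_injective _ (congrFun h a)⟩
      have hdisj : Disjoint F (Finset.univ.map emb) := by
        rw [Finset.disjoint_left]
        intro f hf hf'
        obtain ⟨g, -, rfl⟩ := Finset.mem_map.1 hf'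
        obtain ⟨a, ha, -⟩ := (Finset.mem_filter.1 hf).2
        exact Option.some_ne_none _ ha
      refine le_trans (le_of_eq ?_) (Finset.sum_le_univ_sum_of_nonneg (s := F ∪ Finset.univ.map emb)
        fun f => sq_nonneg _)
      rw [Finset.sum_union hdisj, Finset.sum_map]
      congr 1
      exact Finset.sum_congr rfl fun f hf => by rw [hform f hf]
    have h := congrArg Complex.re hkey
    rw [mul_assoc, Complex.mul_re, Complex.mul_re, Complex.mul_re, Complex.ofReal_re, Complex.ofReal_im] at h
    simp at h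
    have hq0 : (r.factorial : ℝ) * ((C.det : ℝ) * q.re) ≤ (p : ℝ) * ((r.factorial : ℝ) * q.re) := by
      have hCp : (C.det : ℝ) ≤ (p : ℝ) := by exact_mod_cast hCpos.2
      have hqre : 0 ≤ q.re := by
        have h0 : (0 : ℝ) ≤ (r.factorial : ℝ) * ((C.det : ℝ) * q.re) := by
          rw [h]
          refine mul_nonneg (Nat.cast_nonneg _) ?_
          have : 0 ≤ T := Finset.sum_nonneg fun f _ => sq_nonneg _
          linarith
        exact nonneg_of_mul_nonneg_right (nonneg_of_mul_nonneg_right h0 (Nat.cast_pos.2 r.factorial_pos))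
          (by exact_mod_cast hCpos.1)
      calc (r.factorial : ℝ) * ((C.det : ℝ) * q.re) ≤ (r.factorial : ℝ) * ((p : ℝ) * q.re) := by gcongr
        _ = _ := by ring
    rw [h] at hq0
    clear h hkey hform
    have hp0 : (0 : ℝ) < p := by exact_mod_cast hp.pos
    have := le_of_mul_le_mul_left hq0 hp0
    linarith
  · rintro ⟨i₁, hi₁⟩
    have hy0 : y ≠ 0 := by
      intro h
      refine hi₁ ?_
      have e : ∑ j, (m i₁ j : ℂ) * n j = (mc *ᵥ n) i₁ := by simp [Matrix.mulVec, dotProduct, mc, cast]
      rw [e, ← hmSc, ← Matrix.mulVec_mulVec, show Bcᵀ *ᵥ n = y from funext fun a => by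
        show ∑ j, Bc j a * n j = ∑ i, n i * Bc i a
        exact Finset.sum_congr rfl fun j _ => mul_comm _ _, h, Matrix.mulVec_zero, Pi.zero_apply]
    obtain ⟨g, hg⟩ : ∃ g : Fin r → I, (Bc.submatrix g id).det ≠ 0 := by
      by_contra! hcon
      have h0 : (r.factorial : ℂ) * (C.det : ℂ) = 0 := by
        rw [hCB]; simp [hcon]
      exact mul_ne_zero (Nat.cast_ne_zero.2 r.factorial_ne_zero) (Int.cast_ne_zero.2 hdetC.1) h0
    set M1 := Bc.submatrix g id with hM1
    set c : Fin r → ℂ := y ᵥ* M1⁻¹ with hc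
    have hcy : y = ∑ a, c a • M1 a := by
      have : c ᵥ* M1 = y := by
        rw [hc, Matrix.vecMul_vecMul, Matrix.nonsing_inv_mul _ (isUnit_iff_ne_zero.2 hg), Matrix.vecMul_one]
      rw [← this]
      funext b
      simp [Matrix.vecMul, dotProduct, Finset.sum_apply]
    obtain ⟨a0, ha0⟩ : ∃ a, c a ≠ 0 := by
      by_contra! hcon
      exact hy0 (by rw [hcy]; simp [hcon])
    set f0 : Fin r → Option I := Function.update (some ∘ g) a0 none with hf0
    have hf0det : (B'.submatrix f0 id).det ≠ 0 := by
      have e : B'.submatrix f0 id = M1.updateRow a0 (∑ a, c a • M1 a) := by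
        ext a b
        by_cases h : a = a0
        · subst h; simp [hf0, B', ← hcy]
        · simp [hf0, B', h, hM1]
      rw [e, Matrix.det_updateRow_sum, smul_eq_mul]
      exact mul_ne_zero ha0 hg
    have hex : ∀ i : Fin r, ∃ f : Fin r → Option I, (B'.submatrix f id).det ≠ 0 ∧ f a0 = none ∧
        (∀ a, a ≠ a0 → f a ≠ none) ∧ (∀ a, a ≠ i → f a = f0 a) ∧ (i ≠ a0 → f i ≠ f0 i) := by
      intro i
      have hsome : ∀ a, a ≠ a0 → f0 a = some (g a) := fun a ha => by simp [hf0, ha]
      by_cases hi : i = a0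
      · refine ⟨f0, hf0det, by simp [hf0], fun a ha => by simp [hsome a ha], fun _ _ => rfl,
          fun h => absurd hi h⟩
      · set M0 := B'.submatrix f0 id with hM0
        obtain ⟨e, he, hdet⟩ : ∃ e, e ≠ g i ∧ (M0.updateRow i (Bc e)).det ≠ 0 := by
          by_contra! hcon
          let ψ : (Fin r → ℂ) →ₗ[ℂ] ℂ :=
            (Matrix.detRowAlternating : (Fin r → ℂ) [⋀^Fin r]→ₗ[ℂ] ℂ).toMultilinearMap.toLinearMap M0 i
          have hψ : ∀ v, ψ v = (M0.updateRow i v).det := fun v => rfl
          have hψdot : ∀ v, ψ v = ∑ b, v b * ψ (fun b' => if b = b' then 1 else 0) := fun v => by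
            conv_lhs => rw [pi_eq_sum_univ v]
            simp [map_sum]
          set w : I → ℂ := fun j => ψ (Bc j) with hw
          have hw' : w = Bc *ᵥ fun b => ψ (fun b' => if b = b' then 1 else 0) := funext fun j => hψdot _
          have hwm : mc *ᵥ w = (p : ℂ) • w := by
            rw [hw', Matrix.mulVec_mulVec, hmBc, Matrix.smul_mulVec]
          have hwe : w (g i) ≠ 0 := by
            rw [hw]
            show ψ (Bc (g i)) ≠ 0
            rw [hψ, show Bc (g i) = M0 i from funext fun b => by simp [hM0, hsome i hi, B'],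
              Matrix.updateRow_eq_self]
            exact hf0det
          have h3 := congrFun hwm (g i)
          rw [Matrix.mulVec, dotProduct, Finset.sum_eq_single (g i) (fun j _ hj => by
            show mc (g i) j * ψ (Bc j) = 0
            rw [hψ, hcon j hj, mul_zero]) (by simp), Pi.smul_apply, smul_eq_mul] at h3
          have h4 := mul_right_cancel₀ hwe h3
          simp [mc, cast] at h4
          exact hdiag (g i) (by exact_mod_cast h4)
        refine ⟨Function.update f0 i (some e), ?_, by simp [Ne.symm hi, hf0], fun a ha => ?_,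
          fun a ha => by simp [ha], fun _ => by simp [hsome i hi, he]⟩
        · have : B'.submatrix (Function.update f0 i (some e)) id = M0.updateRow i (Bc e) := by
            ext a b
            by_cases h : a = i
            · subst h; simp [B']
            · simp [hM0, h]
          rwa [this]
        · by_cases h : a = i
          · subst h; simp
          · simp [h, hsome a ha]
    choose f hfdet hfa hfn hfeq hfne using hex
    have hinj : ∀ i, Function.Injective (f i) := fun i a b hab => by
      by_contra hne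
      exact hfdet i (Matrix.det_zero_of_row_eq hne (funext fun c => by simp [hab]))
    have hinj0 : Function.Injective f0 := fun a b hab => by
      by_contra hne
      exact hf0det (Matrix.det_zero_of_row_eq hne (funext fun c => by simp [hab]))
    have hsep : ∀ i j, i ≠ j → i ≠ a0 → Set.range (f i) ≠ Set.range (f j) := by
      intro i j hij hi h
      have h1 : f0 i ∈ Set.range (f j) := ⟨i, hfeq j i hij⟩
      rw [← h] at h1
      obtain ⟨a, ha⟩ := h1
      by_cases hai : a = i
      · exact hfne i hi (hai ▸ ha)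
      · rw [hfeq i a hai] at ha
        exact hai (hinj0 ha)
    have hcard := Finset.card_le_card_of_injOn
      (s := (Finset.univ : Finset (Fin r × Equiv.Perm (Fin r))))
      (t := F.filter fun f => ∑ i, (L f i : ℂ) * n i ≠ 0)
      (fun x => f x.1 ∘ x.2) ?_ ?_
    · simpa [Fintype.card_perm] using hcard
    · rintro ⟨i, σ⟩ -
      have hF : f i ∘ σ ∈ F := by
        refine Finset.mem_filter.2 ⟨Finset.mem_univ _, σ.symm a0, by simp [hfa], fun a ha => ?_⟩
        have : σ a = a0 := by
          by_contra h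
          exact hfn i _ h ha
        rw [← this, Equiv.symm_apply_apply]
      refine Finset.mem_filter.2 ⟨hF, ?_⟩
      show ∑ k, (L (f i ∘ σ) k : ℂ) * n k ≠ 0
      rw [hform _ hF, show B'.submatrix (f i ∘ σ) id = (B'.submatrix (f i) id).submatrix σ id from rfl,
        Matrix.det_permute]
      exact mul_ne_zero (Int.cast_ne_zero.2 (Units.ne_zero _)) (hfdet i)
    · rintro ⟨i, σ⟩ - ⟨j, τ⟩ - h
      simp only at h
      have hr : Set.range (f i) = Set.range (f j) := by
        have := congrArg Set.range h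
        simpa [Set.range_comp] using this
      have hij : i = j := by
        by_contra hne
        rcases eq_or_ne i a0 with hi | hi
        · exact hsep j i (Ne.symm hne) (fun e => hne (hi.trans e.symm)) hr.symm
        · exact hsep i j hne hi hr
      subst hij
      refine Prod.ext rfl (Equiv.ext fun a => hinj i ?_)
      exact congrFun h a

end CfsgLib.RankOneForm
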