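import Cfsg.Agent.Blk.SmallDefect

/-!
A major subsection whose block has regular rank at most two: `k(B) ≤ p^d`.
-/

set_option autoImplicit false
set_option linter.style.haveILetI false
set_option linter.unusedSectionVars false
set_option maxHeartbeats 1000000

namespace CfsgLib.RankTwoBound

open Cfsg CfsgLib.Char CfsgLib.Blk CfsgLib.SectionSplit CfsgLib.Contribution CfsgLib.SmallDefect
open scoped CfsgLib.Char ComplexConjugate Matrix

universe u

/-- The lattice of a scaled integral idempotent. -/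
theorem exists_lattice {I : Type*} [Fintype I] [DecidableEq I] {q : ℕ} (hq : q ≠ 0) (m : Matrix I I ℤ)
    (hsym : mᵀ = m) (hidem : m * m = (q : ℤ) • m) :
    ∃ (r : ℕ) (B : Matrix I (Fin r) ℤ) (R : Matrix (Fin r) I ℤ),
      B * (R * m * Rᵀ) * Bᵀ = m ∧ Bᵀ * B * (R * m * Rᵀ) = (q : ℤ) • 1 ∧
        r ≤ (m.map (Int.cast : ℤ → ℂ)).rank := by
  classical
  let φ : (I → ℤ) →ₗ[ℤ] (I → ℤ) := m.mulVecLin - (q : ℤ) • LinearMap.id
  have hmemΛ : ∀ v, v ∈ LinearMap.ker φ ↔ m *ᵥ v = (q : ℤ) • v := fun v => by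
    simp [φ, LinearMap.mem_ker, sub_eq_zero]
  let r := Module.finrank ℤ (LinearMap.ker φ)
  let b : Module.Basis (Fin r) ℤ (LinearMap.ker φ) := Module.finBasis ℤ _
  obtain ⟨sec, hsec⟩ := Module.projective_lifting_property φ.rangeRestrict LinearMap.id
    φ.surjective_rangeRestrict
  let P0 : (I → ℤ) →ₗ[ℤ] LinearMap.ker φ :=
    (LinearMap.id - sec ∘ₗ φ.rangeRestrict).codRestrict _ fun v => by
      have h1 := congrArg Subtype.val (LinearMap.congr_fun hsec (φ.rangeRestrict v))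
      simp only [LinearMap.comp_apply, LinearMap.id_apply] at h1
      rw [LinearMap.mem_ker]
      show φ (v - sec (φ.rangeRestrict v)) = 0
      rw [map_sub, sub_eq_zero]
      exact h1.symm
  have hP0 : ∀ x : LinearMap.ker φ, P0 x = x := fun x => by
    have h0 : φ.rangeRestrict (x : I → ℤ) = 0 := Subtype.ext (LinearMap.mem_ker.1 x.2)
    exact Subtype.ext (by simp [P0, h0])
  let R0 : (I → ℤ) →ₗ[ℤ] (Fin r → ℤ) := b.equivFun.toLinearMap ∘ₗ P0
  let B : Matrix I (Fin r) ℤ := Matrix.of fun i a => (b a : I → ℤ) i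
  let R : Matrix (Fin r) I ℤ := LinearMap.toMatrix' R0
  have hBv : ∀ c : Fin r → ℤ, B *ᵥ c = ((b.equivFun.symm c : LinearMap.ker φ) : I → ℤ) := by
    intro c
    funext i
    rw [Module.Basis.equivFun_symm_apply, Submodule.coe_sum, Finset.sum_apply]
    simp [B, Matrix.mulVec, dotProduct, mul_comm]
  have hRv : ∀ v, R *ᵥ v = R0 v := fun v => LinearMap.toMatrix'_mulVec R0 v
  have hRB : R * B = 1 := by
    refine Matrix.ext_iff_mulVec.2 fun c => ?_
    rw [← Matrix.mulVec_mulVec, hBv, hRv, Matrix.one_mulVec]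
    simp only [R0, LinearMap.comp_apply, hP0, LinearEquiv.coe_coe, LinearEquiv.apply_symm_apply]
  have hBR : ∀ v, v ∈ LinearMap.ker φ → B *ᵥ (R *ᵥ v) = v := fun v hv => by
    rw [hRv, hBv]
    simp [R0, hP0 ⟨v, hv⟩]
  have hmB : m * B = (q : ℤ) • B := by
    refine Matrix.ext_iff_mulVec.2 fun c => ?_
    rw [← Matrix.mulVec_mulVec, Matrix.smul_mulVec, hBv]
    exact (hmemΛ _).1 (Subtype.coe_prop _)
  have hBRm : B * R * m = m := by
    refine Matrix.ext_iff_mulVec.2 fun v => ?_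
    rw [← Matrix.mulVec_mulVec, ← Matrix.mulVec_mulVec]
    refine hBR _ ((hmemΛ _).2 ?_)
    rw [Matrix.mulVec_mulVec, hidem, Matrix.smul_mulVec]
  have hBtm : Bᵀ * m = (q : ℤ) • Bᵀ := by
    have := congrArg Matrix.transpose hmB
    rwa [Matrix.transpose_mul, hsym, Matrix.transpose_smul] at this
  refine ⟨r, B, R, ?_, ?_, ?_⟩
  · calc B * (R * m * Rᵀ) * Bᵀ = (B * R * m) * (Rᵀ * Bᵀ) := by simp only [Matrix.mul_assoc]
      _ = m * (Rᵀ * Bᵀ) := by rw [hBRm]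
      _ = (B * R * m)ᵀ := by rw [Matrix.transpose_mul, Matrix.transpose_mul, hsym]
      _ = m := by rw [hBRm, hsym]
  · calc Bᵀ * B * (R * m * Rᵀ) = Bᵀ * (B * R * m) * Rᵀ := by simp only [Matrix.mul_assoc]
      _ = (q : ℤ) • (R * B)ᵀ := by rw [hBRm, hBtm, Matrix.smul_mul, Matrix.transpose_mul]
      _ = _ := by rw [hRB, Matrix.transpose_one]
  · let cast : ℤ →+* ℂ := Int.castRingHom ℂ
    have h1 : (R.map cast) * ((m.map cast) * (B.map cast)) = (q : ℂ) • (1 : Matrix (Fin r) (Fin r) ℂ) := by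
      rw [← Matrix.map_mul, ← Matrix.map_mul, hmB, Matrix.mul_smul, hRB]
      ext i j
      rcases eq_or_ne i j with h | h <;> simp [cast, h, Matrix.natCast_apply]
    have h2 : ((q : ℂ)⁻¹ • R.map cast) * ((m.map cast) * (B.map cast)) = 1 := by
      rw [Matrix.smul_mul, h1, smul_smul, inv_mul_cancel₀ (Nat.cast_ne_zero.2 hq), one_smul]
    calc r = (1 : Matrix (Fin r) (Fin r) ℂ).rank := by rw [Matrix.rank_one, Fintype.card_fin]
      _ ≤ ((m.map cast) * (B.map cast)).rank := by rw [← h2]; exact Matrix.rank_mul_le_right _ _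
      _ ≤ _ := Matrix.rank_mul_le_left _ _

/-- A reduced integral binary form. -/
theorem exists_reduced {I : Type*} [Fintype I] [DecidableEq I] {q : ℕ} (hq : q ≠ 0) {m : Matrix I I ℤ}
    (B : Matrix I (Fin 2) ℤ) (S : Matrix (Fin 2) (Fin 2) ℤ) (hS : Sᵀ = S) (hm : B * S * Bᵀ = m)
    (hCS : Bᵀ * B * S = (q : ℤ) • 1) :
    ∃ (U : Matrix (Fin 2) (Fin 2) ℤ) (N : Matrix (Fin 2) I ℤ), Nᵀ * (Uᵀ * S * U) * N = m ∧
      0 < (Uᵀ * S * U) 0 0 ∧ 0 < (Uᵀ * S * U) 1 1 ∧ 2 * |(Uᵀ * S * U) 0 1| ≤ (Uᵀ * S * U) 0 0 ∧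
      2 * |(Uᵀ * S * U) 0 1| ≤ (Uᵀ * S * U) 1 1 := by
  classical
  have hpos : ∀ v : Fin 2 → ℤ, v ≠ 0 → 0 < v ⬝ᵥ (S *ᵥ v) := by
    intro v hv
    have e : (q : ℤ) * (v ⬝ᵥ (S *ᵥ v)) = (B *ᵥ (S *ᵥ v)) ⬝ᵥ (B *ᵥ (S *ᵥ v)) := by
      have h1 : S * (Bᵀ * B * S) = S * ((q : ℤ) • 1) := by rw [hCS]
      rw [Matrix.mul_smul, Matrix.mul_one] at h1
      have h2 : (B * S)ᵀ * (B * S) = (q : ℤ) • S := by
        rw [Matrix.transpose_mul, hS, ← h1]; simp only [Matrix.mul_assoc]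
      calc (q : ℤ) * (v ⬝ᵥ (S *ᵥ v)) = v ⬝ᵥ (((B * S)ᵀ * (B * S)) *ᵥ v) := by
            rw [h2, Matrix.smul_mulVec, dotProduct_smul, smul_eq_mul]
        _ = _ := by
          rw [← Matrix.mulVec_mulVec, Matrix.dotProduct_mulVec, Matrix.vecMul_transpose, Matrix.mulVec_mulVec]
    have hw : B *ᵥ (S *ᵥ v) ≠ 0 := fun h => hv (by
      have h3 : (Bᵀ * B * S) *ᵥ v = 0 := by
        rw [← Matrix.mulVec_mulVec, ← Matrix.mulVec_mulVec, h, Matrix.mulVec_zero]
      rw [hCS, Matrix.smul_mulVec, Matrix.one_mulVec] at h3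
      exact (smul_eq_zero.1 h3).resolve_left (Int.natCast_ne_zero.2 hq))
    have h0 : 0 < (B *ᵥ (S *ᵥ v)) ⬝ᵥ (B *ᵥ (S *ᵥ v)) := by
      refine lt_of_le_of_ne (Finset.sum_nonneg fun i _ => mul_self_nonneg _) fun h => hw ?_
      funext i
      exact mul_self_eq_zero.1 ((Finset.sum_eq_zero_iff_of_nonneg fun i _ => mul_self_nonneg _).1 h.symm i
        (Finset.mem_univ i))
    rw [← e] at h0
    exact pos_of_mul_pos_right h0 (Int.natCast_nonneg q)
  let T : Matrix (Fin 2) (Fin 2) ℤ → Matrix (Fin 2) (Fin 2) ℤ := fun U => Uᵀ * S * U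
  have hdiag : ∀ U V : Matrix (Fin 2) (Fin 2) ℤ, V * U = 1 → ∀ a, 0 < T U a a := by
    intro U V hVU a
    have hne : (fun i => U i a) ≠ 0 := fun h => by
      have h1 := congrFun (congrFun hVU a) a
      rw [Matrix.mul_apply, Matrix.one_apply_eq] at h1
      simp [fun i => congrFun h i] at h1
    have := hpos _ hne
    convert this using 1
    simp [T, Matrix.mul_apply, Matrix.mulVec, dotProduct, Fin.sum_univ_two]
    ring
  let P : ℕ → Prop := fun k => ∃ U V : Matrix (Fin 2) (Fin 2) ℤ, U * V = 1 ∧ V * U = 1 ∧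
    T U 0 0 + T U 1 1 = (k : ℤ)
  have hP : ∃ k, P k := by
    refine ⟨(T 1 0 0 + T 1 1 1).toNat, 1, 1, one_mul 1, one_mul 1, ?_⟩
    rw [Int.toNat_of_nonneg (by linarith [hdiag 1 1 (one_mul 1) 0, hdiag 1 1 (one_mul 1) 1])]
  obtain ⟨U, V, hUV, hVU, hk⟩ := Nat.find_spec hP
  have hmin : ∀ U' V' : Matrix (Fin 2) (Fin 2) ℤ, U' * V' = 1 → V' * U' = 1 →
      T U 0 0 + T U 1 1 ≤ T U' 0 0 + T U' 1 1 := by
    intro U' V' h1 h2
    have h0 : 0 ≤ T U' 0 0 + T U' 1 1 := by linarith [hdiag U' V' h2 0, hdiag U' V' h2 1]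
    have h3 := Nat.find_min' hP (m := (T U' 0 0 + T U' 1 1).toNat) ⟨U', V', h1, h2, (Int.toNat_of_nonneg h0).symm⟩
    rw [hk]
    calc ((Nat.find hP : ℕ) : ℤ) ≤ ((T U' 0 0 + T U' 1 1).toNat : ℤ) := by exact_mod_cast h3
      _ = _ := Int.toNat_of_nonneg h0
  have hmove : ∀ E E' : Matrix (Fin 2) (Fin 2) ℤ, E * E' = 1 → E' * E = 1 →
      T U 0 0 + T U 1 1 ≤ (Eᵀ * T U * E) 0 0 + (Eᵀ * T U * E) 1 1 := by
    intro E E' h1 h2
    have h := hmin (U * E) (E' * V)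
      (by rw [Matrix.mul_assoc, ← Matrix.mul_assoc E, h1, Matrix.one_mul, hUV])
      (by rw [Matrix.mul_assoc, ← Matrix.mul_assoc V, hVU, Matrix.one_mul, h2])
    convert h using 2 <;> simp only [T, Matrix.transpose_mul, Matrix.mul_assoc]
  have hTsym : T U 1 0 = T U 0 1 := by
    have : (T U)ᵀ = T U := by simp only [T, Matrix.transpose_mul, Matrix.transpose_transpose, hS, Matrix.mul_assoc]
    exact congrFun (congrFun this 0) 1
  have e11 := hmove !![1, 0; 1, 1] !![1, 0; -1, 1] (by simp [Matrix.one_fin_two]) (by simp [Matrix.one_fin_two])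
  have e12 := hmove !![1, 0; -1, 1] !![1, 0; 1, 1] (by simp [Matrix.one_fin_two]) (by simp [Matrix.one_fin_two])
  have e21 := hmove !![1, 1; 0, 1] !![1, -1; 0, 1] (by simp [Matrix.one_fin_two]) (by simp [Matrix.one_fin_two])
  have e22 := hmove !![1, -1; 0, 1] !![1, 1; 0, 1] (by simp [Matrix.one_fin_two]) (by simp [Matrix.one_fin_two])
  simp [Matrix.mul_apply, Fin.sum_univ_two, hTsym] at e11 e12 e21 e22
  refine ⟨U, V * Bᵀ, ?_, hdiag U V hVU 0, hdiag U V hVU 1, ?_, ?_⟩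
  · calc (V * Bᵀ)ᵀ * (Uᵀ * S * U) * (V * Bᵀ) = B * ((U * V)ᵀ * S * (U * V)) * Bᵀ := by
          simp only [Matrix.transpose_mul, Matrix.transpose_transpose, Matrix.mul_assoc]
      _ = m := by rw [hUV, Matrix.transpose_one, Matrix.one_mul, Matrix.mul_one, hm]
  · show 2 * |T U 0 1| ≤ T U 0 0
    rcases abs_cases (T U 0 1) with ⟨h, -⟩ | ⟨h, -⟩ <;> rw [h] <;> linarith
  · show 2 * |T U 0 1| ≤ T U 1 1
    rcases abs_cases (T U 0 1) with ⟨h, -⟩ | ⟨h, -⟩ <;> rw [h] <;> linarith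

/-- The first diagonal weight of a two-term idempotent. -/
theorem weight_le {J : Type*} [Fintype J] (A X : J → ℂ) (α β q : ℝ) (hα : 0 ≤ α) (hβ : 0 ≤ β) (hq : 0 ≤ q)
    (h : ∀ χ χ'', ∑ χ', ((α : ℂ) * A χ * conj (A χ') + (β : ℂ) * X χ * conj (X χ')) *
      ((α : ℂ) * A χ' * conj (A χ'') + (β : ℂ) * X χ' * conj (X χ'')) =
      (q : ℂ) * ((α : ℂ) * A χ * conj (A χ'') + (β : ℂ) * X χ * conj (X χ''))) :
    α * ∑ χ, ‖A χ‖ ^ 2 ≤ q := by
  classical
  set w : ℝ := ∑ χ, ‖A χ‖ ^ 2 with hw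
  set v : ℝ := ∑ χ, ‖X χ‖ ^ 2 with hv
  set c : ℂ := ∑ χ, conj (A χ) * X χ with hc
  have hwC : ∑ χ, conj (A χ) * A χ = (w : ℂ) := by
    rw [hw, Complex.ofReal_sum]
    exact Finset.sum_congr rfl fun χ _ => by rw [Complex.conj_mul', Complex.ofReal_pow]
  have hvC : ∑ χ, conj (X χ) * X χ = (v : ℂ) := by
    rw [hv, Complex.ofReal_sum]
    exact Finset.sum_congr rfl fun χ _ => by rw [Complex.conj_mul', Complex.ofReal_pow]
  have hcc : ∑ χ, conj (X χ) * A χ = conj c := by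
    rw [hc, map_sum]
    exact Finset.sum_congr rfl fun χ _ => by rw [map_mul, Complex.conj_conj, mul_comm]
  have h1 := congrArg (fun f : J → J → ℂ => ∑ χ, ∑ χ'', conj (A χ) * f χ χ'' * A χ'')
    (funext fun χ => funext fun χ'' => h χ χ'')
  beta_reduce at h1
  have hL : ∑ χ, ∑ χ'', conj (A χ) * (∑ χ', ((α : ℂ) * A χ * conj (A χ') + (β : ℂ) * X χ * conj (X χ')) *
      ((α : ℂ) * A χ' * conj (A χ'') + (β : ℂ) * X χ' * conj (X χ''))) * A χ'' =
      ∑ χ', ((α : ℂ) * w * conj (A χ') + (β : ℂ) * c * conj (X χ')) *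
        ((α : ℂ) * A χ' * w + (β : ℂ) * X χ' * conj c) := by
    simp only [Finset.mul_sum, Finset.sum_mul]
    rw [Finset.sum_congr rfl fun χ _ => Finset.sum_comm, Finset.sum_comm]
    refine Finset.sum_congr rfl fun χ' _ => ?_
    rw [← hwC, ← hcc, hc]
    simp only [Finset.mul_sum, Finset.sum_mul, mul_add, add_mul, ← Finset.sum_add_distrib]
    rw [Finset.sum_comm]
    exact Finset.sum_congr rfl fun _ _ => Finset.sum_congr rfl fun _ _ => by ring
  have hR : ∑ χ, ∑ χ'', conj (A χ) * ((q : ℂ) * ((α : ℂ) * A χ * conj (A χ'') + (β : ℂ) * X χ * conj (X χ''))) * A χ'' =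
      (q : ℂ) * ((α : ℂ) * w * w + (β : ℂ) * (c * conj c)) := by
    rw [← hwC, ← hcc, hc]
    simp only [Finset.mul_sum, Finset.sum_mul, mul_add, add_mul, ← Finset.sum_add_distrib]
    rw [Finset.sum_comm]
    exact Finset.sum_congr rfl fun _ _ => Finset.sum_congr rfl fun _ _ => by ring
  have hL2 : ∑ χ', ((α : ℂ) * w * conj (A χ') + (β : ℂ) * c * conj (X χ')) *
        ((α : ℂ) * A χ' * w + (β : ℂ) * X χ' * conj c) =
      (α : ℂ) ^ 2 * w ^ 2 * w + 2 * (α : ℂ) * β * w * (c * conj c) + (β : ℂ) ^ 2 * (c * conj c) * v := by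
    calc _ = (α : ℂ) ^ 2 * w ^ 2 * ∑ χ', conj (A χ') * A χ' + (α : ℂ) * β * w * conj c * ∑ χ', conj (A χ') * X χ' +
        (α : ℂ) * β * w * c * ∑ χ', conj (X χ') * A χ' + (β : ℂ) ^ 2 * (c * conj c) * ∑ χ', conj (X χ') * X χ' := by
          simp only [Finset.mul_sum, ← Finset.sum_add_distrib]
          exact Finset.sum_congr rfl fun _ _ => by ring
      _ = _ := by rw [hwC, hvC, hcc, ← hc]; ring
  rw [hL, hR, hL2, Complex.mul_conj'] at h1
  have h2 : α ^ 2 * w ^ 2 * w + 2 * α * β * w * ‖c‖ ^ 2 + β ^ 2 * ‖c‖ ^ 2 * v =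
      q * (α * w * w + β * ‖c‖ ^ 2) := by
    refine Complex.ofReal_injective ?_
    push_cast
    exact h1
  by_contra hlt
  push Not at hlt
  have hw0 : 0 ≤ w := Finset.sum_nonneg fun _ _ => sq_nonneg _
  have hv0 : 0 ≤ v := Finset.sum_nonneg fun _ _ => sq_nonneg _
  have hαw : 0 < α * w := lt_of_le_of_lt hq hlt
  have hw1 : 0 < w := by
    rcases hw0.eq_or_lt with h0 | h0
    · rw [← h0, mul_zero] at hαw; exact absurd hαw (lt_irrefl _)
    · exact h0
  have e1 : 0 < w * (α * w) * (α * w - q) := mul_pos (mul_pos hw1 hαw) (by linarith)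
  have e2 : 0 ≤ β * ‖c‖ ^ 2 * (2 * (α * w) + β * v - q) :=
    mul_nonneg (mul_nonneg hβ (sq_nonneg _)) (by nlinarith [mul_nonneg hβ hv0])
  nlinarith

section setting

variable {M : Ideal AlgInt} [M.IsPrime] {p : ℕ} [Fact p.Prime]

theorem inv_unit {x : ℂ} (hx : x ∈ locRing M) (h : ¬ MemLocalIdeal M x) :
    x⁻¹ ∈ locRing M ∧ ¬ MemLocalIdeal M x⁻¹ := by
  obtain ⟨v, hv⟩ := (isUnit_loc_iff (⟨x, hx⟩ : locRing M)).2 h
  have e : (((v⁻¹ : (locRing M)ˣ) : locRing M) : ℂ) = x⁻¹ := by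
    refine eq_inv_of_mul_eq_one_left ?_
    have := congrArg Subtype.val v.inv_mul
    rw [hv] at this
    exact this
  rw [← e]
  exact ⟨Subtype.coe_prop _, (isUnit_loc_iff _).1 (Units.isUnit _)⟩

theorem unit_mul {x y : ℂ} (hx : x ∈ locRing M) (hy : y ∈ locRing M) (h : ¬ MemLocalIdeal M x)
    (h' : ¬ MemLocalIdeal M y) : ¬ MemLocalIdeal M (x * y) := by
  rw [← red_eq_zero_iff (mul_mem hx hy), red_mul hx hy, mul_eq_zero, red_eq_zero_iff hx, red_eq_zero_iff hy]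
  tauto

theorem aeval_integral {N : ℕ} (hN : N ≠ 0) {ζ : ℂ} (hζ : ζ ∈ primitiveRoots N ℂ) (P : Polynomial ℤ) :
    Polynomial.aeval ζ P ∈ locRing M ∧ conj (Polynomial.aeval ζ P) ∈ locRing M := by
  have h1 : IsIntegral ℤ ζ :=
    ((mem_primitiveRoots (Nat.pos_of_ne_zero hN)).1 hζ).isIntegral (Nat.pos_of_ne_zero hN)
  have h2 : IsIntegral ℤ (Polynomial.aeval ζ P) := by
    rw [Polynomial.aeval_eq_sum_range]
    exact IsIntegral.sum _ fun i _ => (h1.pow i).smul _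
  exact ⟨integral_mem h2, integral_mem (h2.map (starRingEnd ℂ).toIntAlgHom)⟩

variable {G : Type u} [Group G] [Fintype G] {z : G} {H : Subgroup G} [Fintype H]
  {b : Set (IrrCharacter H)} {B : Set (IrrCharacter G)} {k : ℕ}
  (hM : IsPModular p M) (hH : Subgroup.centralizer ({z} : Set G) = H) (hk : orderOf z = p ^ k)
  (hind : IsInducedBlock M H b B) (hd : blockDefect p b = blockDefect p B)
include hM hH hk hind hd

theorem mm_facts {j : ℕ} (hj : j.Coprime (orderOf z)) {χ ψ : IrrCharacter G} (hχ : χ ∈ B) (hψ : ψ ∈ B)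
    (h0 : blockHeight p B (ψ : G → ℂ) = 0) :
    (∃ x ∈ locRing M, ¬ MemLocalIdeal M x ∧
        mm p (z ^ j) H b χ ψ = (p : ℂ) ^ blockHeight p B (χ : G → ℂ) * x) ∧
      mm p (z ^ j) H b χ χ ≠ 0 := by
  have hu : ∃ k : ℕ, orderOf (z ^ j) = p ^ k := ⟨k, (Nat.Coprime.orderOf_pow hj.symm).trans hk⟩
  have hH' : Subgroup.centralizer ({z ^ j} : Set G) = H := (centralizer_pow hj).trans hH
  obtain ⟨hmaj, -⟩ := mm_major hM hu hH' hind hd hχ hψ h0
  refine ⟨hmaj, fun h => ?_⟩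
  obtain ⟨x, hx, hxu, hxe⟩ := hmaj
  have h1 := mm_idem hM hu hH' hind.1 χ χ
  rw [h, mul_zero] at h1
  have h6 : ∑ χ' : IrrCharacter G, ‖mm p (z ^ j) H b χ χ'‖ ^ 2 = 0 := by
    refine Complex.ofReal_injective ?_
    push_cast
    rw [← h1]
    refine Finset.sum_congr rfl fun χ' _ => ?_
    rw [← conj_mm b χ χ', Complex.mul_conj']
  have h5 : mm p (z ^ j) H b χ ψ = 0 := by
    simpa using (Finset.sum_eq_zero_iff_of_nonneg fun _ _ => sq_nonneg _).1 h6 ψ (Finset.mem_univ _)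
  rw [h5] at hxe
  exact mul_ne_zero (pow_ne_zero _ prime_cast_ne_zero) (fun e0 => hxu (by rw [e0]; exact memLocalIdeal_zero)) hxe.symm

/-- The decomposable case: `mm = A Ā + β X X̄` with `p ∣ β`. -/
theorem card_le_of_diag (β : ℕ) (hβ : p ∣ β) (A X : IrrCharacter G → Polynomial ℤ)
    (hmm : ∀ ζ ∈ primitiveRoots (orderOf z) ℂ, ∃ j : ℕ, j.Coprime (orderOf z) ∧ ∀ χ χ',
      mm p (z ^ j) H b χ χ' = Polynomial.aeval ζ (A χ) * conj (Polynomial.aeval ζ (A χ')) +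
        (β : ℂ) * Polynomial.aeval ζ (X χ) * conj (Polynomial.aeval ζ (X χ'))) :
    Nat.card B ≤ p ^ blockDefect p B := by
  classical
  have hB : IsPBlock M B := hind.2.1
  have hp : p.Prime := Fact.out
  set N := orderOf z with hN
  have hN0 : N ≠ 0 := (orderOf_pos z).ne'
  set R := primitiveRoots N ℂ with hR
  obtain ⟨ζ₀, hζ₀⟩ : ∃ ζ, ζ ∈ R :=
    ⟨_, (mem_primitiveRoots (Nat.pos_of_ne_zero hN0)).2 (Complex.isPrimitiveRoot_exp N hN0)⟩
  have hpr : ∀ ζ ∈ R, IsPrimitiveRoot ζ N := fun ζ hζ => (mem_primitiveRoots (Nat.pos_of_ne_zero hN0)).1 hζ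
  set q : ℝ := (p : ℝ) ^ blockDefect p B with hq
  have hq0 : 0 ≤ q := by positivity
  have hwt : ∀ ζ ∈ R, (∑ χ ∈ B.toFinset, ‖Polynomial.aeval ζ (A χ)‖ ^ 2 ≤ q) ∧
      (β : ℝ) * ∑ χ ∈ B.toFinset, ‖Polynomial.aeval ζ (X χ)‖ ^ 2 ≤ q := by
    intro ζ hζ
    obtain ⟨j, hj, hm⟩ := hmm ζ hζ
    have hu : ∃ k : ℕ, orderOf (z ^ j) = p ^ k := ⟨k, (Nat.Coprime.orderOf_pow hj.symm).trans hk⟩
    have hH' : Subgroup.centralizer ({z ^ j} : Set G) = H := (centralizer_pow hj).trans hH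
    have hidem : ∀ χ χ'', ∑ χ', mm p (z ^ j) H b χ χ' * mm p (z ^ j) H b χ' χ'' =
        ((q : ℝ) : ℂ) * mm p (z ^ j) H b χ χ'' := fun χ χ'' => by
      rw [mm_idem hM hu hH' hind.1, hd, hq]; push_cast; ring
    simp only [hm] at hidem
    have h1 := weight_le (fun χ => Polynomial.aeval ζ (A χ)) (fun χ => Polynomial.aeval ζ (X χ)) 1 β q
      zero_le_one (Nat.cast_nonneg β) hq0 fun χ χ'' => by
        simpa using hidem χ χ''
    have h2 := weight_le (fun χ => Polynomial.aeval ζ (X χ)) (fun χ => Polynomial.aeval ζ (A χ)) β 1 q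
      (Nat.cast_nonneg β) zero_le_one hq0 fun χ χ'' => by
        simpa [add_comm] using hidem χ χ''
    constructor
    · refine le_trans ?_ (by simpa using h1)
      exact Finset.sum_le_univ_sum_of_nonneg fun _ => sq_nonneg _
    · refine le_trans ?_ h2
      exact mul_le_mul_of_nonneg_left (Finset.sum_le_univ_sum_of_nonneg fun _ => sq_nonneg _) (Nat.cast_nonneg β)
  have hcard : (Nat.card B : ℝ) = (B.toFinset.card : ℝ) := by
    rw [Set.toFinset_card, Nat.card_eq_fintype_card]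
  have hRpos : (0 : ℝ) < (R.card : ℝ) := Nat.cast_pos.2 (Finset.card_pos.2 ⟨ζ₀, hζ₀⟩)
  suffices hkey : (R.card : ℝ) * (Nat.card B : ℝ) ≤ (R.card : ℝ) * q by
    have := le_of_mul_le_mul_left hkey hRpos
    rw [hq] at this
    exact_mod_cast this
  have hsumA : ∑ ζ ∈ R, ∑ χ ∈ B.toFinset, ‖Polynomial.aeval ζ (A χ)‖ ^ 2 ≤ (R.card : ℝ) * q := by
    refine (Finset.sum_le_sum fun ζ hζ => (hwt ζ hζ).1).trans (le_of_eq ?_)
    rw [Finset.sum_const, nsmul_eq_mul]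
  by_cases hall : ∀ χ ∈ B, Polynomial.aeval ζ₀ (A χ) ≠ 0
  · refine le_trans ?_ hsumA
    rw [Finset.sum_comm, hcard, mul_comm]
    refine le_trans (le_of_eq ?_) (Finset.card_nsmul_le_sum _ _ (R.card : ℝ) fun χ hχ =>
      card_le_sum_primitive hN0 _ fun ζ hζ =>
        aeval_ne_zero_primitive hN0 (hpr ζ₀ hζ₀) (hpr ζ hζ) (hall χ (Set.mem_toFinset.1 hχ)))
    rw [nsmul_eq_mul]
  push Not at hall
  obtain ⟨χ₁, hχ₁, hA₁⟩ := hall
  obtain ⟨ψ₀, hψ₀, h0⟩ := exists_height_zero hM hB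
  have hA1 : ∀ ζ ∈ R, Polynomial.aeval ζ (A χ₁) = 0 := fun ζ hζ => by
    by_contra h
    exact aeval_ne_zero_primitive hN0 (hpr ζ hζ) (hpr ζ₀ hζ₀) h hA₁
  have hXψ : ∀ ψ ∈ B, blockHeight p B (ψ : G → ℂ) = 0 → ∀ ζ ∈ R, Polynomial.aeval ζ (X ψ) ≠ 0 := by
    intro ψ hψ hψ0 ζ hζ hX
    obtain ⟨j, hj, hm⟩ := hmm ζ hζ
    obtain ⟨⟨x, hx, hxu, hxe⟩, -⟩ := mm_facts hM hH hk hind hd hj hχ₁ hψ hψ0
    rw [hm, hA1 ζ hζ, hX, map_zero, zero_mul, mul_zero, add_zero] at hxe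
    exact mul_ne_zero (pow_ne_zero _ prime_cast_ne_zero) (fun e0 => hxu (by rw [e0]; exact memLocalIdeal_zero)) hxe.symm
  set SX := B.toFinset.filter fun χ => Polynomial.aeval ζ₀ (X χ) ≠ 0 with hSX
  set SY := B.toFinset.filter fun χ => ¬ Polynomial.aeval ζ₀ (X χ) ≠ 0 with hSY
  have hX : 2 * ((R.card : ℝ) * SX.card) ≤ (R.card : ℝ) * q := by
    calc 2 * ((R.card : ℝ) * SX.card) = 2 * ∑ _χ ∈ SX, (R.card : ℝ) := by
          rw [Finset.sum_const, nsmul_eq_mul, mul_comm (R.card : ℝ)]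
      _ ≤ 2 * ∑ χ ∈ SX, ∑ ζ ∈ R, ‖Polynomial.aeval ζ (X χ)‖ ^ 2 := by
          refine mul_le_mul_of_nonneg_left (Finset.sum_le_sum fun χ hχ => ?_) (by norm_num)
          exact card_le_sum_primitive hN0 _ fun ζ hζ =>
            aeval_ne_zero_primitive hN0 (hpr ζ₀ hζ₀) (hpr ζ hζ) (Finset.mem_filter.1 hχ).2
      _ ≤ 2 * ∑ χ ∈ B.toFinset, ∑ ζ ∈ R, ‖Polynomial.aeval ζ (X χ)‖ ^ 2 := by
          refine mul_le_mul_of_nonneg_left (Finset.sum_le_sum_of_subset_of_nonneg (Finset.filter_subset _ _)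
            fun _ _ _ => Finset.sum_nonneg fun _ _ => sq_nonneg _) (by norm_num)
      _ = ∑ ζ ∈ R, 2 * ∑ χ ∈ B.toFinset, ‖Polynomial.aeval ζ (X χ)‖ ^ 2 := by
          rw [Finset.sum_comm, Finset.mul_sum]
      _ ≤ ∑ _ζ ∈ R, q := by
          refine Finset.sum_le_sum fun ζ hζ => ?_
          rcases Nat.eq_zero_or_pos β with hb | hb
          · exfalso
            obtain ⟨j, hj, hm⟩ := hmm ζ₀ hζ₀
            have h := (mm_facts hM hH hk hind hd hj hχ₁ hψ₀ h0).2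
            rw [hm, hb, hA1 ζ₀ hζ₀] at h
            simp at h
          refine le_trans (mul_le_mul_of_nonneg_right ?_ (Finset.sum_nonneg fun _ _ => sq_nonneg _)) (hwt ζ hζ).2
          exact_mod_cast hp.two_le.trans (Nat.le_of_dvd hb hβ)
      _ = _ := by rw [Finset.sum_const, nsmul_eq_mul]
  have hY : 4 * ((R.card : ℝ) * SY.card) ≤ (R.card : ℝ) * q := by
    calc 4 * ((R.card : ℝ) * SY.card) = ∑ _χ ∈ SY, (R.card : ℝ) * 4 := by
          rw [Finset.sum_const, nsmul_eq_mul]; ring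
      _ ≤ ∑ χ ∈ SY, ∑ ζ ∈ R, ‖Polynomial.aeval ζ (A χ)‖ ^ 2 := by
          refine Finset.sum_le_sum fun χ hχ => ?_
          obtain ⟨hχB, hX0⟩ := Finset.mem_filter.1 hχ
          rw [Set.mem_toFinset] at hχB
          rw [not_ne_iff] at hX0
          have hh : 1 ≤ blockHeight p B (χ : G → ℂ) := by
            by_contra hh
            exact hXψ χ hχB (by omega) ζ₀ hζ₀ hX0
          refine le_trans ?_ (le_sum_primitive hM hN0 (A χ) (blockHeight p B (χ : G → ℂ)) fun ζ hζ => ?_)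
          · refine mul_le_mul_of_nonneg_left ?_ hRpos.le
            calc (4 : ℝ) = 2 ^ 2 := by norm_num
              _ ≤ (p : ℝ) ^ 2 := pow_le_pow_left₀ (by norm_num) (by exact_mod_cast hp.two_le) _
              _ ≤ _ := pow_le_pow_right₀ (by exact_mod_cast hp.one_lt.le) (by omega)
          have hX1 : Polynomial.aeval ζ (X χ) = 0 := by
            by_contra h
            exact aeval_ne_zero_primitive hN0 (hpr ζ hζ) (hpr ζ₀ hζ₀) h hX0
          obtain ⟨j, hj, hm⟩ := hmm ζ hζ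
          obtain ⟨⟨x, hx, hxu, hxe⟩, -⟩ := mm_facts hM hH hk hind hd hj hχB hψ₀ h0
          obtain ⟨⟨y, hy, hyu, hye⟩, -⟩ := mm_facts hM hH hk hind hd hj hψ₀ hψ₀ h0
          rw [hm, hX1, mul_zero, zero_mul, add_zero] at hxe
          rw [hm, h0, pow_zero, one_mul] at hye
          obtain ⟨a1, a2⟩ := aeval_integral (M := M) hN0 hζ (A ψ₀)
          obtain ⟨x1, x2⟩ := aeval_integral (M := M) hN0 hζ (X ψ₀)
          have hA0 : ¬ MemLocalIdeal M (conj (Polynomial.aeval ζ (A ψ₀))) := by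
            intro hmem
            refine hyu (hye ▸ memLocalIdeal_add (memLocalIdeal_mul_left a1 hmem) ?_)
            refine memLocalIdeal_mul_right (memLocalIdeal_mul_right ?_ x1) x2
            haveI := charP_res (M := M) hM
            rw [← red_eq_zero_iff (natCast_mem _ β), red_natCast]
            exact (CharP.cast_eq_zero_iff (Res M) p β).2 hβ
          obtain ⟨i1, i2⟩ := inv_unit a2 hA0
          refine ⟨x * (conj (Polynomial.aeval ζ (A ψ₀)))⁻¹, mul_mem hx i1, unit_mul hx i1 hxu i2, ?_⟩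
          rw [← mul_assoc, ← hxe, mul_assoc, mul_inv_cancel₀ (fun e => hA0 (by rw [e]; exact memLocalIdeal_zero)),
            mul_one]
      _ ≤ ∑ χ ∈ B.toFinset, ∑ ζ ∈ R, ‖Polynomial.aeval ζ (A χ)‖ ^ 2 :=
          Finset.sum_le_sum_of_subset_of_nonneg (Finset.filter_subset _ _)
            fun _ _ _ => Finset.sum_nonneg fun _ _ => sq_nonneg _
      _ ≤ _ := by rw [Finset.sum_comm]; exact hsumA
  have hsplit : (B.toFinset.card : ℝ) = SX.card + SY.card := by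
    rw [hSX, hSY, ← Nat.cast_add, Finset.card_filter_add_card_filter_not]
  rw [hcard, hsplit, mul_add]
  have : 0 ≤ (R.card : ℝ) * q := mul_nonneg hRpos.le hq0
  linarith

/-- A major subsection of regular rank at most two. -/
theorem card_le_of_rank_two (hl : blockRank p b ≤ 2) : Nat.card B ≤ p ^ blockDefect p B := by
  classical
  have hB : IsPBlock M B := hind.2.1
  have hb : IsPBlock M b := hind.1
  have hp : p.Prime := Fact.out
  set d := blockDefect p B with hdd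
  have hd' : blockDefect p b = d := hd
  haveI := Fintype.ofFinite b
  haveI := charP_res (M := M) hM
  -- the integral matrix of the block
  choose a ha0 haeq ha using fun θ : b => exists_int_regPart hM hb θ.2
  simp only [hd'] at haeq ha
  let m : Matrix b b ℤ := Matrix.of fun i j => a i j.1
  have hrr : ∀ χ ψ : IrrCharacter H, classInner (regPart p (χ : H → ℂ)) (regPart p (ψ : H → ℂ)) =
      classInner (regPart p (χ : H → ℂ)) (ψ : H → ℂ) := fun χ ψ => by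
    simp only [classInner_def, regPart]
    refine congrArg _ (Finset.sum_congr rfl fun x _ => ?_)
    split_ifs <;> simp
  have hsym' : ∀ i j : b, a j i.1 = a i j.1 := by
    intro i j
    have h1 := ha j i.1
    rw [inner_regPart_conj] at h1
    have h2 := congrArg conj (ha i j.1)
    rw [map_mul, map_pow, Complex.conj_natCast, ← h1, map_intCast] at h2
    exact_mod_cast h2.symm
  have hsym : m.transpose = m := by
    ext i j
    exact hsym' i j
  have hidem : m * m = ((p ^ d : ℕ) : ℤ) • m := by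
    ext i k
    have h1 := congrArg (fun f => classInner f (regPart p ((k : IrrCharacter H) : H → ℂ))) (haeq i)
    simp only [classInner_smul_left, classInner_sum_left, hrr] at h1
    rw [← ha i k.1] at h1
    have h3 : ∀ ψ : IrrCharacter H, classInner (ψ : H → ℂ) (regPart p ((k : IrrCharacter H) : H → ℂ)) =
        conj (classInner (regPart p ((k : IrrCharacter H) : H → ℂ)) (ψ : H → ℂ)) := fun ψ =>
      (classInner_conj _ _).symm
    simp only [h3] at h1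
    have h4 : (((p ^ d : ℕ) : ℤ) * a i k.1 : ℤ) = ((∑ ψ : IrrCharacter H, a i ψ * a k ψ : ℤ)) := by
      apply Int.cast_injective (α := ℂ)
      push_cast
      rw [h1, Finset.mul_sum]
      refine Finset.sum_congr rfl fun ψ _ => ?_
      rw [mul_left_comm, ← Complex.conj_natCast p, ← map_pow, ← map_mul, ← ha k ψ, map_intCast]
    simp only [Matrix.mul_apply, Matrix.smul_apply, smul_eq_mul, m, Matrix.of_apply]
    rw [h4, ← Finset.sum_subset (Finset.subset_univ b.toFinset) fun ψ _ hψ => by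
      rw [ha0 i ψ (fun h => hψ (Set.mem_toFinset.2 h)), zero_mul]]
    rw [Finset.sum_subtype (p := (· ∈ b)) b.toFinset (fun _ => Set.mem_toFinset)]
    exact Finset.sum_congr rfl fun j _ => by rw [hsym' k j]
  obtain ⟨ξ, hξ, hξ0⟩ := exists_height_zero hM hb
  have hred : ∀ i : b, ∃ w : Res M, ∀ j : b, (a i j.1 : Res M) = w * omegaBar (ξ : H → ℂ) (regElt M p j.1) := by
    intro i
    obtain ⟨v, hv, hv'⟩ := exists_degreeRatio hM hb i.2
    refine ⟨red M v, fun j => ?_⟩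
    rw [← red_intCast, ha i j.1, ← hd', inner_regPart (M := M), ← mul_assoc (Nat.card H : ℂ)⁻¹,
      ← mul_assoc ((p : ℂ) ^ _), ← mul_assoc ((p : ℂ) ^ _), ← hv',
      red_mul hv (omega_mem i.1.2 (isClassCoeff_regElt j.1))]
    congr 1
    exact omegaBar_congr i.1.2 ξ.2 (sameBlock_of_mem hb i.2 hξ) (isClassCoeff_regElt j.1)
  choose w hw using hred
  have hminor : RankOneForm.Minors p m := by
    intro i j k l
    refine (CharP.intCast_eq_zero_iff (Res M) p _).1 ?_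
    simp only [m, Matrix.of_apply, Int.cast_sub, Int.cast_mul, hw]
    ring
  have hunit : ¬ (p : ℤ) ∣ m ⟨ξ, hξ⟩ ⟨ξ, hξ⟩ := by
    intro hdvd
    obtain ⟨a', v, hv, hv', hv0, h1, h2⟩ := exists_regCartan hM hb hξ ξ
    rw [hξ0, pow_zero, one_mul] at h2
    have e : a' = a ⟨ξ, hξ⟩ ξ := by
      rw [hd'] at h1
      exact_mod_cast h1.trans (ha ⟨ξ, hξ⟩ ξ).symm
    have h4 : red M ((a ⟨ξ, hξ⟩ ξ : ℤ) : ℂ) ≠ 0 := by
      rw [← e, h2, red_mul hv (omega_mem ξ.2 (isClassCoeff_regElt ξ))]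
      refine mul_ne_zero (fun h5 => ?_) fun h5 => ?_
      · rw [red_eq_zero_iff hv] at h5
        exact not_memLocalIdeal_one (M := M) (inv_mul_cancel₀ hv0 ▸ memLocalIdeal_mul_left hv' h5)
      · rw [red_eq_zero_iff (omega_mem ξ.2 (isClassCoeff_regElt ξ))] at h5
        exact omega_regElt_unit hM hb hξ hξ0 hξ h5
    refine h4 ?_
    rw [red_intCast]
    exact (CharP.intCast_eq_zero_iff (Res M) p _).2 hdvd
  have hq0 : p ^ d ≠ 0 := pow_ne_zero _ hp.ne_zero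
  obtain ⟨r, Bm, R', hBS, hCS, hrank⟩ := exists_lattice hq0 m hsym hidem
  set S := R' * m * R'ᵀ with hS
  have hSs : Sᵀ = S := by
    simp only [hS, Matrix.transpose_mul, Matrix.transpose_transpose, hsym, Matrix.mul_assoc]
  -- `r` is at most the rank
  have hrl : r ≤ blockRank p b := by
    refine le_trans hrank ?_
    rw [blockRank_eq, Matrix.rank]
    let T : (H → ℂ) →ₗ[ℂ] (b → ℂ) :=
      { toFun := fun f i => (p : ℂ) ^ d * classInner f ((i : IrrCharacter H) : H → ℂ)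
        map_add' := fun f g => funext fun i => by simp [classInner_add_left, mul_add]
        map_smul' := fun c f => funext fun i => by simp [classInner_smul_left, mul_left_comm] }
    refine le_trans (Submodule.finrank_mono ?_) (Submodule.finrank_map_le T (regSpan p b))
    rintro _ ⟨v, rfl⟩
    refine ⟨∑ j : b, v j • pRegularPart p ((j : IrrCharacter H) : H → ℂ),
      Submodule.sum_mem _ fun j _ => Submodule.smul_mem _ _ (Submodule.subset_span ⟨j.1, j.2, rfl⟩), ?_⟩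
    funext i
    rw [map_sum, Finset.sum_apply]
    simp only [map_smul, Pi.smul_apply, smul_eq_mul, Matrix.mulVecLin_apply, Matrix.mulVec, dotProduct,
      Matrix.map_apply, m, Matrix.of_apply]
    refine Finset.sum_congr rfl fun j _ => ?_
    show v j * ((p : ℂ) ^ d * classInner (pRegularPart p _) _) = _
    rw [pRegularPart_eq, ← ha, hsym' i j, mul_comm]
  have hr2 : r ≤ 2 := hrl.trans hl
  -- the contributions as forms
  set N := orderOf z with hN
  have hN0 : N ≠ 0 := (orderOf_pos z).ne'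
  haveI : NeZero N := ⟨hN0⟩
  obtain ⟨ζ, hζ⟩ : ∃ ζ : ℂ, IsPrimitiveRoot ζ N := ⟨_, Complex.isPrimitiveRoot_exp N hN0⟩
  obtain ⟨n, e, hcomp⟩ := exists_exponents hM hH hb hζ (b := b)
  let Q : IrrCharacter G → b → Polynomial ℤ := fun χ i =>
    Polynomial.C (n χ i.1 : ℤ) * Polynomial.X ^ e i.1
  have hmm : ∀ (j : ℕ) (χ χ' : IrrCharacter G), mm p (z ^ j) H b χ χ' =
      ∑ i : b, ∑ i' : b, Polynomial.aeval (ζ ^ j) (Q χ i) * (m i i' : ℂ) *
        conj (Polynomial.aeval (ζ ^ j) (Q χ' i')) := by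
    intro j χ χ'
    have hQ : ∀ χ : IrrCharacter G, ∀ i : b, Polynomial.aeval (ζ ^ j) (Q χ i) = (n χ i.1 : ℂ) * ζ ^ (j * e i.1) :=
      fun χ i => by simp [Q, pow_mul]
    have hfilt : ∀ f : IrrCharacter H → ℂ, (∀ θ, θ ∉ b → f θ = 0) → ∑ θ, f θ = ∑ i : b, f i.1 := by
      intro f hf
      rw [← Finset.sum_subset (Finset.subset_univ b.toFinset) fun θ _ hθ => hf θ fun h => hθ (Set.mem_toFinset.2 h),
        Finset.sum_subtype (p := (· ∈ b)) b.toFinset (fun _ => Set.mem_toFinset)]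
    rw [mm, hcomp, hcomp, hd', classInner_sum_left, Finset.mul_sum, hfilt _ fun θ hθ => by
      rw [if_neg hθ, classInner_smul_left, zero_mul, mul_zero]]
    refine Finset.sum_congr rfl fun i _ => ?_
    rw [classInner_smul_left, classInner_sum_right, Finset.mul_sum, Finset.mul_sum, hfilt _ fun θ hθ => by
      rw [if_neg hθ, classInner_smul_right, map_zero, zero_mul, mul_zero, mul_zero]]
    refine Finset.sum_congr rfl fun i' _ => ?_
    rw [if_pos i.2, if_pos i'.2, classInner_smul_right, hrr, hQ, hQ,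
      show (m i i' : ℂ) = (a i i'.1 : ℂ) from rfl, ha]
    ring
  have hroot : ∀ ζ' ∈ primitiveRoots N ℂ, ∃ j : ℕ, j.Coprime N ∧ ζ' = ζ ^ j := by
    intro ζ' hζ'
    obtain ⟨j, -, hj, h⟩ := (hζ.isPrimitiveRoot_iff (ξ := ζ')).1
      ((mem_primitiveRoots (Nat.pos_of_ne_zero hN0)).1 hζ')
    exact ⟨j, hj, h.symm⟩
  -- a form `m = a N₀N₀ + c (N₀N₁ + N₁N₀) + b N₁N₁`
  obtain ⟨N₀, N₁, α, γ, β, hform, hcase⟩ : ∃ (N₀ N₁ : b → ℤ) (α γ β : ℤ),
      (∀ i j, m i j = α * (N₀ i * N₀ j) + γ * (N₀ i * N₁ j + N₁ i * N₀ j) + β * (N₁ i * N₁ j)) ∧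
      ((γ = 0 ∧ α = 1 ∧ 0 ≤ β ∧ (p : ℤ) ∣ β) ∨
        (2 ≤ α ∧ 2 ≤ β ∧ 2 * |γ| ≤ α ∧ 2 * |γ| ≤ β) ∨
        (γ = 0 ∧ β = 0 ∧ 1 ≤ α)) := by
    rcases (by omega : r = 0 ∨ r = 1 ∨ r = 2) with rfl | rfl | rfl
    · exfalso
      refine hunit ?_
      rw [← hBS]
      simp [Matrix.mul_apply]
    · have e : ∀ i j, m i j = S 0 0 * (Bm i 0 * Bm j 0) := fun i j => by
        conv_lhs => rw [← hBS]
        simp [Matrix.mul_apply]
        ring
      have hpos : 1 ≤ S 0 0 := by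
        have h1 := congrFun (congrFun hCS 0) 0
        simp [Matrix.mul_apply] at h1
        have h2 : (0 : ℤ) < (∑ x, Bm x 0 * Bm x 0) * S 0 0 := by
          rw [h1]; exact pow_pos (Int.natCast_pos.2 hp.pos) d
        exact pos_of_mul_pos_right h2 (Finset.sum_nonneg fun _ _ => mul_self_nonneg _)
      exact ⟨fun i => Bm i 0, fun _ => 0, S 0 0, 0, 0, fun i j => by rw [e]; ring, Or.inr (Or.inr ⟨rfl, rfl, hpos⟩)⟩
    · obtain ⟨U, Nm, hNm, h00, h11, hc0, hc1⟩ := exists_reduced hq0 Bm S hSs hBS hCS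
      set T := Uᵀ * S * U with hT
      have hTs : T 1 0 = T 0 1 := by
        have : Tᵀ = T := by
          simp only [hT, Matrix.transpose_mul, Matrix.transpose_transpose, hSs, Matrix.mul_assoc]
        exact congrFun (congrFun this 0) 1
      have e : ∀ i j, m i j = T 0 0 * (Nm 0 i * Nm 0 j) + T 0 1 * (Nm 0 i * Nm 1 j + Nm 1 i * Nm 0 j) +
          T 1 1 * (Nm 1 i * Nm 1 j) := fun i j => by
        conv_lhs => rw [← hNm]
        simp [Matrix.mul_apply, Fin.sum_univ_two, hTs]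
        ring
      have hTm : RankOneForm.Minors p T := by
        have h1 := ((hminor.mul_left (Uᵀ * R')).transpose).mul_left (Uᵀ * R')
        convert h1 using 1
        simp only [hT, hS, Matrix.transpose_mul, Matrix.transpose_transpose, hsym, Matrix.mul_assoc]
      have hdet : (p : ℤ) ∣ T 0 0 * T 1 1 - T 0 1 * T 0 1 := by
        have := hTm 0 0 1 1
        rwa [hTs] at this
      by_cases ha1 : T 0 0 = 1
      · have hγ : T 0 1 = 0 := abs_eq_zero.1 (by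
          have := abs_nonneg (T 0 1)
          omega)
        rw [hγ, ha1, one_mul, mul_zero, sub_zero] at hdet
        exact ⟨fun i => Nm 0 i, fun i => Nm 1 i, 1, 0, T 1 1,
          fun i j => by rw [e, hγ, ha1], Or.inl ⟨rfl, rfl, h11.le, hdet⟩⟩
      by_cases hb1 : T 1 1 = 1
      · have hγ : T 0 1 = 0 := abs_eq_zero.1 (by
          have := abs_nonneg (T 0 1)
          omega)
        rw [hγ, hb1, mul_one, mul_zero, sub_zero] at hdet
        exact ⟨fun i => Nm 1 i, fun i => Nm 0 i, 1, 0, T 0 0,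
          fun i j => by rw [e, hγ, hb1]; ring, Or.inl ⟨rfl, rfl, h00.le, hdet⟩⟩
      exact ⟨fun i => Nm 0 i, fun i => Nm 1 i, _, _, _, e, Or.inr (Or.inl ⟨by omega, by omega, hc0, hc1⟩)⟩
  let Y₀ : IrrCharacter G → Polynomial ℤ := fun χ => ∑ i, Polynomial.C (N₀ i) * Q χ i
  let Y₁ : IrrCharacter G → Polynomial ℤ := fun χ => ∑ i, Polynomial.C (N₁ i) * Q χ i
  have hY : ∀ (j : ℕ) (χ χ' : IrrCharacter G), mm p (z ^ j) H b χ χ' =
      (α : ℂ) * (Polynomial.aeval (ζ ^ j) (Y₀ χ) * conj (Polynomial.aeval (ζ ^ j) (Y₀ χ'))) +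
      (γ : ℂ) * (Polynomial.aeval (ζ ^ j) (Y₀ χ) * conj (Polynomial.aeval (ζ ^ j) (Y₁ χ')) +
        Polynomial.aeval (ζ ^ j) (Y₁ χ) * conj (Polynomial.aeval (ζ ^ j) (Y₀ χ'))) +
      (β : ℂ) * (Polynomial.aeval (ζ ^ j) (Y₁ χ) * conj (Polynomial.aeval (ζ ^ j) (Y₁ χ'))) := by
    intro j χ χ'
    rw [hmm]
    simp only [hform, Y₀, Y₁, map_sum, map_mul, Polynomial.aeval_C, algebraMap_int_eq, eq_intCast, map_intCast,
      Finset.sum_mul_sum]
    simp only [Finset.sum_mul, Finset.mul_sum, mul_add, ← Finset.sum_add_distrib]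
    push_cast
    exact Finset.sum_congr rfl fun _ _ => Finset.sum_congr rfl fun _ _ => by ring
  rcases hcase with ⟨hγ, hα, hβ0, hβ⟩ | hbig | ⟨hγ, hβ, hα⟩
  · obtain ⟨β', rfl⟩ := Int.eq_ofNat_of_zero_le hβ0
    refine card_le_of_diag hM hH hk hind hd β' (Int.natCast_dvd_natCast.1 hβ) Y₀ Y₁ fun ζ' hζ' => ?_
    obtain ⟨j, hj, rfl⟩ := hroot ζ' hζ'
    refine ⟨j, hj, fun χ χ' => ?_⟩
    rw [hY, hγ, hα]
    push_cast
    ring
  all_goals
    set R := primitiveRoots N ℂ with hR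
    have hζR : ζ ∈ R := (mem_primitiveRoots (Nat.pos_of_ne_zero hN0)).2 hζ
    have hRpos : (0 : ℝ) < (R.card : ℝ) := Nat.cast_pos.2 (Finset.card_pos.2 ⟨ζ, hζR⟩)
    obtain ⟨ψ₀, hψ₀, h0⟩ := exists_height_zero hM hB
    have hBf : (Nat.card B : ℝ) = (B.toFinset.card : ℝ) := by rw [Set.toFinset_card, Nat.card_eq_fintype_card]
  · -- both diagonal coefficients at least two
    obtain ⟨hα, hβ, hγα, hγβ⟩ := hbig
    have hid : ∀ (x y : ℂ), ∃ σ : ℤ, σ ^ 2 = 1 ∧ (γ : ℂ) * (x * conj y + y * conj x) =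
        (((|γ| : ℤ) : ℝ) * (‖x + (σ : ℂ) * y‖ ^ 2 - ‖x‖ ^ 2 - ‖y‖ ^ 2) : ℝ) ∧ (γ : ℤ) = σ * |γ| := by
      intro x y
      rcases le_or_gt 0 γ with hg | hg
      · refine ⟨1, by norm_num, ?_, by rw [abs_of_nonneg hg, one_mul]⟩
        rw [abs_of_nonneg hg]
        push_cast
        rw [← Complex.mul_conj', ← Complex.mul_conj', ← Complex.mul_conj', map_add, map_mul, map_one]
        ring
      · refine ⟨-1, by norm_num, ?_, by rw [abs_of_neg hg]; ring⟩
        rw [abs_of_neg hg]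
        push_cast
        rw [← Complex.mul_conj', ← Complex.mul_conj', ← Complex.mul_conj', map_add, map_mul, map_neg, map_one]
        ring
    set s : ℤ := if 0 ≤ γ then 1 else -1 with hs
    let Y₂ : IrrCharacter G → Polynomial ℤ := fun χ => Y₀ χ + Polynomial.C s * Y₁ χ
    let F : ℂ → IrrCharacter G → ℝ := fun ζ' χ =>
      ((α : ℝ) - ((|γ| : ℤ) : ℝ)) * ‖Polynomial.aeval ζ' (Y₀ χ)‖ ^ 2 +
      ((β : ℝ) - ((|γ| : ℤ) : ℝ)) * ‖Polynomial.aeval ζ' (Y₁ χ)‖ ^ 2 +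
      ((|γ| : ℤ) : ℝ) * ‖Polynomial.aeval ζ' (Y₂ χ)‖ ^ 2
    have hF : ∀ (j : ℕ) (χ : IrrCharacter G), mm p (z ^ j) H b χ χ = (F (ζ ^ j) χ : ℂ) := by
      intro j χ
      rw [hY]
      simp only [F, Y₂, map_add, map_mul, Polynomial.aeval_C, algebraMap_int_eq, eq_intCast, map_intCast]
      rcases le_or_gt 0 γ with hg | hg
      · rw [hs, if_pos hg, abs_of_nonneg hg]
        push_cast
        simp only [← Complex.mul_conj', map_add, map_mul, map_one]
        ring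
      · rw [hs, if_neg (not_le.2 hg), abs_of_neg hg]
        push_cast
        simp only [← Complex.mul_conj', map_add, map_mul, map_one, map_neg]
        ring
    have hlow : ∀ χ ∈ B, (R.card : ℝ) * 2 ≤ ∑ ζ' ∈ R, F ζ' χ := by
      intro χ hχ
      have hA0 : ∀ P : Polynomial ℤ, Polynomial.aeval ζ P ≠ 0 →
          (R.card : ℝ) ≤ ∑ ζ' ∈ R, ‖Polynomial.aeval ζ' P‖ ^ 2 := fun P hP =>
        card_le_sum_primitive hN0 _ fun ζ' hζ' => aeval_ne_zero_primitive hN0 hζ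
          ((mem_primitiveRoots (Nat.pos_of_ne_zero hN0)).1 hζ') hP
      have hnn : ∀ P : Polynomial ℤ, (0 : ℝ) ≤ ∑ ζ' ∈ R, ‖Polynomial.aeval ζ' P‖ ^ 2 := fun P =>
        Finset.sum_nonneg fun _ _ => sq_nonneg _
      have hg0 : (0 : ℝ) ≤ ((|γ| : ℤ) : ℝ) := by exact_mod_cast abs_nonneg γ
      have hαr : 2 * ((|γ| : ℤ) : ℝ) ≤ (α : ℝ) := by exact_mod_cast hγα
      have hβr : 2 * ((|γ| : ℤ) : ℝ) ≤ (β : ℝ) := by exact_mod_cast hγβ
      have hα2 : (2 : ℝ) ≤ (α : ℝ) := by exact_mod_cast hα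
      have hβ2 : (2 : ℝ) ≤ (β : ℝ) := by exact_mod_cast hβ
      simp only [F, Finset.sum_add_distrib, ← Finset.mul_sum]
      by_cases h0' : Polynomial.aeval ζ (Y₀ χ) = 0
      · have h1' : Polynomial.aeval ζ (Y₁ χ) ≠ 0 := by
          intro h1'
          have hf := (mm_facts hM hH hk hind hd (Nat.coprime_one_left _) hχ hψ₀ h0).2
          rw [hY, pow_one, h0', h1'] at hf
          simp at hf
        have h2' : Polynomial.aeval ζ (Y₂ χ) ≠ 0 := by
          simp only [Y₂, map_add, map_mul, h0', zero_add, Polynomial.aeval_C, algebraMap_int_eq, eq_intCast]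
          refine mul_ne_zero ?_ h1'
          rcases le_or_gt 0 γ with hg | hg <;> simp [hs, hg, not_le.2, if_pos, if_neg]
        nlinarith [hA0 _ h1', hA0 _ h2', hnn (Y₀ χ)]
      · by_cases h1' : Polynomial.aeval ζ (Y₁ χ) = 0
        · have h2' : Polynomial.aeval ζ (Y₂ χ) ≠ 0 := by
            simpa [Y₂, h1'] using h0'
          nlinarith [hA0 _ h0', hA0 _ h2', hnn (Y₁ χ)]
        · nlinarith [hA0 _ h0', hA0 _ h1', hnn (Y₂ χ)]
    have hsum : ∀ ζ' ∈ R, ∑ χ ∈ B.toFinset, F ζ' χ ≤ 2 * (p : ℝ) ^ d := by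
      intro ζ' hζ'
      obtain ⟨j, hj, rfl⟩ := hroot ζ' hζ'
      have hu : ∃ k : ℕ, orderOf (z ^ j) = p ^ k := ⟨k, (Nat.Coprime.orderOf_pow hj.symm).trans hk⟩
      have hH' : Subgroup.centralizer ({z ^ j} : Set G) = H := (centralizer_pow hj).trans hH
      have h1 : ((∑ χ ∈ B.toFinset, F (ζ ^ j) χ : ℝ) : ℂ) = (p : ℂ) ^ d * (blockRank p b : ℂ) := by
        rw [Complex.ofReal_sum, Finset.sum_congr rfl fun χ _ => (hF j χ).symm,
          Finset.sum_subset (Finset.subset_univ _) fun χ _ hχ =>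
            (mm_eq_zero hM hu hH' hind (fun h => hχ (Set.mem_toFinset.2 h)) χ).1, mm_trace hM hu hH' hb, hd']
      have h2 : (∑ χ ∈ B.toFinset, F (ζ ^ j) χ : ℝ) = (p : ℝ) ^ d * (blockRank p b : ℝ) :=
        Complex.ofReal_injective (by rw [h1]; push_cast; rfl)
      rw [h2, mul_comm]
      exact mul_le_mul_of_nonneg_right (by exact_mod_cast hl) (by positivity)
    have hkey : (R.card : ℝ) * ((Nat.card B : ℝ) * 2) ≤ (R.card : ℝ) * (2 * (p : ℝ) ^ d) := by
      calc (R.card : ℝ) * ((Nat.card B : ℝ) * 2) = ∑ _χ ∈ B.toFinset, (R.card : ℝ) * 2 := by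
            rw [Finset.sum_const, nsmul_eq_mul, hBf]; ring
        _ ≤ ∑ χ ∈ B.toFinset, ∑ ζ' ∈ R, F ζ' χ := Finset.sum_le_sum fun χ hχ => hlow χ (Set.mem_toFinset.1 hχ)
        _ = ∑ ζ' ∈ R, ∑ χ ∈ B.toFinset, F ζ' χ := Finset.sum_comm
        _ ≤ ∑ _ζ' ∈ R, 2 * (p : ℝ) ^ d := Finset.sum_le_sum hsum
        _ = _ := by rw [Finset.sum_const, nsmul_eq_mul]
    have h := le_of_mul_le_mul_left hkey hRpos
    have h' : (Nat.card B : ℝ) ≤ (p : ℝ) ^ d := by linarith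
    exact_mod_cast h'
  · -- one form
    have hne : ∀ χ ∈ B, Polynomial.aeval ζ (Y₀ χ) ≠ 0 := by
      intro χ hχ h1
      have hf := (mm_facts hM hH hk hind hd (Nat.coprime_one_left _) hχ hψ₀ h0).2
      rw [hY, pow_one, h1, hγ, hβ] at hf
      simp at hf
    have hwt : ∀ ζ' ∈ R, ∑ χ ∈ B.toFinset, ‖Polynomial.aeval ζ' (Y₀ χ)‖ ^ 2 ≤ (p : ℝ) ^ d := by
      intro ζ' hζ'
      obtain ⟨j, hj, rfl⟩ := hroot ζ' hζ'
      have hu : ∃ k : ℕ, orderOf (z ^ j) = p ^ k := ⟨k, (Nat.Coprime.orderOf_pow hj.symm).trans hk⟩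
      have hH' : Subgroup.centralizer ({z ^ j} : Set G) = H := (centralizer_pow hj).trans hH
      have hα0 : (0 : ℝ) ≤ (α : ℝ) := by exact_mod_cast le_trans zero_le_one hα
      have h1 := weight_le (fun χ => Polynomial.aeval (ζ ^ j) (Y₀ χ)) (fun _ => (0 : ℂ)) (α : ℝ) 0 ((p : ℝ) ^ d)
        hα0 le_rfl (by positivity) fun χ χ'' => by
          have h := mm_idem hM hu hH' hb χ χ''
          simp only [hY, hγ, hβ, hd', Int.cast_zero, zero_mul, add_zero] at h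
          push_cast
          simpa [mul_assoc] using h
      refine le_trans (Finset.sum_le_univ_sum_of_nonneg fun _ => sq_nonneg _) (le_trans ?_ h1)
      exact le_mul_of_one_le_left (Finset.sum_nonneg fun _ _ => sq_nonneg _) (by exact_mod_cast hα)
    have hkey : (R.card : ℝ) * (Nat.card B : ℝ) ≤ (R.card : ℝ) * (p : ℝ) ^ d := by
      calc (R.card : ℝ) * (Nat.card B : ℝ) = ∑ _χ ∈ B.toFinset, (R.card : ℝ) := by
            rw [Finset.sum_const, nsmul_eq_mul, hBf]; ring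
        _ ≤ ∑ χ ∈ B.toFinset, ∑ ζ' ∈ R, ‖Polynomial.aeval ζ' (Y₀ χ)‖ ^ 2 := Finset.sum_le_sum fun χ hχ =>
            card_le_sum_primitive hN0 _ fun ζ' hζ' => aeval_ne_zero_primitive hN0 hζ
              ((mem_primitiveRoots (Nat.pos_of_ne_zero hN0)).1 hζ') (hne χ (Set.mem_toFinset.1 hχ))
        _ = ∑ ζ' ∈ R, ∑ χ ∈ B.toFinset, ‖Polynomial.aeval ζ' (Y₀ χ)‖ ^ 2 := Finset.sum_comm
        _ ≤ ∑ _ζ' ∈ R, (p : ℝ) ^ d := Finset.sum_le_sum hwt
        _ = _ := by rw [Finset.sum_const, nsmul_eq_mul]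
    exact_mod_cast le_of_mul_le_mul_left hkey hRpos

end setting

end CfsgLib.RankTwoBound
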