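import Cfsg.Agent.Blk.Defect
import Cfsg.Agent.Blk.Regular

/-! A `2`-block closed under complex conjugation with a character of odd degree is principal. -/

set_option autoImplicit false
set_option linter.style.haveILetI false
set_option linter.unusedSectionVars false

namespace CfsgLib.Blk

open Cfsg CfsgLib.Char MonoidAlgebra Finset IsLocalRing
open scoped ComplexConjugate

universe u

variable {G : Type u} [Group G] [Finite G] {M : Ideal AlgInt} [M.IsPrime]

/-- complex conjugation on irreducible characters -/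
noncomputable def conjIrr (χ : IrrCharacter G) : IrrCharacter G :=
  ⟨fun g => conj ((χ : G → ℂ) g), irr_conj χ.2⟩

theorem conjIrr_conjIrr (χ : IrrCharacter G) : conjIrr (conjIrr χ) = χ :=
  Subtype.ext (funext fun _ => Complex.conj_conj _)

theorem index_centralizer_inv (g : G) :
    (Subgroup.centralizer ({g⁻¹} : Set G)).index = (Subgroup.centralizer ({g} : Set G)).index := by
  congr 1
  ext x
  rw [Subgroup.mem_centralizer_singleton_iff, Subgroup.mem_centralizer_singleton_iff]
  exact ⟨fun h => (Commute.inv_right_iff.mp (show Commute x g⁻¹ from h)).eq,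
    fun h => (Commute.inv_right (show Commute x g from h)).eq⟩

theorem centralChar_conjIrr (χ : IrrCharacter G) (g : G) :
    centralChar (conjIrr χ : G → ℂ) g = centralChar (χ : G → ℂ) g⁻¹ := by
  rw [centralChar, centralChar, index_centralizer_inv]
  show _ * conj ((χ : G → ℂ) g) / conj ((χ : G → ℂ) 1) = _
  rw [← char_conj_eq (isCharacter_of_isIrr χ.2), ← char_conj_eq (isCharacter_of_isIrr χ.2), inv_one]

theorem sameBlock_conjIrr {χ ψ : IrrCharacter G} (h : SameBlock M (χ : G → ℂ) (ψ : G → ℂ)) :
    SameBlock M (conjIrr χ : G → ℂ) (conjIrr ψ : G → ℂ) := fun g => by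
  rw [centralChar_conjIrr, centralChar_conjIrr]
  exact h g⁻¹

theorem blockCoeff_inv {B : Set (IrrCharacter G)} (hB : ∀ χ ∈ B, conjIrr χ ∈ B) (g : G) :
    blockCoeff B g⁻¹ = blockCoeff B g := by
  classical
  unfold blockCoeff
  rw [finsum_mem_eq_sum_ite, finsum_mem_eq_sum_ite]
  congr 1
  refine Fintype.sum_equiv (Function.Involutive.toPerm _ conjIrr_conjIrr) _ _ fun χ => ?_
  show _ = if conjIrr χ ∈ B then _ else _
  have hiff : χ ∈ B ↔ conjIrr χ ∈ B := ⟨hB χ, fun h => conjIrr_conjIrr χ ▸ hB _ h⟩
  by_cases hχ : χ ∈ B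
  · rw [if_pos hχ, if_pos (hiff.mp hχ)]
    show _ = conj ((χ : G → ℂ) 1) * conj (conj ((χ : G → ℂ) g))
    rw [← char_conj_eq (isCharacter_of_isIrr χ.2) g⁻¹, ← char_conj_eq (isCharacter_of_isIrr χ.2) 1,
      inv_inv, inv_one, Complex.conj_conj]
  · rw [if_neg hχ, if_neg (fun h => hχ (hiff.mpr h))]

/-- a self-inverse class of odd size consists of self-inverse elements -/
theorem eq_inv_of_odd_index {g h : G} (hh : h * g * h⁻¹ = g⁻¹)
    (hodd : Odd (Subgroup.centralizer ({g} : Set G)).index) : g⁻¹ = g := by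
  by_contra hne
  let N : Subgroup G :=
    { carrier := {x | x * g * x⁻¹ = g ∨ x * g * x⁻¹ = g⁻¹}
      one_mem' := Or.inl (by simp)
      mul_mem' := by
        intro a b ha hb
        have e : a * b * g * (a * b)⁻¹ = a * (b * g * b⁻¹) * a⁻¹ := by group
        show _ ∨ _
        rw [e]
        rcases hb with hb | hb <;> rw [hb]
        · exact ha
        · rw [← conj_inv]
          rcases ha with ha | ha <;> rw [ha]
          · exact Or.inr rfl
          · exact Or.inl (inv_inv g)
      inv_mem' := by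
        intro a ha
        show _ ∨ _
        rw [inv_inv]
        rcases ha with ha | ha
        · left
          have e : a * g = g * a := mul_inv_eq_iff_eq_mul.mp ha
          rw [mul_assoc, ← e, inv_mul_cancel_left]
        · right
          have e : a * g⁻¹ = g * a := by rw [← mul_inv_eq_iff_eq_mul, ← conj_inv, ha, inv_inv]
          rw [mul_assoc, ← e, inv_mul_cancel_left] }
  have hle : Subgroup.centralizer ({g} : Set G) ≤ N := fun x hx =>
    Or.inl (by rw [Subgroup.mem_centralizer_singleton_iff.mp hx, mul_inv_cancel_right])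
  have h2 : (Subgroup.centralizer ({g} : Set G)).relIndex N = 2 := by
    refine Subgroup.index_eq_two_iff.mpr ⟨⟨h, Or.inr hh⟩, fun b => ?_⟩
    simp only [Subgroup.mem_subgroupOf, Subgroup.mem_centralizer_singleton_iff, Subgroup.coe_mul]
    have e : ∀ x : G, x * g = g * x ↔ x * g * x⁻¹ = g := fun x => by
      rw [mul_inv_eq_iff_eq_mul]
    rw [e, e]
    have e2 : (b : G) * h * g * ((b : G) * h)⁻¹ = ((b : G) * g * (b : G)⁻¹)⁻¹ := by
      rw [show (b : G) * h * g * ((b : G) * h)⁻¹ = b * (h * g * h⁻¹) * (b : G)⁻¹ by group, hh]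
      group
    rw [e2]
    rcases b.2 with hb | hb
    · exact Or.inr ⟨hb, by rw [hb]; exact hne⟩
    · refine Or.inl ⟨by rw [hb, inv_inv], by rw [hb]; exact hne⟩
  have := Subgroup.relIndex_mul_index hle
  rw [h2] at this
  rw [← this] at hodd
  exact Nat.not_even_iff_odd.mpr hodd (even_two_mul _)

/-- evaluating a conjugation-closed idempotent at a conjugation-stable block -/
theorem omegaBar_blockIdem_sym (hM : IsPModular 2 M) {B : Set (IrrCharacter G)}
    (hB : IsPBlock M B) (hBc : ∀ g : G, ¬ 2 ∣ orderOf g → blockCoeff B g⁻¹ = blockCoeff B g)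
    {χ : IrrCharacter G} (hodd : Odd (charDegree (χ : G → ℂ)))
    (hχc : ∀ g : G, ¬ 2 ∣ orderOf g →
      red M (centralChar (χ : G → ℂ) g⁻¹) = red M (centralChar (χ : G → ℂ) g)) :
    omegaBar (χ : G → ℂ) (blockIdem hM hB) = red M (blockCoeff B 1) := by
  classical
  haveI := Fact.mk Nat.prime_two
  haveI : CharP (Res M) 2 := charP_res hM
  haveI := Fintype.ofFinite G
  haveI : Fintype (ConjClasses G) := Fintype.ofFinite _
  rw [omegaBar_eq_sum χ.2 (isClassCoeff_blockIdem hM hB)]
  let F : G → Res M := fun g => red M (blockCoeff B g) * red M (centralChar (χ : G → ℂ) g)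
  have hF : ∀ C : ConjClasses G,
      IsLocalRing.residue (locRing M) ((blockIdem hM hB).coeff C.out) *
        red M (centralChar (χ : G → ℂ) C.out) = F C.out := fun C => by
    rw [← red_coe, coeff_blockIdem]
  rw [Finset.sum_congr rfl fun C _ => hF C]
  have hcl : ∀ a b : G, IsConj a b → F a = F b := fun a b hab => by
    obtain ⟨c, rfl⟩ := isConj_iff.mp hab
    simp only [F]
    rw [blockCoeff_conj, centralChar_isConj (classFun_of_irr χ.2) hab]
  have hout : ∀ g : G, F (ConjClasses.mk g).out = F g := fun g =>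
    hcl _ _ (ConjClasses.mk_eq_mk_iff_isConj.mp (Quotient.out_eq (ConjClasses.mk g)))
  have hinv : ∀ g : G, F g⁻¹ = F g := fun g => by
    simp only [F]
    by_cases hs : 2 ∣ orderOf g
    · rw [blockCoeff_eq_zero_of_singular hM hB hs,
        blockCoeff_eq_zero_of_singular hM hB (v := g⁻¹) (by rwa [orderOf_inv]), red_zero, zero_mul, zero_mul]
    · rw [hBc g hs, hχc g hs]
  have hzero : ∀ g : G, g ≠ 1 → (ConjClasses.mk g⁻¹ = ConjClasses.mk g) → F g = 0 := by
    intro g hg hgg
    obtain ⟨c, hc⟩ := isConj_iff.mp (ConjClasses.mk_eq_mk_iff_isConj.mp hgg)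
    by_cases hs : 2 ∣ orderOf g
    · simp only [F]
      rw [blockCoeff_eq_zero_of_singular hM hB hs, red_zero, zero_mul]
    by_cases hev : Even (Subgroup.centralizer ({g} : Set G)).index
    · obtain ⟨t, ht⟩ := hev
      refine mul_eq_zero_of_right _ ((red_eq_zero_iff (centralChar_mem χ.2 g)).mpr ?_)
      obtain ⟨n, hn⟩ := charDegree_aux (isCharacter_of_isIrr χ.2)
      have hn2 : ¬ 2 ∣ n := by
        rw [← charDegree_eq hn]; exact Nat.two_dvd_ne_zero.mpr (Nat.odd_iff.mp hodd)
      rw [centralChar, hn, mul_div_assoc]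
      refine memLocalIdeal_mul_right ?_ (by
        rw [div_eq_mul_inv]
        exact mul_mem (irr_mem χ g) (natCast_inv_mem hM hn2))
      exact (natCast_memLocalIdeal_iff hM _).mpr ⟨t, by omega⟩
    exfalso
    have h1 : g⁻¹ = g := eq_inv_of_odd_index (h := c⁻¹) (by
      conv_lhs => rw [← hc]
      group) (Nat.not_even_iff_odd.mp hev)
    have h2 : orderOf g ∣ 2 := orderOf_dvd_of_pow_eq_one (by
      rw [pow_two]; nth_rewrite 1 [← h1]; exact inv_mul_cancel g)
    rcases (Nat.dvd_prime Nat.prime_two).mp h2 with h3 | h3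
    · exact hg (orderOf_eq_one_iff.mp h3)
    · exact hs (h3 ▸ dvd_refl _)
  rw [← Finset.add_sum_erase _ _ (Finset.mem_univ (ConjClasses.mk (1 : G))), hout]
  have hrest : ∑ C ∈ Finset.univ.erase (ConjClasses.mk (1 : G)), F C.out = 0 := by
    refine Finset.sum_involution (fun C _ => ConjClasses.mk C.out⁻¹) (fun C hC => ?_)
      (fun C hC hne heq => ?_) (fun C hC => ?_) (fun C hC => ?_)
    · rw [hout, hinv]
      exact CharTwo.add_self_eq_zero _
    · refine hne (hzero C.out (fun e => ?_) (heq.trans (Quotient.out_eq C).symm))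
      refine (Finset.mem_erase.mp hC).1 ?_
      rw [← e]
      exact (Quotient.out_eq C).symm
    · refine Finset.mem_erase.mpr ⟨fun e => (Finset.mem_erase.mp hC).1 ?_, Finset.mem_univ _⟩
      have h1 : C.out = 1 := by
        obtain ⟨c, hc⟩ := isConj_iff.mp (ConjClasses.mk_eq_mk_iff_isConj.mp e.symm)
        rw [mul_one, mul_inv_cancel] at hc
        exact inv_eq_one.mp hc.symm
      rw [← h1]
      exact (Quotient.out_eq C).symm
    · show ConjClasses.mk (ConjClasses.mk C.out⁻¹).out⁻¹ = C
      obtain ⟨c, hc⟩ := isConj_iff.mp (ConjClasses.mk_eq_mk_iff_isConj.mp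
        (Quotient.out_eq (ConjClasses.mk C.out⁻¹)))
      conv_rhs => rw [← Quotient.out_eq C]
      refine ConjClasses.mk_eq_mk_iff_isConj.mpr (isConj_iff.mpr ⟨c, ?_⟩)
      rw [← conj_inv, hc, inv_inv]
  rw [hrest, add_zero]
  simp only [F]
  rw [centralChar_one (irr_one_ne_zero χ.2), red_one, mul_one]

/-- a block symmetric on regular elements with a character of odd degree is principal -/
theorem mem_principal_of_sym (hM : IsPModular 2 M) {χ : IrrCharacter G}
    (hodd : Odd (charDegree (χ : G → ℂ)))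
    (hBc : ∀ g : G, ¬ 2 ∣ orderOf g →
      blockCoeff (blockOf M (χ : G → ℂ)) g⁻¹ = blockCoeff (blockOf M (χ : G → ℂ)) g)
    (hc : ∀ g : G, ¬ 2 ∣ orderOf g →
      red M (centralChar (χ : G → ℂ) g⁻¹) = red M (centralChar (χ : G → ℂ) g)) :
    χ ∈ principalBlock M G := by
  classical
  haveI := Fact.mk Nat.prime_two
  let one : IrrCharacter G := ⟨_, isIrr_one⟩
  have hB := blockOf_isPBlock (M := M) χ
  have h1 := omegaBar_blockIdem_sym hM hB hBc hodd hc
  have h2 := omegaBar_blockIdem_sym hM hB hBc (χ := one)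
    (by rw [charDegree_eq (χ := (one : G → ℂ)) (n := 1) (by simp [one])]; exact odd_one)
    (fun g _ => by simp only [centralChar, index_centralizer_inv]; rfl)
  rw [omegaBar_blockIdem, if_pos (show χ ∈ blockOf M (χ : G → ℂ) from sameBlock_refl _)] at h1
  rw [omegaBar_blockIdem, ← h1] at h2
  by_cases hm : one ∈ blockOf M (χ : G → ℂ)
  · exact sameBlock_symm hm
  · rw [if_neg hm] at h2
    exact absurd h2 zero_ne_one

/-- a conjugation-stable block with a character of odd degree is principal -/
theorem mem_principal_of_real (hM : IsPModular 2 M) {χ : IrrCharacter G}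
    (hodd : Odd (charDegree (χ : G → ℂ))) (hc : SameBlock M (χ : G → ℂ) (conjIrr χ : G → ℂ)) :
    χ ∈ principalBlock M G := by
  refine mem_principal_of_sym hM hodd
    (fun g _ => blockCoeff_inv (B := blockOf M (χ : G → ℂ))
      (fun ψ hψ => sameBlock_trans hc (sameBlock_conjIrr hψ)) g) fun g _ => ?_
  rw [← centralChar_conjIrr]
  exact ((sameBlock_iff_red χ.2 (conjIrr χ).2).mp hc g).symm

end CfsgLib.Blk
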