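import Cfsg.Agent.Blk.ClassCount
import Cfsg.Agent.S4491
import Mathlib.LinearAlgebra.Matrix.Rank

/-!
The number of blocks with a given normal defect group as the rank of a class matrix (Robinson).
-/

set_option autoImplicit false
set_option linter.style.haveILetI false
set_option linter.unusedSectionVars false

namespace CfsgLib.Blk.Robinson

open Cfsg CfsgLib.Char MonoidAlgebra Finset IsLocalRing Matrix
open scoped ComplexConjugate CfsgLib.Char

universe u v

/-- The rank of a matrix is unchanged under an extension of the field. -/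
theorem rank_map_field {F K m n : Type*} [Field F] [Field K] [Fintype m] [Fintype n]
    [DecidableEq m] [DecidableEq n] (f : F →+* K) (A : Matrix m n F) :
    (A.map f).rank = A.rank := by
  classical
  set V := LinearMap.range A.mulVecLin
  set r := Module.finrank F V
  have hr : A.rank = r := rfl
  set b : Module.Basis (Fin r) F V := Module.finBasis F V
  let X : Matrix m (Fin r) F := Matrix.of fun i j => (b j : m → F) i
  have hmem : ∀ j, A.mulVec (Pi.single j 1) ∈ V := fun j =>
    ⟨Pi.single j 1, Matrix.mulVecLin_apply _ _⟩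
  let Y : Matrix (Fin r) n F := Matrix.of fun l j => b.repr ⟨_, hmem j⟩ l
  have hAXY : A = X * Y := by
    ext i j
    have h := congrArg (fun w : V => (w : m → F) i) (b.sum_repr ⟨_, hmem j⟩)
    simp only [Submodule.coe_sum, Submodule.coe_smul, Finset.sum_apply, Pi.smul_apply,
      smul_eq_mul] at h
    have h2 : (A.mulVec (Pi.single j 1)) i = A i j := by simp
    rw [Matrix.mul_apply, ← h2]
    refine h.symm.trans (Finset.sum_congr rfl fun l _ => ?_)
    simp only [X, Y, Matrix.of_apply]
    ring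
  choose w hw using fun l => LinearMap.mem_range.1 (b l).2
  let W : Matrix n (Fin r) F := Matrix.of fun j l => w l j
  have hAW : A * W = X := by
    ext i l
    have h := congrFun (hw l) i
    rw [Matrix.mulVecLin_apply] at h
    exact h
  have hinj : LinearMap.ker X.mulVecLin = ⊥ := by
    rw [LinearMap.ker_eq_bot']
    intro c hc
    have h : ∑ l, c l • b l = 0 := by
      apply Subtype.ext
      funext i
      have h' := congrFun hc i
      simp only [Matrix.mulVecLin_apply, Matrix.mulVec, dotProduct, X, Matrix.of_apply,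
        Pi.zero_apply] at h'
      simp only [Submodule.coe_sum, Submodule.coe_smul, Finset.sum_apply, Pi.smul_apply,
        smul_eq_mul, Submodule.coe_zero, Pi.zero_apply]
      rw [← h']
      exact Finset.sum_congr rfl fun l _ => mul_comm _ _
    exact funext (Fintype.linearIndependent_iff.1 b.linearIndependent c h)
  obtain ⟨g, hg⟩ := X.mulVecLin.exists_leftInverse_of_injective hinj
  have hZ : LinearMap.toMatrix' g * X = 1 := by
    have h : LinearMap.toMatrix' (g.comp (Matrix.toLin' X)) = LinearMap.toMatrix' LinearMap.id :=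
      congrArg LinearMap.toMatrix' hg
    rwa [LinearMap.toMatrix'_comp, LinearMap.toMatrix'_toLin', LinearMap.toMatrix'_id] at h
  rw [hr]
  refine le_antisymm ?_ ?_
  · rw [hAXY, Matrix.map_mul]
    refine (Matrix.rank_mul_le_left _ _).trans ((Matrix.rank_le_card_width _).trans ?_)
    rw [Fintype.card_fin]
  · have h1 : (LinearMap.toMatrix' g).map f * A.map f * W.map f = 1 := by
      rw [← Matrix.map_mul, ← Matrix.map_mul, Matrix.mul_assoc, hAW, hZ,
        Matrix.map_one f (map_zero f) (map_one f)]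
    have h2 := (congrArg Matrix.rank h1).symm
    rw [Matrix.rank_one, Fintype.card_fin] at h2
    exact h2.trans_le ((Matrix.rank_mul_le_left _ _).trans (Matrix.rank_mul_le_right _ _))

/-- A product through an index type with one-sided inverses has full rank. -/
theorem rank_factor {K m n β : Type*} [Field K] [Fintype m] [Fintype n] [Fintype β]
    [DecidableEq β] {A : Matrix m β K} {L : Matrix β n K} {c : β → K}
    {A' : Matrix β m K} {L' : Matrix n β K} (hA : A' * A = 1) (hL : L * L' = 1)
    (hc : ∀ b, c b ≠ 0) : (A * Matrix.diagonal c * L).rank = Fintype.card β := by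
  classical
  refine le_antisymm ((Matrix.rank_mul_le_left _ _).trans (Matrix.rank_le_card_width _)) ?_
  have h1 : A' * (A * Matrix.diagonal c * L) * L' = Matrix.diagonal c := by
    simp only [Matrix.mul_assoc]
    rw [hL, Matrix.mul_one, ← Matrix.mul_assoc, hA, Matrix.one_mul]
  have h2 : (Matrix.diagonal c).rank = Fintype.card β :=
    Matrix.rank_of_det_ne_zero (by
      rw [Matrix.det_diagonal]
      exact Finset.prod_ne_zero_iff.2 fun b _ => hc b)
  rw [← h2]
  conv_lhs => rw [← h1]
  exact (Matrix.rank_mul_le_left _ _).trans (Matrix.rank_mul_le_right _ _)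

variable {G : Type u} [Group G] [Finite G] {p : ℕ} [Fact p.Prime]

/-- The multiplicity of the trivial character in the restriction to a subgroup. -/
theorem exists_mult (S : Subgroup G) (χ : IrrCharacter G) [Fintype S] :
    ∃ m : ℕ, ∑ s : S, conj ((χ : G → ℂ) s) = (Nat.card S : ℂ) * m := by
  obtain ⟨m, hm⟩ := inner_char_char (G := S) isCharacter_one
    (isCharacter_restrict S (isCharacter_of_isIrr χ.2))
  refine ⟨m, ?_⟩
  rw [← hm, classInner_def, ← mul_assoc, mul_inv_cancel₀ (natCard_ne_zero S), one_mul]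
  exact Finset.sum_congr rfl fun s _ => (one_mul _).symm

open Classical in
/-- Pairs from two classes with quotient in a subgroup, by characters. -/
theorem pair_count (S : Subgroup G) (y z : G) (m : IrrCharacter G → ℕ) [Fintype S]
    (hm : ∀ χ : IrrCharacter G, ∑ s : S, conj ((χ : G → ℂ) s) = (Nat.card S : ℂ) * m χ) :
    (Nat.card {yz : G × G // IsConj y yz.1 ∧ IsConj z yz.2 ∧ yz.2 * yz.1⁻¹ ∈ S} : ℂ) =
      (Nat.card S : ℂ) / (Nat.card G : ℂ) * ((Subgroup.centralizer ({z} : Set G)).index : ℂ) *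
        ∑ χ : IrrCharacter G,
          centralChar (χ : G → ℂ) y⁻¹ * (χ : G → ℂ) z * (m χ : ℂ) := by
  haveI := Fintype.ofFinite G
  set Z := Finset.univ.filter (fun a => IsConj z a) with hZdef
  set Y := Finset.univ.filter (fun b => IsConj y⁻¹ b) with hYdef
  have hinv : ∀ {a b : G}, IsConj a b → IsConj a⁻¹ b⁻¹ := fun h => by
    obtain ⟨k, rfl⟩ := isConj_iff.1 h
    exact isConj_iff.2 ⟨k, by group⟩
  have hcount : (Nat.card {yz : G × G // IsConj y yz.1 ∧ IsConj z yz.2 ∧ yz.2 * yz.1⁻¹ ∈ S} : ℂ) =
      ∑ a ∈ Z, ∑ b ∈ Y, (if a * b ∈ S then (1 : ℂ) else 0) := by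
    rw [← Finset.sum_product', Finset.sum_boole, Nat.card_eq_fintype_card, Fintype.card_subtype]
    congr 1
    refine Finset.card_bij' (fun yz _ => (yz.2, yz.1⁻¹)) (fun ab _ => (ab.2⁻¹, ab.1)) ?_ ?_ ?_ ?_
    · intro yz h
      simp only [Finset.mem_filter, Finset.mem_univ, true_and] at h
      simp only [Finset.mem_filter, Finset.mem_product, Z, Y, Finset.mem_univ, true_and]
      exact ⟨⟨h.2.1, hinv h.1⟩, h.2.2⟩
    · intro ab h
      simp only [Finset.mem_filter, Finset.mem_product, Z, Y, Finset.mem_univ, true_and] at h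
      simp only [Finset.mem_filter, Finset.mem_univ, true_and, inv_inv]
      exact ⟨by simpa using hinv h.1.2, h.1.1, h.2⟩
    · intro yz _; simp
    · intro ab _; simp
  set f : G → ℂ := indFun S (fun _ => (1 : ℂ))
  have hf : IsClassFunction G f := indFun_classFun S _
  have havg : ∑ a ∈ Z, ∑ b ∈ Y, f (a * b) =
      (Nat.card G : ℂ) / (Nat.card S : ℂ) * ∑ a ∈ Z, ∑ b ∈ Y, (if a * b ∈ S then (1 : ℂ) else 0) := by
    have hext : ∀ g : G, extendByZero S (fun _ => (1 : ℂ)) g = if g ∈ S then 1 else 0 := fun g => by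
      split_ifs with h
      · exact extendByZero_mem' S _ h
      · exact extendByZero_not_mem S _ h
    have hmove : ∀ x : G, ∑ a ∈ Z, ∑ b ∈ Y, (if x⁻¹ * (a * b) * x ∈ S then (1 : ℂ) else 0) =
        ∑ a ∈ Z, ∑ b ∈ Y, (if a * b ∈ S then (1 : ℂ) else 0) := by
      intro x
      refine Finset.sum_nbij' (fun a => x⁻¹ * a * x) (fun a => x * a * x⁻¹) ?_ ?_ ?_ ?_ ?_
      · intro a ha
        simp only [Z, Finset.mem_coe, Finset.mem_filter, Finset.mem_univ, true_and] at ha ⊢
        exact ha.trans (isConj_iff.2 ⟨x⁻¹, by rw [inv_inv]⟩)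
      · intro a ha
        simp only [Z, Finset.mem_coe, Finset.mem_filter, Finset.mem_univ, true_and] at ha ⊢
        exact ha.trans (isConj_iff.2 ⟨x, rfl⟩)
      · intro a _; group
      · intro a _; group
      · intro a _
        refine Finset.sum_nbij' (fun b => x⁻¹ * b * x) (fun b => x * b * x⁻¹) ?_ ?_ ?_ ?_ ?_
        · intro b hb
          simp only [Y, Finset.mem_coe, Finset.mem_filter, Finset.mem_univ, true_and] at hb ⊢
          exact hb.trans (isConj_iff.2 ⟨x⁻¹, by rw [inv_inv]⟩)
        · intro b hb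
          simp only [Y, Finset.mem_coe, Finset.mem_filter, Finset.mem_univ, true_and] at hb ⊢
          exact hb.trans (isConj_iff.2 ⟨x, rfl⟩)
        · intro b _; group
        · intro b _; group
        · intro b _
          rw [show x⁻¹ * (a * b) * x = x⁻¹ * a * x * (x⁻¹ * b * x) by group]
    simp only [f, indFun_apply, hext]
    simp only [← Finset.mul_sum]
    rw [Finset.sum_congr rfl fun a _ => Finset.sum_comm, Finset.sum_comm]
    simp only [hmove, Finset.sum_const, Finset.card_univ, nsmul_eq_mul,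
      Fintype.card_eq_nat_card]
    ring
  have hexp : ∑ a ∈ Z, ∑ b ∈ Y, f (a * b) = ∑ χ : IrrCharacter G,
      ((Subgroup.centralizer ({z} : Set G)).index : ℂ) *
        (centralChar (χ : G → ℂ) y⁻¹ * (χ : G → ℂ) z * (m χ : ℂ)) := by
    have hcoef : ∀ χ : IrrCharacter G, classInner f (χ : G → ℂ) = (m χ : ℂ) := fun χ => by
      rw [frobenius S _ (classFun_of_irr χ.2), classInner_def]
      simp only [one_mul, hm χ]
      rw [← mul_assoc, inv_mul_cancel₀ (natCard_ne_zero S), one_mul]
    have hfe : ∀ x, f x = ∑ χ : IrrCharacter G, (m χ : ℂ) * (χ : G → ℂ) x := fun x => by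
      conv_lhs => rw [classFun_eq_sum hf]
      simp [hcoef]
    simp only [hfe]
    rw [Finset.sum_congr rfl fun a _ => Finset.sum_comm, Finset.sum_comm]
    refine Finset.sum_congr rfl fun χ _ => ?_
    simp only [← Finset.mul_sum]
    have h := centralChar_mul χ.2 z y⁻¹
    rw [eq_div_iff (irr_one_ne_zero χ.2)] at h
    rw [← h]
    simp only [centralChar]
    field_simp [irr_one_ne_zero χ.2]
  rw [hcount]
  rw [← Finset.mul_sum] at hexp
  rw [hexp] at havg
  rw [mul_assoc, havg, ← mul_assoc, div_mul_div_cancel₀ (natCard_ne_zero G),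
    div_self (natCard_ne_zero S), one_mul]

theorem centralizer_inv (g : G) :
    Subgroup.centralizer ({g⁻¹} : Set G) = Subgroup.centralizer ({g} : Set G) := by
  ext x
  simp only [CfsgLib.Char.mem_centralizer_singleton]
  exact ⟨fun h => by simpa using (Commute.inv_right (show Commute x g⁻¹ from h)).eq,
    fun h => (Commute.inv_right (show Commute x g from h)).eq⟩

variable {M : Ideal AlgInt} [M.IsPrime]

/-- A block with a nonzero central character on a class of defect group `D ⊴ G` has defect group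
`D`. -/
theorem defect_eq_of_class (hM : IsPModular p M) {D : Subgroup G} [D.Normal] (hD : IsPGroup p D)
    {B : Set (IrrCharacter G)} (hB : IsPBlock M B) {χ : IrrCharacter G} (hχ : χ ∈ B) {g : G}
    (hg : IsSylowIn p D (Subgroup.centralizer ({g} : Set G)))
    (hne : red M (centralChar (χ : G → ℂ) g) ≠ 0) : IsDefectGroup p M B D := by
  obtain ⟨E, hE⟩ := exists_isDefectGroup hM hB
  obtain ⟨x, hx⟩ := minmax_ge hM hB hE hχ g ((red_centralChar_ne_zero_iff χ.2 g).1 hne) hg
  have h1 := normal_pgroup_le_defectGroup hM hB D hD hE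
  have h2 : E = D := by
    refine (Subgroup.eq_of_le_of_card_ge h1 ?_).symm
    rw [← card_map_conj E x]
    exact Subgroup.card_le_of_le hx
  exact h2 ▸ hE

/-- The classes seen by two blocks with the same normal defect group have that defect group. -/
theorem class_of_blocks (hM : IsPModular p M) {D : Subgroup G} [D.Normal]
    {B B' : Set (IrrCharacter G)} (hB : IsPBlock M B) (hB' : IsPBlock M B')
    (hBD : IsDefectGroup p M B D) (hB'D : IsDefectGroup p M B' D) {χ : IrrCharacter G}
    (hχ : χ ∈ B) {g : G} (hω : red M (centralChar (χ : G → ℂ) g) ≠ 0)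
    (he : residue (locRing M) ((blockIdem hM hB').coeff g) ≠ 0) :
    ¬ p ∣ orderOf g ∧ IsSylowIn p D (Subgroup.centralizer ({g} : Set G)) := by
  have hc : ¬ MemLocalIdeal M (blockCoeff B' g) :=
    (residue_blockIdem_ne_zero_iff hM hB' g).1 (by rw [coeff_redA]; exact he)
  refine ⟨fun hp => hc (by
    rw [blockCoeff_eq_zero_of_singular hM hB' hp]; exact memLocalIdeal_zero), ?_⟩
  obtain ⟨Q, hQ⟩ := exists_isSylowIn (p := p) (Subgroup.centralizer ({g} : Set G))
  obtain ⟨x, hx⟩ := minmax_le hM hB' hB'D g hc hQ.isPGroup hQ.le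
  obtain ⟨z, hz⟩ := minmax_ge hM hB hBD hχ g ((red_centralChar_ne_zero_iff χ.2 g).1 hω) hQ
  have h1 : D ≤ Q := fun d hd => hz (by
    rw [mem_map_conj]
    simpa using Subgroup.Normal.conj_mem ‹D.Normal› d hd z⁻¹)
  have h2 : D = Q := by
    refine Subgroup.eq_of_le_of_card_ge h1 ?_
    rw [← card_map_conj Q x]
    exact Subgroup.card_le_of_le hx
  exact h2 ▸ hQ

/-- Orthogonality against a Sylow subgroup: the weighted multiplicities of a block. -/
theorem sum_mult_block (hM : IsPModular p M) {B : Set (IrrCharacter G)} (hB : IsPBlock M B)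
    (S : Subgroup G) (hS : IsPGroup p S) [Fintype S] [DecidablePred (· ∈ B)]
    (m : IrrCharacter G → ℕ)
    (hm : ∀ χ : IrrCharacter G, ∑ s : S, conj ((χ : G → ℂ) s) = (Nat.card S : ℂ) * m χ) :
    Nat.card S * ∑ χ : IrrCharacter G,
      (if χ ∈ B then charDegree (χ : G → ℂ) * m χ else 0) =
      ∑ χ : IrrCharacter G, (if χ ∈ B then charDegree (χ : G → ℂ) ^ 2 else 0) := by
  classical
  apply Nat.cast_injective (R := ℂ)
  have key : ∀ s : S, ∑ χ : IrrCharacter G,
      (if χ ∈ B then (χ : G → ℂ) 1 * conj ((χ : G → ℂ) s) else 0) =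
      if s = 1 then ∑ χ : IrrCharacter G,
        (if χ ∈ B then ((charDegree (χ : G → ℂ) : ℂ)) ^ 2 else 0) else 0 := by
    intro s
    by_cases hs : s = 1
    · subst hs
      rw [if_pos rfl]
      refine Finset.sum_congr rfl fun χ _ => ?_
      rw [OneMemClass.coe_one]
      split_ifs
      · rw [irr_one_eq χ.2, Complex.conj_natCast]; ring
      · rfl
    · rw [if_neg hs]
      have hdvd : p ∣ orderOf (s : G) := by
        obtain ⟨k, hk⟩ := hS s
        rw [Subgroup.orderOf_coe]
        obtain ⟨j, -, hj⟩ := (Nat.dvd_prime_pow Fact.out).1 (orderOf_dvd_of_pow_eq_one hk)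
        rcases j with _ | j
        · exact absurd (orderOf_eq_one_iff.1 (by simpa using hj)) hs
        · rw [hj]; exact dvd_pow_self p j.succ_ne_zero
      have h := blockCoeff_eq_zero_of_singular hM hB hdvd
      rw [blockCoeff, mul_eq_zero, finsum_mem_eq_sum_ite] at h
      exact h.resolve_left (inv_ne_zero (natCard_ne_zero G))
  push_cast
  calc (Nat.card S : ℂ) * ∑ χ : IrrCharacter G,
      (if χ ∈ B then (charDegree (χ : G → ℂ) : ℂ) * (m χ : ℂ) else 0)
      = ∑ χ : IrrCharacter G, ∑ s : S,
          (if χ ∈ B then (χ : G → ℂ) 1 * conj ((χ : G → ℂ) s) else 0) := by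
        rw [Finset.mul_sum]
        refine Finset.sum_congr rfl fun χ _ => ?_
        split_ifs
        · rw [← Finset.mul_sum, hm χ, irr_one_eq χ.2]; ring
        · simp
    _ = ∑ s : S, ∑ χ : IrrCharacter G,
          (if χ ∈ B then (χ : G → ℂ) 1 * conj ((χ : G → ℂ) s) else 0) := Finset.sum_comm
    _ = _ := by
        rw [Finset.sum_congr rfl fun s _ => key s, Finset.sum_ite_eq' Finset.univ (1 : S)]
        simp

theorem main (hM : IsPModular p M) (D : Subgroup G) [D.Normal] (hD : IsPGroup p D) (S : Sylow p G)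
    {ι : Type v} [Fintype ι] [DecidableEq ι] (K : ι → ConjClasses G) (hKinj : Function.Injective K)
    (hK : ∀ C : ConjClasses G, (∃ i, K i = C) ↔ ∃ x ∈ C.carrier, ¬ p ∣ orderOf x ∧
      IsSylowIn p D (Subgroup.centralizer ({x} : Set G))) :
    Nat.card {B : Set (IrrCharacter G) // IsPBlock M B ∧ IsDefectGroup p M B D} =
      (Matrix.of fun i j : ι => ((Nat.card {yz : G × G // yz.1 ∈ (K i).carrier ∧
        yz.2 ∈ (K j).carrier ∧ yz.2 * yz.1⁻¹ ∈ (S : Subgroup G)} /
        p ^ ((Nat.card G).factorization p - (Nat.card D).factorization p) : ℕ) : ZMod p)).rank := by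
  classical
  have hp : p.Prime := Fact.out
  haveI : CharP (Res M) p := charP_res hM
  haveI := Fintype.ofFinite G
  haveI : Fintype (S : Subgroup G) := Fintype.ofFinite _
  haveI : Fintype (ConjClasses G) := Fintype.ofFinite _
  let β := {B : Set (IrrCharacter G) // IsPBlock M B ∧ IsDefectGroup p M B D}
  haveI : Fintype β := Fintype.ofFinite _
  obtain ⟨d, hd⟩ := IsPGroup.iff_card.1 hD
  have hdv : (Nat.card D).factorization p = d := by
    rw [hd, Nat.factorization_pow, hp.factorization]; simp
  obtain ⟨mG, hG, hmG⟩ := exists_card_eq (p := p) (G := G)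
  have hScard : Nat.card (S : Subgroup G) = p ^ pExp p G := S.card_eq_multiplicity
  choose y hy hyreg hyD using fun i => (hK (K i)).1 ⟨i, rfl⟩
  have hyK : ∀ i, ConjClasses.mk (y i) = K i := fun i => ConjClasses.mem_carrier_iff_mk_eq.1 (hy i)
  choose mi hmi hidx using fun i => index_centralizer_eq (hyD i) hd
  choose m hm using fun χ : IrrCharacter G => exists_mult (S : Subgroup G) χ
  have hmGC : (mG : ℂ) ≠ 0 := natCast_ne_zero_of_not_dvd hmG
  have hpk : ((p : ℂ) ^ (pExp p G - d)) ≠ 0 := pow_ne_zero _ prime_cast_ne_zero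
  set N : ι → ι → ℕ := fun i j => Nat.card {yz : G × G // yz.1 ∈ (K i).carrier ∧
    yz.2 ∈ (K j).carrier ∧ yz.2 * yz.1⁻¹ ∈ (S : Subgroup G)} with hNdef
  set W : ι → ι → ℂ := fun i j => ∑ χ : IrrCharacter G,
    centralChar (χ : G → ℂ) (y i)⁻¹ * (χ : G → ℂ) (y j) * (m χ : ℂ) with hWdef
  have hN : ∀ i j, (N i j : ℂ) * mG = (p : ℂ) ^ (pExp p G - d) * ((mi j : ℂ) * W i j) := by
    intro i j
    have e : N i j = Nat.card {yz : G × G // IsConj (y i) yz.1 ∧ IsConj (y j) yz.2 ∧
        yz.2 * yz.1⁻¹ ∈ (S : Subgroup G)} := by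
      refine Nat.card_congr (Equiv.subtypeEquivRight fun yz => ?_)
      rw [← hyK i, ← hyK j, ConjClasses.mem_carrier_iff_mk_eq, ConjClasses.mem_carrier_iff_mk_eq,
        ConjClasses.mk_eq_mk_iff_isConj, ConjClasses.mk_eq_mk_iff_isConj,
        isConj_comm (g := yz.1), isConj_comm (g := yz.2)]
    rw [e, pair_count (S : Subgroup G) (y i) (y j) m hm, hScard, hidx j, hG]
    have hpa : ((p : ℂ) ^ pExp p G) ≠ 0 := pow_ne_zero _ prime_cast_ne_zero
    push_cast
    field_simp
    rfl
  have hWmem : ∀ i j, W i j ∈ locRing M := fun i j =>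
    sum_mem fun χ _ => mul_mem (mul_mem (centralChar_mem χ.2 _) (irr_mem χ _)) (natCast_mem _ _)
  have hq : ∀ i j, ((N i j / p ^ (pExp p G - d) : ℕ) : ℂ) = (mG : ℂ)⁻¹ * ((mi j : ℂ) * W i j) := by
    intro i j
    have hdv : p ^ (pExp p G - d) ∣ N i j := by
      have h := pow_dvd_of_eq hM (p := p) (n := ((N i j * mG : ℕ) : ℤ))
        (mul_mem (natCast_mem (locRing M) (mi j)) (hWmem i j)) (by push_cast; rw [hN i j])
      exact (Nat.Coprime.pow_left _ (hp.coprime_iff_not_dvd.2 hmG)).dvd_of_dvd_mul_right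
        (by exact_mod_cast h)
    obtain ⟨q, hq⟩ := hdv
    rw [hq, Nat.mul_div_cancel_left _ (pow_pos hp.pos _)]
    have h := hN i j
    rw [hq] at h
    push_cast at h
    rw [mul_assoc] at h
    rw [← mul_left_cancel₀ hpk h, mul_left_comm, inv_mul_cancel₀ hmGC, mul_one]
  -- each term
  set n : IrrCharacter G → ℕ := fun χ => charDegree (χ : G → ℂ) / p ^ (pExp p G - d)
  have hn : ∀ (B : β) χ, χ ∈ B.1 →
      charDegree (χ : G → ℂ) = p ^ (pExp p G - d) * n χ := by
    intro B χ hχ
    refine (Nat.mul_div_cancel' ?_).symm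
    rw [hp.pow_dvd_iff_le_factorization (charDegree_pos χ.2).ne']
    exact sub_le_degExp hM B.2.2 hd hχ
  have hterm : ∀ (B : β) χ, χ ∈ B.1 → ∀ j,
      (mi j : Res M) * red M ((χ : G → ℂ) (y j)) =
        (n χ : Res M) * red M (centralChar (χ : G → ℂ) (y j)) := by
    intro B χ hχ j
    rw [← red_natCast, ← red_mul (natCast_mem _ _) (irr_mem χ _), ← red_natCast,
      ← red_mul (natCast_mem _ _) (centralChar_mem χ.2 _)]
    congr 1
    simp only [centralChar, hidx j, irr_one_eq χ.2]
    rw [hn B χ hχ]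
    have : (n χ : ℂ) ≠ 0 := by
      intro h0
      have h0' : n χ = 0 := by exact_mod_cast h0
      have := hn B χ hχ
      rw [h0', mul_zero] at this
      exact (charDegree_pos χ.2).ne' this
    push_cast
    field_simp
  let χB : β → IrrCharacter G := fun B => (isPBlock_nonempty B.2.1).choose
  have hχB : ∀ B, χB B ∈ B.1 := fun B => (isPBlock_nonempty B.2.1).choose_spec
  let lamv : β → G → Res M := fun B g => red M (centralChar (χB B : G → ℂ) g)
  have hlam : ∀ (B : β) χ, χ ∈ B.1 → ∀ g, red M (centralChar (χ : G → ℂ) g) = lamv B g :=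
    fun B χ hχ => (sameBlock_iff_red χ.2 (χB B).2).1 (sameBlock_of_mem B.2.1 hχ (hχB B))
  let c : β → Res M := fun B =>
    (mG : Res M)⁻¹ * ∑ χ : IrrCharacter G, (if χ ∈ B.1 then ((n χ * m χ : ℕ) : Res M) else 0)
  let A : Matrix ι β (Res M) := Matrix.of fun i B => lamv B (y i)⁻¹
  let L : Matrix β ι (Res M) := Matrix.of fun B j => lamv B (y j)
  have hR : ∀ i j, ((N i j / p ^ (pExp p G - d) : ℕ) : Res M) =
      (A * Matrix.diagonal c * L) i j := by
    intro i j
    have hmGinv := natCast_inv_mem hM hmG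
    have h1 : ((N i j / p ^ (pExp p G - d) : ℕ) : Res M) = (mG : Res M)⁻¹ *
        ∑ χ : IrrCharacter G, red M (centralChar (χ : G → ℂ) (y i)⁻¹) *
          ((mi j : Res M) * red M ((χ : G → ℂ) (y j))) * (m χ : Res M) := by
      rw [← red_natCast, hq i j, red_mul hmGinv (mul_mem (natCast_mem _ _) (hWmem i j)),
        red_mul (natCast_mem _ _) (hWmem i j)]
      have hinv : red M ((mG : ℂ)⁻¹) = (mG : Res M)⁻¹ := by
        refine eq_inv_of_mul_eq_one_left ?_
        rw [← red_natCast, ← red_mul hmGinv (natCast_mem _ _), inv_mul_cancel₀ hmGC, red_one]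
      rw [hinv, hWdef]
      simp only
      rw [red_sum _ _ fun χ _ => mul_mem (mul_mem (centralChar_mem χ.2 _) (irr_mem χ _))
        (natCast_mem _ _), Finset.mul_sum, Finset.mul_sum, red_natCast]
      refine Finset.mul_sum _ _ _ |>.symm.trans ?_
      rw [Finset.mul_sum, Finset.mul_sum]
      refine Finset.sum_congr rfl fun χ _ => ?_
      rw [red_mul (mul_mem (centralChar_mem χ.2 _) (irr_mem χ _)) (natCast_mem _ _),
        red_mul (centralChar_mem χ.2 _) (irr_mem χ _), red_natCast]
      ring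
    rw [h1, Matrix.mul_apply]
    simp only [Matrix.mul_diagonal, A, L, Matrix.of_apply, c, Finset.mul_sum, Finset.sum_mul]
    rw [Finset.sum_comm]
    refine Finset.sum_congr rfl fun χ _ => ?_
    by_cases hχD : ∃ B : β, χ ∈ B.1
    · obtain ⟨B, hχ⟩ := hχD
      rw [Finset.sum_eq_single B]
      · rw [if_pos hχ, hterm B χ hχ j, hlam B χ hχ, hlam B χ hχ, Nat.cast_mul]
        ring
      · intro B' _ hne
        rw [if_neg fun h => hne (Subtype.ext ((eq_blockOf B'.2.1 h).trans (eq_blockOf B.2.1 hχ).symm))]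
        simp
      · simp
    · rw [Finset.sum_eq_zero fun B _ => by rw [if_neg fun h => hχD ⟨B, h⟩]; simp]
      have h0 : red M (centralChar (χ : G → ℂ) (y i)⁻¹) = 0 := by
        by_contra hne
        refine hχD ⟨⟨_, blockOf_isPBlock χ, defect_eq_of_class hM hD (blockOf_isPBlock χ)
          (sameBlock_refl _) ?_ hne⟩, sameBlock_refl _⟩
        rw [centralizer_inv]
        exact hyD i
      rw [h0]; ring
  have hc : ∀ B, c B ≠ 0 := by
    intro B
    refine mul_ne_zero (inv_ne_zero ?_) ?_
    · rw [ne_eq, CharP.cast_eq_zero_iff (Res M) p]; exact hmG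
    · set T := ∑ χ : IrrCharacter G, (if χ ∈ B.1 then n χ * m χ else 0)
      have hT : (∑ χ : IrrCharacter G, (if χ ∈ B.1 then ((n χ * m χ : ℕ) : Res M) else 0)) =
          (T : Res M) := by
        simp [T, apply_ite (Nat.cast : ℕ → Res M)]
      rw [hT, ne_eq, CharP.cast_eq_zero_iff (Res M) p]
      set Sq := ∑ χ : IrrCharacter G, (if χ ∈ B.1 then charDegree (χ : G → ℂ) ^ 2 else 0)
      have h1 : p ^ pExp p G * (p ^ (pExp p G - d) * T) = Sq := by
        rw [← hScard]
        refine Eq.trans ?_ (sum_mult_block hM B.2.1 (S : Subgroup G) S.2 m hm)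
        rw [Finset.mul_sum]
        refine congrArg _ (Finset.sum_congr rfl fun χ _ => ?_)
        split_ifs with hχ
        · rw [hn B χ hχ]; ring
        · simp
      have h2 : Sq.factorization p = 2 * pExp p G - d := by
        have h := Cfsg.Agent.S4491.result p M hM B.1 B.2.1
        rw [finsum_mem_eq_sum_ite] at h
        rw [show d = blockDefect p B.1 from Nat.pow_right_injective hp.two_le
          (hd.symm.trans (card_defectGroup hM B.2.1 B.2.2))]
        exact h
      have hS0 : Sq ≠ 0 := by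
        obtain ⟨χ, hχ⟩ := isPBlock_nonempty B.2.1
        refine (Finset.sum_pos' (fun _ _ => Nat.zero_le _) ⟨χ, Finset.mem_univ _, ?_⟩).ne'
        rw [if_pos hχ]
        exact pow_pos (charDegree_pos χ.2) 2
      intro hdv
      obtain ⟨t, ht⟩ := hdv
      have hle : d ≤ pExp p G := (hp.pow_dvd_iff_le_factorization Nat.card_pos.ne').1
        (hd ▸ Subgroup.card_subgroup_dvd_card D)
      have h3 : p ^ (2 * pExp p G - d + 1) ∣ Sq := ⟨t, by
        rw [← h1, ht, pow_succ, show 2 * pExp p G - d = pExp p G + (pExp p G - d) by omega, pow_add]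
        ring⟩
      rw [hp.pow_dvd_iff_le_factorization hS0] at h3
      omega
  -- inverses
  have hσ : ∀ i, ∃ j, K j = ConjClasses.mk (y i)⁻¹ := fun i => (hK _).2
    ⟨(y i)⁻¹, ConjClasses.mem_carrier_mk, by rw [orderOf_inv]; exact hyreg i,
      by rw [centralizer_inv]; exact hyD i⟩
  choose σ hσ using hσ
  have hinvc : ∀ {a b : G}, ConjClasses.mk a = ConjClasses.mk b →
      ConjClasses.mk a⁻¹ = ConjClasses.mk b⁻¹ := fun h => by
    obtain ⟨k, rfl⟩ := isConj_iff.1 (ConjClasses.mk_eq_mk_iff_isConj.1 h)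
    exact ConjClasses.mk_eq_mk_iff_isConj.2 (isConj_iff.2 ⟨k, by group⟩)
  have hσy : ∀ i, ConjClasses.mk (y (σ i)) = ConjClasses.mk (y i)⁻¹ := fun i =>
    (hyK _).trans (hσ i)
  have hσinv : Function.Involutive σ := fun i => hKinj (by
    rw [hσ (σ i), hinvc (hσy i), inv_inv, hyK])
  have hLL : ∀ B B' : β, ∑ j, lamv B (y j) * residue (locRing M)
      ((blockIdem hM B'.2.1).coeff (y j)) = if B = B' then 1 else 0 := by
    intro B B'
    have hcls : ∀ C : ConjClasses G, ∀ g, ConjClasses.mk g = C →
        lamv B C.out = lamv B g ∧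
        (blockIdem hM B'.2.1).coeff C.out = (blockIdem hM B'.2.1).coeff g := by
      intro C g hg
      have hc : IsConj g C.out := ConjClasses.mk_eq_mk_iff_isConj.1 (hg.trans (Quotient.out_eq C).symm)
      refine ⟨congrArg (red M) (centralChar_isConj (classFun_of_irr (χB B).2) hc).symm, ?_⟩
      obtain ⟨k, hk⟩ := isConj_iff.1 hc
      rw [← hk]
      exact isClassCoeff_blockIdem hM B'.2.1 g k
    have h := omegaBar_blockIdem hM B'.2.1 (χB B)
    rw [omegaBar_eq_sum (χB B).2 (isClassCoeff_blockIdem hM B'.2.1)] at h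
    have e : (if B = B' then (1 : Res M) else 0) = if χB B ∈ B'.1 then 1 else 0 := by
      refine if_congr ⟨fun e => e ▸ hχB B, fun h => Subtype.ext
        ((eq_blockOf B.2.1 (hχB B)).trans (eq_blockOf B'.2.1 h).symm)⟩ rfl rfl
    rw [e, ← h]
    refine Eq.trans ?_ (Finset.sum_subset (Finset.subset_univ (Finset.univ.image K)) ?_)
    · rw [Finset.sum_image fun a _ b _ e => hKinj e]
      refine Finset.sum_congr rfl fun j _ => ?_
      obtain ⟨e1, e2⟩ := hcls (K j) (y j) (hyK j)
      rw [e2]
      change lamv B (y j) * _ = _ * lamv B (K j).out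
      rw [e1, mul_comm]
    · intro C _ hC
      by_contra hne
      obtain ⟨h1, h2⟩ := mul_ne_zero_iff.1 hne
      obtain ⟨h3, h4⟩ := class_of_blocks hM B.2.1 B'.2.1 B.2.2 B'.2.2 (hχB B) h2 h1
      obtain ⟨i, hi⟩ := (hK C).2 ⟨C.out,
        ConjClasses.mem_carrier_iff_mk_eq.2 (Quotient.out_eq C), h3, h4⟩
      exact hC (Finset.mem_image.2 ⟨i, Finset.mem_univ _, hi⟩)
  let L' : Matrix ι β (Res M) :=
    Matrix.of fun j B => residue (locRing M) ((blockIdem hM B.2.1).coeff (y j))
  let A' : Matrix β ι (Res M) := Matrix.of fun B j => L' (σ j) B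
  have hL : L * L' = 1 := by
    ext B B'
    rw [Matrix.mul_apply, Matrix.one_apply]
    exact hLL B B'
  have hA : A' * A = 1 := by
    ext B B'
    have e : (if B = B' then (1 : Res M) else 0) = if B' = B then 1 else 0 := by simp [eq_comm]
    rw [Matrix.mul_apply, Matrix.one_apply, e, ← hLL B' B]
    refine Fintype.sum_equiv (hσinv.toPerm σ) _ _ fun j => ?_
    simp only [Function.Involutive.coe_toPerm, A', A, L', Matrix.of_apply]
    rw [mul_comm]
    congr 1
    exact congrArg (red M) (centralChar_isConj (classFun_of_irr (χB B').2)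
      (ConjClasses.mk_eq_mk_iff_isConj.1 (hσy j))).symm
  rw [← rank_map_field (ZMod.castHom (dvd_refl p) (Res M))]
  have e : (Matrix.of fun i j : ι => ((N i j /
      p ^ ((Nat.card G).factorization p - (Nat.card D).factorization p) : ℕ) : ZMod p)).map
      (ZMod.castHom (dvd_refl p) (Res M)) = A * Matrix.diagonal c * L := by
    ext i j
    rw [Matrix.map_apply, Matrix.of_apply, map_natCast, hdv]
    exact hR i j
  rw [e, rank_factor hA hL hc, ← Nat.card_eq_fintype_card]

end CfsgLib.Blk.Robinson
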