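import Cfsg.Agent.Blk.RankOneForm
import Cfsg.Agent.Blk.Contribution
import Cfsg.Agent.Blk.CentralQuotient
import Cfsg.Agent.Blk.BrauerFeit
import Cfsg.Agent.Blk.AbelianStable
import Cfsg.Agent.Blk.RegExpand
import Cfsg.Agent.Char.PowerPart

/-!
Blocks of small defect: `k(B) ≤ p^2` for defect at most two, and the weighted contribution bound.
-/

set_option autoImplicit false
set_option linter.style.haveILetI false
set_option linter.unusedSectionVars false
set_option maxHeartbeats 800000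

namespace CfsgLib.SmallDefect

open Cfsg CfsgLib.Char CfsgLib.Blk CfsgLib.SectionSplit CfsgLib.Contribution
open scoped CfsgLib.Char ComplexConjugate

universe u

variable {M : Ideal AlgInt} [M.IsPrime] {p : ℕ} [Fact p.Prime]

theorem pow_dvd_of_locRing (hM : IsPModular p M) {x : ℂ} (hx : x ∈ locRing M) :
    ∀ (K : ℕ) (n : ℤ), (n : ℂ) = (p : ℂ) ^ K * x → (p : ℤ) ^ K ∣ n := by
  intro K
  induction K with
  | zero => exact fun n _ => by simp
  | succ K ih =>
    intro n hn
    haveI := charP_res (M := M) hM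
    have h1 : (p : ℤ) ∣ n := by
      refine (CharP.intCast_eq_zero_iff (Res M) p n).1 ?_
      rw [← red_intCast, hn, pow_succ', mul_assoc,
        red_mul (natCast_mem _ p) (mul_mem (pow_mem (natCast_mem _ p) _) hx), red_natCast,
        CharP.cast_eq_zero, zero_mul]
    obtain ⟨n', rfl⟩ := h1
    rw [pow_succ']
    refine mul_dvd_mul_left _ (ih n' (mul_left_cancel₀ (prime_cast_ne_zero (p := p)) ?_))
    push_cast at hn
    rw [hn, pow_succ', mul_assoc]

/-- The product over the primitive roots of an integral polynomial is an integer. -/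
theorem exists_int_prod_primitive {N : ℕ} (hN : N ≠ 0) (P : Polynomial ℤ) :
    ∃ n : ℤ, ∏ ζ ∈ primitiveRoots N ℂ, Polynomial.aeval ζ P = (n : ℂ) := by
  classical
  haveI : NeZero (N : ℂ) := ⟨Nat.cast_ne_zero.2 hN⟩
  have key := Polynomial.resultant_map_map (Polynomial.cyclotomic N ℤ) P
    (Polynomial.cyclotomic N ℤ).natDegree P.natDegree (Int.castRingHom ℂ)
  have hdeg : ((Polynomial.cyclotomic N ℤ).map (Int.castRingHom ℂ)).natDegree =
      (Polynomial.cyclotomic N ℤ).natDegree :=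
    (Polynomial.cyclotomic.monic N ℤ).natDegree_map _
  rw [← hdeg, Polynomial.map_cyclotomic, Polynomial.resultant_eq_prod_eval _ _ _
    Polynomial.natDegree_map_le (IsAlgClosed.splits _)] at key
  rw [(Polynomial.cyclotomic.monic N ℂ).leadingCoeff, one_pow, one_mul,
    Polynomial.cyclotomic.roots_eq_primitiveRoots_val] at key
  refine ⟨_, Eq.trans ?_ key⟩
  rw [Finset.prod_eq_multiset_prod]
  refine congrArg Multiset.prod (Multiset.map_congr rfl fun ζ _ => ?_)
  simp [Polynomial.aeval_def, Polynomial.eval_map, algebraMap_int_eq]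

/-- Conjugates all divisible exactly by `p^h`: the mean square is at least `p^(2h)`. -/
theorem le_sum_primitive (hM : IsPModular p M) {N : ℕ} (hN : N ≠ 0) (P : Polynomial ℤ) (h : ℕ)
    (hyp : ∀ ζ ∈ primitiveRoots N ℂ, ∃ x ∈ locRing M, ¬ MemLocalIdeal M x ∧
      Polynomial.aeval ζ P = (p : ℂ) ^ h * x) :
    ((primitiveRoots N ℂ).card : ℝ) * (p : ℝ) ^ (2 * h) ≤
      ∑ ζ ∈ primitiveRoots N ℂ, ‖Polynomial.aeval ζ P‖ ^ 2 := by
  classical
  choose! x hx hxu hxe using hyp
  set S := primitiveRoots N ℂ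
  have hp0 : (0 : ℝ) < (p : ℝ) ^ (2 * h) := pow_pos (Nat.cast_pos.2 (Fact.out : p.Prime).pos) _
  have hne : ∀ ζ ∈ S, Polynomial.aeval ζ P ≠ 0 := by
    intro ζ hζ
    rw [hxe ζ hζ]
    exact mul_ne_zero (pow_ne_zero _ prime_cast_ne_zero) fun e => hxu ζ hζ (e ▸ memLocalIdeal_zero)
  obtain ⟨n, hn⟩ := exists_int_prod_primitive hN P
  have hdvd : (p : ℤ) ^ (h * S.card) ∣ n := by
    refine pow_dvd_of_locRing hM (prod_mem hx) _ _ ?_
    rw [← hn, Finset.prod_congr rfl hxe, Finset.prod_mul_distrib, Finset.prod_const, ← pow_mul]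
  have hn0 : n ≠ 0 := fun e => (Finset.prod_ne_zero_iff.2 hne) (by rw [hn, e, Int.cast_zero])
  have hlow : (1 : ℝ) ≤ ∏ ζ ∈ S, ‖Polynomial.aeval ζ P‖ ^ 2 / (p : ℝ) ^ (2 * h) := by
    rw [Finset.prod_div_distrib, Finset.prod_const, Finset.prod_pow, ← norm_prod, hn,
      Complex.norm_intCast, le_div_iff₀ (pow_pos hp0 _), one_mul, sq_abs, ← pow_mul,
      show 2 * h * S.card = h * S.card * 2 by ring, pow_mul]
    have h1 : (p : ℤ) ^ (h * S.card) ≤ |n| :=
      Int.le_of_dvd (abs_pos.2 hn0) ((dvd_abs _ _).2 hdvd)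
    have h2 : ((p : ℝ) ^ (h * S.card)) ≤ |(n : ℝ)| := by exact_mod_cast h1
    rw [← sq_abs (n : ℝ)]
    exact pow_le_pow_left₀ (by positivity) h2 2
  have := card_le_sum_of_one_le_prod S (fun ζ => ‖Polynomial.aeval ζ P‖ ^ 2 / (p : ℝ) ^ (2 * h))
    (fun ζ hζ => div_pos (pow_pos (norm_pos_iff.2 (hne ζ hζ)) 2) hp0) hlow
  rwa [← Finset.sum_div, le_div_iff₀ hp0] at this

theorem aeval_ne_zero_primitive {N : ℕ} (hN : N ≠ 0) {P : Polynomial ℤ} {ζ ζ' : ℂ}
    (hζ : IsPrimitiveRoot ζ N) (hζ' : IsPrimitiveRoot ζ' N) (h : Polynomial.aeval ζ P ≠ 0) :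
    Polynomial.aeval ζ' P ≠ 0 := by
  intro h0
  have hd := minpoly.isIntegrallyClosed_dvd (hζ'.isIntegral (Nat.pos_of_ne_zero hN)) h0
  rw [← Polynomial.cyclotomic_eq_minpoly hζ' (Nat.pos_of_ne_zero hN),
    Polynomial.cyclotomic_eq_minpoly hζ (Nat.pos_of_ne_zero hN)] at hd
  obtain ⟨Q, rfl⟩ := hd
  exact h (by rw [map_mul, minpoly.aeval, zero_mul])

variable {G : Type u} [Group G]

/-- Centralisers of coprime powers. -/
theorem centralizer_pow {y : G} {j : ℕ} (hj : j.Coprime (orderOf y)) :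
    Subgroup.centralizer ({y ^ j} : Set G) = Subgroup.centralizer ({y} : Set G) := by
  obtain ⟨m, hm⟩ := exists_pow_eq_self_of_coprime hj
  ext x
  simp only [Subgroup.mem_centralizer_singleton_iff]
  refine ⟨fun h => ?_, fun h => (Commute.pow_right h j)⟩
  have h' : Commute x (y ^ j) := h
  have := h'.pow_right m
  rwa [hm] at this

section contrib

variable [Fintype G] {u : G} {H : Subgroup G} [Fintype H] {b : Set (IrrCharacter H)}
  (hM : IsPModular p M) (hH : Subgroup.centralizer ({u} : Set G) = H)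
include hM hH

/-- The components at the powers of `u`, with exponents of a fixed root of unity. -/
theorem exists_exponents (hb : IsPBlock M b) {ζ : ℂ} (hζ : IsPrimitiveRoot ζ (orderOf u))
    [DecidablePred (· ∈ b)] :
    ∃ (n : IrrCharacter G → IrrCharacter H → ℕ) (e : IrrCharacter H → ℕ), ∀ (j : ℕ) (χ : IrrCharacter G),
      compL p (u ^ j) H b (χ : G → ℂ) = ∑ η : IrrCharacter H,
        (if η ∈ b then (n χ η : ℂ) * ζ ^ (j * e η) else 0) • regPart p (η : H → ℂ) := by
  classical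
  let x' : H := ⟨u, self_mem hH⟩
  have hx'c : ∀ c, Commute x' c := fun c => Subtype.ext
    (Subgroup.mem_centralizer_singleton_iff.1 (hH.symm ▸ c.2)).symm
  have hres : ∀ χ : IrrCharacter G, IsCharacter H (fun c : H => (χ : G → ℂ) c) := fun χ =>
    isCharacter_restrict H (isCharacter_of_isIrr χ.2)
  choose n hn using fun (χ : IrrCharacter G) (η : IrrCharacter H) => inner_char_irr (hres χ) η.2
  have hexp : ∀ (χ : IrrCharacter G) (c : H), (χ : G → ℂ) c =
      ∑ η : IrrCharacter H, (n χ η : ℂ) * (η : H → ℂ) c := fun χ c => by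
    have := congrFun (classFun_eq_sum (classFun_of_char (hres χ))) c
    simp only [hn, Finset.sum_apply, Pi.smul_apply, smul_eq_mul] at this
    exact this
  choose z hz1 hz using fun η : IrrCharacter H => exists_central_scalar η hx'c
  have hord : orderOf x' = orderOf u := (Subgroup.orderOf_coe x').symm
  simp only [hord] at hz1
  haveI : NeZero (orderOf u) := ⟨(orderOf_pos u).ne'⟩
  choose e he he' using fun η => hζ.eq_pow_of_pow_eq_one (hz1 η)
  refine ⟨n, e, fun j χ => ?_⟩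
  have es : shiftL (u ^ j) H (χ : G → ℂ) =
      ∑ η : IrrCharacter H, ((n χ η : ℂ) * z η ^ j) • (η : H → ℂ) := by
    funext c
    show (χ : G → ℂ) (u ^ j * c) = _
    rw [show u ^ j * (c : G) = ((x' ^ j * c : H) : G) by simp [x'], hexp]
    simp only [Finset.sum_apply, Pi.smul_apply, smul_eq_mul]
    exact Finset.sum_congr rfl fun η _ => by rw [hz, mul_assoc]
  rw [compL, LinearMap.comp_apply, LinearMap.comp_apply, es, map_sum, map_sum]
  refine Finset.sum_congr rfl fun η _ => ?_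
  rw [map_smul, map_smul]
  funext s
  have hb' : bmul b (η : H → ℂ) = fun y => if η ∈ b then (η : H → ℂ) y else 0 := by
    funext y
    rw [bmul_apply, sum_blockCoeff_mul_char hM hb]
  rw [hb', ← he' η, ← pow_mul, mul_comm (e η) j]
  by_cases hs : p ∣ orderOf s
  · simp [regL_val' _ _ hs, regPart, hs]
  · simp only [Pi.smul_apply, smul_eq_mul, regL_val _ _ hs, regPart, hs, if_false]
    split_ifs <;> simp

/-- The contributions at the powers of `u` are values of fixed integral polynomials. -/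
theorem exists_poly (hb : IsPBlock M b) {ζ : ℂ} (hζ : IsPrimitiveRoot ζ (orderOf u)) :
    ∃ P : IrrCharacter G → IrrCharacter G → Polynomial ℤ, ∀ (j : ℕ) (χ χ' : IrrCharacter G),
      mm p (u ^ j) H b χ χ' = Polynomial.aeval (ζ ^ j) (P χ χ') := by
  classical
  obtain ⟨n, e, hc⟩ := exists_exponents hM hH hb hζ
  have ha' : ∀ η η' : IrrCharacter H, ∃ a : ℤ, η ∈ b → (a : ℂ) =
      (p : ℂ) ^ blockDefect p b * classInner (regPart p (η : H → ℂ)) (η' : H → ℂ) := fun η η' => by
    by_cases h : η ∈ b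
    · obtain ⟨a, _, _, _, _, h1, _⟩ := exists_regCartan hM hb h η'
      exact ⟨a, fun _ => h1⟩
    · exact ⟨0, fun h' => absurd h' h⟩
  choose a ha using ha'
  set N := orderOf u with hN
  have hN0 : N ≠ 0 := (orderOf_pos u).ne'
  refine ⟨fun χ χ' => ∑ η, ∑ η', if η ∈ b then (if η' ∈ b then
      Polynomial.C ((n χ η : ℤ) * (n χ' η' : ℤ) * a η η') * Polynomial.X ^ (e η + (N - 1) * e η')
        else 0) else 0, fun j χ χ' => ?_⟩
  rw [mm, hc, hc, classInner_sum_left, Finset.mul_sum, map_sum]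
  refine Finset.sum_congr rfl fun η _ => ?_
  rw [classInner_smul_left, classInner_sum_right, Finset.mul_sum, Finset.mul_sum, map_sum]
  refine Finset.sum_congr rfl fun η' _ => ?_
  rw [classInner_smul_right]
  have hrr : classInner (regPart p (η : H → ℂ)) (regPart p (η' : H → ℂ)) =
      classInner (regPart p (η : H → ℂ)) (η' : H → ℂ) := by
    simp only [classInner_def, regPart]
    refine congrArg _ (Finset.sum_congr rfl fun c _ => ?_)
    by_cases hc : p ∣ orderOf c <;> simp [hc]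
  rw [hrr]
  split_ifs with h h'
  · simp only [map_mul, map_pow, Polynomial.aeval_X, Polynomial.aeval_C, algebraMap_int_eq, eq_intCast, map_intCast, map_natCast]
    push_cast
    rw [ha η η' h]
    have hc2 : conj ζ = ζ ^ (N - 1) := by
      rw [← Complex.inv_eq_conj (Complex.norm_eq_one_of_pow_eq_one hζ.pow_eq_one hN0)]
      refine (eq_inv_of_mul_eq_one_left ?_).symm
      rw [← pow_succ, Nat.sub_add_cancel (Nat.pos_of_ne_zero hN0), hζ.pow_eq_one]
    rw [hc2, ← pow_mul, ← pow_mul, mul_add, pow_add, show (N - 1) * (j * e η') = j * ((N - 1) * e η') by ring]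
    ring
  all_goals simp

variable {B : Set (IrrCharacter G)} {k : ℕ} (hu : orderOf u = p ^ k)
include hu

/-- The sum of all squared contributions. -/
theorem sum_sq_mm (hb : IsPBlock M b) {j : ℕ} (hj : j.Coprime (orderOf u)) :
    ∑ χ : IrrCharacter G, ∑ χ' : IrrCharacter G, ‖mm p (u ^ j) H b χ χ'‖ ^ 2 =
      ((p : ℝ) ^ blockDefect p b) ^ 2 * (blockRank p b : ℝ) := by
  have hu' : ∃ k : ℕ, orderOf (u ^ j) = p ^ k := ⟨k, by rw [Nat.Coprime.orderOf_pow hj.symm, hu]⟩
  have hH' : Subgroup.centralizer ({u ^ j} : Set G) = H := (centralizer_pow hj).trans hH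
  refine Complex.ofReal_injective ?_
  push_cast
  calc ∑ χ : IrrCharacter G, ∑ χ' : IrrCharacter G, ((‖mm p (u ^ j) H b χ χ'‖ : ℂ)) ^ 2
      = ∑ χ : IrrCharacter G, (p : ℂ) ^ blockDefect p b * mm p (u ^ j) H b χ χ := by
        refine Finset.sum_congr rfl fun χ _ => ?_
        rw [← mm_idem hM hu' hH' hb]
        refine Finset.sum_congr rfl fun χ' _ => ?_
        rw [← conj_mm b χ χ', Complex.mul_conj']
    _ = _ := by rw [← Finset.mul_sum, mm_trace hM hu' hH' hb, sq, mul_assoc]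

/-- The weighted contribution bound of a major subsection. -/
theorem mul_sum_heights_le (hind : IsInducedBlock M H b B) (hd : blockDefect p b = blockDefect p B)
    (S₀ S : Finset (IrrCharacter G)) (hS₀ : ∀ ψ ∈ S₀, ψ ∈ B ∧ blockHeight p B (ψ : G → ℂ) = 0)
    (hS : ∀ χ ∈ S, χ ∈ B) :
    S₀.card * ∑ χ ∈ S, p ^ (2 * blockHeight p B (χ : G → ℂ)) ≤
      p ^ (2 * blockDefect p B) * blockRank p b := by
  classical
  set N := orderOf u with hN
  have hN0 : N ≠ 0 := (orderOf_pos u).ne'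
  haveI : NeZero N := ⟨hN0⟩
  obtain ⟨ζ, hζ⟩ : ∃ ζ : ℂ, IsPrimitiveRoot ζ N := ⟨_, Complex.isPrimitiveRoot_exp N hN0⟩
  obtain ⟨P, hP⟩ := exists_poly hM hH hind.1 hζ
  have hroot : ∀ ζ' ∈ primitiveRoots N ℂ, ∃ j : ℕ, j.Coprime N ∧ ζ' = ζ ^ j := by
    intro ζ' hζ'
    obtain ⟨j, -, hj, h⟩ := (hζ.isPrimitiveRoot_iff (ξ := ζ')).1
      ((mem_primitiveRoots (Nat.pos_of_ne_zero hN0)).1 hζ')
    exact ⟨j, hj, h.symm⟩
  have hlow : ∀ ψ ∈ S₀, ∀ χ ∈ S, ((primitiveRoots N ℂ).card : ℝ) * (p : ℝ) ^ (2 * blockHeight p B (χ : G → ℂ)) ≤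
      ∑ ζ' ∈ primitiveRoots N ℂ, ‖Polynomial.aeval ζ' (P χ ψ)‖ ^ 2 := by
    intro ψ hψ χ hχ
    refine le_sum_primitive hM hN0 _ _ fun ζ' hζ' => ?_
    obtain ⟨j, hj, rfl⟩ := hroot ζ' hζ'
    obtain ⟨⟨x, hx, hxu, hxe⟩, -⟩ := mm_major hM
      ⟨k, (Nat.Coprime.orderOf_pow hj.symm).trans hu⟩ ((centralizer_pow hj).trans hH) hind hd (hS χ hχ)
      (hS₀ ψ hψ).1 (hS₀ ψ hψ).2
    exact ⟨x, hx, hxu, by rw [← hP, hxe]⟩
  have hup : ∀ ζ' ∈ primitiveRoots N ℂ, ∑ ψ ∈ S₀, ∑ χ ∈ S, ‖Polynomial.aeval ζ' (P χ ψ)‖ ^ 2 ≤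
      ((p : ℝ) ^ blockDefect p B) ^ 2 * (blockRank p b : ℝ) := by
    intro ζ' hζ'
    obtain ⟨j, hj, rfl⟩ := hroot ζ' hζ'
    simp only [← hP]
    rw [← hd, ← sum_sq_mm hM hH hu hind.1 hj, Finset.sum_comm]
    refine le_trans (Finset.sum_le_sum fun χ _ => Finset.sum_le_univ_sum_of_nonneg fun _ => sq_nonneg _)
      (Finset.sum_le_univ_sum_of_nonneg fun χ => Finset.sum_nonneg fun _ _ => sq_nonneg _)
  have hpos : (0 : ℝ) < ((primitiveRoots N ℂ).card : ℝ) :=
    Nat.cast_pos.2 (Finset.card_pos.2 ⟨ζ, (mem_primitiveRoots (Nat.pos_of_ne_zero hN0)).2 hζ⟩)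
  have key : ((primitiveRoots N ℂ).card : ℝ) *
      ((S₀.card : ℝ) * ∑ χ ∈ S, (p : ℝ) ^ (2 * blockHeight p B (χ : G → ℂ))) ≤
      ((primitiveRoots N ℂ).card : ℝ) * (((p : ℝ) ^ blockDefect p B) ^ 2 * (blockRank p b : ℝ)) := by
    calc _ = ∑ _ψ ∈ S₀, ∑ χ ∈ S, ((primitiveRoots N ℂ).card : ℝ) * (p : ℝ) ^ (2 * blockHeight p B (χ : G → ℂ)) := by
          rw [Finset.sum_const, nsmul_eq_mul, ← Finset.mul_sum]; ring
      _ ≤ ∑ ψ ∈ S₀, ∑ χ ∈ S, ∑ ζ' ∈ primitiveRoots N ℂ, ‖Polynomial.aeval ζ' (P χ ψ)‖ ^ 2 :=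
          Finset.sum_le_sum fun ψ hψ => Finset.sum_le_sum fun χ hχ => hlow ψ hψ χ hχ
      _ = ∑ ζ' ∈ primitiveRoots N ℂ, ∑ ψ ∈ S₀, ∑ χ ∈ S, ‖Polynomial.aeval ζ' (P χ ψ)‖ ^ 2 :=
          (Finset.sum_congr rfl fun ψ _ => Finset.sum_comm).trans Finset.sum_comm
      _ ≤ ∑ _ζ' ∈ primitiveRoots N ℂ, ((p : ℝ) ^ blockDefect p B) ^ 2 * (blockRank p b : ℝ) :=
          Finset.sum_le_sum hup
      _ = _ := by rw [Finset.sum_const, nsmul_eq_mul]
  have h := le_of_mul_le_mul_left key hpos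
  rw [← pow_mul, mul_comm (blockDefect p B) 2] at h
  exact_mod_cast h

end contrib

section reduction

variable [Fintype G]

/-- A major subsection through an element of the centre of a defect group. -/
theorem exists_major_center (hM : IsPModular p M) {B : Set (IrrCharacter G)} (hB : IsPBlock M B)
    {P : Subgroup G} (hP : IsDefectGroup p M B P) {u : G} (hu : u ∈ P) (hc : ∀ x ∈ P, Commute u x) :
    ∃ f : Set (IrrCharacter (Pair.Cn (Subgroup.zpowers u))),
      IsInducedBlock M (Pair.Cn (Subgroup.zpowers u)) f B ∧ blockDefect p f = blockDefect p B := by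
  classical
  obtain ⟨e, hmax⟩ := Pair.exists_maximal_of_defectGroup hM hB hP
  have he := hmax.1.1
  set Q := Subgroup.zpowers u with hQ
  have hQP : Q ≤ P := Subgroup.zpowers_le.2 hu
  obtain ⟨f, hf, hsub⟩ := Pair.exists_subpair hM P he hQP
  have hQC : Q ≤ Pair.Cn Q := by
    rw [hQ, ← CfsgLib.SubsectionPairs.cn_zpowers]
    exact Subgroup.zpowers_le.2 (Subgroup.mem_centralizer_singleton_iff.2 rfl)
  have hind : IsInducedBlock M (Pair.Cn Q) f B :=
    (CfsgLib.SubsectionPairs.pairOf_iff_induced hM hf.1 hQC hB).1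
      ((Pair.pairOf_congr hM hsub).1 hmax.1)
  refine ⟨f, hind, ?_⟩
  have hPC : P ≤ Pair.Cn Q := fun x hx q hq => by
    obtain ⟨i, rfl⟩ := Subgroup.mem_zpowers_iff.1 hq
    exact ((hc x hx).zpow_left i).eq
  obtain ⟨D, hD, hle⟩ := Pair.local_le_defectGroup hM hf.2 (Pair.resA_inA _ _).symm (Pair.Cn_le_normalizer Q)
    he hsub le_rfl hPC (fun g => by
      rw [sup_eq_right.2 hQP]
      exact ⟨fun h => ⟨Pair.Cn_antitone hQP h, h⟩, fun h => h.2⟩)
  obtain ⟨E, hE, hDE⟩ := exists_defectGroup_ge hM hind hD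
  have c1 := Subgroup.card_le_of_le hle
  rw [Nat.card_congr (Subgroup.subgroupOfEquivOfLe hPC).toEquiv, card_defectGroup hM hB hP,
    card_defectGroup hM hf.2 hD] at c1
  have c2 := Subgroup.card_le_of_le hDE
  rw [Subgroup.card_subtype, card_defectGroup hM hf.2 hD, card_defectGroup hM hB hE] at c2
  exact Nat.pow_right_injective (Fact.out : p.Prime).two_le (le_antisymm c2 c1)

/-- The reduction to a central subgroup of order `p` in a centraliser. -/
theorem exists_reduction (hM : IsPModular p M) {B : Set (IrrCharacter G)} (hB : IsPBlock M B)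
    (hd : 1 ≤ blockDefect p B) :
    ∃ (u : G) (H : Subgroup G) (b : Set (IrrCharacter H)) (Z : Subgroup H) (_ : Z.Normal),
      orderOf u = p ∧ Subgroup.centralizer ({u} : Set G) = H ∧ IsInducedBlock M H b B ∧
        blockDefect p b = blockDefect p B ∧ Z ≤ Subgroup.center H ∧ Nat.card Z = p := by
  classical
  obtain ⟨P, hP⟩ := exists_isDefectGroup hM hB
  have hPc := card_defectGroup hM hB hP
  haveI : Nontrivial P := by
    rw [← Finite.one_lt_card_iff_nontrivial, hPc]
    exact Nat.one_lt_pow (by omega) (Fact.out : p.Prime).one_lt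
  have hPp := IsDefectGroup.isPGroup hP
  haveI := hPp.center_nontrivial
  have hdvd : p ∣ Nat.card (Subgroup.center P) := by
    obtain ⟨n, hn⟩ := IsPGroup.iff_card.1 (hPp.to_subgroup (Subgroup.center P))
    rcases Nat.eq_zero_or_pos n with rfl | hn0
    · exact absurd hn (Finite.one_lt_card_iff_nontrivial.2 inferInstance).ne'
    · exact hn ▸ dvd_pow_self p hn0.ne'
  obtain ⟨v, hv⟩ := exists_prime_orderOf_dvd_card' p hdvd
  set u : G := ((v : P) : G) with hu
  have hou : orderOf u = p := by rw [hu, Subgroup.orderOf_coe, Subgroup.orderOf_coe, hv]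
  obtain ⟨f, hind, hdef⟩ := exists_major_center hM hB hP (v : P).2 fun x hx =>
    congrArg Subtype.val (Subgroup.mem_center_iff.1 v.2 ⟨x, hx⟩).symm
  have hH := CfsgLib.SubsectionPairs.cn_zpowers u
  let x' : Pair.Cn (Subgroup.zpowers u) := ⟨u, self_mem hH⟩
  have hZc : Subgroup.zpowers x' ≤ Subgroup.center _ := Subgroup.zpowers_le.2 (Subgroup.mem_center_iff.2 fun g =>
    Subtype.ext (Subgroup.mem_centralizer_singleton_iff.1 (hH.symm ▸ g.2 : (g : G) ∈ _)))
  refine ⟨u, _, f, Subgroup.zpowers x', ⟨fun n hn g => ?_⟩, hou, hH, hind, hdef, hZc, ?_⟩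
  · rw [Subgroup.mem_center_iff.1 (hZc hn) g, mul_inv_cancel_right]; exact hn
  · rw [Nat.card_zpowers, ← Subgroup.orderOf_coe]; exact hou

end reduction

section quotient

variable [Fintype G] (Z : Subgroup G) [Z.Normal] (hZ : Z ≤ Subgroup.center G) (hZc : Nat.card Z = p)

include hZc in
theorem isPGroup_of_card_prime : IsPGroup p Z := IsPGroup.of_card (n := 1) (by rw [hZc, pow_one])

include hZ hZc

theorem defect_bar_eq (hM : IsPModular p M) {b : Set (IrrCharacter G)} (hb : IsPBlock M b) :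
    blockDefect p (CentralQuotient.bar Z b) + 1 = blockDefect p b := by
  classical
  have hZp := isPGroup_of_card_prime Z hZc
  obtain ⟨D, hD⟩ := exists_isDefectGroup hM hb
  have hle : Z ≤ D := normal_pgroup_le_defectGroup hM hb Z hZp hD
  have h1 := card_defectGroup hM (CentralQuotient.isPBlock_bar Z hZ hZp hM hb)
    (CentralQuotient.defect_bar Z hZ hZp hM hb hD)
  have h2 : Nat.card (D.map (QuotientGroup.mk' Z)) * Nat.card Z = Nat.card D := by
    have hr : ((QuotientGroup.mk' Z).comp D.subtype).range = D.map (QuotientGroup.mk' Z) := by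
      rw [MonoidHom.range_comp, Subgroup.range_subtype]
    have hk : ((QuotientGroup.mk' Z).comp D.subtype).ker = Z.subgroupOf D := by
      rw [← MonoidHom.comap_ker, QuotientGroup.ker_mk']; rfl
    rw [← hr, ← Subgroup.index_ker, hk, ← Nat.card_congr (Subgroup.subgroupOfEquivOfLe hle).toEquiv,
      mul_comm, Subgroup.card_mul_index]
  rw [h1, hZc, ← pow_succ, card_defectGroup hM hb hD] at h2
  exact Nat.pow_right_injective (Fact.out : p.Prime).two_le h2

theorem blockRank_le_card_bar (hM : IsPModular p M) {b : Set (IrrCharacter G)} (hb : IsPBlock M b) :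
    blockRank p b ≤ Nat.card (CentralQuotient.bar Z b) := by
  classical
  haveI := Fintype.ofFinite (G ⧸ Z)
  haveI := Fintype.ofFinite (CentralQuotient.bar Z b)
  rw [← CentralQuotient.blockRank_bar Z hZ (isPGroup_of_card_prime Z hZc) hM hb, blockRank,
    Nat.card_eq_fintype_card, ← Set.toFinset_card]
  rw [show (fun χ : IrrCharacter (G ⧸ Z) => pRegularPart p (χ : G ⧸ Z → ℂ)) '' CentralQuotient.bar Z b =
    ↑((CentralQuotient.bar Z b).toFinset.image fun χ : IrrCharacter (G ⧸ Z) => pRegularPart p (χ : G ⧸ Z → ℂ)) by simp]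
  exact (finrank_span_finset_le_card _).trans Finset.card_image_le

/-- The regular values of a character are an integral combination of those of the quotient. -/
theorem exists_int_expansion [Fintype (G ⧸ Z)] (η : IrrCharacter G) :
    ∃ c : IrrCharacter (G ⧸ Z) → ℤ, ∀ g : G, ¬ p ∣ orderOf g →
      (η : G → ℂ) g = ∑ θ : IrrCharacter (G ⧸ Z), (c θ : ℂ) * (θ : G ⧸ Z → ℂ) (g : G ⧸ Z) := by
  classical
  have hp : p.Prime := Fact.out
  set a := (Nat.card G).factorization p
  have hcop : Nat.Coprime (p ^ a) (Nat.card G / p ^ a) :=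
    Nat.Coprime.pow_left _ (hp.coprime_iff_not_dvd.2 (Nat.not_dvd_ordCompl hp Nat.card_pos.ne'))
  obtain ⟨l, hl⟩ := PowerPart.exists_isExp (G := G)
    (Nat.ordProj_mul_ordCompl_eq_self (Nat.card G) p).symm hcop
  have hδc : IsClassFunction G (fun x => (η : G → ℂ) (x ^ l)) := fun x y => by
    simp only [conj_pow, classFun_of_irr η.2 (x ^ l) y]
  have hδ : IsGeneralizedCharacter G (fun x => (η : G → ℂ) (x ^ l)) := by
    refine brauer_criterion hδc fun E q hq hE => ?_
    obtain ⟨f, hf, -⟩ := hl.exists_hom hq E hE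
    have := gen_of_char (isCharacter_comp f (isCharacter_restrict E (isCharacter_of_isIrr η.2)))
    convert this using 1
    funext e
    simp [hf]
  have hinv : ∀ (g z : G), z ∈ Z → (z * g) ^ l = g ^ l := by
    intro g z hz
    have hzl : z ^ l = 1 := by
      refine hl.pow_of_dvd_m ?_
      have h1 : orderOf z ∣ p := hZc ▸ Subgroup.orderOf_dvd_natCard Z hz
      refine h1.trans (dvd_pow_self p ?_)
      intro ha
      have hd : p ∣ Nat.card G := hZc ▸ Subgroup.card_subgroup_dvd_card Z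
      exact (hp.factorization_pos_of_dvd Nat.card_pos.ne' hd).ne' ha
    rw [Commute.mul_pow (show Commute z g from (Subgroup.mem_center_iff.1 (hZ hz) g).symm), hzl, one_mul]
  let ψ : G ⧸ Z → ℂ := fun q => (η : G → ℂ) (q.out ^ l)
  have hψ : ∀ g : G, ψ (g : G ⧸ Z) = (η : G → ℂ) (g ^ l) := by
    intro g
    obtain ⟨z, hz⟩ := QuotientGroup.mk_out_eq_mul Z g
    show (η : G → ℂ) (_ ^ l) = _
    rw [hz, (Subgroup.mem_center_iff.1 (hZ z.2) g), hinv g z z.2]
  have hψc : IsClassFunction (G ⧸ Z) ψ := fun q r => by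
    obtain ⟨g, rfl⟩ := QuotientGroup.mk_surjective q
    obtain ⟨x, rfl⟩ := QuotientGroup.mk_surjective r
    rw [← QuotientGroup.mk_inv, ← QuotientGroup.mk_mul, ← QuotientGroup.mk_mul, hψ, hψ]
    exact hδc g x
  have hint : ∀ θ : IrrCharacter (G ⧸ Z), ∃ c : ℤ, classInner ψ (θ : G ⧸ Z → ℂ) = c := by
    intro θ
    obtain ⟨c, hc⟩ := (isGeneralized_iff.1 hδ).2 (inflIrr Z θ)
    refine ⟨c, ?_⟩
    rw [← hc, ← classInner_comp (QuotientGroup.mk' Z) (QuotientGroup.mk'_surjective Z) ψ]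
    congr 1
    · funext g
      exact hψ g
  choose c hc using hint
  refine ⟨c, fun g hg => ?_⟩
  rw [← hl.pow_fix (x := g) (Nat.Coprime.pow_right _ ((hp.coprime_iff_not_dvd.2 hg).symm)), ← hψ,
    congrFun (classFun_eq_sum hψc) (g : G ⧸ Z), Finset.sum_apply]
  simp only [hl.pow_fix (x := g) (Nat.Coprime.pow_right _ ((hp.coprime_iff_not_dvd.2 hg).symm)),
    Pi.smul_apply, smul_eq_mul, hc]

/-- Inner products of regular parts of inflations. -/
theorem inner_regPart_infl [Fintype (G ⧸ Z)] (θ θ' : IrrCharacter (G ⧸ Z)) :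
    (p : ℂ) * classInner (regPart p (inflIrr Z θ : G → ℂ)) (regPart p (inflIrr Z θ' : G → ℂ)) =
      classInner (regPart p (θ : G ⧸ Z → ℂ)) (regPart p (θ' : G ⧸ Z → ℂ)) := by
  classical
  have hZp := isPGroup_of_card_prime Z hZc
  have huniq : ∀ a c : G, ¬ p ∣ orderOf a → ¬ p ∣ orderOf c → (a : G ⧸ Z) = c → a = c := by
    intro a c ha hc hac
    have hz : a⁻¹ * c ∈ Z := QuotientGroup.eq.1 hac
    obtain ⟨k, hk⟩ := IsPGroup.iff_orderOf.1 hZp ⟨_, hz⟩
    have hcomm : Commute (a⁻¹ * c) a := (Subgroup.mem_center_iff.1 (hZ hz) a).symm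
    have hpart : IsPPart p c (a⁻¹ * c) :=
      ⟨a, by rw [hcomm.eq, mul_inv_cancel_left], hcomm, ⟨k, by rw [← hk, Subgroup.orderOf_mk]⟩, ha⟩
    exact inv_mul_eq_one.1 (isPPart_unique Fact.out hpart (isPPart_one_of_regular hc))
  have hsum : ∀ F : G ⧸ Z → ℂ, ∑ g : G, (if p ∣ orderOf g then 0 else F (g : G ⧸ Z)) =
      ∑ q : G ⧸ Z, if p ∣ orderOf q then 0 else F q := by
    intro F
    rw [Finset.sum_ite, Finset.sum_ite, Finset.sum_const_zero, Finset.sum_const_zero, zero_add, zero_add]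
    refine Finset.sum_bij (fun g _ => (g : G ⧸ Z)) ?_ ?_ ?_ fun _ _ => rfl
    · intro g hg
      exact Finset.mem_filter.2 ⟨Finset.mem_univ _,
        fun h => (Finset.mem_filter.1 hg).2 (h.trans (orderOf_map_dvd (QuotientGroup.mk' Z) g))⟩
    · exact fun a ha c hc h => huniq a c (Finset.mem_filter.1 ha).2 (Finset.mem_filter.1 hc).2 h
    · intro q hq
      obtain ⟨g, hg, rfl⟩ := exists_regular_lift Z hZp q (Finset.mem_filter.1 hq).2
      exact ⟨g, Finset.mem_filter.2 ⟨Finset.mem_univ _, hg⟩, rfl⟩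
  have e1 : ∀ g : G, regPart p (inflIrr Z θ : G → ℂ) g * conj (regPart p (inflIrr Z θ' : G → ℂ) g) =
      if p ∣ orderOf g then 0 else (θ : G ⧸ Z → ℂ) (g : G ⧸ Z) * conj ((θ' : G ⧸ Z → ℂ) (g : G ⧸ Z)) := by
    intro g
    by_cases h : p ∣ orderOf g <;> simp [regPart, h, CentralQuotient.coe_inflIrr]
  have e2 : ∀ q : G ⧸ Z, regPart p (θ : G ⧸ Z → ℂ) q * conj (regPart p (θ' : G ⧸ Z → ℂ) q) =
      if p ∣ orderOf q then 0 else (θ : G ⧸ Z → ℂ) q * conj ((θ' : G ⧸ Z → ℂ) q) := by
    intro q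
    by_cases h : p ∣ orderOf q <;> simp [regPart, h]
  rw [classInner_def, classInner_def, Finset.sum_congr rfl fun g _ => e1 g,
    hsum fun q => (θ : G ⧸ Z → ℂ) q * conj ((θ' : G ⧸ Z → ℂ) q), Finset.sum_congr rfl fun q _ => e2 q,
    Subgroup.card_eq_card_quotient_mul_card_subgroup Z, hZc, Nat.cast_mul, mul_inv, ← mul_assoc,
    mul_comm ((Nat.card (G ⧸ Z) : ℂ))⁻¹, ← mul_assoc (p : ℂ),
    mul_inv_cancel₀ (prime_cast_ne_zero (p := p)), one_mul]

/-- Inner products in the block through the expansions. -/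
theorem inner_expansion [Fintype (G ⧸ Z)] (hM : IsPModular p M) {b : Set (IrrCharacter G)}
    (hb : IsPBlock M b) [DecidablePred (· ∈ b)] {η η' : IrrCharacter G} (hη : η ∈ b) (hη' : η' ∈ b)
    (c c' : IrrCharacter (G ⧸ Z) → ℤ)
    (hc : ∀ g : G, ¬ p ∣ orderOf g →
      (η : G → ℂ) g = ∑ θ : IrrCharacter (G ⧸ Z), (c θ : ℂ) * (θ : G ⧸ Z → ℂ) (g : G ⧸ Z))
    (hc' : ∀ g : G, ¬ p ∣ orderOf g →
      (η' : G → ℂ) g = ∑ θ : IrrCharacter (G ⧸ Z), (c' θ : ℂ) * (θ : G ⧸ Z → ℂ) (g : G ⧸ Z)) :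
    (p : ℂ) * classInner (regPart p (η : G → ℂ)) (regPart p (η' : G → ℂ)) =
      ∑ θ : IrrCharacter (G ⧸ Z), ∑ θ' : IrrCharacter (G ⧸ Z),
        if inflIrr Z θ ∈ b then (if inflIrr Z θ' ∈ b then (c θ : ℂ) * (c' θ' : ℂ) *
          classInner (regPart p (θ : G ⧸ Z → ℂ)) (regPart p (θ' : G ⧸ Z → ℂ)) else 0) else 0 := by
  classical
  have hexp : ∀ (η : IrrCharacter G) (c : IrrCharacter (G ⧸ Z) → ℤ),
      (∀ g : G, ¬ p ∣ orderOf g →
        (η : G → ℂ) g = ∑ θ : IrrCharacter (G ⧸ Z), (c θ : ℂ) * (θ : G ⧸ Z → ℂ) (g : G ⧸ Z)) →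
      regPart p (η : G → ℂ) = ∑ θ : IrrCharacter (G ⧸ Z), (c θ : ℂ) • regPart p (inflIrr Z θ : G → ℂ) := by
    intro η c h
    funext g
    simp only [Finset.sum_apply, Pi.smul_apply, smul_eq_mul, regPart, CentralQuotient.coe_inflIrr,
      Function.comp_apply]
    by_cases hg : p ∣ orderOf g
    · simp [hg]
    · simp only [hg, if_false]
      exact h g hg
  have hrr : ∀ χ ψ : IrrCharacter G, classInner (regPart p (χ : G → ℂ)) (regPart p (ψ : G → ℂ)) =
      classInner (regPart p (χ : G → ℂ)) (ψ : G → ℂ) := fun χ ψ => by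
    simp only [classInner_def, regPart]
    refine congrArg _ (Finset.sum_congr rfl fun x _ => ?_)
    split_ifs <;> simp
  have horth : ∀ χ ψ : IrrCharacter G, χ ∈ b → ψ ∉ b →
      classInner (regPart p (χ : G → ℂ)) (regPart p (ψ : G → ℂ)) = 0 := fun χ ψ h h' =>
    (hrr χ ψ).trans (inner_regPart_eq_zero_of_notMem hM hb h h')
  conv_lhs => rw [hexp η' c' hc']
  rw [classInner_sum_right, Finset.mul_sum, Finset.sum_comm]
  refine Finset.sum_congr rfl fun θ' _ => ?_
  rw [classInner_smul_right, map_intCast]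
  by_cases h' : inflIrr Z θ' ∈ b
  · simp only [h', if_true]
    conv_lhs => rw [hexp η c hc]
    rw [classInner_sum_left, Finset.mul_sum, Finset.mul_sum]
    refine Finset.sum_congr rfl fun θ _ => ?_
    rw [classInner_smul_left]
    split_ifs with h
    · rw [← inner_regPart_infl Z hZ hZc θ θ']; ring
    · rw [← classInner_conj, horth _ _ h' h, map_zero]; ring
  · rw [horth η _ hη h', mul_zero, mul_zero]
    simp [h']

end quotient

/-- Defect zero: one character. -/
theorem card_le_one (hM : IsPModular p M) [Finite G] {B : Set (IrrCharacter G)} (hB : IsPBlock M B)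
    (hd : blockDefect p B = 0) : Nat.card B ≤ 1 := by
  have h := brauer_feit hM hB
  have h2 := card_le_sum_heights (p := p) (B := B)
  rw [hd] at h
  norm_num at h
  omega

/-- Defect one: all heights are zero and there are at most `p` characters. -/
theorem defect_one (hM : IsPModular p M) [Finite G] {B : Set (IrrCharacter G)} (hB : IsPBlock M B)
    (hd : blockDefect p B = 1) :
    (∀ χ ∈ B, blockHeight p B (χ : G → ℂ) = 0) ∧ Nat.card B ≤ p := by
  classical
  haveI := Fintype.ofFinite G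
  obtain ⟨u, H, b, Z, hZn, hou, hH, hind, hdef, hZ, hZc⟩ := exists_reduction hM hB hd.ge
  haveI := Fintype.ofFinite H
  have hl : blockRank p b ≤ 1 := by
    refine (blockRank_le_card_bar Z hZ hZc hM hind.1).trans
      (card_le_one hM (CentralQuotient.isPBlock_bar Z hZ (isPGroup_of_card_prime Z hZc) hM hind.1) ?_)
    have := defect_bar_eq Z hZ hZc hM hind.1
    omega
  set S₀ := B.toFinset.filter fun χ : IrrCharacter G => blockHeight p B (χ : G → ℂ) = 0 with hS₀
  have key : ∀ S : Finset (IrrCharacter G), (∀ χ ∈ S, χ ∈ B) →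
      S₀.card * ∑ χ ∈ S, p ^ (2 * blockHeight p B (χ : G → ℂ)) ≤ p ^ 2 := by
    intro S hS
    refine (mul_sum_heights_le hM hH (k := 1) (by rw [hou, pow_one]) hind hdef S₀ S
      (fun ψ hψ => ⟨Set.mem_toFinset.1 (Finset.mem_filter.1 hψ).1, (Finset.mem_filter.1 hψ).2⟩) hS).trans ?_
    rw [hd, mul_one]
    exact (Nat.mul_le_mul_left _ hl).trans (mul_one _).le
  obtain ⟨ψ₀, hψ₀, h0⟩ := exists_height_zero hM hB
  have hψS : ψ₀ ∈ S₀ := Finset.mem_filter.2 ⟨Set.mem_toFinset.2 hψ₀, h0⟩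
  have hh : ∀ χ ∈ B, blockHeight p B (χ : G → ℂ) = 0 := by
    intro χ hχ
    by_contra hpos
    have hne : ψ₀ ≠ χ := fun e => hpos (e ▸ h0)
    have h := key {ψ₀, χ} (by simp [hψ₀, hχ])
    rw [Finset.sum_pair hne, h0, mul_zero, pow_zero] at h
    have h1 : p ^ 2 ≤ p ^ (2 * blockHeight p B (χ : G → ℂ)) :=
      Nat.pow_le_pow_right (Fact.out : p.Prime).pos (by omega)
    have h2 := Nat.le_mul_of_pos_left (1 + p ^ (2 * blockHeight p B (χ : G → ℂ))) (Finset.card_pos.2 ⟨ψ₀, hψS⟩)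
    omega
  refine ⟨hh, ?_⟩
  have hS : S₀ = B.toFinset := Finset.filter_true_of_mem fun χ hχ => hh χ (Set.mem_toFinset.1 hχ)
  have h := key B.toFinset fun χ hχ => Set.mem_toFinset.1 hχ
  have hone : ∀ χ ∈ B.toFinset, p ^ (2 * blockHeight p B ((χ : IrrCharacter G) : G → ℂ)) = (fun _ => 1) χ :=
    fun χ hχ => by rw [hh χ (Set.mem_toFinset.1 hχ), mul_zero, pow_zero]
  rw [hS, Finset.sum_congr rfl hone, Finset.sum_const, smul_eq_mul, mul_one,
    Set.toFinset_card, ← Nat.card_eq_fintype_card, ← sq] at h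
  exact (Nat.pow_le_pow_iff_left two_ne_zero).1 h

/-- Defect two: at most `p^2` characters. -/
theorem defect_two (hM : IsPModular p M) [Finite G] {B : Set (IrrCharacter G)} (hB : IsPBlock M B)
    (hd : blockDefect p B = 2) : Nat.card B ≤ p ^ 2 := by
  classical
  haveI := Fintype.ofFinite G
  have hp : p.Prime := Fact.out
  obtain ⟨u, H, b, Z, hZn, hou, hH, hind, hdef, hZ, hZc⟩ := exists_reduction hM hB (by omega)
  haveI := Fintype.ofFinite H
  haveI := Fintype.ofFinite (H ⧸ Z)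
  have hZp := isPGroup_of_card_prime Z hZc
  have hbar := CentralQuotient.isPBlock_bar Z hZ hZp hM hind.1
  have hbd : blockDefect p (CentralQuotient.bar Z b) = 1 := by
    have := defect_bar_eq Z hZ hZc hM hind.1
    omega
  have hb0 := (defect_one hM hbar hbd).1
  set Bb := CentralQuotient.bar Z b with hBb
  haveI := Fintype.ofFinite Bb
  -- the integral matrix of the quotient block
  choose a ha0 haeq ha using fun θ : Bb => exists_int_regPart hM hbar θ.2
  simp only [hbd, pow_one] at haeq ha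
  let m : Matrix Bb Bb ℤ := Matrix.of fun i j => a i j.1
  have hrr : ∀ χ ψ : IrrCharacter (H ⧸ Z), classInner (regPart p (χ : H ⧸ Z → ℂ)) (regPart p (ψ : H ⧸ Z → ℂ)) =
      classInner (regPart p (χ : H ⧸ Z → ℂ)) (ψ : H ⧸ Z → ℂ) := fun χ ψ => by
    simp only [classInner_def, regPart]
    refine congrArg _ (Finset.sum_congr rfl fun x _ => ?_)
    split_ifs <;> simp
  have hsym' : ∀ i j : Bb, a j i.1 = a i j.1 := by
    intro i j
    have h1 := ha j i.1
    rw [inner_regPart_conj] at h1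
    have h2 := congrArg conj (ha i j.1)
    rw [map_mul, Complex.conj_natCast, ← h1, map_intCast] at h2
    exact_mod_cast h2.symm
  have hsym : m.transpose = m := by
    ext i j
    exact hsym' i j
  have hidem : m * m = (p : ℤ) • m := by
    ext i k
    have h1 := congrArg (fun f => classInner f (regPart p ((k : IrrCharacter (H ⧸ Z)) : H ⧸ Z → ℂ))) (haeq i)
    simp only [classInner_smul_left, classInner_sum_left, hrr] at h1
    rw [← ha i k.1] at h1
    have h3 : ∀ ψ : IrrCharacter (H ⧸ Z), classInner (ψ : H ⧸ Z → ℂ) (regPart p ((k : IrrCharacter (H ⧸ Z)) : H ⧸ Z → ℂ)) =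
        conj (classInner (regPart p ((k : IrrCharacter (H ⧸ Z)) : H ⧸ Z → ℂ)) (ψ : H ⧸ Z → ℂ)) := fun ψ =>
      (classInner_conj _ _).symm
    simp only [h3] at h1
    have h4 : ((p : ℤ) * a i k.1 : ℤ) = ((∑ ψ : IrrCharacter (H ⧸ Z), a i ψ * a k ψ : ℤ)) := by
      apply Int.cast_injective (α := ℂ)
      push_cast
      rw [h1, Finset.mul_sum]
      refine Finset.sum_congr rfl fun ψ _ => ?_
      rw [mul_left_comm, ← Complex.conj_natCast p, ← map_mul, ← ha k ψ, map_intCast]
    simp only [Matrix.mul_apply, Matrix.smul_apply, smul_eq_mul, m, Matrix.of_apply]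
    rw [h4, ← Finset.sum_subset (Finset.subset_univ Bb.toFinset) fun ψ _ hψ => by
      rw [ha0 i ψ (fun h => hψ (Set.mem_toFinset.2 h)), zero_mul]]
    rw [Finset.sum_subtype (p := (· ∈ Bb)) Bb.toFinset (fun _ => Set.mem_toFinset)]
    exact Finset.sum_congr rfl fun j _ => by rw [hsym' k j]
  haveI := charP_res (M := M) hM
  obtain ⟨ξ, hξ, hξ0⟩ := exists_height_zero hM hbar
  have hred : ∀ i : Bb, ∃ w : Res M, ∀ j : Bb, (a i j.1 : Res M) = w * omegaBar (ξ : H ⧸ Z → ℂ) (regElt M p j.1) := by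
    intro i
    obtain ⟨v, hv, hv'⟩ := exists_degreeRatio hM hbar i.2
    refine ⟨red M v, fun j => ?_⟩
    rw [← red_intCast, ha i j.1, ← pow_one (p : ℂ), ← hbd, inner_regPart (M := M),
      ← mul_assoc (Nat.card (H ⧸ Z) : ℂ)⁻¹, ← mul_assoc ((p : ℂ) ^ _), ← mul_assoc ((p : ℂ) ^ _), ← hv',
      red_mul hv (omega_mem i.1.2 (isClassCoeff_regElt j.1))]
    congr 1
    exact omegaBar_congr i.1.2 ξ.2 (sameBlock_of_mem hbar i.2 hξ) (isClassCoeff_regElt j.1)
  choose w hw using hred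
  have hminor : RankOneForm.Minors p m := by
    intro i j k l
    refine (CharP.intCast_eq_zero_iff (Res M) p _).1 ?_
    simp only [m, Matrix.of_apply, Int.cast_sub, Int.cast_mul, hw]
    ring
  have hdiag : ∀ i : Bb, m i i ≠ (p : ℤ) := by
    intro i h
    obtain ⟨a', v, hv, hv', hv0, h1, h2⟩ := exists_regCartan hM hbar i.2 i.1
    rw [hb0 _ i.2, pow_zero, one_mul] at h2
    have e : a' = a i i.1 := by
      have h3 := ha i i.1
      rw [hbd, pow_one] at h1
      exact_mod_cast h1.trans h3.symm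
    have h4 : red M ((a i i.1 : ℤ) : ℂ) ≠ 0 := by
      rw [← e, h2, red_mul hv (omega_mem i.1.2 (isClassCoeff_regElt i.1))]
      refine mul_ne_zero (fun h5 => ?_) fun h5 => ?_
      · rw [red_eq_zero_iff hv] at h5
        exact not_memLocalIdeal_one (M := M) (inv_mul_cancel₀ hv0 ▸ memLocalIdeal_mul_left hv' h5)
      · rw [red_eq_zero_iff (omega_mem i.1.2 (isClassCoeff_regElt i.1))] at h5
        exact omega_regElt_unit hM hbar i.2 (hb0 _ i.2) i.2 h5
    refine h4 ?_
    rw [show a i i.1 = (p : ℤ) from h, red_intCast, Int.cast_natCast, CharP.cast_eq_zero]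
  obtain ⟨r, F, L, hrank, hforms⟩ := RankOneForm.exists_forms hp m hsym hidem hminor hdiag
  -- the rank of the block
  have hl : blockRank p b ≤ r := by
    refine le_trans (le_of_eq (CentralQuotient.blockRank_bar Z hZ hZp hM hind.1).symm) (le_trans ?_ hrank)
    rw [blockRank_eq]
    let T : (H ⧸ Z → ℂ) →ₗ[ℂ] (Bb → ℂ) :=
      { toFun := fun f i => (p : ℂ) * classInner f (regPart p ((i : IrrCharacter (H ⧸ Z)) : H ⧸ Z → ℂ))
        map_add' := fun f g => funext fun i => by simp [classInner_add_left, mul_add]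
        map_smul' := fun c f => funext fun i => by simp [classInner_smul_left, mul_left_comm] }
    have hTmem : ∀ f ∈ regSpan p Bb, T f ∈ LinearMap.range (m.map (Int.cast : ℤ → ℂ)).mulVecLin := by
      intro f hf
      induction hf using Submodule.span_induction with
      | mem f hf =>
        obtain ⟨θ, hθ, rfl⟩ := hf
        refine ⟨Pi.single (⟨θ, hθ⟩ : Bb) 1, funext fun i => ?_⟩
        show _ = (p : ℂ) * classInner (pRegularPart p (θ : H ⧸ Z → ℂ)) _
        rw [pRegularPart_eq, hrr, ← ha ⟨θ, hθ⟩ i.1]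
        simp only [Matrix.mulVecLin_apply, Matrix.mulVec_single, mul_one, Matrix.map_apply, m, Matrix.of_apply]
        simp [hsym' ⟨θ, hθ⟩ i]
      | zero => rw [map_zero]; exact Submodule.zero_mem _
      | add x y _ _ hx hy => rw [map_add]; exact Submodule.add_mem _ hx hy
      | smul c x _ hx => rw [map_smul]; exact Submodule.smul_mem _ _ hx
    refine LinearMap.finrank_le_finrank_of_injective
      (f := (T.domRestrict (regSpan p Bb)).codRestrict _ fun x => hTmem x.1 x.2) ?_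
    refine (injective_iff_map_eq_zero _).2 fun v hv => Subtype.ext (eq_zero_of_norm ?_)
    have hv' : T v.1 = 0 := congrArg Subtype.val hv
    have h0 : ∀ g ∈ regSpan p Bb, classInner v.1 g = 0 := by
      intro g hg
      induction hg using Submodule.span_induction with
      | mem g hg =>
        obtain ⟨θ, hθ, rfl⟩ := hg
        have := congrFun hv' ⟨θ, hθ⟩
        show classInner v.1 (pRegularPart p (θ : H ⧸ Z → ℂ)) = 0
        rw [pRegularPart_eq]
        exact (mul_eq_zero.1 this).resolve_left prime_cast_ne_zero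
      | zero => exact classInner_zero_right _
      | add x y _ _ hx hy => rw [classInner_add_right, hx, hy, add_zero]
      | smul c x _ hx => rw [classInner_smul_right, hx, mul_zero]
    have := h0 v.1 v.2
    rw [classInner_def] at this
    exact (mul_eq_zero.1 this).resolve_left (inv_ne_zero (natCard_ne_zero _))
  -- the vectors
  obtain ⟨ζ, hζ⟩ : ∃ ζ : ℂ, IsPrimitiveRoot ζ (orderOf u) := ⟨_, Complex.isPrimitiveRoot_exp _ (orderOf_pos u).ne'⟩
  have hN0 : orderOf u ≠ 0 := (orderOf_pos u).ne'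
  obtain ⟨n, e, hcomp⟩ := exists_exponents hM hH hind.1 hζ (b := b)
  choose c hc using fun η : IrrCharacter H => exists_int_expansion (p := p) Z hZ hZc η
  let Q : IrrCharacter G → Bb → Polynomial ℤ := fun χ i =>
    ∑ η, if η ∈ b then Polynomial.C ((n χ η : ℤ) * c η i.1) * Polynomial.X ^ e η else 0
  have hq : ∀ (j : ℕ) (χ : IrrCharacter G), mm p (u ^ j) H b χ χ =
      ∑ i : Bb, ∑ i' : Bb, Polynomial.aeval (ζ ^ j) (Q χ i) * (m i i' : ℂ) * conj (Polynomial.aeval (ζ ^ j) (Q χ i')) := by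
    intro j χ
    have hQ : ∀ i, Polynomial.aeval (ζ ^ j) (Q χ i) =
        ∑ η, (if η ∈ b then (n χ η : ℂ) * ζ ^ (j * e η) else 0) * (c η i.1 : ℂ) := by
      intro i
      simp only [Q, map_sum]
      refine Finset.sum_congr rfl fun η _ => ?_
      split_ifs with h
      · simp [pow_mul, mul_comm, mul_left_comm]
      · simp
    set α : IrrCharacter H → ℂ := fun η => if η ∈ b then (n χ η : ℂ) * ζ ^ (j * e η) else 0 with hα
    have hpair : ∀ η η', α η * conj (α η') * ((p : ℂ) ^ 2 * classInner (regPart p (η : H → ℂ)) (regPart p (η' : H → ℂ))) =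
        α η * conj (α η') * ∑ i : Bb, ∑ i' : Bb, (c η i.1 : ℂ) * (c η' i'.1 : ℂ) * (m i i' : ℂ) := by
      intro η η'
      by_cases h : η ∈ b
      · by_cases h' : η' ∈ b
        · congr 1
          rw [sq, mul_assoc, inner_expansion Z hZ hZc hM hind.1 h h' (c η) (c η') (hc η) (hc η'), Finset.mul_sum]
          have hfilt : ∀ f : IrrCharacter (H ⧸ Z) → ℂ, (∀ θ, θ ∉ Bb → f θ = 0) → ∑ θ, f θ = ∑ i : Bb, f i.1 := by
            intro f hf
            rw [← Finset.sum_subset (Finset.subset_univ Bb.toFinset) fun θ _ hθ => hf θ fun h => hθ (Set.mem_toFinset.2 h),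
              Finset.sum_subtype (p := (· ∈ Bb)) Bb.toFinset (fun _ => Set.mem_toFinset)]
          rw [hfilt _ fun θ hθ => by rw [Finset.sum_eq_zero fun θ' _ => if_neg (show inflIrr Z θ ∉ b from hθ), mul_zero]]
          refine Finset.sum_congr rfl fun i _ => ?_
          rw [hfilt _ fun θ hθ => by simp [show inflIrr Z θ ∉ b from hθ], Finset.mul_sum]
          refine Finset.sum_congr rfl fun i' _ => ?_
          rw [if_pos (show inflIrr Z i.1 ∈ b from i.2), if_pos (show inflIrr Z i'.1 ∈ b from i'.2), hrr,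
            show (m i i' : ℂ) = (a i i'.1 : ℂ) from rfl, ha]
          ring
        · simp [hα, h']
      · simp [hα, h]
    rw [mm, hcomp, hdef, hd, classInner_sum_left, Finset.mul_sum]
    simp only [classInner_smul_left, classInner_sum_right, classInner_smul_right, Finset.mul_sum, hQ, Finset.sum_mul,
      map_sum]
    refine Eq.trans (b := ∑ η, ∑ η', (p : ℂ) ^ 2 * (α η *
      (conj (α η') * classInner (regPart p (η : H → ℂ)) (regPart p (η' : H → ℂ))))) ?_ ?_
    · refine Finset.sum_congr rfl fun η _ => Finset.sum_congr rfl fun η' _ => ?_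
      simp only [hα]
      ring
    calc ∑ η, ∑ η', (p : ℂ) ^ 2 * (α η * (conj (α η') * classInner (regPart p (η : H → ℂ)) (regPart p (η' : H → ℂ))))
        = ∑ η, ∑ η', ∑ i : Bb, ∑ i' : Bb, α η * conj (α η') * ((c η i.1 : ℂ) * (c η' i'.1 : ℂ) * (m i i' : ℂ)) := by
          refine Finset.sum_congr rfl fun η _ => Finset.sum_congr rfl fun η' _ => ?_
          simp only [← Finset.mul_sum]
          rw [← hpair]
          ring
      _ = _ := by
          rw [Finset.sum_comm]
          conv_rhs => rw [Finset.sum_comm]; enter [2, i']; rw [Finset.sum_comm]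
          refine Eq.trans ?_ (Finset.sum_comm)
          refine Eq.trans (Finset.sum_congr rfl fun η' _ => Finset.sum_comm) ?_
          refine Finset.sum_congr rfl fun η' _ => ?_
          conv_rhs => rw [Finset.sum_comm]
          refine Finset.sum_congr rfl fun i _ => ?_
          rw [Finset.sum_comm]
          refine Finset.sum_congr rfl fun i' _ => Finset.sum_congr rfl fun η _ => ?_
          rw [map_mul, map_intCast]
          simp only [hα]
          ring
  have hroot : ∀ ζ' ∈ primitiveRoots (orderOf u) ℂ, ∃ j : ℕ, j.Coprime (orderOf u) ∧ ζ' = ζ ^ j := by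
    intro ζ' hζ'
    haveI : NeZero (orderOf u) := ⟨hN0⟩
    obtain ⟨j, -, hj, h⟩ := (hζ.isPrimitiveRoot_iff (ξ := ζ')).1
      ((mem_primitiveRoots (Nat.pos_of_ne_zero hN0)).1 hζ')
    exact ⟨j, hj, h.symm⟩
  set R := primitiveRoots (orderOf u) ℂ with hR
  have hζR : ζ ∈ R := (mem_primitiveRoots (Nat.pos_of_ne_zero hN0)).2 hζ
  obtain ⟨ψ₀, hψ₀, h0⟩ := exists_height_zero hM hB
  -- the lower bound at each character
  have hlow : ∀ χ ∈ B, (R.card : ℝ) * r ≤ ∑ ζ' ∈ R, (∑ i : Bb, ∑ i' : Bb,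
      Polynomial.aeval ζ' (Q χ i) * (m i i' : ℂ) * conj (Polynomial.aeval ζ' (Q χ i'))).re := by
    intro χ hχ
    have hne : ∃ i, ∑ j, (m i j : ℂ) * Polynomial.aeval ζ (Q χ j) ≠ 0 := by
      by_contra! hcon
      obtain ⟨⟨x, hx, hxu, hxe⟩, -⟩ := mm_major hM ⟨1, by rw [hou, pow_one]⟩ hH hind hdef hχ hψ₀ h0
      have h1 := mm_idem hM (u := u) ⟨1, by rw [hou, pow_one]⟩ hH hind.1 χ χ
      have h2 : mm p u H b χ χ = 0 := by
        have h3 := hq 1 χ
        rw [pow_one, pow_one] at h3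
        rw [h3]
        refine Finset.sum_eq_zero fun i _ => ?_
        simp only [mul_assoc, ← Finset.mul_sum]
        have h4 : ∑ i' : Bb, (m i i' : ℂ) * conj (Polynomial.aeval ζ (Q χ i')) = 0 := by
          have := congrArg conj (hcon i)
          simpa using this
        rw [h4, mul_zero]
      rw [h2, mul_zero] at h1
      have h5 : mm p u H b χ ψ₀ = 0 := by
        have h6 : ∑ χ' : IrrCharacter G, ‖mm p u H b χ χ'‖ ^ 2 = 0 := by
          refine Complex.ofReal_injective ?_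
          push_cast
          rw [← h1]
          refine Finset.sum_congr rfl fun χ' _ => ?_
          rw [← conj_mm b χ χ', Complex.mul_conj']
        simpa using (Finset.sum_eq_zero_iff_of_nonneg fun _ _ => sq_nonneg _).1 h6 ψ₀ (Finset.mem_univ _)
      rw [h5] at hxe
      exact mul_ne_zero (pow_ne_zero _ prime_cast_ne_zero) (fun e0 => hxu (by rw [e0]; exact memLocalIdeal_zero)) hxe.symm
    let Lp : (Fin r → Option Bb) → Polynomial ℤ := fun f => ∑ i, Polynomial.C (L f i) * Q χ i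
    have hLp : ∀ (z : ℂ) (f), Polynomial.aeval z (Lp f) = ∑ i, (L f i : ℂ) * Polynomial.aeval z (Q χ i) := by
      intro z f
      simp [Lp]
    set F₀ := F.filter fun f => ∑ i, (L f i : ℂ) * Polynomial.aeval ζ (Q χ i) ≠ 0 with hF₀
    have hcount : r * r.factorial ≤ F₀.card := (hforms _).2 hne
    have h1 : ∀ f ∈ F₀, (R.card : ℝ) ≤ ∑ ζ' ∈ R, ‖∑ i, (L f i : ℂ) * Polynomial.aeval ζ' (Q χ i)‖ ^ 2 := by
      intro f hf
      simp only [← hLp]
      refine card_le_sum_primitive hN0 _ fun ζ' hζ' => aeval_ne_zero_primitive hN0 hζ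
        ((mem_primitiveRoots (Nat.pos_of_ne_zero hN0)).1 hζ') ?_
      rw [hLp]
      exact (Finset.mem_filter.1 hf).2
    have h2 : (F₀.card : ℝ) * R.card ≤ (r.factorial : ℝ) * ∑ ζ' ∈ R, (∑ i : Bb, ∑ i' : Bb,
        Polynomial.aeval ζ' (Q χ i) * (m i i' : ℂ) * conj (Polynomial.aeval ζ' (Q χ i'))).re := by
      calc (F₀.card : ℝ) * R.card = ∑ _f ∈ F₀, (R.card : ℝ) := by rw [Finset.sum_const, nsmul_eq_mul]
        _ ≤ ∑ f ∈ F₀, ∑ ζ' ∈ R, ‖∑ i, (L f i : ℂ) * Polynomial.aeval ζ' (Q χ i)‖ ^ 2 := Finset.sum_le_sum h1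
        _ ≤ ∑ f ∈ F, ∑ ζ' ∈ R, ‖∑ i, (L f i : ℂ) * Polynomial.aeval ζ' (Q χ i)‖ ^ 2 :=
            Finset.sum_le_sum_of_subset_of_nonneg (Finset.filter_subset _ _)
              fun _ _ _ => Finset.sum_nonneg fun _ _ => sq_nonneg _
        _ = ∑ ζ' ∈ R, ∑ f ∈ F, ‖∑ i, (L f i : ℂ) * Polynomial.aeval ζ' (Q χ i)‖ ^ 2 := Finset.sum_comm
        _ ≤ _ := by rw [Finset.mul_sum]; exact Finset.sum_le_sum fun ζ' _ => (hforms _).1
    have h3 : ((r * r.factorial : ℕ) : ℝ) * R.card ≤ (F₀.card : ℝ) * R.card :=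
      mul_le_mul_of_nonneg_right (by exact_mod_cast hcount) (Nat.cast_nonneg _)
    push_cast at h3
    refine le_of_mul_le_mul_left ?_ (Nat.cast_pos.2 r.factorial_pos : (0 : ℝ) < r.factorial)
    linarith
  -- summation
  have hsum : ∀ ζ' ∈ R, ∑ χ ∈ B.toFinset, (∑ i : Bb, ∑ i' : Bb,
      Polynomial.aeval ζ' (Q χ i) * (m i i' : ℂ) * conj (Polynomial.aeval ζ' (Q χ i'))).re =
      (p : ℝ) ^ 2 * (blockRank p b : ℝ) := by
    intro ζ' hζ'
    obtain ⟨j, hj, rfl⟩ := hroot ζ' hζ'
    have hu' : ∃ k : ℕ, orderOf (u ^ j) = p ^ k := ⟨1, by rw [Nat.Coprime.orderOf_pow hj.symm, hou, pow_one]⟩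
    have hH' : Subgroup.centralizer ({u ^ j} : Set G) = H := (centralizer_pow hj).trans hH
    simp only [← hq]
    rw [← Complex.re_sum, Finset.sum_subset (Finset.subset_univ _) fun χ _ hχ =>
      (mm_eq_zero hM hu' hH' hind (fun h => hχ (Set.mem_toFinset.2 h)) χ).1, mm_trace hM hu' hH' hind.1, hdef, hd]
    rw [← Complex.ofReal_natCast, ← Complex.ofReal_natCast (blockRank p b), ← Complex.ofReal_pow,
      ← Complex.ofReal_mul, Complex.ofReal_re]
  have hfinal : (R.card : ℝ) * ((Nat.card B : ℝ) * r) ≤ (R.card : ℝ) * ((p : ℝ) ^ 2 * r) := by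
    calc (R.card : ℝ) * ((Nat.card B : ℝ) * r) = ∑ _χ ∈ B.toFinset, (R.card : ℝ) * r := by
          rw [Finset.sum_const, Set.toFinset_card, nsmul_eq_mul, ← Nat.card_eq_fintype_card]; ring
      _ ≤ _ := Finset.sum_le_sum fun χ hχ => hlow χ (Set.mem_toFinset.1 hχ)
      _ = ∑ _ζ' ∈ R, (p : ℝ) ^ 2 * (blockRank p b : ℝ) := by
          rw [Finset.sum_comm]; exact Finset.sum_congr rfl hsum
      _ ≤ _ := by
          rw [Finset.sum_const, nsmul_eq_mul]
          gcongr
  have hr0 : 0 < r := by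
    refine lt_of_lt_of_le ?_ hl
    rw [Nat.pos_iff_ne_zero]
    intro hz
    have h := mul_sum_heights_le hM hH (k := 1) (by rw [hou, pow_one]) hind hdef {ψ₀} {ψ₀}
      (by simp [hψ₀, h0]) (by simp [hψ₀])
    simp [hz, h0] at h
  have h := le_of_mul_le_mul_left hfinal (Nat.cast_pos.2 (Finset.card_pos.2 ⟨ζ, hζR⟩) : (0 : ℝ) < R.card)
  have h' := le_of_mul_le_mul_right h (Nat.cast_pos.2 hr0 : (0 : ℝ) < r)
  exact_mod_cast h'

/-- The general bound. -/
theorem card_le (hM : IsPModular p M) : ∀ (d : ℕ) (G : Type u) [Group G] [Finite G]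
    (B : Set (IrrCharacter G)), IsPBlock M B → blockDefect p B = d →
    (d ≤ 2 → Nat.card B ≤ p ^ d) ∧ (3 ≤ d → Nat.card B ≤ p ^ (2 * d - 2)) := by
  intro d
  induction d using Nat.strong_induction_on with
  | _ d ih =>
    intro G _ _ B hB hd
    classical
    refine ⟨fun h2 => ?_, fun h3 => ?_⟩
    · rcases (by omega : d = 0 ∨ d = 1 ∨ d = 2) with rfl | rfl | rfl
      · simpa using card_le_one hM hB hd
      · simpa using (defect_one hM hB hd).2
      · exact defect_two hM hB hd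
    haveI := Fintype.ofFinite G
    have hp : p.Prime := Fact.out
    obtain ⟨u, H, b, Z, hZn, hou, hH, hind, hdef, hZ, hZc⟩ := exists_reduction hM hB (by omega)
    haveI := Fintype.ofFinite H
    have hdb : blockDefect p (CentralQuotient.bar Z b) = d - 1 := by
      have := defect_bar_eq Z hZ hZc hM hind.1
      omega
    have hl : blockRank p b ≤ p ^ (2 * d - 4) := by
      refine (blockRank_le_card_bar Z hZ hZc hM hind.1).trans ?_
      have h := ih (d - 1) (by omega) (H ⧸ Z) _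
        (CentralQuotient.isPBlock_bar Z hZ (isPGroup_of_card_prime Z hZc) hM hind.1) hdb
      rcases (by omega : d = 3 ∨ 4 ≤ d) with rfl | h4
      · exact h.1 le_rfl
      · exact (h.2 (by omega)).trans (le_of_eq (by congr 1; omega))
    set N := p ^ (2 * d - 2) with hN
    have hN1 : p ^ (2 * d) = p ^ 2 * N := by rw [hN, ← pow_add]; congr 1; omega
    have hNN : p ^ (2 * d) * p ^ (2 * d - 4) = N * N := by
      rw [hN, ← pow_add, ← pow_add]; congr 1; omega
    have hp4 : 4 ≤ p ^ 2 := by nlinarith [hp.two_le]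
    set S₀ := B.toFinset.filter fun χ : IrrCharacter G => blockHeight p B (χ : G → ℂ) = 0
    set S₁ := B.toFinset.filter fun χ : IrrCharacter G => ¬ blockHeight p B (χ : G → ℂ) = 0
    have hcard : Nat.card B = S₀.card + S₁.card := by
      rw [Finset.card_filter_add_card_filter_not, Set.toFinset_card, Nat.card_eq_fintype_card]
    have hX : S₀.card + p ^ 2 * S₁.card ≤ ∑ χ ∈ B.toFinset, p ^ (2 * blockHeight p B (χ : G → ℂ)) := by
      rw [← Finset.sum_filter_add_sum_filter_not B.toFinset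
        fun χ : IrrCharacter G => blockHeight p B (χ : G → ℂ) = 0]
      refine add_le_add ?_ ?_
      · rw [Finset.card_eq_sum_ones]
        exact Finset.sum_le_sum fun χ hχ => Nat.one_le_pow _ _ hp.pos
      · rw [mul_comm, ← smul_eq_mul, ← Finset.sum_const]
        exact Finset.sum_le_sum fun χ hχ => Nat.pow_le_pow_right hp.pos
          (by have := (Finset.mem_filter.1 hχ).2; omega)
    have hA : 4 * (S₀.card + p ^ 2 * S₁.card) ≤ p ^ 2 * N + 4 := by
      rw [← hN1, ← hd]
      refine le_trans (Nat.mul_le_mul_left 4 hX) (le_trans (le_of_eq ?_) (brauer_feit hM hB))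
      rw [finsum_mem_eq_toFinset_sum]
    have hB2 : S₀.card * (S₀.card + p ^ 2 * S₁.card) ≤ N * N := by
      refine le_trans (Nat.mul_le_mul_left _ hX) ((mul_sum_heights_le hM hH (k := 1) (by rw [hou, pow_one])
        hind hdef S₀ B.toFinset (fun ψ hψ => ⟨Set.mem_toFinset.1 (Finset.mem_filter.1 hψ).1,
          (Finset.mem_filter.1 hψ).2⟩) fun χ hχ => Set.mem_toFinset.1 hχ).trans ?_)
      rw [hd, ← hNN]
      exact Nat.mul_le_mul_left _ hl
    have h0 : 1 ≤ S₀.card := by
      obtain ⟨ψ₀, hψ₀, h0⟩ := exists_height_zero hM hB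
      exact Finset.card_pos.2 ⟨ψ₀, Finset.mem_filter.2 ⟨Set.mem_toFinset.2 hψ₀, h0⟩⟩
    rw [hcard]
    by_contra hlt
    push Not at hlt
    rcases Nat.eq_zero_or_pos S₁.card with hs | hs
    · rw [hs, add_zero] at hlt
      rw [hs, mul_zero, add_zero] at hB2
      exact absurd hB2 (Nat.not_le.2 (Nat.mul_self_lt_mul_self hlt))
    · have hq : 4 * S₁.card ≤ N := by
        refine Nat.le_of_mul_le_mul_left ?_ (show 0 < p ^ 2 by omega)
        nlinarith
      have h1 : S₀.card ≤ N := by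
        by_contra h
        have := Nat.mul_self_lt_mul_self (not_le.1 h)
        nlinarith [Nat.zero_le (S₀.card * (p ^ 2 * S₁.card))]
      have h2 : 3 * N < 4 * S₀.card := by omega
      nlinarith [Nat.mul_le_mul_right (S₁.card) (Nat.mul_le_mul h2.le hp4)]

end CfsgLib.SmallDefect
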