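import Cfsg.Agent.Blk.SectionSplit
import Cfsg.Agent.Blk.Pair.Transport
import Cfsg.Agent.Char.Induce

/-!
Brauer's formula: the characters of a block against the regular ranks of its subsections.
-/

set_option autoImplicit false
set_option linter.style.haveILetI false
set_option linter.unusedSectionVars false

namespace CfsgLib.Subsection

open Cfsg CfsgLib.Char CfsgLib.Blk CfsgLib.SectionSplit
open scoped CfsgLib.Char ComplexConjugate

universe u

variable {G : Type u} [Group G] [Fintype G] {M : Ideal AlgInt} [M.IsPrime] {p : ℕ} [Fact p.Prime]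
variable {u : G} {H : Subgroup G} [Fintype H]

/-- A regular class function of `C(u)`, spread over the section of `u`. -/
theorem exists_section (hu : ∃ k : ℕ, orderOf u = p ^ k)
    (hH : Subgroup.centralizer ({u} : Set G) = H) {w : H → ℂ} (hwc : IsClassFunction H w)
    (hwsing : ∀ s : H, p ∣ orderOf s → w s = 0) :
    ∃ F : G → ℂ, IsClassFunction G F ∧ (∀ s : H, ¬ p ∣ orderOf s → F (u * s) = w s) ∧
      (∀ g : G, ¬ IsConj (ppOf p g) u → F g = 0) ∧
      ∀ χ : IrrCharacter G, classInner F (χ : G → ℂ) = classInner w (fun c : H => (χ : G → ℂ) (u * c)) := by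
  classical
  have huH : u ∈ H := hH ▸ Subgroup.mem_centralizer_singleton_iff.2 rfl
  let x' : H := ⟨u, huH⟩
  have hcomm : ∀ c : H, Commute x' c := fun c => Subtype.ext
    (Subgroup.mem_centralizer_singleton_iff.1 (hH.symm ▸ c.2)).symm
  let g' : H → ℂ := fun c => w (x'⁻¹ * c)
  have hpart : ∀ c : H, g' c ≠ 0 → ppOf p (c : G) = u := by
    intro c hc
    refine ppOf_eq ⟨((x'⁻¹ * c : H) : G), by simp [x'], (congrArg Subtype.val (hcomm (x'⁻¹ * c)).eq), hu, ?_⟩
    rw [Subgroup.orderOf_coe]
    exact fun hd => hc (hwsing _ hd)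
  refine ⟨indFun H g', indFun_classFun H g', fun s hs => ?_, fun g hg => ?_, fun χ => ?_⟩
  · by_cases hne : g' (x' * s) = 0
    · have h0 : w s = 0 := by simpa [g'] using hne
      rw [h0, indFun_apply, Finset.sum_eq_zero fun x _ => ?_, mul_zero]
      by_cases h : x⁻¹ * (u * s) * x ∈ H
      · rw [extendByZero_mem' _ _ h]
        by_contra hne'
        have h1 := hpart ⟨_, h⟩ hne'
        have h2 := ppOf_conj (p := p) (u * (s : G)) x⁻¹
        rw [inv_inv] at h2
        have hus : ppOf p (u * (s : G)) = u := ppOf_eq ⟨s, rfl,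
          (congrArg Subtype.val (hcomm s).eq), hu, by rwa [Subgroup.orderOf_coe]⟩
        simp only [h2, hus] at h1
        have hxH : x ∈ H := by
          rw [← hH, Subgroup.mem_centralizer_singleton_iff]
          conv_lhs => rw [← h1]
          group
        apply hne'
        rw [show (⟨x⁻¹ * (u * s) * x, h⟩ : H) = (⟨x, hxH⟩ : H)⁻¹ * (x' * s) * ⟨x, hxH⟩ from Subtype.ext (by simp [x'])]
        show w (x'⁻¹ * _) = 0
        rw [show x'⁻¹ * ((⟨x, hxH⟩ : H)⁻¹ * (x' * s) * ⟨x, hxH⟩) = (⟨x, hxH⟩ : H)⁻¹ * s * (⟨x, hxH⟩ : H)⁻¹⁻¹ by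
          rw [← mul_assoc, ← mul_assoc, ((hcomm (⟨x, hxH⟩ : H)⁻¹).inv_left).eq]; group]
        rw [hwc s _, h0]
      · exact extendByZero_not_mem _ _ h
    · rw [indFun_apply, sum_subgroup H]
      · have : ∀ y : H, extendByZero H g' ((y : G)⁻¹ * (u * s) * y) = w s := by
          intro y
          rw [show (y : G)⁻¹ * (u * s) * y = ((y⁻¹ * (x' * s) * y : H) : G) by simp [x'],
            extendByZero_mem]
          show w (x'⁻¹ * (y⁻¹ * (x' * s) * y)) = w s
          rw [show x'⁻¹ * (y⁻¹ * (x' * s) * y) = y⁻¹ * s * y⁻¹⁻¹ by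
            rw [← mul_assoc, ← mul_assoc, ((hcomm y⁻¹).inv_left).eq]; group]
          exact hwc s _
        simp only [this, Finset.sum_const, Finset.card_univ, nsmul_eq_mul]
        rw [← Nat.card_eq_fintype_card, inv_mul_cancel_left₀ (natCard_ne_zero H)]
      · intro y hy
        by_cases h : y⁻¹ * (u * s) * y ∈ H
        · rw [extendByZero_mem' _ _ h]
          by_contra hne'
          refine hy ?_
          have h1 := hpart ⟨_, h⟩ hne'
          have h2 := ppOf_conj (p := p) (u * (s : G)) y⁻¹
          rw [inv_inv] at h2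
          have hus : ppOf p (u * (s : G)) = u := ppOf_eq ⟨s, rfl,
            (congrArg Subtype.val (hcomm s).eq), hu, by rwa [Subgroup.orderOf_coe]⟩
          simp only [h2, hus] at h1
          rw [← hH, Subgroup.mem_centralizer_singleton_iff]
          conv_lhs => rw [← h1]
          group
        · exact extendByZero_not_mem _ _ h
  · rw [indFun_apply, Finset.sum_eq_zero fun x _ => ?_, mul_zero]
    by_cases h : x⁻¹ * g * x ∈ H
    · rw [extendByZero_mem' _ _ h]
      by_contra hne'
      have h1 := hpart ⟨_, h⟩ hne'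
      have h2 := ppOf_conj (p := p) g x⁻¹
      rw [inv_inv] at h2
      simp only [h2] at h1
      exact hg (isConj_iff.2 ⟨x⁻¹, by rw [inv_inv]; exact h1⟩)
    · exact extendByZero_not_mem _ _ h
  · rw [frobenius H g' (classFun_of_irr χ.2), classInner_def, classInner_def]
    refine congrArg _ (Fintype.sum_equiv (Equiv.mulLeft x'⁻¹) _ _ fun c => ?_)
    simp [g', x']

/-- The components are the decomposition of the regular part of the shifted function. -/
theorem compL_unique (hM : IsPModular p M) (hH : Subgroup.centralizer ({u} : Set G) = H)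
    {b : Set (IrrCharacter H)} (hb : IsPBlock M b) {F : G → ℂ} (hF : IsClassFunction G F)
    {w : H → ℂ} (hw : w ∈ regSpan p b) (h : regL p H (shiftL u H F) = w) :
    compL p u H b F = w ∧ ∀ b', IsPBlock M b' → b' ≠ b → compL p u H b' F = 0 := by
  classical
  haveI : Fintype {b : Set (IrrCharacter H) // IsPBlock M b} := Fintype.ofFinite _
  let y : {b : Set (IrrCharacter H) // IsPBlock M b} → H → ℂ := fun c =>
    compL p u H c.1 F - if c.1 = b then w else 0
  have hy : ∀ c, y c ∈ regSpan p c.1 := fun c => by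
    refine Submodule.sub_mem _ (compL_mem hM hH c.2 hF) ?_
    split_ifs with hc
    · rw [hc]; exact hw
    · exact Submodule.zero_mem _
  have hy0 : ∑ c, y c = 0 := by
    simp only [y, Finset.sum_sub_distrib, sum_compL hM, h]
    rw [Finset.sum_eq_single ⟨b, hb⟩ (fun c _ hne => if_neg fun e => hne (Subtype.ext e)) (by simp),
      if_pos rfl, sub_self]
  have hz := regSpan_indep hM y hy hy0
  refine ⟨?_, fun b' hb' hne => ?_⟩
  · simpa [y, sub_eq_zero] using hz ⟨b, hb⟩
  · simpa [y, hne] using hz ⟨b', hb'⟩

/-- Components of conjugate subsections. -/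
theorem compL_conj {H' : Subgroup G} [Fintype H'] {x : G} (φ : H ≃* H')
    (hφ : ∀ k : H, (φ k : G) = x * k * x⁻¹) (b : Set (IrrCharacter H)) {F : G → ℂ}
    (hF : IsClassFunction G F) (s : H) :
    compL p (x * u * x⁻¹) H' (CfsgLib.Blk.Pair.mvSet φ b) F (φ s) = compL p u H b F s := by
  have ho : orderOf (φ s) = orderOf s := MulEquiv.orderOf_eq φ s
  by_cases hs : p ∣ orderOf s
  · simp only [compL, LinearMap.comp_apply]
    rw [regL_val' _ _ hs, regL_val' _ _ (by rwa [ho])]
  simp only [compL, LinearMap.comp_apply]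
  rw [regL_val _ _ hs, regL_val _ _ (by rwa [ho]), bmul_apply, bmul_apply]
  refine (Fintype.sum_equiv φ.toEquiv _ _ fun k => ?_).symm
  show _ = _ * F (x * u * x⁻¹ * ((φ k * φ s : H') : G))
  rw [show φ.toEquiv k = φ k from rfl, CfsgLib.Blk.Pair.blockCoeff_mvSet, ← map_mul, hφ]
  show _ * F (u * ((k * s : H) : G)) = _
  congr 1
  rw [← hF (u * ((k * s : H) : G)) x]
  congr 1
  group

/-- Brauer's formula. -/
theorem card_eq_rank_add_sum (hM : IsPModular p M) {B : Set (IrrCharacter G)} (hB : IsPBlock M B)
    {ι : Type*} [Fintype ι] (v : ι → G) (K : ι → Subgroup G) [∀ i, Fintype (K i)]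
    (hv : ∀ i, (∃ k : ℕ, orderOf (v i) = p ^ k) ∧ v i ≠ 1)
    (hK : ∀ i, Subgroup.centralizer ({v i} : Set G) = K i)
    (f : ∀ i, Set (IrrCharacter (K i))) (hf : ∀ i, IsInducedBlock M (K i) (f i) B)
    (hsep : ∀ i j, i ≠ j → ∀ x : G, x * v i * x⁻¹ = v j → ∀ φ : K i ≃* K j,
      (∀ k : K i, (φ k : G) = x * k * x⁻¹) → CfsgLib.Blk.Pair.mvSet φ (f i) ≠ f j)
    (hcomplete : ∀ F : G → ℂ, IsClassFunction G F → (∀ i, compL p (v i) (K i) (f i) F = 0) →
      ∀ (w : G), w ≠ 1 → (∃ k : ℕ, orderOf w = p ^ k) → ∀ b : Set (IrrCharacter (Subgroup.centralizer ({w} : Set G))),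
        IsInducedBlock M (Subgroup.centralizer ({w} : Set G)) b B →
          compL p w (Subgroup.centralizer ({w} : Set G)) b F = 0) :
    Nat.card B = blockRank p B + ∑ i, blockRank p (f i) := by
  classical
  set V := Submodule.span ℂ ((fun χ : IrrCharacter G => (χ : G → ℂ)) '' B) with hV
  have hVdim : Module.finrank ℂ V = Nat.card B := by
    rw [hV, show ((fun χ : IrrCharacter G => (χ : G → ℂ)) '' B) = Set.range (fun χ : B => ((χ : IrrCharacter G) : G → ℂ)) by
      ext; simp]
    rw [Nat.card_eq_fintype_card]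
    exact finrank_span_eq_card (linearIndependent_irr.comp (fun χ : B => (χ : IrrCharacter G)) Subtype.val_injective)
  have hVc : ∀ F ∈ V, IsClassFunction G F := by
    intro F hF
    induction hF using Submodule.span_induction with
    | mem F hF => obtain ⟨χ, -, rfl⟩ := hF; exact classFun_of_irr χ.2
    | zero => exact fun _ _ => rfl
    | add a c _ _ ha hc => exact fun g h => by simp [ha g h, hc g h]
    | smul r a _ ha => exact fun g h => by simp [ha g h]
  have hregV : V.map (regL p G) = regSpan p B := by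
    rw [hV, Submodule.map_span, Set.image_image]
    rfl
  let Ψ : V →ₗ[ℂ] (G → ℂ) × ((i : ι) → K i → ℂ) :=
    LinearMap.prod ((regL p G).comp V.subtype) (LinearMap.pi fun i => (compL p (v i) (K i) (f i)).comp V.subtype)
  let R := (regSpan p B).prod (Submodule.pi Set.univ fun i => regSpan p (f i))
  have hrange : LinearMap.range Ψ = R := by
    apply le_antisymm
    · rintro _ ⟨⟨F, hF⟩, rfl⟩
      exact Submodule.mem_prod.2 ⟨hregV ▸ Submodule.mem_map_of_mem hF,
        fun i _ => compL_mem hM (hK i) (hf i).1 (hVc F hF)⟩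
    · rintro ⟨r, w⟩ hrw
      obtain ⟨hr, hw⟩ := Submodule.mem_prod.1 hrw
      -- lifts of the components
      have hsec : ∀ i, ∀ t ∈ regSpan p (f i), ∃ F : V, Ψ F = (0, Pi.single i t) := by
        intro i t ht
        obtain ⟨hwc, hws⟩ := regSpan_facts ht
        obtain ⟨F, hFc, hFu, hF0, hFi⟩ := exists_section (hv i).1 (hK i) hwc hws
        have hFV : F ∈ V := by
          rw [classFun_eq_sum hFc]
          refine Submodule.sum_mem _ fun χ _ => ?_
          by_cases hχ : χ ∈ B
          · exact Submodule.smul_mem _ _ (Submodule.subset_span ⟨χ, hχ, rfl⟩)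
          · rw [hFi, classInner_def, ← inner_compL hM (hK i) (hf i).1 ht,
              compL_char_eq_zero hM (hv i).1 (hK i) (hf i) hχ]
            simp
        refine ⟨⟨F, hFV⟩, Prod.ext ?_ (funext fun j => ?_)⟩
        · show regL p G F = 0
          funext g
          by_cases hg : p ∣ orderOf g
          · exact regL_val' _ _ hg
          · rw [regL_val _ _ hg]
            refine hF0 g fun hc => (hv i).2 ?_
            rw [ppOf_eq (x := (1 : G)) ⟨g, one_mul g, Commute.one_left g, ⟨0, by simp⟩, hg⟩, isConj_one_right] at hc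
            exact hc
        · show compL p (v j) (K j) (f j) F = _
          have hi : regL p (K i) (shiftL (v i) (K i) F) = t := by
            funext s
            by_cases hs : p ∣ orderOf s
            · rw [regL_val' _ _ hs, hws s hs]
            · rw [regL_val _ _ hs]; exact hFu s hs
          by_cases hij : j = i
          · subst hij
            show _ = (Pi.single j t : (i : ι) → K i → ℂ) j
            rw [Pi.single_eq_same]
            exact (compL_unique hM (hK j) (hf j).1 hFc ht hi).1
          show _ = (Pi.single i t : (i : ι) → K i → ℂ) j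
          rw [Pi.single_eq_of_ne hij]
          by_cases hc : IsConj (v i) (v j)
          · obtain ⟨x, hx⟩ := isConj_iff.1 hc
            have hKK : ∀ g, g ∈ K j ↔ x⁻¹ * g * x ∈ K i := by
              intro g
              rw [← hK i, ← hK j, ← hx, Subgroup.mem_centralizer_singleton_iff, Subgroup.mem_centralizer_singleton_iff]
              constructor
              · intro h
                calc x⁻¹ * g * x * v i = x⁻¹ * (g * (x * v i * x⁻¹)) * x := by group
                  _ = _ := by rw [h]; group
              · intro h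
                calc g * (x * v i * x⁻¹) = x * (x⁻¹ * g * x * v i) * x⁻¹ := by group
                  _ = _ := by rw [h]; group
            set φ := CfsgLib.Blk.Pair.cjIso x hKK with hφdef
            have hφ : ∀ k : K i, (φ k : G) = x * k * x⁻¹ := fun k => CfsgLib.Blk.Pair.coe_cjIso x hKK k
            have hne := hsep i j (Ne.symm hij) x hx φ hφ
            have hmv : IsPBlock M (CfsgLib.Blk.Pair.mvSet φ (f i)) := CfsgLib.Blk.Pair.isPBlock_mvSet φ (hf i).1
            have hco : ∀ s : K i, compL p (v j) (K j) (CfsgLib.Blk.Pair.mvSet φ (f i)) F (φ s) = t s := by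
              intro s
              rw [← hx, compL_conj φ hφ (f i) hFc,
                (compL_unique hM (hK i) (hf i).1 hFc ht hi).1]
            refine (compL_unique hM (hK j) hmv hFc (compL_mem hM (hK j) hmv hFc) ?_).2 (f j) (hf j).1 (Ne.symm hne)
            funext t'
            obtain ⟨s, rfl⟩ := φ.surjective t'
            rw [hco]
            by_cases hs : p ∣ orderOf s
            · rw [regL_val' _ _ (by rwa [MulEquiv.orderOf_eq]), hws s hs]
            · rw [regL_val _ _ (by rwa [MulEquiv.orderOf_eq]), ← hFu s hs]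
              show F (v j * (φ s : G)) = _
              rw [hφ, ← hx, ← hFc (v i * s) x]
              congr 1
              group
          · refine (compL_unique hM (hK j) (hf j).1 hFc (Submodule.zero_mem _) ?_).1
            funext s
            by_cases hs : p ∣ orderOf s
            · exact regL_val' _ _ hs
            · rw [regL_val _ _ hs]
              refine hF0 _ fun h => hc ?_
              have hs' : (s : G) ∈ Subgroup.centralizer ({v j} : Set G) := (hK j).symm ▸ s.2
              rw [ppOf_eq (x := v j) ⟨s, rfl, (Subgroup.mem_centralizer_singleton_iff.1 hs').symm,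
                (hv j).1, by rwa [Subgroup.orderOf_coe]⟩] at h
              exact h.symm
      choose Fs hFs using hsec
      obtain ⟨A, hA, hAr⟩ : r ∈ V.map (regL p G) := hregV.symm ▸ hr
      obtain ⟨F₀, hF₀⟩ : ∃ F₀ : V, regL p G (F₀ : G → ℂ) = r := ⟨⟨A, hA⟩, hAr⟩
      have hd : ∀ i, w i - (Ψ F₀).2 i ∈ regSpan p (f i) := fun i =>
        Submodule.sub_mem _ (hw i (Set.mem_univ i)) (compL_mem hM (hK i) (hf i).1 (hVc _ F₀.2))
      refine ⟨F₀ + ∑ i, Fs i _ (hd i), ?_⟩
      rw [map_add, map_sum]
      simp only [hFs]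
      refine Prod.ext ?_ ?_
      · rw [Prod.fst_add, Prod.fst_sum, Finset.sum_const_zero, add_zero]
        exact hF₀
      · rw [Prod.snd_add, Prod.snd_sum]
        funext j
        rw [Pi.add_apply, Finset.sum_apply, Finset.sum_pi_single]
        simp
  have hker : Function.Injective Ψ := by
    rw [← LinearMap.ker_eq_bot]
    refine LinearMap.ker_eq_bot'.2 fun F hF => Subtype.ext (funext fun g => ?_)
    have h1 : regL p G (F : G → ℂ) = 0 := congrArg Prod.fst hF
    have h2 : ∀ i, compL p (v i) (K i) (f i) (F : G → ℂ) = 0 := fun i =>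
      congrFun (congrArg Prod.snd hF) i
    by_cases hg : p ∣ orderOf g
    swap
    · simpa [regL_val _ _ hg] using congrFun h1 g
    obtain ⟨s, hs, hcs, hk, hs'⟩ := ppOf_spec p g
    generalize ppOf p g = w at hs hcs hk
    have hw1 : w ≠ 1 := fun h => hs' (by rwa [show s = g by rw [← hs, h, one_mul]])
    have hsC : s ∈ Subgroup.centralizer ({w} : Set G) :=
      Subgroup.mem_centralizer_singleton_iff.2 hcs.symm.eq
    haveI : Fintype (Subgroup.centralizer ({w} : Set G)) := Fintype.ofFinite _
    haveI : Fintype {b : Set (IrrCharacter (Subgroup.centralizer ({w} : Set G))) // IsPBlock M b} :=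
      Fintype.ofFinite _
    have h3 := congrFun (sum_compL hM w (Subgroup.centralizer ({w} : Set G)) (F : G → ℂ)) ⟨s, hsC⟩
    rw [Finset.sum_apply, regL_val _ _ (by rwa [← Subgroup.orderOf_coe])] at h3
    have h4 : (F : G → ℂ) g = shiftL w (Subgroup.centralizer ({w} : Set G)) (F : G → ℂ) ⟨s, hsC⟩ := by
      rw [← hs]; rfl
    rw [h4, ← h3]
    refine Finset.sum_eq_zero fun b _ => ?_
    obtain ⟨B', hB'⟩ := inducedBlockDefined_centralizer hM hk b.2
    by_cases hBB : B' = B
    · subst hBB
      rw [hcomplete _ (hVc _ F.2) h2 w hw1 hk b.1 hB']; rfl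
    · rw [compL_eq_zero hM hk rfl hB' (S := B) (fun χ hχ hχ' => hBB (eq_of_mem_of_mem hB'.2.1 hB hχ' hχ)) F.2]
      rfl
  let toPi : R ≃ₗ[ℂ] regSpan p B × ((i : ι) → regSpan p (f i)) :=
    { toFun := fun x => (⟨x.1.1, (Submodule.mem_prod.1 x.2).1⟩,
        fun i => ⟨x.1.2 i, (Submodule.mem_prod.1 x.2).2 i (Set.mem_univ i)⟩)
      invFun := fun y => ⟨(y.1.1, fun i => (y.2 i).1), Submodule.mem_prod.2 ⟨y.1.2, fun i _ => (y.2 i).2⟩⟩
      map_add' := fun _ _ => rfl
      map_smul' := fun _ _ => rfl
      left_inv := fun _ => rfl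
      right_inv := fun _ => rfl }
  rw [← hVdim, (LinearEquiv.ofInjective Ψ hker).finrank_eq, hrange, toPi.finrank_eq,
    Module.finrank_prod, Module.finrank_pi_fintype, blockRank_eq]
  exact congrArg _ (Finset.sum_congr rfl fun i _ => (blockRank_eq (f i)).symm)

end CfsgLib.Subsection
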