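import Cfsg.Agent.Blk.SubsectionPairs
import Cfsg.Agent.Blk.HarrisKnorr

/-!
Brauer's formula summed over all p-elements, for blocks and unions of blocks of subgroups.
-/

set_option autoImplicit false
set_option linter.style.haveILetI false
set_option linter.unusedSectionVars false

namespace CfsgLib.SubsectionSum

open Cfsg CfsgLib.Char CfsgLib.Blk CfsgLib.Blk.Pair CfsgLib.SectionSplit
open scoped CfsgLib.Char Classical

universe u

variable {G : Type u} [Group G] [Fintype G] {M : Ideal AlgInt} [M.IsPrime] {p : ℕ} [Fact p.Prime]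

/-- The nontrivial p-elements. -/
noncomputable def pElts (p : ℕ) (G : Type u) [Group G] [Fintype G] : Finset G :=
  Finset.univ.filter fun u => u ≠ 1 ∧ ∃ k : ℕ, orderOf u = p ^ k

theorem mem_pElts {u : G} : u ∈ pElts p G ↔ u ≠ 1 ∧ ∃ k : ℕ, orderOf u = p ^ k := by
  simp [pElts]

/-- The regular ranks of the blocks of `K` inducing `B`, added up. -/
noncomputable def rankSum (M : Ideal AlgInt) (p : ℕ) (B : Set (IrrCharacter G)) (K : Subgroup G) : ℕ :=
  ∑ᶠ γ ∈ {γ : Set (IrrCharacter K) | IsInducedBlock M K γ B}, blockRank p γ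

theorem blockRank_mvSet {K K' : Type u} [Group K] [Group K'] [Finite K] [Finite K'] (φ : K ≃* K')
    (f : Set (IrrCharacter K)) : blockRank p (mvSet φ f) = blockRank p f := by
  rw [SectionSplit.blockRank_eq, SectionSplit.blockRank_eq]
  have e : regSpan p (mvSet φ f) =
      (regSpan p f).map (LinearEquiv.funCongrLeft ℂ ℂ φ.symm.toEquiv : (K → ℂ) →ₗ[ℂ] (K' → ℂ)) := by
    rw [regSpan, regSpan, Submodule.map_span, Set.image_image]
    congr 1
    show _ '' (mvChar φ '' f) = _
    rw [Set.image_image]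
    refine Set.image_congr fun χ _ => funext fun k => ?_
    show pRegularPart p _ k = pRegularPart p _ (φ.symm k)
    have hk : IsPRegular p k ↔ IsPRegular p (φ.symm k) := by
      show ¬ p ∣ orderOf k ↔ ¬ p ∣ orderOf (φ.symm k)
      rw [MulEquiv.orderOf_eq]
    simp only [pRegularPart, mvChar_apply, hk]
  rw [e]
  exact LinearEquiv.finrank_map_eq _ _

/-- Induction is invariant under conjugation of the subgroup. -/
theorem induced_conj {K K' : Subgroup G} {x : G} (φ : K ≃* K') (hφ : ∀ k : K, (φ k : G) = x * k * x⁻¹)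
    {f : Set (IrrCharacter K)} {B : Set (IrrCharacter G)} (h : IsInducedBlock M K f B) :
    IsInducedBlock M K' (mvSet φ f) B := by
  refine ⟨isPBlock_mvSet φ h.1, h.2.1, ?_⟩
  rintro _ ⟨ξ, hξ, rfl⟩ χ hχ g
  have e : inducedCentralChar K' (mvChar φ ξ : K' → ℂ) g = inducedCentralChar K (ξ : K → ℂ) g := by
    symm
    refine finsum_mem_eq_of_bijOn φ ⟨fun k hk => ?_, φ.injective.injOn, fun k hk => ?_⟩ fun k _ => ?_
    · show IsConj g (φ k : G)
      exact (hk : IsConj g (k : G)).trans (isConj_iff.2 ⟨x, (hφ k).symm⟩)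
    · refine ⟨φ.symm k, ?_, φ.apply_symm_apply k⟩
      show IsConj g (φ.symm k : G)
      refine (hk : IsConj g (k : G)).trans (isConj_iff.2 ⟨x⁻¹, ?_⟩)
      conv_lhs => rw [← φ.apply_symm_apply k, hφ]
      group
    · simp [mvChar_apply]
  rw [e]
  exact h.2.2 ξ hξ χ hχ g

theorem rankSum_conj {K K' : Subgroup G} {x : G} (φ : K ≃* K') (hφ : ∀ k : K, (φ k : G) = x * k * x⁻¹)
    (B : Set (IrrCharacter G)) : rankSum M p B K' = rankSum M p B K := by
  have hφ' : ∀ k : K', (φ.symm k : G) = x⁻¹ * k * x⁻¹⁻¹ := fun k => by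
    conv_rhs => rw [← φ.apply_symm_apply k, hφ]
    group
  have e : {γ : Set (IrrCharacter K') | IsInducedBlock M K' γ B} =
      mvSet φ '' {γ : Set (IrrCharacter K) | IsInducedBlock M K γ B} := by
    ext γ
    refine ⟨fun h => ⟨_, induced_conj φ.symm hφ' h, by simpa using mvSet_symm φ.symm γ⟩, ?_⟩
    rintro ⟨δ, hδ, rfl⟩
    exact induced_conj φ hφ hδ
  rw [rankSum, e, finsum_mem_image (mvSet_injective φ).injOn]
  exact finsum_mem_congr rfl fun γ _ => blockRank_mvSet φ γ

theorem mem_centralizer_conj (x u g : G) :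
    g ∈ Subgroup.centralizer ({x * u * x⁻¹} : Set G) ↔ x⁻¹ * g * x ∈ Subgroup.centralizer ({u} : Set G) := by
  rw [Subgroup.mem_centralizer_singleton_iff, Subgroup.mem_centralizer_singleton_iff]
  constructor
  · intro h
    calc x⁻¹ * g * x * u = x⁻¹ * (g * (x * u * x⁻¹)) * x := by group
      _ = _ := by rw [h]; group
  · intro h
    calc g * (x * u * x⁻¹) = x * (x⁻¹ * g * x * u) * x⁻¹ := by group
      _ = _ := by rw [h]; group

/-- The term of `u`. -/
noncomputable def term (M : Ideal AlgInt) (p : ℕ) (B : Set (IrrCharacter G)) (K : Subgroup G) : ℕ :=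
  Nat.card K * rankSum M p B K

theorem term_conj (B : Set (IrrCharacter G)) (x u : G) :
    term M p B (Subgroup.centralizer ({x * u * x⁻¹} : Set G)) = term M p B (Subgroup.centralizer ({u} : Set G)) := by
  let φ := cjIso x (mem_centralizer_conj x u)
  rw [term, term, rankSum_conj φ (coe_cjIso x (mem_centralizer_conj x u)) B, Nat.card_congr φ.symm.toEquiv]

/-- A fixed representative of the conjugacy class. -/
noncomputable def rep (u : G) : G := (ConjClasses.mk u).out

theorem isConj_rep (u : G) : IsConj (rep u) u := ConjClasses.mk_eq_mk_iff_isConj.1 (Quotient.out_eq _)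

theorem rep_eq {u w : G} (h : IsConj u w) : rep u = rep w :=
  congrArg Quotient.out (ConjClasses.mk_eq_mk_iff_isConj.2 h)

theorem rep_rep (u : G) : rep (rep u) = rep u := rep_eq (isConj_rep u)

theorem mem_pElts_conj {u : G} (x : G) (h : u ∈ pElts p G) : x * u * x⁻¹ ∈ pElts p G := by
  obtain ⟨h1, k, hk⟩ := mem_pElts.1 h
  refine mem_pElts.2 ⟨by rwa [Ne, conj_eq_one_iff], k, ?_⟩
  rw [← hk]
  exact orderOf_injective (MulAut.conj x).toMonoidHom (MulAut.conj x).injective u

theorem rep_mem {u : G} (h : u ∈ pElts p G) : rep u ∈ pElts p G := by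
  obtain ⟨x, hx⟩ := isConj_iff.1 (isConj_rep u).symm
  exact hx ▸ mem_pElts_conj x h

/-- Brauer's formula for a block. -/
theorem card_mul_eq (hM : IsPModular p M) {B : Set (IrrCharacter G)} (hB : IsPBlock M B) :
    Nat.card G * Nat.card B =
      Nat.card G * blockRank p B + ∑ u ∈ pElts p G, term M p B (Subgroup.centralizer ({u} : Set G)) := by
  haveI : ∀ K : Subgroup G, Fintype K := fun K => Fintype.ofFinite _
  let R := (pElts p G).image rep
  let ι := Σ i : R, {γ : Set (IrrCharacter (Subgroup.centralizer ({(i : G)} : Set G))) //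
    IsInducedBlock M (Subgroup.centralizer ({(i : G)} : Set G)) γ B}
  haveI : ∀ i : R, Fintype {γ : Set (IrrCharacter (Subgroup.centralizer ({(i : G)} : Set G))) //
    IsInducedBlock M (Subgroup.centralizer ({(i : G)} : Set G)) γ B} := fun i => Fintype.ofFinite _
  have hR : ∀ i ∈ R, i ∈ pElts p G ∧ rep i = i := by
    intro i hi
    obtain ⟨u, hu, rfl⟩ := Finset.mem_image.1 hi
    exact ⟨rep_mem hu, rep_rep u⟩
  have hformula : Nat.card B = blockRank p B + ∑ i : ι, blockRank p i.2.1 := by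
    refine Subsection.card_eq_rank_add_sum hM hB (fun i : ι => (i.1 : G))
      (fun i => Subgroup.centralizer ({(i.1 : G)} : Set G))
      (fun i => ⟨(mem_pElts.1 (hR _ i.1.2).1).2, (mem_pElts.1 (hR _ i.1.2).1).1⟩) (fun i => rfl)
      (fun i => i.2.1) (fun i => i.2.2) ?_ ?_
    · rintro ⟨⟨a, ha⟩, γ⟩ ⟨⟨c, hc⟩, δ⟩ hne x hx φ hφ heq
      have hac : a = c := by
        rw [← (hR a ha).2, ← (hR c hc).2]
        exact rep_eq (isConj_iff.2 ⟨x, hx⟩)
      subst hac
      have hxC : x ∈ Subgroup.centralizer ({a} : Set G) := by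
        rw [Subgroup.mem_centralizer_singleton_iff]
        have hx' : x * a * x⁻¹ = a := hx
        conv_rhs => rw [← hx']
        group
      have hfix : mvSet φ γ.1 = γ.1 := by
        have h1 : ∀ ξ, mvChar φ ξ = ξ := fun ξ => Subtype.ext (funext fun k => by
          rw [mvChar_apply]
          have e : φ.symm k = (⟨x, hxC⟩ : Subgroup.centralizer ({a} : Set G))⁻¹ * k * ⟨x, hxC⟩ := by
            apply φ.injective
            rw [φ.apply_symm_apply]
            refine Subtype.ext ?_
            rw [hφ]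
            simp [mul_assoc]
          rw [e]
          simpa using classFun_of_irr ξ.2 k (⟨x, hxC⟩ : Subgroup.centralizer ({a} : Set G))⁻¹)
        show mvChar φ '' γ.1 = γ.1
        simp [h1]
      exact hne (by rw [Subtype.ext (hfix.symm.trans heq)])
    · intro F hF h0 w hw hwp b hb
      obtain ⟨x, hx⟩ := isConj_iff.1 (isConj_rep w)
      have hK : ∀ g, g ∈ Subgroup.centralizer ({w} : Set G) ↔
          x⁻¹ * g * x ∈ Subgroup.centralizer ({rep w} : Set G) := fun g => by
        rw [← mem_centralizer_conj x (rep w) g, hx]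
      let φ := cjIso x hK
      have hb' : IsInducedBlock M (Subgroup.centralizer ({rep w} : Set G)) (mvSet φ.symm b) B :=
        induced_conj φ.symm (x := x⁻¹) (fun k => by rw [inv_inv]; exact coe_cjIso_symm x hK k) hb
      have hwR : rep w ∈ R := Finset.mem_image.2 ⟨w, mem_pElts.2 ⟨hw, hwp⟩, rfl⟩
      have h1 := h0 ⟨⟨rep w, hwR⟩, ⟨mvSet φ.symm b, hb'⟩⟩
      funext t
      obtain ⟨s, rfl⟩ := φ.surjective t
      have h2 := Subsection.compL_conj (p := p) (u := rep w) (x := x) φ (coe_cjIso x hK) (mvSet φ.symm b) hF s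
      have h3 : mvSet φ (mvSet φ.symm b) = b := by simpa using mvSet_symm φ.symm b
      rw [hx, h3] at h2
      rw [h2]
      exact congrFun h1 s
  have hsum : ∑ i : ι, blockRank p i.2.1 = ∑ i ∈ R, rankSum M p B (Subgroup.centralizer ({i} : Set G)) := by
    rw [Fintype.sum_sigma, ← Finset.sum_coe_sort R]
    refine Finset.sum_congr rfl fun i _ => ?_
    rw [rankSum, ← finsum_set_coe_eq_finsum_mem, finsum_eq_sum_of_fintype]
    refine Finset.sum_congr ?_ fun _ _ => rfl
    ext
    simp
  rw [hformula, mul_add, hsum, Finset.mul_sum,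
    ← Finset.sum_fiberwise_of_maps_to (s := pElts p G) (t := R) (g := rep) fun u hu => Finset.mem_image_of_mem _ hu]
  congr 1
  refine Finset.sum_congr rfl fun i hi => ?_
  have hfib : ∀ u ∈ (pElts p G).filter (fun u => rep u = i),
      term M p B (Subgroup.centralizer ({u} : Set G)) =
        (Finset.univ.filter fun x : G => x * i * x⁻¹ = u).card * rankSum M p B (Subgroup.centralizer ({i} : Set G)) := by
    intro u hu
    obtain ⟨x, hx⟩ := isConj_iff.1 ((Finset.mem_filter.1 hu).2 ▸ isConj_rep u : IsConj i u)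
    rw [← hx, term_conj, term]
    congr 1
    rw [Nat.card_eq_fintype_card, ← Finset.card_univ]
    refine Finset.card_bij (fun c _ => x * (c : G)) ?_ ?_ ?_
    · intro c _
      refine Finset.mem_filter.2 ⟨Finset.mem_univ _, ?_⟩
      calc x * c * i * (x * c)⁻¹ = x * ((c : G) * i) * (c : G)⁻¹ * x⁻¹ := by group
        _ = x * i * x⁻¹ := by rw [Subgroup.mem_centralizer_singleton_iff.1 c.2]; group
    · intro c _ d _ h
      exact Subtype.ext (mul_left_cancel h)
    · intro y hy
      refine ⟨⟨x⁻¹ * y, ?_⟩, Finset.mem_univ _, by simp⟩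
      have hy' := (Finset.mem_filter.1 hy).2
      rw [Subgroup.mem_centralizer_singleton_iff]
      calc x⁻¹ * y * i = x⁻¹ * (y * i * y⁻¹) * y := by group
        _ = _ := by rw [hy']; group
  rw [Finset.sum_congr rfl hfib, ← Finset.sum_mul]
  congr 1
  rw [Nat.card_eq_fintype_card, ← Finset.card_univ]
  refine Finset.card_eq_sum_card_fiberwise fun x _ => ?_
  refine Finset.mem_filter.2 ⟨mem_pElts_conj x (hR i hi).1, ?_⟩
  rw [← rep_eq (isConj_iff.2 ⟨x, rfl⟩), (hR i hi).2]

/-- Characters and regular rank of a union of blocks. -/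
theorem union_facts (hM : IsPModular p M) (T : Set (Set (IrrCharacter G))) (hT : ∀ β ∈ T, IsPBlock M β) :
    Nat.card {ψ : IrrCharacter G | ∃ β, ψ ∈ β ∧ β ∈ T} = ∑ᶠ β ∈ T, Nat.card β ∧
      blockRank p {ψ : IrrCharacter G | ∃ β, ψ ∈ β ∧ β ∈ T} = ∑ᶠ β ∈ T, blockRank p β := by
  haveI : Fintype T := Fintype.ofFinite _
  haveI : ∀ β : T, Fintype (β : Set (IrrCharacter G)) := fun β => Fintype.ofFinite _
  rw [← finsum_set_coe_eq_finsum_mem, finsum_eq_sum_of_fintype, ← finsum_set_coe_eq_finsum_mem,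
    finsum_eq_sum_of_fintype]
  constructor
  · simp only [Nat.card_eq_fintype_card, ← Fintype.card_sigma]
    refine (Fintype.card_congr (Equiv.ofBijective
      (fun z : Σ β : T, (β : Set (IrrCharacter G)) =>
        (⟨(z.2 : IrrCharacter G), (z.1 : Set (IrrCharacter G)), z.2.2, z.1.2⟩ :
          ↥{ψ : IrrCharacter G | ∃ β, ψ ∈ β ∧ β ∈ T})) ⟨?_, ?_⟩)).symm
    · rintro ⟨⟨β, hβ⟩, ⟨ψ, hψ⟩⟩ ⟨⟨β', hβ'⟩, ⟨ψ', hψ'⟩⟩ h
      obtain rfl : ψ = ψ' := congrArg Subtype.val h
      obtain rfl := eq_of_mem_of_mem (hT β hβ) (hT β' hβ') hψ hψ'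
      rfl
    · rintro ⟨ψ, β, h1, h2⟩
      exact ⟨⟨⟨β, h2⟩, ⟨ψ, h1⟩⟩, rfl⟩
  · rw [SectionSplit.blockRank_eq]
    simp only [SectionSplit.blockRank_eq]
    rw [← Module.finrank_pi_fintype]
    let Φ : ((β : T) → regSpan p (β : Set (IrrCharacter G))) →ₗ[ℂ] (G → ℂ) :=
      ∑ β : T, (regSpan p (β : Set (IrrCharacter G))).subtype.comp (LinearMap.proj β)
    have hΦ : ∀ v, Φ v = ∑ β : T, (v β : G → ℂ) := fun v => by simp [Φ]
    have hrange : LinearMap.range Φ = regSpan p {ψ : IrrCharacter G | ∃ β, ψ ∈ β ∧ β ∈ T} := by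
      apply le_antisymm
      · rintro _ ⟨v, rfl⟩
        rw [hΦ]
        exact Submodule.sum_mem _ fun β _ =>
          Submodule.span_mono (Set.image_mono (show (β : Set (IrrCharacter G)) ⊆ {ψ : IrrCharacter G | ∃ β, ψ ∈ β ∧ β ∈ T} from
            fun ψ hψ => ⟨β.1, hψ, β.2⟩)) (v β).2
      · rw [regSpan, Submodule.span_le]
        rintro _ ⟨ψ, ⟨β, h1, h2⟩, rfl⟩
        refine ⟨Pi.single (⟨β, h2⟩ : T) ⟨_, Submodule.subset_span ⟨ψ, h1, rfl⟩⟩, ?_⟩
        rw [hΦ, Finset.sum_eq_single (⟨β, h2⟩ : T) (fun b _ hb => by rw [Pi.single_eq_of_ne hb]; rfl) (by simp),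
          Pi.single_eq_same]
    have hinj : Function.Injective Φ := by
      rw [← LinearMap.ker_eq_bot, LinearMap.ker_eq_bot']
      intro v hv
      rw [hΦ] at hv
      haveI : Fintype {B : Set (IrrCharacter G) // IsPBlock M B} := Fintype.ofFinite _
      let w : {B : Set (IrrCharacter G) // IsPBlock M B} → G → ℂ := fun B =>
        if h : B.1 ∈ T then (v ⟨B.1, h⟩ : G → ℂ) else 0
      have hw : ∀ B, w B ∈ regSpan p B.1 := fun B => by
        simp only [w]
        split_ifs with h
        · exact (v ⟨B.1, h⟩).2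
        · exact Submodule.zero_mem _
      have h0 : ∑ B, w B = 0 := by
        rw [← hv]
        refine (Fintype.sum_of_injective (fun β : T => (⟨β.1, hT β.1 β.2⟩ : {B : Set (IrrCharacter G) // IsPBlock M B}))
          (fun a c h => Subtype.ext (congrArg (fun z : {B // IsPBlock M B} => z.1) h)) _ w ?_ fun β => ?_).symm
        · intro B hB
          simp only [w]
          rw [dif_neg fun h => hB ⟨⟨B.1, h⟩, rfl⟩]
        · simp only [w, β.2, dite_true]
      funext β
      have := regSpan_indep hM w hw h0 ⟨β.1, hT β.1 β.2⟩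
      simp only [w, β.2, dite_true] at this
      exact Subtype.ext this
    rw [← hrange, LinearMap.finrank_range_of_inj hinj]

theorem Cn_le_of_centralizer {u : G} : Subgroup.zpowers u ≤ Subgroup.centralizer ({u} : Set G) :=
  Subgroup.zpowers_le.2 (Subgroup.mem_centralizer_singleton_iff.2 rfl)

/-- The formula for the blocks of `N` inducing `b`, `N` between `T C(T)` and `N(T)`. -/
theorem local_formula (hM : IsPModular p M) {b : Set (IrrCharacter G)} {T N : Subgroup G}
    [Fintype N] (hT : IsPGroup p T) (hTN : T ≤ N) (hC : Subgroup.centralizer (T : Set G) ≤ N)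
    (hN : N ≤ Subgroup.normalizer (T : Set G)) :
    Nat.card N * Nat.card {ψ : IrrCharacter N | ∃ β, ψ ∈ β ∧ IsInducedBlock M N β b} =
      Nat.card N * blockRank p {ψ : IrrCharacter N | ∃ β, ψ ∈ β ∧ IsInducedBlock M N β b} +
        ∑ u ∈ (pElts p G).filter (fun u => u ∈ N), term M p b (N ⊓ Subgroup.centralizer ({u} : Set G)) := by
  have hblocks : ∀ β ∈ {β : Set (IrrCharacter N) | IsInducedBlock M N β b}, IsPBlock M β := fun β h => h.1
  obtain ⟨h1, h2⟩ := union_facts hM _ hblocks
  have h1' : Nat.card {ψ : IrrCharacter N | ∃ β, ψ ∈ β ∧ IsInducedBlock M N β b} =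
      ∑ᶠ β ∈ {β : Set (IrrCharacter N) | IsInducedBlock M N β b}, Nat.card β := h1
  have h2' : blockRank p {ψ : IrrCharacter N | ∃ β, ψ ∈ β ∧ IsInducedBlock M N β b} =
      ∑ᶠ β ∈ {β : Set (IrrCharacter N) | IsInducedBlock M N β b}, blockRank p β := h2
  have hfin : {β : Set (IrrCharacter N) | IsInducedBlock M N β b}.Finite := Set.toFinite _
  rw [h1', h2', finsum_mem_eq_finite_toFinset_sum _ hfin, finsum_mem_eq_finite_toFinset_sum _ hfin,
    Finset.mul_sum, Finset.mul_sum,
    Finset.sum_congr rfl (fun β hβ => card_mul_eq hM (hblocks β (hfin.mem_toFinset.1 hβ))), Finset.sum_add_distrib]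
  congr 1
  rw [Finset.sum_comm]
  refine Finset.sum_bij (fun u _ => (u : G)) ?_ ?_ ?_ ?_
  · intro u hu
    obtain ⟨hne, k, hk⟩ := mem_pElts.1 hu
    exact Finset.mem_filter.2 ⟨mem_pElts.2 ⟨fun h => hne (Subtype.ext h), k, by rwa [Subgroup.orderOf_coe]⟩, u.2⟩
  · exact fun a _ c _ h => Subtype.ext h
  · intro u hu
    obtain ⟨hu, huN⟩ := Finset.mem_filter.1 hu
    obtain ⟨hne, k, hk⟩ := mem_pElts.1 hu
    exact ⟨⟨u, huN⟩, mem_pElts.2 ⟨fun h => hne (congrArg Subtype.val h), k, by rwa [Subgroup.orderOf_mk]⟩, rfl⟩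
  intro u hu
  let S : Subgroup N := Subgroup.centralizer ({u} : Set N)
  let R : Subgroup G := N ⊓ Subgroup.centralizer ({(u : G)} : Set G)
  have hmem : ∀ z : N, z ∈ S ↔ (z : G) ∈ R := fun z => by
    rw [Subgroup.mem_centralizer_singleton_iff, Subgroup.mem_inf, Subgroup.mem_centralizer_singleton_iff]
    exact ⟨fun h => ⟨z.2, congrArg Subtype.val h⟩, fun h => Subtype.ext h.2⟩
  let κ : S ≃* R :=
    { toFun := fun z => ⟨((z : N) : G), (hmem z.1).1 z.2⟩
      invFun := fun z => ⟨⟨(z : G), (Subgroup.mem_inf.1 z.2).1⟩, (hmem _).2 z.2⟩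
      left_inv := fun z => rfl
      right_inv := fun z => rfl
      map_mul' := fun z w => rfl }
  have hSdef : ∀ δ : Set (IrrCharacter S), IsPBlock M δ → ∃ β, IsInducedBlock M S δ β := by
    intro δ hδ
    obtain ⟨hne, k, hk⟩ := mem_pElts.1 hu
    refine inducedBlockDefined_of_brauer hM (Subgroup.zpowers u) S
      (IsPGroup.of_card (n := k) (by rw [Nat.card_zpowers, hk])) Cn_le_of_centralizer ?_ ?_ hδ
    · rw [Subgroup.zpowers_eq_closure, Subgroup.centralizer_closure]
    · rw [show S = Cn (Subgroup.zpowers u) from SubsectionPairs.cn_zpowers u]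
      exact Cn_le_normalizer _
  have hNdef : ∀ β : Set (IrrCharacter N), IsPBlock M β → ∃ B, IsInducedBlock M N β B :=
    fun β hβ => inducedBlockDefined_of_brauer hM T N hT hTN hC hN hβ
  have himg : {δ : Set (IrrCharacter R) | IsInducedBlock M R δ b} =
      mvSet κ '' (⋃ β ∈ {β : Set (IrrCharacter N) | IsInducedBlock M N β b},
        {δ : Set (IrrCharacter S) | IsInducedBlock M S δ β}) := by
    ext δ
    constructor
    · intro hδ
      have e : mvSet κ (mvSet κ.symm δ) = δ := by simpa using mvSet_symm κ.symm δ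
      obtain ⟨β, hβ⟩ := hSdef (mvSet κ.symm δ) (isPBlock_mvSet κ.symm hδ.1)
      obtain ⟨B, hB⟩ := hNdef β hβ.2.1
      have h3 : IsInducedBlock M R (mvSet κ (mvSet κ.symm δ)) B := HarrisKnorr.induced_trans κ (fun _ => rfl) hβ hB
      rw [e] at h3
      obtain rfl := isInducedBlock_unique R h3 hδ
      exact ⟨mvSet κ.symm δ, Set.mem_biUnion (show β ∈ {β | IsInducedBlock M N β B} from hB) hβ, e⟩
    · rintro ⟨ε, hε, rfl⟩
      obtain ⟨β, hβ, hεβ⟩ := Set.mem_iUnion₂.1 hε
      exact HarrisKnorr.induced_trans κ (fun _ => rfl) hεβ hβ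
  have hdisj : {β : Set (IrrCharacter N) | IsInducedBlock M N β b}.PairwiseDisjoint
      fun β => {δ : Set (IrrCharacter S) | IsInducedBlock M S δ β} := by
    intro β _ β' _ hne
    rw [Function.onFun, Set.disjoint_left]
    exact fun δ h h' => hne (isInducedBlock_unique S h h')
  show ∑ β ∈ hfin.toFinset, Nat.card S * rankSum M p β S = term M p b R
  rw [← Finset.mul_sum, ← finsum_mem_eq_finite_toFinset_sum _ hfin, term, Nat.card_congr κ.toEquiv]
  congr 1
  simp only [rankSum]
  rw [himg, finsum_mem_image (mvSet_injective κ).injOn,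
    finsum_mem_biUnion hdisj hfin fun _ _ => Set.toFinite _]
  exact finsum_mem_congr rfl fun β _ => finsum_mem_congr rfl fun δ _ => (blockRank_mvSet κ δ).symm

end CfsgLib.SubsectionSum
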