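import Cfsg.Agent.Blk.Cover
import Cfsg.Agent.Blk.Inflate
import Cfsg.Agent.Blk.DegSq
import Cfsg.Agent.Solv.PComplement
import Cfsg.Agent.Char.ExtMore
import Cfsg.Agent.Char.ExtCrit

/-!
Thompson's degree criterion for the principal block: if the characters of degree prime to `p` in
the principal block are linear then there is a normal `p`-complement.
-/

set_option autoImplicit false
set_option linter.style.haveILetI false
set_option linter.unusedSectionVars false

namespace CfsgLib.Blk

open Cfsg CfsgLib.Char CfsgLib.Blk.Pair Finset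
open scoped ComplexConjugate

universe u

variable {G : Type u} [Group G] [Finite G] {M : Ideal AlgInt} [M.IsPrime] {p : ℕ}

/-- Multiplication by a linear character respects blocks. -/
theorem sameBlock_linear_mul (μ : G →* ℂˣ) {χ ψ : G → ℂ}
    (h : SameBlock M χ ψ) :
    SameBlock M (fun g => (μ g : ℂ) * χ g) (fun g => (μ g : ℂ) * ψ g) := fun g => by
  have e : ∀ φ : G → ℂ, centralChar (fun g => (μ g : ℂ) * φ g) g = (μ g : ℂ) * centralChar φ g :=
    fun φ => by simp [centralChar]; ring
  rw [e, e, ← mul_sub]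
  exact memLocalIdeal_mul_left (char_mem (isCharacter_linear μ) g) (h g)

/-- A linear character of `p`-power order is trivial on `O^p`. -/
theorem eq_one_of_pPower {N : Subgroup G} (hN : pResidual p G = N) (ν : N →* ℂˣ) {a : ℕ}
    (ha : ∀ n, ν n ^ p ^ a = 1) : ν = 1 := by
  have hle : pResidual p G ≤ ν.ker.map N.subtype := by
    rw [pResidual, Subgroup.closure_le]
    intro x hx
    have hxN : x ∈ N := hN ▸ Subgroup.subset_closure hx
    refine ⟨⟨x, hxN⟩, ?_, rfl⟩
    rw [SetLike.mem_coe, MonoidHom.mem_ker, ← orderOf_eq_one_iff]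
    refine Nat.eq_one_of_dvd_coprimes (Nat.Coprime.pow_right a hx) ?_ ?_
    · rw [← Subgroup.orderOf_mk x hxN]
      exact orderOf_map_dvd ν _
    · exact orderOf_dvd_of_pow_eq_one (ha _)
  refine MonoidHom.ext fun n => ?_
  obtain ⟨y, hy, e⟩ := hle (show (n : G) ∈ pResidual p G by rw [hN]; exact n.2)
  rw [MonoidHom.one_apply, ← show y = n from Subtype.ext e]
  exact hy

variable [Fact p.Prime]

/-- Over a normal subgroup of `p`-power index, characters over the principal block are
principal. -/
theorem mem_principal_of_constituent [Fintype G] (hM : IsPModular p M) (N : Subgroup G)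
    [N.Normal] [Fintype N] (hidx : ∃ k, N.index = p ^ k) {χ : IrrCharacter G} {θ : IrrCharacter N}
    (hθ : θ ∈ principalBlock M N)
    (hcon : classInner (fun n : N => (χ : G → ℂ) n) (θ : N → ℂ) ≠ 0) :
    χ ∈ principalBlock M G := by
  refine sameBlock_of_regular hM (χ := ⟨_, isIrr_one⟩) fun g hg => ?_
  have hgN := Pair.mem_N_of_regular hidx hg
  have h1 := red_centralChar_eq (χ := χ) (ψ := χ) (θ := θ) (θ' := ⟨_, isIrr_one⟩)
    (sameBlock_refl _) (sameBlock_symm hθ) hcon ⟨g, hgN⟩
  have h2 := red_centralChar_eq (M := M) (χ := ⟨_, isIrr_one⟩) (ψ := ⟨_, isIrr_one⟩)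
    (θ := (⟨_, isIrr_one⟩ : IrrCharacter N)) (θ' := ⟨_, isIrr_one⟩)
    (sameBlock_refl _) (sameBlock_refl _) (by
      rw [irr_inner_self isIrr_one]
      exact one_ne_zero) ⟨g, hgN⟩
  exact h2.trans h1.symm

/-- The `p'`-degree characters of the principal block are linear only with a normal
`p`-complement. -/
theorem hnpc_of_linear (hM : IsPModular p M)
    (h : ∀ χ ∈ principalBlock M G, ¬ p ∣ charDegree (χ : G → ℂ) → (χ : G → ℂ) 1 = 1) :
    HasNormalPComplement p G := by
  classical
  haveI := Fintype.ofFinite G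
  haveI := charP_res (M := M) hM
  have hp : p.Prime := Fact.out
  rw [CfsgLib.Solv.hnpc_iff]
  intro hdvd
  obtain ⟨N, hNdef⟩ : ∃ N, pResidual p G = N := ⟨_, rfl⟩
  haveI : N.Normal := hNdef ▸ CfsgLib.Inv.pResidual_normal p G
  haveI := Fintype.ofFinite N
  have hidx : ∃ k, N.index = p ^ k := hNdef ▸ CfsgLib.Solv.exists_index_pResidual
  rw [hNdef] at hdvd
  obtain ⟨P⟩ := (inferInstance : Nonempty (Sylow p G))
  letI : MulAction (P : Subgroup G) (IrrCharacter N) :=
    { smul := fun q θ => ⟨conjN (θ : N → ℂ) (q : G)⁻¹, irr_conjN θ.2 _⟩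
      one_smul := fun θ => Subtype.ext (by
        show conjN (θ : N → ℂ) ((1 : (P : Subgroup G)) : G)⁻¹ = _
        rw [Subgroup.coe_one, inv_one, conjN_one])
      mul_smul := fun q r θ => Subtype.ext (by
        show conjN (θ : N → ℂ) ((q * r : (P : Subgroup G)) : G)⁻¹ =
          conjN (conjN (θ : N → ℂ) (r : G)⁻¹) (q : G)⁻¹
        rw [conjN_mul, Subgroup.coe_mul, mul_inv_rev]) }
  have hB0 : ∀ (θ : IrrCharacter N) (g : G), θ ∈ principalBlock M N →
      (⟨conjN (θ : N → ℂ) g, irr_conjN θ.2 g⟩ : IrrCharacter N) ∈ principalBlock M N := by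
    intro θ g hθ
    have h1 := (sameBlock_mvChar (φ := (MulAut.conjNormal g : MulAut N).symm)
      (χ := (⟨_, isIrr_one⟩ : IrrCharacter N)) (ψ := θ)).2 hθ
    show SameBlock M (fun _ : N => (1 : ℂ)) (conjN (θ : N → ℂ) g)
    rw [conjN_eq_comp]
    exact h1
  let f : IrrCharacter N → Res M := fun θ =>
    if θ ∈ principalBlock M N then (charDegree (θ : N → ℂ) : Res M) ^ 2 else 0
  have hdeg : ∀ (θ : IrrCharacter N) (g : G),
      charDegree (conjN (θ : N → ℂ) g) = charDegree (θ : N → ℂ) := fun θ g => by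
    simp [charDegree, conjN_eq_comp]
  have hf : ∀ (q : (P : Subgroup G)) (θ : IrrCharacter N), f (q • θ) = f θ := by
    intro q θ
    have hiff : q • θ ∈ principalBlock M N ↔ θ ∈ principalBlock M N := by
      refine ⟨fun hh => ?_, hB0 θ _⟩
      have h2 := hB0 _ (q : G) hh
      convert h2 using 1
      refine Subtype.ext ?_
      show _ = conjN (conjN (θ : N → ℂ) (q : G)⁻¹) (q : G)
      rw [conjN_mul, inv_mul_cancel, conjN_one]
    show (if q • θ ∈ principalBlock M N then
      (charDegree (conjN (θ : N → ℂ) (q : G)⁻¹) : Res M) ^ 2 else 0) = _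
    rw [hdeg, if_congr hiff rfl rfl]
  have h0 : ∑ θ, f θ = 0 := red_sum_deg_sq hM isPBlock_principalBlock hdvd
  rw [sum_eq_sum_fixedPoints P.2 f hf] at h0
  -- fixed points are invariant under the whole group
  have hinv : ∀ θ : IrrCharacter N, θ ∈ MulAction.fixedPoints (P : Subgroup G) (IrrCharacter N) →
      ∀ g, conjN (θ : N → ℂ) g = (θ : N → ℂ) := by
    intro θ hθ g
    have htop : inertia (θ : N → ℂ) = ⊤ := by
      rw [eq_top_iff, ← CfsgLib.Solv.sylow_sup_pResidual P, hNdef]
      refine sup_le (fun q hq => ?_) (le_inertia (classFun_of_irr θ.2))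
      have h1 := congrArg Subtype.val (hθ (⟨q, hq⟩⁻¹))
      change conjN (θ : N → ℂ) ((q⁻¹)⁻¹) = _ at h1
      rwa [inv_inv] at h1
    exact mem_inertia.1 (htop ▸ Subgroup.mem_top g)
  have hlin : ∀ θ : IrrCharacter N, θ ∈ MulAction.fixedPoints (P : Subgroup G) (IrrCharacter N) →
      θ ∈ principalBlock M N → ¬ p ∣ charDegree (θ : N → ℂ) → (θ : N → ℂ) 1 = 1 := by
    intro θ hfix hθ hd
    obtain ⟨k, hk⟩ := hidx
    have hd' : (θ : N → ℂ) 1 = (charDegree (θ : N → ℂ) : ℂ) := irr_one_eq θ.2
    obtain ⟨D, hD⟩ := detChar_exists_hom (isCharacter_of_isIrr θ.2)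
    have hcop : Nat.Coprime N.index (detOrder (θ : N → ℂ) * charDegree (θ : N → ℂ)) := by
      rw [hk]
      refine Nat.Coprime.pow_left k (hp.coprime_iff_not_dvd.2 fun hh => ?_)
      rcases hp.dvd_mul.1 hh with hh | hh
      · rw [detOrder, hD, orderOf_coe_linear] at hh
        obtain ⟨m, hm⟩ := hh
        have hDo : orderOf D ≠ 0 := by
          refine (orderOf_pos_iff.2 ?_).ne'
          refine isOfFinOrder_iff_pow_eq_one.2 ⟨Nat.card N, Nat.card_pos, MonoidHom.ext fun n => ?_⟩
          rw [MonoidHom.pow_apply, ← map_pow, pow_card_eq_one', map_one, MonoidHom.one_apply]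
        have hDn : ∀ n, D n ^ orderOf D = 1 := fun n => by
          rw [← MonoidHom.pow_apply]
          exact (congrArg (fun f : N →* ℂˣ => f n) (pow_orderOf_eq_one D)).trans rfl
        have h1 := eq_one_of_pPower hNdef ((powMonoidHom m).comp D) (a := 1) fun n => by
          rw [pow_one, MonoidHom.comp_apply, powMonoidHom_apply, ← pow_mul, mul_comm, ← hm, hDn]
        have hm0 : 0 < m := Nat.pos_of_ne_zero fun e => hDo (by rw [hm, e, mul_zero])
        have hle := Nat.le_of_dvd hm0 (orderOf_dvd_of_pow_eq_one (x := D)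
          (MonoidHom.ext fun n => by
            have h2 := congrArg (fun f : N →* ℂˣ => f n) h1
            simpa using h2))
        rw [hm] at hle
        nlinarith [hp.two_le]
      · exact hd hh
    obtain ⟨χ, ⟨hχ, hχN, -⟩, -⟩ := exists_canonical_extension θ.2 (hinv θ hfix) hd' hcop
    have hmem : (⟨χ, hχ⟩ : IrrCharacter G) ∈ principalBlock M G :=
      mem_principal_of_constituent hM N ⟨k, hk⟩ hθ (by
        show classInner (fun n : N => χ n) (θ : N → ℂ) ≠ 0
        rw [funext hχN, irr_inner_self θ.2]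
        exact one_ne_zero)
    have hdχ : charDegree χ = charDegree (θ : N → ℂ) := by
      simp [charDegree, ← hχN 1]
    rw [← hχN 1]
    exact h _ hmem (by rw [hdχ]; exact hd)
  -- the invariant linear characters of the principal block
  let A : Subgroup (N →* ℂˣ) :=
    { carrier := {ν | (∀ g, conjN (fun n => (ν n : ℂ)) g = fun n => (ν n : ℂ)) ∧
        SameBlock M (fun _ : N => (1 : ℂ)) (fun n => (ν n : ℂ))}
      one_mem' := ⟨fun g => rfl, sameBlock_refl _⟩
      mul_mem' := fun {a b} ha hb => ⟨fun g => funext fun n => by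
        have h1 := congrFun (ha.1 g) n
        have h2 := congrFun (hb.1 g) n
        simp only [conjN] at h1 h2 ⊢
        simp [h1, h2], by
        have h1 := sameBlock_linear_mul (M := M) a hb.2
        simp only [mul_one] at h1
        simpa using sameBlock_trans ha.2 h1⟩
      inv_mem' := fun {a} ha => ⟨fun g => funext fun n => by
        have h1 := congrFun (ha.1 g) n
        simp only [conjN] at h1 ⊢
        simp [h1], by
        have h1 := sameBlock_linear_mul (M := M) a⁻¹ ha.2
        simpa using sameBlock_symm h1⟩ }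
  let toIrr : A → IrrCharacter N := fun ν => ⟨fun n => ((ν : N →* ℂˣ) n : ℂ), isIrr_linear _⟩
  have hinj : Function.Injective toIrr := fun ν ν' e => Subtype.ext (MonoidHom.ext fun n =>
    Units.ext (congrFun (congrArg Subtype.val e) n))
  haveI : Finite A := Finite.of_injective _ hinj
  haveI := Fintype.ofFinite A
  have hA : ¬ p ∣ Nat.card A := by
    intro hh
    obtain ⟨ν, hν⟩ := exists_prime_orderOf_dvd_card' p hh
    have h1 : (ν : N →* ℂˣ) = 1 := eq_one_of_pPower hNdef _ (a := 1)
      fun n => by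
        rw [pow_one, ← hν, ← MonoidHom.pow_apply]
        exact congrArg (fun f : A => (f : N →* ℂˣ) n) (pow_orderOf_eq_one ν)
    rw [← Subgroup.orderOf_coe, h1, orderOf_one] at hν
    exact hp.ne_one hν.symm
  apply hA
  rw [← CharP.cast_eq_zero_iff (Res M) p, ← h0]
  have hsub : Finset.univ.image toIrr ⊆
      Finset.univ.filter (· ∈ MulAction.fixedPoints (P : Subgroup G) (IrrCharacter N)) := by
    intro θ hθ
    obtain ⟨ν, -, rfl⟩ := Finset.mem_image.1 hθ
    refine Finset.mem_filter.2 ⟨Finset.mem_univ _, fun q => Subtype.ext ?_⟩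
    exact ν.2.1 _
  rw [← Finset.sum_subset hsub, Finset.sum_image hinj.injOn, Nat.card_eq_fintype_card]
  · rw [Finset.sum_congr rfl (g := fun _ => (1 : Res M)) fun ν _ => ?_, Finset.sum_const,
      Finset.card_univ, nsmul_eq_mul, mul_one]
    have hd1 : charDegree (toIrr ν : N → ℂ) = 1 := by
      simp [charDegree, toIrr]
    show (if toIrr ν ∈ principalBlock M N then _ else _) = _
    rw [if_pos (show toIrr ν ∈ principalBlock M N from ν.2.2), hd1, Nat.cast_one, one_pow]
  · intro θ hθ hni
    by_contra hne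
    obtain ⟨hθB, -⟩ : θ ∈ principalBlock M N ∧ True := ⟨by
      by_contra hh
      exact hne (if_neg hh), trivial⟩
    have hd : ¬ p ∣ charDegree (θ : N → ℂ) := fun hh => hne (by
      show (if θ ∈ principalBlock M N then _ else _) = _
      rw [if_pos hθB, (CharP.cast_eq_zero_iff (Res M) p _).2 hh, sq, mul_zero])
    obtain ⟨ν, hν⟩ := exists_hom_of_degree_one (isCharacter_of_isIrr θ.2)
      (hlin θ (Finset.mem_filter.1 hθ).2 hθB hd)
    refine hni (Finset.mem_image.2 ⟨⟨ν, fun g => ?_, ?_⟩, Finset.mem_univ _, Subtype.ext hν.symm⟩)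
    · rw [← hν]
      exact hinv θ (Finset.mem_filter.1 hθ).2 g
    · rw [← hν]
      exact hθB

end CfsgLib.Blk
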