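import Mathlib.RingTheory.SimpleModule.IsAlgClosed
import Mathlib.RingTheory.Jacobson.Semiprimary
import Mathlib.RingTheory.Artinian.Ring
import Mathlib.RingTheory.Artinian.Module
import Mathlib.LinearAlgebra.Matrix.Trace
import Mathlib.LinearAlgebra.Dual.Lemmas
import Mathlib.Algebra.Algebra.Bilinear
import Mathlib.Algebra.Algebra.Operations
import Mathlib.Data.Matrix.Basis
import Mathlib.RingTheory.Idempotents

/-!
A finite dimensional symmetric algebra over an algebraically closed field whose centre has
dimension two and no nontrivial idempotents has dimension twice a square (Brandt).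
-/

set_option autoImplicit false
set_option linter.style.haveILetI false
set_option linter.unusedSectionVars false

namespace CfsgLib.Blk.TwoChar

open Module Submodule

variable (k : Type*) [Field k] (A : Type*) [Ring A] [Algebra k A]

/-- The span of the commutators. -/
def commSpan : Submodule k A :=
  Submodule.span k (Set.range fun p : A × A => p.1 * p.2 - p.2 * p.1)

variable {k A}

theorem comm_mem (a b : A) : a * b - b * a ∈ commSpan k A := subset_span ⟨(a, b), rfl⟩

theorem finrank_quot_comm_le [FiniteDimensional k A] (s : A →ₗ[k] k)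
    (hs : ∀ a b, s (a * b) = s (b * a)) (hnd : ∀ a, (∀ b, s (a * b) = 0) → a = 0) :
    finrank k (A ⧸ commSpan k A) ≤ finrank k (Subalgebra.center k A) := by
  let Φ : A →ₗ[k] Dual k A := (LinearMap.mul k A).compr₂ s
  have hΦ : ∀ a b, Φ a b = s (a * b) := fun _ _ => rfl
  have hinj : Function.Injective Φ :=
    (injective_iff_map_eq_zero Φ).2 fun a h => hnd a fun b => by rw [← hΦ, h, LinearMap.zero_apply]
  have hsurj : Function.Surjective Φ :=
    (LinearMap.injective_iff_surjective_of_finrank_eq_finrank Subspace.dual_finrank_eq.symm).1 hinj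
  have hle : (commSpan k A).dualAnnihilator ≤ (Subalgebra.center k A).toSubmodule.map Φ := by
    intro t ht
    obtain ⟨a, rfl⟩ := hsurj t
    refine ⟨a, ?_, rfl⟩
    rw [Submodule.mem_dualAnnihilator] at ht
    refine (Subalgebra.mem_center_iff (R := k)).2 fun x => sub_eq_zero.1 (hnd _ fun y => ?_)
    have h := ht _ (comm_mem (k := k) x y)
    rw [hΦ, mul_sub, map_sub] at h
    have e : s (x * a * y) = s (a * (y * x)) := by
      calc s (x * a * y) = s (y * (x * a)) := hs _ _
        _ = s (y * x * a) := by rw [mul_assoc]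
        _ = s (a * (y * x)) := hs _ _
    rw [sub_mul, map_sub, e, mul_assoc, ← neg_eq_zero, neg_sub]
    exact h
  calc finrank k (A ⧸ commSpan k A) = finrank k (Dual k (A ⧸ commSpan k A)) :=
        Subspace.dual_finrank_eq.symm
    _ = finrank k (commSpan k A).dualAnnihilator :=
        (commSpan k A).dualQuotEquivDualAnnihilator.finrank_eq
    _ ≤ finrank k ((Subalgebra.center k A).toSubmodule.map Φ) := Submodule.finrank_mono hle
    _ ≤ _ := Submodule.finrank_map_le _ _

theorem pow_le_jacobson_pow (N : Submodule k A) (h : ∀ a ∈ N, a ∈ Ring.jacobson A) (i : ℕ) :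
    ∀ a ∈ N ^ (i + 1), a ∈ Ring.jacobson A ^ (i + 1) := by
  induction i with
  | zero => simpa [Submodule.pow_one] using h
  | succ i ih =>
    intro a ha
    rw [Submodule.pow_succ] at ha ⊢
    exact Submodule.mul_induction_on ha (fun m hm n hn => Ideal.mul_mem_mul (ih m hm) (h n hn))
      fun x y hx hy => add_mem hx hy

variable [IsAlgClosed k] [FiniteDimensional k A] [Nontrivial A]

/-- The matrix quotient, with nilpotent nonzero kernel. -/
theorem exists_matrix_quotient (s : A →ₗ[k] k) (hs : ∀ a b, s (a * b) = s (b * a))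
    (hnd : ∀ a, (∀ b, s (a * b) = 0) → a = 0) (hZ : finrank k (Subalgebra.center k A) = 2)
    (hidem : ∀ e ∈ Subalgebra.center k A, e * e = e → e = 0 ∨ e = 1) :
    ∃ (d : ℕ) (_ : NeZero d) (q : A →ₐ[k] Matrix (Fin d) (Fin d) k), Function.Surjective q ∧
      (∀ a, q a = 0 → IsNilpotent a) ∧
      (∀ N : Submodule k A, (∀ a ∈ N, q a = 0) → ∃ m, N ^ (m + 1) = ⊥) ∧
      ∃ j, q j = 0 ∧ j ≠ 0 := by
  classical
  haveI := IsArtinianRing.of_finite k A
  set J := Ring.jacobson A with hJ
  obtain ⟨r, hr⟩ := IsSemiprimaryRing.isNilpotent (R := A)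
  rw [← hJ] at hr
  have hnil : ∀ a ∈ J, IsNilpotent a := by
    intro a ha
    refine ⟨r, ?_⟩
    have := Ideal.pow_mem_pow ha r
    rwa [hr] at this
  have hnilN : ∀ N : Submodule k A, (∀ a ∈ N, a ∈ J) → ∃ m, N ^ (m + 1) = ⊥ := by
    intro N hN
    refine ⟨r, (Submodule.eq_bot_iff _).2 fun a ha => ?_⟩
    have := pow_le_jacobson_pow N hN r a ha
    rw [Submodule.pow_succ, ← hJ, hr] at this
    simpa using this
  haveI : FiniteDimensional k (A ⧸ J) :=
    Module.Finite.of_surjective (Ideal.Quotient.mkₐ k J).toLinearMap Ideal.Quotient.mk_surjective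
  obtain ⟨n, d, hd, ⟨e⟩⟩ := IsSemisimpleRing.exists_algEquiv_pi_matrix_of_isAlgClosed k (A ⧸ J)
  let q₀ := e.toAlgHom.comp (Ideal.Quotient.mkₐ k J)
  have hq₀ : Function.Surjective q₀ := e.surjective.comp Ideal.Quotient.mk_surjective
  have hker : ∀ a, q₀ a = 0 ↔ a ∈ J := by
    intro a
    change e (Ideal.Quotient.mkₐ k J a) = 0 ↔ _
    rw [map_eq_zero_iff e e.injective, Ideal.Quotient.mkₐ_eq_mk, Ideal.Quotient.eq_zero_iff_mem]
  haveI := hd
  by_cases hn : 2 ≤ n
  · exfalso
    let τ : Fin n → Dual k A := fun i =>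
      (Matrix.traceLinearMap (Fin (d i)) k k).comp
        (((Pi.evalAlgHom k (fun j => Matrix (Fin (d j)) (Fin (d j)) k) i).comp q₀).toLinearMap)
    have hτ : ∀ i a, τ i a = (q₀ a i).trace := fun _ _ => rfl
    have hmem : ∀ i, τ i ∈ (commSpan k A).dualAnnihilator := by
      intro i
      rw [Submodule.mem_dualAnnihilator]
      intro w hw
      refine (Submodule.span_le (p := LinearMap.ker (τ i))).2 ?_ hw
      rintro _ ⟨⟨a, b⟩, rfl⟩
      simp only [SetLike.mem_coe, LinearMap.mem_ker, hτ, map_sub, map_mul, Pi.mul_apply,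
        Pi.sub_apply, Matrix.trace_sub]
      rw [Matrix.trace_mul_comm, sub_self]
    have hτi : LinearIndependent k τ := by
      rw [Fintype.linearIndependent_iff]
      intro c hc i
      obtain ⟨a, ha⟩ := hq₀ (Pi.single i (Matrix.single 0 0 1))
      have h := LinearMap.congr_fun hc a
      simp only [LinearMap.coe_sum, Finset.sum_apply, LinearMap.smul_apply, hτ, ha,
        LinearMap.zero_apply, smul_eq_mul] at h
      rw [Finset.sum_eq_single i (fun j _ hj => by rw [Pi.single_eq_of_ne hj, Matrix.trace_zero, mul_zero])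
        (by simp), Pi.single_eq_same, Matrix.trace_single_eq_same, mul_one] at h
      exact h
    have hann : finrank k (commSpan k A).dualAnnihilator ≤ 2 := by
      rw [← (commSpan k A).dualQuotEquivDualAnnihilator.finrank_eq, Subspace.dual_finrank_eq, ← hZ]
      exact finrank_quot_comm_le s hs hnd
    have hspan : Submodule.span k (Set.range τ) = (commSpan k A).dualAnnihilator := by
      refine Submodule.eq_of_le_of_finrank_le (Submodule.span_le.2 ?_) ?_
      · rintro _ ⟨i, rfl⟩; exact hmem i
      · rw [finrank_span_eq_card hτi, Fintype.card_fin]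
        exact hann.trans hn
    have hsmem : s ∈ (commSpan k A).dualAnnihilator := by
      rw [Submodule.mem_dualAnnihilator]
      intro w hw
      refine (Submodule.span_le (p := LinearMap.ker s)).2 ?_ hw
      rintro _ ⟨⟨a, b⟩, rfl⟩
      simp only [SetLike.mem_coe, LinearMap.mem_ker, map_sub, hs a b, sub_self]
    rw [← hspan, Submodule.mem_span_range_iff_exists_fun] at hsmem
    obtain ⟨c, hc⟩ := hsmem
    have hJ0 : ∀ a ∈ J, a = 0 := by
      intro a ha
      refine hnd a fun b => ?_
      rw [← hc]
      simp only [LinearMap.coe_sum, Finset.sum_apply, LinearMap.smul_apply, hτ, map_mul,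
        (hker a).2 ha, zero_mul, Pi.zero_apply, Matrix.trace_zero, smul_zero, Finset.sum_const_zero]
    have hinj : Function.Injective q₀ :=
      (injective_iff_map_eq_zero q₀).2 fun a ha => hJ0 a ((hker a).1 ha)
    obtain ⟨f, hf⟩ := hq₀ (Pi.single ⟨0, by omega⟩ 1)
    have hfc : f ∈ Subalgebra.center k A := by
      rw [Subalgebra.mem_center_iff]
      intro x
      refine hinj (funext fun i => ?_)
      simp only [map_mul, hf, Pi.mul_apply]
      rcases eq_or_ne i ⟨0, by omega⟩ with rfl | hi
      · rw [Pi.single_eq_same, mul_one, one_mul]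
      · rw [Pi.single_eq_of_ne hi, mul_zero, zero_mul]
    have hff : f * f = f := hinj (by rw [map_mul, hf, ← Pi.single_mul, mul_one])
    rcases hidem f hfc hff with rfl | rfl
    · have := congrFun hf ⟨0, by omega⟩
      rw [map_zero, Pi.single_eq_same, Pi.zero_apply] at this
      exact zero_ne_one this
    · have := congrFun hf ⟨1, by omega⟩
      rw [map_one, Pi.single_eq_of_ne (by simp [Fin.ext_iff]), Pi.one_apply] at this
      exact one_ne_zero this
  · obtain rfl : n = 1 := by
      by_contra h1
      obtain rfl : n = 0 := by omega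
      have : (1 : A) ∈ J := (hker 1).1 (funext fun i => i.elim0)
      obtain ⟨m, hm⟩ := hnil _ this
      rw [one_pow] at hm
      exact one_ne_zero hm
    let q : A →ₐ[k] Matrix (Fin (d 0)) (Fin (d 0)) k :=
      (Pi.evalAlgHom k (fun j => Matrix (Fin (d j)) (Fin (d j)) k) 0).comp q₀
    have hq : ∀ a, q a = q₀ a 0 := fun _ => rfl
    have hq0 : ∀ a, q a = 0 → a ∈ J := by
      intro a ha
      refine (hker a).1 (funext fun i => ?_)
      obtain rfl := Subsingleton.elim i 0
      exact ha
    have hsurj : Function.Surjective q := fun m => by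
      obtain ⟨a, ha⟩ := hq₀ (Pi.single 0 m)
      exact ⟨a, by rw [hq, ha, Pi.single_eq_same]⟩
    refine ⟨d 0, hd 0, q, hsurj, fun a ha => hnil a (hq0 a ha),
      fun N hN => hnilN N fun a ha => hq0 a (hN a ha), ?_⟩
    by_contra hall
    have hinj : Function.Injective q :=
      (injective_iff_map_eq_zero q).2 fun a ha => by
        by_contra hne
        exact hall ⟨a, ha, hne⟩
    have hbot : Subalgebra.center k A ≤ ⊥ := by
      intro c hc
      rw [Subalgebra.mem_center_iff] at hc
      obtain ⟨t, ht⟩ := Matrix.mem_range_scalar_of_commute_single (M := q c) (by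
        intro i j _
        obtain ⟨a, ha⟩ := hsurj (Matrix.single i j 1)
        rw [← ha]
        exact (Commute.map (hc a) q))
      refine Algebra.mem_bot.2 ⟨t, hinj ?_⟩
      rw [AlgHom.commutes, ← ht]
      rfl
    rw [le_bot_iff.1 hbot, Subalgebra.finrank_bot] at hZ
    omega

/-- Brandt's dimension count. -/
theorem exists_finrank_eq (s : A →ₗ[k] k) (hs : ∀ a b, s (a * b) = s (b * a))
    (hnd : ∀ a, (∀ b, s (a * b) = 0) → a = 0) (hZ : finrank k (Subalgebra.center k A) = 2)
    (hidem : ∀ e ∈ Subalgebra.center k A, e * e = e → e = 0 ∨ e = 1) :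
    ∃ d : ℕ, finrank k A = 2 * (d * d) := by
  classical
  obtain ⟨d, hd, q, hq, hnil, hnilN, j₀, hj₀, hj₀0⟩ := exists_matrix_quotient s hs hnd hZ hidem
  refine ⟨d, ?_⟩
  let E : Fin d → Fin d → Matrix (Fin d) (Fin d) k := fun i l => Matrix.single i l 1
  obtain ⟨e, he2, hqe⟩ := exists_isIdempotentElem_eq_of_ker_isNilpotent q.toRingHom
    (fun x hx => hnil x hx) (E 0 0) (hq (E 0 0))
    (by simp [IsIdempotentElem, E, Matrix.single_mul_single_same])
  replace hqe : q e = E 0 0 := hqe
  choose a ha using fun i => hq (E i 0)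
  choose b hb using fun i => hq (E 0 i)
  let u : A := ∑ i, a i * e * (e * b i)
  have hu : q u = 1 := by
    simp only [u, map_sum, map_mul, hqe, ha, hb, E, Matrix.single_mul_single_same, mul_one]
    rw [← Matrix.diagonal_one, ← Matrix.sum_single_eq_diagonal]
  have huu : IsUnit u := by
    have := (hnil (1 - u) (by rw [map_sub, map_one, hu, sub_self])).isUnit_one_sub
    rwa [sub_sub_cancel] at this
  obtain ⟨v, hv⟩ := huu
  let x : Fin d → A := fun i => (v⁻¹ : Aˣ) * a i * e
  let y : Fin d → A := fun i => e * b i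
  have hxy : ∑ i, x i * y i = 1 := by
    have : ∑ i, x i * y i = ((v⁻¹ : Aˣ) : A) * u := by
      simp only [x, y, u, Finset.mul_sum, mul_assoc]
    rw [this, ← hv, Units.inv_mul]
  have hxe : ∀ i, x i * e = x i := fun i => by simp only [x, mul_assoc, he2.eq]
  have hye : ∀ i, e * y i = y i := fun i => by simp only [y, ← mul_assoc, he2.eq]
  -- the corner
  let W : Submodule k A := LinearMap.range (LinearMap.mulLeftRight k (e, e))
  have hWmk : ∀ w, e * w * e ∈ W := fun w => ⟨w, by simp [mul_assoc]⟩
  have hWl : ∀ w ∈ W, e * w = w := by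
    rintro _ ⟨w, rfl⟩
    simp [← mul_assoc, he2.eq]
  have hWr : ∀ w ∈ W, w * e = w := by
    rintro _ ⟨w, rfl⟩
    simp [mul_assoc, he2.eq]
  have hWmem : ∀ w, e * w = w → w * e = w → w ∈ W := fun w h1 h2 => by
    simpa [h1, h2] using hWmk w
  have hWmul : ∀ w ∈ W, ∀ w' ∈ W, w * w' ∈ W := fun w hw w' hw' =>
    hWmem _ (by rw [← mul_assoc, hWl w hw]) (by rw [mul_assoc, hWr w' hw'])
  let K : Submodule k A := LinearMap.ker q.toLinearMap
  have hK : ∀ z, z ∈ K ↔ q z = 0 := fun _ => Iff.rfl
  let N : Submodule k A := W ⊓ K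
  have heW : e ∈ W := hWmem e he2.eq he2.eq
  have hdec : ∀ w ∈ W, ∃ c : k, w - c • e ∈ N := by
    intro w hw
    refine ⟨q w 0 0, sub_mem hw (W.smul_mem _ heW), ?_⟩
    rw [SetLike.mem_coe, hK, map_sub, map_smul, hqe, sub_eq_zero]
    have h1 : q w = E 0 0 * q w * E 0 0 := by
      rw [← hqe, ← map_mul, ← map_mul, hWl w hw, hWr w hw]
    conv_lhs => rw [h1]
    simp only [E, Matrix.single_mul_mul_single, one_mul, mul_one, Matrix.smul_single, smul_eq_mul]
  have hNN : N * N ≤ N := Submodule.mul_le.2 fun m hm n hn =>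
    ⟨hWmul m hm.1 n hn.1, by rw [SetLike.mem_coe, hK, map_mul, (hK m).1 hm.2, zero_mul]⟩
  let C : Submodule k A := Submodule.span k (Set.range fun p : W × W =>
    (p.1 : A) * p.2 - (p.2 : A) * p.1)
  have hCm : ∀ w ∈ W, ∀ w' ∈ W, w * w' - w' * w ∈ C := fun w hw w' hw' =>
    subset_span ⟨(⟨w, hw⟩, ⟨w', hw'⟩), rfl⟩
  have hCN : C ≤ N * N := by
    refine Submodule.span_le.2 ?_
    rintro _ ⟨⟨w, w'⟩, rfl⟩
    obtain ⟨c, hc⟩ := hdec w w.2
    obtain ⟨c', hc'⟩ := hdec w' w'.2
    have h1 := hWl _ hc.1
    have h2 := hWr _ hc.1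
    have h3 := hWl _ hc'.1
    have h4 := hWr _ hc'.1
    set n := (w : A) - c • e with hn
    set n' := (w' : A) - c' • e with hn'
    have e1 : (w : A) = c • e + n := by rw [hn]; abel
    have e2 : (w' : A) = c' • e + n' := by rw [hn']; abel
    simp only [SetLike.mem_coe]
    rw [e1, e2]
    have : (c • e + n) * (c' • e + n') - (c' • e + n') * (c • e + n) = n * n' - n' * n := by
      simp only [add_mul, mul_add, smul_mul_assoc, mul_smul_comm, he2.eq, h1, h2, h3, h4,
        smul_add, smul_smul, mul_comm c' c]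
      abel
    rw [this]
    exact sub_mem (Submodule.mul_mem_mul hc hc') (Submodule.mul_mem_mul hc' hc)
  -- traces on the corner
  let σ : A →ₗ[k] A := ∑ i, LinearMap.mulLeftRight k (y i, x i)
  have hσ : ∀ z, σ z = ∑ i, y i * z * x i := fun z => by simp [σ, mul_assoc]
  have hins : ∀ z z' : A, z * z' = ∑ i, z * x i * (y i * z') := by
    intro z z'
    conv_lhs => rw [← mul_one z, ← hxy, Finset.mul_sum, Finset.sum_mul]
    exact Finset.sum_congr rfl fun i _ => by simp only [mul_assoc]
  have hterm : ∀ i l z, y i * z * x l ∈ W := fun i l z => hWmem _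
    (by rw [show e * (y i * z * x l) = e * y i * z * x l by simp only [mul_assoc], hye])
    (by rw [mul_assoc, hxe])
  have hσc : ∀ z z', σ (z * z' - z' * z) ∈ C := by
    intro z z'
    have h1 : ∀ z z', σ (z * z') = ∑ i, ∑ l, (y i * z * x l) * (y l * z' * x i) := by
      intro z z'
      rw [hσ]
      refine Finset.sum_congr rfl fun i _ => ?_
      rw [hins z z', Finset.mul_sum, Finset.sum_mul]
      exact Finset.sum_congr rfl fun l _ => by simp only [mul_assoc]
    rw [map_sub, h1, h1 z' z, Finset.sum_comm (γ := Fin d) (f := fun i l => y i * z' * x l * (y l * z * x i)),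
      ← Finset.sum_sub_distrib]
    refine sum_mem fun i _ => ?_
    rw [← Finset.sum_sub_distrib]
    exact sum_mem fun l _ => hCm _ (hterm i l z) _ (hterm l i z')
  have hσW : ∀ w ∈ W, σ w - w ∈ C := by
    intro w hw
    have e1 : w = ∑ i, w * (e * x i) * (y i * e) := by
      conv_lhs => rw [← hWr w hw, hins w e]
      exact Finset.sum_congr rfl fun i _ => by rw [← mul_assoc w e, hWr w hw]
    have e2 : ∀ i, y i * w * x i = (y i * e) * (w * (e * x i)) := by
      intro i
      calc y i * w * x i = y i * (e * w * e) * x i := by rw [hWl w hw, hWr w hw]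
        _ = _ := by simp only [mul_assoc]
    have key : σ w - w = ∑ i, ((y i * e) * (w * (e * x i)) - w * (e * x i) * (y i * e)) := by
      rw [Finset.sum_sub_distrib, ← e1, hσ]
      simp only [e2]
    rw [key]
    refine sum_mem fun i _ => hCm _ ?_ _ (hWmul w hw _ ?_)
    · exact hWmem _ (by rw [← mul_assoc, hye]) (by rw [mul_assoc, he2.eq])
    · exact hWmem _ (by rw [← mul_assoc, he2.eq]) (by rw [mul_assoc, hxe])
  obtain ⟨Q, hQ⟩ := (commSpan k A).exists_isCompl
  have hQdim : finrank k Q ≤ 2 := by
    rw [← (Submodule.quotientEquivOfIsCompl _ _ hQ).finrank_eq, ← hZ]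
    exact finrank_quot_comm_le s hs hnd
  have hW : W ≤ C ⊔ Q.map σ := by
    intro w hw
    obtain ⟨c, hc, z, hz, rfl⟩ := Submodule.mem_sup.1 (hQ.sup_eq_top ▸ Submodule.mem_top (x := w))
    have h1 : σ c ∈ C := by
      refine (Submodule.span_le (p := C.comap σ)).2 ?_ hc
      rintro _ ⟨⟨z₁, z₂⟩, rfl⟩
      exact hσc z₁ z₂
    have : c + z = (σ c - (σ (c + z) - (c + z))) + σ z := by rw [map_add]; abel
    rw [this]
    exact Submodule.add_mem_sup (sub_mem h1 (hσW _ hw)) (Submodule.mem_map_of_mem hz)
  have hWdim : finrank k W ≤ finrank k C + 2 :=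
    ((Submodule.finrank_mono hW).trans (Submodule.finrank_add_le_finrank_add_finrank _ _)).trans
      (Nat.add_le_add_left ((Submodule.finrank_map_le _ _).trans hQdim) _)
  have hNW : finrank k N < finrank k W := by
    refine Submodule.finrank_lt_finrank_of_lt (lt_of_le_of_ne inf_le_left fun h => ?_)
    have : e ∈ N := h ▸ heW
    have h0 := (hK e).1 this.2
    rw [hqe] at h0
    simpa [E] using congrFun (congrFun h0 0) 0
  -- the radical of the corner is generated by one element
  obtain ⟨n₀, hn₀, hgen⟩ : ∃ n₀ ∈ N, N ≤ (k ∙ n₀) ⊔ N * N := by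
    by_cases h : N ≤ N * N
    · exact ⟨0, N.zero_mem, h.trans le_sup_right⟩
    · obtain ⟨n₀, hn₀, hn₀'⟩ := SetLike.not_le_iff_exists.1 h
      refine ⟨n₀, hn₀, (Submodule.eq_of_le_of_finrank_le (sup_le ?_ hNN) ?_).ge⟩
      · exact (Submodule.span_singleton_le_iff_mem _ _).2 hn₀
      · have h1 : finrank k (N * N : Submodule k A) < finrank k ((k ∙ n₀) ⊔ N * N : Submodule k A) := by
          refine Submodule.finrank_lt_finrank_of_lt (lt_of_le_of_ne le_sup_right fun h' => hn₀' ?_)
          rw [h']
          exact Submodule.mem_sup_left (Submodule.mem_span_singleton_self n₀)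
        have h2 := Submodule.finrank_mono hCN
        omega
  let P : Submodule k A := Submodule.span k (Set.range fun i : ℕ => n₀ ^ (i + 1))
  have hPN : P ≤ N := by
    refine Submodule.span_le.2 ?_
    rintro _ ⟨i, rfl⟩
    induction i with
    | zero => simpa using hn₀
    | succ i ih => exact hNN (by simpa [pow_succ (n := i + 1)] using Submodule.mul_mem_mul ih hn₀)
  have hPP : P * P ≤ P := by
    rw [Submodule.span_mul_span]
    refine Submodule.span_mono ?_
    rintro _ ⟨_, ⟨i, rfl⟩, _, ⟨l, rfl⟩, rfl⟩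
    exact ⟨i + l + 1, by simp only [← pow_add]; congr 1; omega⟩
  have hNP : ∀ m, N ≤ P ⊔ N ^ (m + 2) := by
    intro m
    induction m with
    | zero =>
      rw [zero_add, sq]
      refine hgen.trans (sup_le_sup_right ((Submodule.span_singleton_le_iff_mem _ _).2 ?_) _)
      exact subset_span ⟨0, by simp⟩
    | succ m ih =>
      have h2 : N * N ≤ P ⊔ N ^ (m + 1 + 2) := by
        calc N * N ≤ (P ⊔ N ^ (m + 2)) * N := mul_le_mul' ih le_rfl
          _ = P * N ⊔ N ^ (m + 2) * N := Submodule.sup_mul _ _ _
          _ ≤ P * (P ⊔ N ^ (m + 2)) ⊔ N ^ (m + 1 + 2) :=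
              sup_le_sup (mul_le_mul' le_rfl ih) (by rw [← pow_succ])
          _ = P * P ⊔ P * N ^ (m + 2) ⊔ N ^ (m + 1 + 2) := by rw [Submodule.mul_sup]
          _ ≤ P ⊔ N ^ (m + 1 + 2) := sup_le (sup_le_sup hPP (by
              rw [show m + 1 + 2 = (m + 2) + 1 by omega, pow_succ' N (m + 2)]
              exact mul_le_mul' hPN le_rfl)) le_sup_right
      refine hgen.trans (sup_le ?_ h2)
      exact ((Submodule.span_singleton_le_iff_mem _ _).2
        (Submodule.mem_sup_left (subset_span ⟨0, by simp⟩)))
  obtain ⟨r, hr⟩ := hnilN N fun z hz => (hK z).1 hz.2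
  have hNle : N ≤ P := by
    refine (hNP r).trans (sup_le le_rfl ?_)
    rw [pow_succ, hr, Submodule.bot_mul]
    exact bot_le
  have hcomm : ∀ z ∈ N, ∀ z' ∈ N, z * z' = z' * z := by
    intro z hz z' hz'
    have h0 : ∀ w ∈ P, Commute w n₀ := by
      intro w hw
      induction hw using Submodule.span_induction with
      | mem w hw => obtain ⟨i, rfl⟩ := hw; exact (Commute.refl n₀).pow_left _
      | zero => exact Commute.zero_left _
      | add w w' _ _ h1 h2 => exact h1.add_left h2
      | smul c w _ h1 => exact h1.smul_left c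
    have h1 : ∀ w ∈ P, Commute z w := by
      intro w hw
      induction hw using Submodule.span_induction with
      | mem w hw => obtain ⟨i, rfl⟩ := hw; exact (h0 z (hNle hz)).pow_right _
      | zero => exact Commute.zero_right _
      | add w w' _ _ h1 h2 => exact h1.add_right h2
      | smul c w _ h1 => exact h1.smul_right c
    exact h1 z' (hNle hz')
  have hC0 : C = ⊥ := by
    refine (Submodule.eq_bot_iff _).2 fun z hz => ?_
    refine (Submodule.span_le (p := (⊥ : Submodule k A))).2 ?_ hz
    rintro _ ⟨⟨w, w'⟩, rfl⟩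
    obtain ⟨c, hc⟩ := hdec w w.2
    obtain ⟨c', hc'⟩ := hdec w' w'.2
    have h := hcomm _ hc _ hc'
    simp only [sub_mul, mul_sub, smul_mul_assoc, mul_smul_comm, he2.eq, hWl _ w.2, hWr _ w.2,
      hWl _ w'.2, hWr _ w'.2, smul_sub, smul_smul, mul_comm c' c] at h
    simp only [SetLike.mem_coe, Submodule.mem_bot, sub_eq_zero]
    rw [← sub_eq_zero] at h ⊢
    rw [← h]
    abel
  have hN1 : finrank k N ≤ 1 := by
    rw [hC0, finrank_bot] at hWdim
    omega
  have hN2 : N * N = ⊥ := by
    by_contra hne
    have h1 : finrank k (N * N : Submodule k A) ≠ 0 := fun h => hne (Submodule.finrank_eq_zero.1 h)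
    have h2 : N * N = N := Submodule.eq_of_le_of_finrank_le hNN (by omega)
    have h3 : ∀ i, N ^ (i + 1) = N := by
      intro i
      induction i with
      | zero => rw [zero_add, pow_one]
      | succ i ih => rw [pow_succ, ih, h2]
    exact hne (by rw [h2, ← h3 r, hr])
  -- the radical squares to zero
  have hJJ : ∀ z z', q z = 0 → q z' = 0 → z * z' = 0 := by
    intro z z' hz hz'
    have e1 : z * z' = ∑ i, ∑ l, ∑ t, x i * ((y i * z * x l) * (y l * z' * x t)) * y t := by
      have h1 : ∀ w, w = ∑ i, x i * (y i * w) := fun w => by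
        simp only [← mul_assoc, ← Finset.sum_mul, hxy, one_mul]
      have h2 : ∀ w, w = ∑ t, w * (x t * y t) := fun w => by
        rw [← Finset.mul_sum, hxy, mul_one]
      conv_lhs => rw [h1 (z * z')]
      refine Finset.sum_congr rfl fun i _ => ?_
      rw [hins z z', Finset.mul_sum, Finset.mul_sum]
      refine Finset.sum_congr rfl fun l _ => ?_
      conv_lhs => rw [h2 z']
      simp only [Finset.mul_sum, mul_assoc]
    rw [e1]
    refine Finset.sum_eq_zero fun i _ => Finset.sum_eq_zero fun l _ => Finset.sum_eq_zero fun t _ => ?_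
    have h2 : (y i * z * x l) * (y l * z' * x t) ∈ N * N :=
      Submodule.mul_mem_mul ⟨hterm i l z, (hK _).2 (by simp [map_mul, hz])⟩
        ⟨hterm l t z', (hK _).2 (by simp [map_mul, hz'])⟩
    rw [hN2, Submodule.mem_bot] at h2
    rw [h2, mul_zero, zero_mul]
  -- the radical is its own orthogonal
  let R : A →ₗ[k] Dual k K := K.dualRestrict.comp ((LinearMap.mul k A).compr₂ s)
  have hR : ∀ z (w : K), R z w = s (z * w) := fun _ _ => rfl
  have hRsurj : Function.Surjective R := by
    refine Subspace.dualRestrict_surjective.comp ?_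
    refine (LinearMap.injective_iff_surjective_of_finrank_eq_finrank Subspace.dual_finrank_eq.symm).1 ?_
    exact (injective_iff_map_eq_zero _).2 fun z h => hnd z fun w => LinearMap.congr_fun h w
  have hRker : LinearMap.ker R = K := by
    ext z
    rw [LinearMap.mem_ker, hK]
    constructor
    · intro hz
      by_contra hne
      obtain ⟨i₁, l₁, hil⟩ : ∃ i₁ l₁, q z i₁ l₁ ≠ 0 := by
        by_contra hall
        push Not at hall
        exact hne (Matrix.ext hall)
      choose f hf using fun i => hq ((q z i₁ l₁)⁻¹ • E i i₁)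
      choose g hg using fun i => hq (E l₁ i)
      let t := ∑ i, f i * z * g i
      have ht : q t = 1 := by
        simp only [t, map_sum, map_mul, hf, hg, smul_mul_assoc, E, Matrix.single_mul_mul_single,
          one_mul, mul_one, Matrix.smul_single, smul_eq_mul, inv_mul_cancel₀ hil]
        rw [← Matrix.diagonal_one, ← Matrix.sum_single_eq_diagonal]
      have htu : IsUnit t := by
        have := (hnil (1 - t) (by rw [map_sub, map_one, ht, sub_self])).isUnit_one_sub
        rwa [sub_sub_cancel] at this
      obtain ⟨tu, htu⟩ := htu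
      have hts : ∀ w ∈ K, s (t * w) = 0 := by
        intro w hw
        simp only [t, Finset.sum_mul, map_sum]
        refine Finset.sum_eq_zero fun i _ => ?_
        have h1 : s (f i * z * g i * w) = s (z * (g i * w * f i)) := by
          calc s (f i * z * g i * w) = s (f i * (z * (g i * w))) := by simp only [mul_assoc]
            _ = s (z * (g i * w) * f i) := hs _ _
            _ = _ := by simp only [mul_assoc]
        rw [h1]
        have h2 : g i * w * f i ∈ K := (hK _).2 (by simp [map_mul, (hK w).1 hw])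
        exact (hR z ⟨_, h2⟩).symm.trans (by rw [hz]; rfl)
      refine hj₀0 (hnd j₀ fun w => ?_)
      have h3 : ((tu⁻¹ : Aˣ) : A) * (j₀ * w) ∈ K := (hK _).2 (by simp [map_mul, hj₀])
      have h4 := hts _ h3
      rwa [← htu, Units.mul_inv_cancel_left] at h4
    · intro hz
      ext w
      rw [hR, hJJ z w hz w.2, map_zero]
      rfl
  have h1 := LinearMap.finrank_range_add_finrank_ker R
  rw [LinearMap.range_eq_top.2 hRsurj, finrank_top, Subspace.dual_finrank_eq, hRker] at h1
  have h2 := LinearMap.finrank_range_add_finrank_ker q.toLinearMap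
  rw [LinearMap.range_eq_top.2 (show Function.Surjective q.toLinearMap from hq), finrank_top,
    Module.finrank_matrix, Module.finrank_self, Fintype.card_fin, mul_one] at h2
  change d * d + finrank k K = _ at h2
  omega

omit [IsAlgClosed k] [FiniteDimensional k A] [Nontrivial A] in
theorem mem_range_mulLeft {e : A} (he : e * e = e) (x : A) :
    x ∈ LinearMap.range (LinearMap.mulLeft k e) ↔ e * x = x :=
  ⟨by rintro ⟨y, rfl⟩; simp [← mul_assoc, he], fun h => ⟨x, h⟩⟩

omit [Nontrivial A] in
/-- Brandt's count for the summand cut out by a central idempotent. -/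
theorem exists_finrank_of_centralIdem (e : A) (he : e * e = e) (hc : ∀ a, Commute e a) (h0 : e ≠ 0)
    (t : A →ₗ[k] k) (ht : ∀ a b, t (a * b) = t (b * a)) (hnd : ∀ a, (∀ b, t (a * b) = 0) → a = 0)
    (hZ : finrank k ((Subalgebra.center k A).toSubmodule ⊓ LinearMap.range (LinearMap.mulLeft k e) :
      Submodule k A) = 2)
    (hidem : ∀ z, (∀ a, Commute z a) → e * z = z → z * z = z → z = 0 ∨ z = e) :
    ∃ d : ℕ, finrank k (LinearMap.range (LinearMap.mulLeft k e)) = 2 * (d * d) := by
  classical
  let P : Submodule k A := LinearMap.range (LinearMap.mulLeft k e)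
  have hP : ∀ x : P, e * (x : A) = x := fun x => (mem_range_mulLeft he _).1 x.2
  have hmem : ∀ a : A, ∀ x ∈ P, a * x ∈ P := fun a x hx =>
    (mem_range_mulLeft he _).2 (by rw [← mul_assoc, (hc a).eq, mul_assoc, hP ⟨x, hx⟩])
  let fl : A →ₗ[k] Module.End k P :=
    { toFun := fun a => (LinearMap.mulLeft k a).restrict (fun x hx => hmem a x hx)
      map_add' := fun a b => LinearMap.ext fun x => Subtype.ext (add_mul a b (x : A))
      map_smul' := fun r a => LinearMap.ext fun x => Subtype.ext (smul_mul_assoc r a (x : A)) }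
  let φ : A →ₐ[k] Module.End k P := AlgHom.ofLinearMap fl
    (LinearMap.ext fun x => Subtype.ext (one_mul (x : A)))
    (fun a b => LinearMap.ext fun x => Subtype.ext (mul_assoc a b (x : A)))
  letI : Ring φ.range := Algebra.semiringToRing k
  let π := φ.rangeRestrict
  have hπ : Function.Surjective π := φ.rangeRestrict_surjective
  let eP : P := ⟨e, (mem_range_mulLeft he _).2 he⟩
  let ev : φ.range →ₗ[k] P :=
    { toFun := fun f => (f : Module.End k P) eP
      map_add' := fun f g => rfl
      map_smul' := fun r f => rfl }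
  have hev : ∀ a, ((ev (π a) : P) : A) = a * e := fun _ => rfl
  have hevinj : Function.Injective ev := by
    refine (injective_iff_map_eq_zero ev).2 fun f hf => ?_
    obtain ⟨a, rfl⟩ := hπ f
    have h1 : a * e = 0 := by rw [← hev, hf]; rfl
    refine Subtype.ext (LinearMap.ext fun x => Subtype.ext ?_)
    change a * (x : A) = 0
    rw [← hP x, ← mul_assoc, h1, zero_mul]
  have hevsurj : Function.Surjective ev := fun x =>
    ⟨π x, Subtype.ext (by rw [hev, ← (hc _).eq, hP x])⟩
  let E := LinearEquiv.ofBijective ev ⟨hevinj, hevsurj⟩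
  haveI : FiniteDimensional k φ.range := Module.Finite.equiv E.symm
  haveI : Nontrivial φ.range := by
    refine ⟨⟨π 1, 0, fun h => h0 ?_⟩⟩
    have h1 : ((ev (π 1) : P) : A) = 0 := by rw [h, map_zero]; rfl
    rwa [hev, one_mul] at h1
  let s : φ.range →ₗ[k] k := t.comp (P.subtype.comp ev)
  have hsev : ∀ a, s (π a) = t (a * e) := fun _ => rfl
  have hs : ∀ f g, s (f * g) = s (g * f) := by
    intro f g
    obtain ⟨a, rfl⟩ := hπ f
    obtain ⟨b, rfl⟩ := hπ g
    rw [← map_mul, ← map_mul, hsev, hsev, mul_assoc a b e, ← (hc b).eq, ← mul_assoc, ht,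
      mul_assoc b a e]
  have hsnd : ∀ f, (∀ g, s (f * g) = 0) → f = 0 := by
    intro f h
    obtain ⟨a, rfl⟩ := hπ f
    refine hevinj (Subtype.ext ?_)
    rw [hev, map_zero, Submodule.coe_zero]
    refine hnd _ fun b => ?_
    rw [mul_assoc, (hc b).eq, ← mul_assoc, ← hsev, map_mul]
    exact h _
  have hcen : ∀ a, π a ∈ Subalgebra.center k φ.range ↔ ∀ b, Commute (a * e) b := by
    intro a
    rw [Subalgebra.mem_center_iff]
    constructor
    · intro h b
      have h1 := congrArg (fun f => ((ev f : P) : A)) (h (π b))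
      simp only [← map_mul, hev] at h1
      calc a * e * b = a * b * e := by rw [mul_assoc, (hc b).eq, mul_assoc]
        _ = b * a * e := h1.symm
        _ = b * (a * e) := mul_assoc _ _ _
    · intro h f
      obtain ⟨b, rfl⟩ := hπ f
      refine hevinj (Subtype.ext ?_)
      rw [← map_mul, ← map_mul, hev, hev, mul_assoc b a, ← (h b).eq, mul_assoc a e, (hc b).eq,
        mul_assoc]
  let Z := (Subalgebra.center k A).toSubmodule ⊓ P
  have hmap : (Subalgebra.center k φ.range).toSubmodule.map (P.subtype.comp ev) = Z := by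
    apply le_antisymm
    · rintro _ ⟨f, hf, rfl⟩
      obtain ⟨a, rfl⟩ := hπ f
      refine ⟨?_, (ev (π a)).2⟩
      change a * e ∈ Subalgebra.center k A
      rw [Subalgebra.mem_center_iff]
      exact fun b => ((hcen a).1 hf b).eq.symm
    · rintro z ⟨hz, hzP⟩
      have hze : z * e = z := by rw [← (hc z).eq]; exact hP ⟨z, hzP⟩
      refine ⟨π z, (hcen z).2 fun b => ?_, hze⟩
      rw [hze]
      exact ((Subalgebra.mem_center_iff (R := k)).1 hz b).symm
  have hZ' : finrank k (Subalgebra.center k φ.range) = 2 := by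
    rw [← hZ]
    change _ = finrank k Z
    rw [← hmap]
    refine (Subalgebra.finrank_toSubmodule _).symm.trans ?_
    exact (Submodule.equivMapOfInjective (P.subtype.comp ev) (Subtype.val_injective.comp hevinj) _).finrank_eq
  have hidem' : ∀ f ∈ Subalgebra.center k φ.range, f * f = f → f = 0 ∨ f = 1 := by
    intro f hf hff
    obtain ⟨a, rfl⟩ := hπ f
    have h1 := congrArg (fun f => ((ev f : P) : A)) hff
    simp only [← map_mul, hev] at h1
    have h2 : a * e * (a * e) = a * e := by
      calc a * e * (a * e) = a * (e * a) * e := by simp only [mul_assoc]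
        _ = a * a * e * e := by rw [(hc a).eq]; simp only [mul_assoc]
        _ = a * e := by rw [h1, mul_assoc, he]
    rcases hidem (a * e) ((hcen a).1 hf) (hP (ev (π a))) h2 with h3 | h3
    · exact Or.inl (hevinj (Subtype.ext (by rw [hev, h3, map_zero]; rfl)))
    · refine Or.inr (hevinj (Subtype.ext ?_))
      rw [hev, h3, ← map_one π, hev, one_mul]
  obtain ⟨d, hd⟩ := exists_finrank_eq s hs hsnd hZ' hidem'
  exact ⟨d, E.finrank_eq.symm.trans hd⟩

end CfsgLib.Blk.TwoChar
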