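import Cfsg.Agent.Blk.BrauerFeit
import Cfsg.Agent.Blk.Orth
import Cfsg.Agent.Blk.Pair.Base
import Cfsg.Agent.Blk.RegExpand
import Cfsg.Agent.Blk.TwoCharAlg
import Mathlib.RingTheory.LocalRing.Module
import Mathlib.RingTheory.Polynomial.ScaleRoots
import Mathlib.Algebra.Polynomial.Lifts
import Mathlib.LinearAlgebra.Matrix.ToLin
import Mathlib.Analysis.Complex.Polynomial.Basic

/-!
A block with exactly two characters has a defect group of order two (Brandt).
-/

set_option autoImplicit false
set_option linter.style.haveILetI false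
set_option linter.unusedSectionVars false

namespace CfsgLib.Blk.TwoChar

open Cfsg CfsgLib.Char CfsgLib.Blk CfsgLib.Blk.Pair MonoidAlgebra IsLocalRing Module
open scoped ComplexConjugate CfsgLib.Char

universe u

variable {M : Ideal AlgInt} [M.IsPrime] {p : ℕ}

theorem isAlgClosed_res : IsAlgClosed (Res M) := by
  classical
  refine IsAlgClosed.of_exists_root _ fun f hf hirr => ?_
  obtain ⟨P, hP, hdeg, hmon⟩ := Polynomial.lifts_and_natDegree_eq_and_monic
    ((Polynomial.mem_lifts f).2 (Polynomial.map_surjective _ (IsLocalRing.residue_surjective (R := locRing M)) f)) hf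
  set n := P.natDegree with hn
  have hn0 : 0 < n := by rw [hdeg]; exact hirr.natDegree_pos
  set Q := P.map (locRing M).subtype with hQ
  have hQdeg : Q.natDegree = n := hmon.natDegree_map _
  obtain ⟨z, hz⟩ := IsAlgClosed.exists_root Q (fun h => by
    have := Polynomial.natDegree_eq_of_degree_eq_some (n := 0) h
    omega)
  choose a b hb hab using fun i : ℕ => mem_locRing.1 (P.coeff i).2
  let s : AlgInt := ∏ i ∈ Finset.range n, b i
  have hs : s ∉ M := fun h => by
    obtain ⟨i, -, hi⟩ := (Ideal.IsPrime.prod_mem_iff (hp := ‹M.IsPrime›)).1 h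
    exact hb i hi
  have hsne := coe_ne_zero_of_notMem hs
  let R := Polynomial.scaleRoots Q (s : ℂ)
  have hR : ∀ i, R.coeff i ∈ AlgInt := by
    intro i
    change (Polynomial.scaleRoots Q (s : ℂ)).coeff i ∈ AlgInt
    rw [Polynomial.coeff_scaleRoots, hQdeg, hQ, Polynomial.coeff_map]
    rcases lt_trichotomy i n with hi | rfl | hi
    · obtain ⟨t, ht⟩ : ∃ t : AlgInt, s = b i * t :=
        ⟨_, (Finset.mul_prod_erase _ b (Finset.mem_range.2 hi)).symm⟩
      rw [show n - i = (n - i - 1) + 1 by omega, pow_succ, Subring.coe_subtype, ← hab i,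
        mul_comm ((s : ℂ) ^ _), ← mul_assoc]
      refine mul_mem ?_ (pow_mem s.2 _)
      have hb0 := coe_ne_zero_of_notMem (hb i)
      have : (a i : ℂ) / (b i : ℂ) * (s : ℂ) = ((a i * t : AlgInt) : ℂ) := by
        rw [ht]; push_cast; field_simp
      rw [this]
      exact SetLike.coe_mem _
    · rw [Nat.sub_self, pow_zero, mul_one, hn, hmon.coeff_natDegree, map_one]
      exact one_mem _
    · rw [Polynomial.coeff_eq_zero_of_natDegree_lt (by omega), map_zero, zero_mul]
      exact zero_mem _
  obtain ⟨R', hR', -, hR'm⟩ := Polynomial.lifts_and_natDegree_eq_and_monic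
    (f := algebraMap AlgInt ℂ) (p := R)
    ((Polynomial.lifts_iff_coeff_lifts _).2 fun i => ⟨⟨_, hR i⟩, rfl⟩)
    ((Polynomial.monic_scaleRoots_iff _).2 (hmon.map _))
  have hint : IsIntegral ℤ ((s : ℂ) * z) := by
    haveI : Algebra.IsIntegral ℤ AlgInt := ⟨fun x => integralClosure.isIntegral x⟩
    refine isIntegral_trans (A := AlgInt) _ ⟨R', hR'm, ?_⟩
    rw [Polynomial.eval₂_eq_eval_map, hR']
    have h1 := Polynomial.scaleRoots_eval₂_eq_zero (s := (s : ℂ)) (RingHom.id ℂ)
      (p := Q) (r := z) (by rw [Polynomial.eval₂_id]; exact hz)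
    simpa [Polynomial.eval₂_id] using h1
  have hzR : z ∈ locRing M := ⟨⟨_, hint⟩, s, hs, by change (s : ℂ) * z / s = z; field_simp⟩
  refine ⟨residue (locRing M) ⟨z, hzR⟩, ?_⟩
  rw [← hP, Polynomial.eval_map, Polynomial.eval₂_at_apply]
  have h0 : P.eval (⟨z, hzR⟩ : locRing M) = 0 := by
    refine Subtype.ext ?_
    have := Polynomial.eval₂_at_apply (p := P) (locRing M).subtype ⟨z, hzR⟩
    rw [← Polynomial.eval_map] at this
    exact this.symm.trans hz
  rw [h0, map_zero]

/-- The rank of the reduction of an idempotent matrix is its trace. -/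
theorem finrank_range_residue {ι : Type*} [Fintype ι] [DecidableEq ι]
    (E : Matrix ι ι (locRing M)) (hE : E * E = E) :
    (finrank (Res M) (LinearMap.range (E.map (residue (locRing M))).toLin') : ℂ) =
      ((E.trace : locRing M) : ℂ) := by
  set L := Matrix.toLin' E with hL
  have hfix : ∀ x ∈ LinearMap.range L, L x = x := by
    rintro _ ⟨x, rfl⟩
    rw [hL, ← Matrix.toLin'_mul_apply, hE]
  haveI : Module.Finite (locRing M) (LinearMap.range L) :=
    Module.Finite.of_surjective L.rangeRestrict L.surjective_rangeRestrict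
  haveI : Module.Projective (locRing M) (LinearMap.range L) :=
    Module.Projective.of_split (LinearMap.range L).subtype L.rangeRestrict
      (LinearMap.ext fun x => Subtype.ext (hfix x x.2))
  haveI : Module.Free (locRing M) (LinearMap.range L) := Module.free_of_flat_of_isLocalRing
  set r := finrank (locRing M) (LinearMap.range L)
  let b := Module.finBasis (locRing M) (LinearMap.range L)
  let Bm : Matrix ι (Fin r) (locRing M) :=
    LinearMap.toMatrix' ((LinearMap.range L).subtype ∘ₗ b.equivFun.symm.toLinearMap)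
  let Cm : Matrix (Fin r) ι (locRing M) :=
    LinearMap.toMatrix' (b.equivFun.toLinearMap ∘ₗ L.rangeRestrict)
  have hCB : Cm * Bm = 1 := by
    rw [← LinearMap.toMatrix'_comp, ← LinearMap.toMatrix'_id]
    congr 1
    refine LinearMap.ext fun v => ?_
    simp only [LinearMap.coe_comp, Function.comp_apply, LinearEquiv.coe_coe, Submodule.coe_subtype,
      LinearMap.id_apply]
    rw [show L.rangeRestrict ((b.equivFun.symm v : LinearMap.range L) : ι → locRing M) =
      b.equivFun.symm v from Subtype.ext (hfix _ (b.equivFun.symm v).2), LinearEquiv.apply_symm_apply]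
  have hBC : Bm * Cm = E := by
    rw [← LinearMap.toMatrix'_comp, ← LinearMap.toMatrix'_toLin' E]
    congr 1
    refine LinearMap.ext fun v => ?_
    simp only [LinearMap.coe_comp, Function.comp_apply, LinearEquiv.coe_coe, Submodule.coe_subtype,
      LinearEquiv.symm_apply_apply]
    rfl
  set B' := Bm.map (residue (locRing M))
  set C' := Cm.map (residue (locRing M))
  have hE' : E.map (residue (locRing M)) = B' * C' := by rw [← hBC, Matrix.map_mul]
  have hCB' : C' * B' = 1 := by
    rw [← Matrix.map_mul, hCB, Matrix.map_one _ (map_zero _) (map_one _)]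
  have hcomp : C'.toLin' ∘ₗ B'.toLin' = LinearMap.id := by
    rw [← Matrix.toLin'_mul, hCB', Matrix.toLin'_one]
  have hinj : Function.Injective B'.toLin' :=
    Function.LeftInverse.injective (g := C'.toLin') fun v => LinearMap.congr_fun hcomp v
  have hsurj : Function.Surjective C'.toLin' :=
    Function.RightInverse.surjective (g := B'.toLin') fun v => LinearMap.congr_fun hcomp v
  rw [hE', Matrix.toLin'_mul, LinearMap.range_comp_of_range_eq_top _ (LinearMap.range_eq_top.2 hsurj),
    LinearMap.finrank_range_of_inj hinj, Module.finrank_fintype_fun_eq_card, Fintype.card_fin,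
    ← hBC, Matrix.trace_mul_comm, hCB, Matrix.trace_one, Fintype.card_fin]
  rfl

variable {G : Type u} [Group G] [Finite G]

section cls

variable [Fintype (ConjClasses G)] {R : Type*} [CommRing R]

/-- The class-coefficient element with given coefficients. -/
noncomputable def ofCls (v : ConjClasses G → R) : MonoidAlgebra R G :=
  ∑ C : ConjClasses G, v C • classSum R C.out

theorem isClassCoeff_ofCls (v : ConjClasses G → R) : IsClassCoeff (ofCls v) :=
  isClassCoeff_sum _ _ fun _ _ => (isClassCoeff_classSum _ _).smul _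

theorem coeff_ofCls (v : ConjClasses G → R) (C : ConjClasses G) : (ofCls v).coeff C.out = v C := by
  classical
  simp only [ofCls, MonoidAlgebra.coeff_sum, Finset.sum_apply', MonoidAlgebra.coeff_smul,
    Finsupp.smul_apply, coeff_classSum, smul_eq_mul]
  rw [Finset.sum_eq_single C]
  · rw [if_pos (IsConj.refl _), mul_one]
  · intro D _ hD
    rw [if_neg, mul_zero]
    intro h
    exact hD (by rw [← Quotient.out_eq D, ← Quotient.out_eq C]; exact ConjClasses.mk_eq_mk_iff_isConj.2 h)
  · simp

theorem ofCls_coeff {a : MonoidAlgebra R G} (ha : IsClassCoeff a) :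
    ofCls (fun C => a.coeff C.out) = a := (eq_sum_classSum ha).symm

/-- Multiplication by `e` in the basis of class sums. -/
noncomputable def clMat (e : MonoidAlgebra R G) : Matrix (ConjClasses G) (ConjClasses G) R :=
  Matrix.of fun C D => (e * classSum R D.out).coeff C.out

theorem clMat_mulVec (e : MonoidAlgebra R G) (v : ConjClasses G → R) :
    Matrix.mulVec (clMat e) v = fun C => (e * ofCls v).coeff C.out := by
  classical
  funext C
  simp only [Matrix.mulVec, dotProduct, clMat, Matrix.of_apply, ofCls, Finset.mul_sum,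
    mul_smul_comm, MonoidAlgebra.coeff_sum, Finset.sum_apply', MonoidAlgebra.coeff_smul,
    Finsupp.smul_apply, smul_eq_mul]
  exact Finset.sum_congr rfl fun D _ => mul_comm _ _

theorem clMat_idem {e : MonoidAlgebra R G} (he : IsClassCoeff e) (hee : e * e = e) :
    clMat e * clMat e = clMat e := by
  classical
  ext C D
  have h1 : (clMat e * clMat e) C D = Matrix.mulVec (clMat e) (fun C' => clMat e C' D) C := by
    simp [Matrix.mul_apply, Matrix.mulVec, dotProduct]
  rw [h1, clMat_mulVec]
  have h2 : ofCls (fun C' => clMat e C' D) = e * classSum R D.out :=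
    ofCls_coeff (he.mul (isClassCoeff_classSum _ _))
  simp only [h2, ← mul_assoc, hee]
  rfl

end cls

theorem leftMat_mulVec [Fintype G] {R : Type*} [CommRing R] (c x : MonoidAlgebra R G) :
    Matrix.mulVec (leftMat c) (⇑x.coeff) = ⇑(c * x).coeff := by
  funext i
  rw [Matrix.mulVec, dotProduct, coeff_mul_sum_right]
  exact Finset.sum_congr rfl fun j _ => rfl

theorem trace_clMat [Fintype (ConjClasses G)] (hM : IsPModular p M) {B : Set (IrrCharacter G)}
    (hB : IsPBlock M B) :
    (((clMat (blockIdem hM hB)).trace : locRing M) : ℂ) = (Nat.card B : ℂ) := by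
  classical
  haveI := Fintype.ofFinite G
  have he := isClassCoeff_blockIdem hM hB
  let f : G → ℂ := fun g => ∑ χ : IrrCharacter G,
    if χ ∈ B then (Nat.card G : ℂ)⁻¹ * ((χ : G → ℂ) g * conj ((χ : G → ℂ) g)) else 0
  have hfc : ∀ g C, ConjClasses.mk g = C → f g = f C.out := by
    intro g C h
    obtain ⟨c, hc⟩ := isConj_iff.1 (ConjClasses.mk_eq_mk_iff_isConj.1
      ((Quotient.out_eq C).trans h.symm : ConjClasses.mk C.out = ConjClasses.mk g))
    refine Finset.sum_congr rfl fun χ _ => ?_
    rw [← hc, classFun_of_irr χ.2]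
  have h1 : ∀ C : ConjClasses G, (((clMat (blockIdem hM hB)) C C : locRing M) : ℂ) =
      ∑ g ∈ Finset.univ.filter (fun g => ConjClasses.mk g = C), f g := by
    intro C
    rw [Finset.sum_congr rfl (fun g hg => hfc g C (Finset.mem_filter.1 hg).2), Finset.sum_const,
      nsmul_eq_mul]
    have hcard : (Finset.univ.filter (fun g => ConjClasses.mk g = C)).card =
        (Subgroup.centralizer ({C.out} : Set G)).index := by
      rw [← card_filter_isConj]
      congr 1
      ext g
      simp only [Finset.mem_filter, Finset.mem_univ, true_and]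
      rw [← ConjClasses.mk_eq_mk_iff_isConj, show ConjClasses.mk C.out = C from Quotient.out_eq C]
      exact eq_comm
    rw [hcard, clMat, Matrix.of_apply, omega_inversion (he.mul (isClassCoeff_classSum _ _)),
      Finset.mul_sum, Finset.mul_sum]
    refine Finset.sum_congr rfl fun χ _ => ?_
    rw [omega_mul χ.2 he, omega_blockIdem, omega_classSum (classFun_of_irr χ.2)]
    have := irr_one_ne_zero χ.2
    split_ifs
    · rw [centralChar]; field_simp
    · simp
  rw [Matrix.trace, AddSubmonoidClass.coe_finsetSum]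
  simp only [Matrix.diag, h1]
  rw [Finset.sum_fiberwise, Finset.sum_comm]
  have h2 : ∀ χ : IrrCharacter G, (∑ g : G, if χ ∈ B then
      (Nat.card G : ℂ)⁻¹ * ((χ : G → ℂ) g * conj ((χ : G → ℂ) g)) else 0) =
      if χ ∈ B then 1 else 0 := by
    intro χ
    split_ifs with h
    · have := irr_inner_self χ.2
      rwa [classInner_def, Finset.mul_sum] at this
    · simp
  simp only [h2]
  rw [Finset.sum_boole, Nat.card_eq_fintype_card, ← Set.toFinset_card]
  congr 2
  ext χ
  simp

theorem trace_leftMat [Fintype G] (hM : IsPModular p M) {B : Set (IrrCharacter G)}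
    (hB : IsPBlock M B) [DecidablePred (· ∈ B)] :
    (((leftMat (blockIdem hM hB)).trace : locRing M) : ℂ) =
      ∑ χ : IrrCharacter G, if χ ∈ B then (χ : G → ℂ) 1 * (χ : G → ℂ) 1 else 0 := by
  classical
  rw [Matrix.trace, AddSubmonoidClass.coe_finsetSum]
  simp only [Matrix.diag, leftMat_apply, mul_inv_cancel, coeff_blockIdem, Finset.sum_const,
    nsmul_eq_mul, blockCoeff, finsum_mem_eq_sum_ite, Finset.card_univ, Fintype.card_eq_nat_card]
  rw [← mul_assoc, mul_inv_cancel₀ (natCard_ne_zero G), one_mul]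
  refine Finset.sum_congr rfl fun χ _ => ?_
  split_ifs
  · rw [irr_one_eq χ.2, map_natCast]
  · rfl

theorem coeff_mul_comm [Fintype G] {R : Type*} [CommRing R] (a b : MonoidAlgebra R G) :
    (a * b).coeff 1 = (b * a).coeff 1 := by
  rw [coeff_mul_sum, coeff_mul_sum_right]
  refine Finset.sum_congr rfl fun x _ => ?_
  simp [mul_comm]

/-- Brandt: the squares of the degrees of a block with two characters sum to twice a square. -/
theorem exists_sum_sq (hM : IsPModular p M) {B : Set (IrrCharacter G)} (hB : IsPBlock M B)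
    (h2 : Nat.card B = 2) [DecidablePred (· ∈ B)] :
    ∃ d : ℕ, (∑ χ : IrrCharacter G, if χ ∈ B then (χ : G → ℂ) 1 * (χ : G → ℂ) 1 else 0) =
      ((2 * (d * d) : ℕ) : ℂ) := by
  classical
  haveI := Fintype.ofFinite G
  haveI : Fintype (ConjClasses G) := Fintype.ofFinite _
  haveI := isAlgClosed_res (M := M)
  set ε := bid M B with hε
  have hεc := isClassCoeff_bid hM hB
  have hεε := bid_mul_self hM hB
  let c : KA M G ≃ₗ[Res M] (G → Res M) := (MonoidAlgebra.coeffLinearEquiv (Res M)).trans
      (Finsupp.linearEquivFunOnFinite (Res M) (Res M) G)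
  have hc : ∀ x, c x = ⇑x.coeff := fun _ => rfl
  haveI : FiniteDimensional (Res M) (KA M G) := Module.Finite.equiv c.symm
  let t : KA M G →ₗ[Res M] Res M := (LinearMap.proj (1 : G)).comp c.toLinearMap
  have ht : ∀ x, t x = x.coeff 1 := fun _ => rfl
  set P := LinearMap.range (LinearMap.mulLeft (Res M) ε)
  set Pm := (clMat (blockIdem hM hB)).map (residue (locRing M)) with hPm
  have hPm' : Pm = clMat ε := by
    ext C D
    simp only [hPm, Matrix.map_apply, clMat, Matrix.of_apply, ← coeff_redA, map_mul, redA_classSum,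
      ← bid_eq hM hB, hε]
  let Z : Submodule (Res M) (KA M G) := (Subalgebra.center (Res M) (KA M G)).toSubmodule ⊓ P
  have hcen : ∀ x, x ∈ Subalgebra.center (Res M) (KA M G) ↔ IsClassCoeff x := fun x => by
    rw [Subalgebra.mem_center_iff, isClassCoeff_iff_commute]
    exact forall_congr' fun b => ⟨fun h => h.symm, fun h => h.eq.symm⟩
  let ι : Z →ₗ[Res M] (ConjClasses G → Res M) :=
    { toFun := fun x C => (x : KA M G).coeff C.out
      map_add' := fun f g => funext fun C => rfl
      map_smul' := fun r f => funext fun C => rfl }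
  have hιinj : Function.Injective ι := by
    intro x y h
    refine Subtype.ext ?_
    rw [← ofCls_coeff ((hcen _).1 x.2.1), ← ofCls_coeff ((hcen _).1 y.2.1)]
    exact congrArg ofCls h
  have hιrange : LinearMap.range ι = LinearMap.range Pm.toLin' := by
    apply le_antisymm
    · rintro _ ⟨x, rfl⟩
      refine ⟨ι x, ?_⟩
      rw [Matrix.toLin'_apply, hPm', clMat_mulVec]
      funext C
      rw [show ofCls (ι x) = (x : KA M G) from ofCls_coeff ((hcen _).1 x.2.1),
        (mem_range_mulLeft (k := Res M) hεε _).1 x.2.2]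
      rfl
    · rintro _ ⟨v, rfl⟩
      refine ⟨⟨ε * ofCls v, (hcen _).2 (hεc.mul (isClassCoeff_ofCls v)), ⟨ofCls v, rfl⟩⟩, ?_⟩
      rw [Matrix.toLin'_apply, hPm', clMat_mulVec]
      rfl
  have hZ : finrank (Res M) Z = 2 := by
    have h1 := finrank_range_residue (clMat (blockIdem hM hB))
      (clMat_idem (isClassCoeff_blockIdem hM hB) (blockIdem_mul_self hM hB))
    rw [trace_clMat hM hB, h2, ← hPm, ← hιrange, LinearMap.finrank_range_of_inj hιinj] at h1
    exact_mod_cast h1
  obtain ⟨d, hd⟩ := exists_finrank_of_centralIdem ε hεε (fun a => hεc.commute a)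
    (bid_ne_zero hM hB) t (fun a b => coeff_mul_comm a b) (fun a h => by
      refine MonoidAlgebra.coeff_injective (Finsupp.ext fun g => ?_)
      have h1 := h (single g⁻¹ 1)
      rw [ht, coeff_mul_sum_right, Finset.sum_eq_single g⁻¹] at h1
      · simpa using h1
      · intro x _ hx
        simp [hx.symm]
      · simp) hZ
    (fun z hz hεz hzz => by
      obtain ⟨χ, hχ⟩ := isPBlock_nonempty hB
      have hzc : IsClassCoeff z := isClassCoeff_iff_commute.2 hz
      have h1 := bid_mul_idem hM hB hzc hzz hχ
      rw [← hε, hεz] at h1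
      rcases lam_idem χ.2 hzc hzz with h0 | h0 <;> rw [h0] at h1
      · exact Or.inl (by rw [h1, zero_smul])
      · exact Or.inr (by rw [h1, one_smul]))
  refine ⟨d, ?_⟩
  rw [← hd, ← trace_leftMat hM hB,
    ← finrank_range_residue _ (by rw [leftMat_mul, blockIdem_mul_self])]
  congr 1
  have hmap : (leftMat (blockIdem hM hB)).map (residue (locRing M)) = leftMat ε := by
    ext i j
    simp only [Matrix.map_apply, leftMat_apply, ← coeff_redA, ← bid_eq hM hB, hε]
  have : P.map (c : KA M G →ₗ[Res M] (G → Res M)) =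
      LinearMap.range ((leftMat (blockIdem hM hB)).map (residue (locRing M))).toLin' := by
    rw [hmap]
    apply le_antisymm
    · rintro _ ⟨_, ⟨x, rfl⟩, rfl⟩
      exact ⟨c x, by rw [Matrix.toLin'_apply, hc, leftMat_mulVec]; rfl⟩
    · rintro _ ⟨v, rfl⟩
      refine ⟨ε * c.symm v, ⟨c.symm v, rfl⟩, ?_⟩
      rw [Matrix.toLin'_apply, LinearEquiv.coe_coe, hc, ← leftMat_mulVec, ← hc, LinearEquiv.apply_symm_apply]
  rw [← this, LinearEquiv.finrank_map_eq]

theorem finish {x y : ℤ} {n m d₀ d : ℕ} (hp : p.Prime) (hd : d ≠ 0)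
    (hrow : x * x + y * y = (p : ℤ) ^ d * x) (hnd : ¬ (p : ℤ) ∣ x)
    (hone : (p : ℤ) ^ d * n = x * n + y * m) (hsq : n * n + m * m = 2 * (d₀ * d₀)) (hn : n ≠ 0) :
    p = 2 ∧ d = 1 := by
  set q : ℤ := (p : ℤ) ^ d with hq
  have hqp : (p : ℤ) ∣ q := dvd_pow_self _ hd
  have hx0 : x ≠ 0 := fun h => hnd (h ▸ dvd_zero _)
  have hqpos : 0 < q := pow_pos (by exact_mod_cast hp.pos) d
  have hxpos : 0 < x := by
    rcases lt_or_gt_of_ne hx0 with h | h
    · nlinarith [mul_self_nonneg x, mul_self_nonneg y]
    · exact h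
  have hy2 : x * (q - x) = y ^ 2 := by linear_combination -hrow
  have hqx : q - x ≠ 0 := fun h => hnd (by rw [← sub_eq_zero.1 h]; exact hqp)
  have hqx0 : 0 ≤ q - x := nonneg_of_mul_nonneg_right (by rw [hy2]; positivity) hxpos
  have hyn : y * n = x * m := by
    refine mul_left_cancel₀ hqx ?_
    linear_combination y * hone + (m : ℤ) * (-hy2)
  have hkey : x * (2 * (d₀ * d₀) : ℕ) = q * (n * n) := by
    rw [← hsq]
    refine mul_left_cancel₀ hx0 ?_
    push_cast
    linear_combination (-(x * m) - y * n) * hyn + (n : ℤ) * n * hrow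
  have hcop : IsCoprime x (q - x) := by
    have h1 : IsCoprime x (p : ℤ) :=
      ((Nat.prime_iff_prime_int.1 hp).irreducible.coprime_iff_not_dvd.2 hnd).symm
    simpa [sub_eq_add_neg] using (h1.pow_right (n := d)).add_mul_left_right (-1)
  obtain ⟨r, hr⟩ := Int.sq_of_isCoprime hcop hy2
  obtain ⟨r', hr'⟩ := Int.sq_of_isCoprime hcop.symm (by rw [mul_comm]; exact hy2)
  replace hr : x = r ^ 2 := hr.resolve_right fun h => by nlinarith [sq_nonneg r]
  replace hr' : q - x = r' ^ 2 := hr'.elim id fun h => by
    have : r' ^ 2 = 0 := le_antisymm (by omega) (sq_nonneg r')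
    omega
  rcases eq_or_ne p 2 with rfl | hp2
  · refine ⟨rfl, ?_⟩
    by_contra hd1
    have h4 : (4 : ℤ) ∣ q := by
      rw [hq, show d = (d - 2) + 2 by omega, pow_add]
      exact ⟨2 ^ (d - 2), by push_cast; ring⟩
    rcases Int.even_or_odd r with he | ⟨i, hi⟩
    · refine hnd ?_
      rw [hr, sq]
      exact dvd_mul_of_dvd_left (even_iff_two_dvd.1 he) _
    · rcases Int.even_or_odd r' with he | ⟨j, hj⟩
      · refine hnd ?_
        rw [show x = q - (q - x) by ring, hr', sq]
        exact dvd_sub hqp (dvd_mul_of_dvd_left (even_iff_two_dvd.1 he) _)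
      · obtain ⟨c, hc⟩ := h4
        have : q = 4 * (i * i + i + j * j + j) + 2 := by
          have : q = r ^ 2 + r' ^ 2 := by rw [← hr, ← hr']; ring
          rw [this, hi, hj]; ring
        omega
  · exfalso
    set w := r.natAbs * d₀ with hw
    have h1 : 2 * (w * w) = p ^ d * (n * n) := by
      have : ((2 * (w * w) : ℕ) : ℤ) = ((p ^ d * (n * n) : ℕ) : ℤ) := by
        have ha : ((r.natAbs : ℕ) : ℤ) * (r.natAbs : ℤ) = r * r := Int.natAbs_mul_self' r
        push_cast [hw] at ha ⊢
        rw [← hq, ← hkey, hr]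
        push_cast
        linear_combination 2 * (d₀ : ℤ) * d₀ * ha
      exact_mod_cast this
    have hq0 : p ^ d ≠ 0 := pow_ne_zero _ hp.ne_zero
    have hw0 : w ≠ 0 := by
      intro h
      simp [h, hp.ne_zero, hn] at h1
    have h2 := congrArg (fun z : ℕ => z.factorization 2) h1
    simp only [Nat.factorization_mul two_ne_zero (mul_ne_zero hw0 hw0), Nat.factorization_mul hw0 hw0,
      Nat.factorization_mul hq0 (mul_ne_zero hn hn), Nat.factorization_mul hn hn,
      Nat.factorization_pow, hp.factorization, Nat.prime_two.factorization, Finsupp.add_apply,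
      Finsupp.smul_apply, Finsupp.single_eq_same, Finsupp.single_eq_of_ne (Ne.symm hp2),
      smul_eq_mul, mul_zero] at h2
    omega

variable [Fact p.Prime]

/-- A block has exactly two characters iff its defect is one and the prime is two. -/
theorem card_two_iff (hM : IsPModular p M) {B : Set (IrrCharacter G)} (hB : IsPBlock M B) :
    Nat.card B = 2 ↔ p = 2 ∧ blockDefect p B = 1 := by
  classical
  haveI := Fintype.ofFinite G
  have hp : p.Prime := Fact.out
  obtain ⟨θ, hθ, h0⟩ := exists_height_zero hM hB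
  obtain ⟨a, hout, hsum, -, -, hnd, -, -⟩ := exists_regRow hM hB hθ
  have hnd' : ¬ (p : ℤ) ∣ a θ := by
    have := hnd θ hθ h0
    rwa [h0, zero_add, pow_one] at this
  have hBF := brauer_feit hM hB
  have hcard := card_le_sum_heights (p := p) (B := B)
  constructor
  · intro h2
    have hd : blockDefect p B ≠ 0 := fun h => by
      have : Nat.card B ≤ 1 := by
        rw [h] at hBF
        norm_num at hBF
        omega
      omega
    obtain ⟨η, η', hne, hpair⟩ := Set.ncard_eq_two.1 ((Nat.card_coe_set_eq B).symm.trans h2)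
    obtain ⟨η, hne, hpair⟩ : ∃ η, θ ≠ η ∧ B = {θ, η} := by
      rcases (hpair ▸ hθ : θ ∈ ({η, η'} : Set (IrrCharacter G))) with rfl | rfl
      · exact ⟨η', hne, hpair⟩
      · exact ⟨η, Ne.symm hne, hpair.trans (Set.pair_comm _ _)⟩
    have hsupp : ∀ f : IrrCharacter G → ℂ, (∀ χ, χ ∉ B → f χ = 0) → ∑ χ, f χ = f θ + f η := by
      intro f hf
      rw [← Finset.sum_pair hne]
      refine (Finset.sum_subset (Finset.subset_univ _) fun χ _ hχ => hf χ ?_).symm
      rw [hpair]
      simpa using hχ
    -- the row equation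
    obtain ⟨d₀, hd₀⟩ := exists_sum_sq hM hB h2
    have hη : η ∈ B := hpair ▸ Set.mem_insert_of_mem _ rfl
    rw [hsupp _ (fun χ hχ => if_neg hχ), if_pos hθ, if_pos hη] at hd₀
    -- the value at the identity
    obtain ⟨a₂, hout₂, heq₂, ha₂⟩ := exists_int_regPart hM hB hθ
    have hnd₂ : ¬ (p : ℤ) ∣ a₂ θ := by
      obtain ⟨b, v, -, hv', hv0, hb, hb'⟩ := exists_regCartan hM hB hθ θ
      obtain rfl : a₂ θ = b := by exact_mod_cast (ha₂ θ).trans hb.symm
      rintro ⟨k, hk⟩
      rw [h0, pow_zero, one_mul, hk] at hb'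
      refine omega_regElt_unit hM hB hθ h0 hθ ?_
      have e : omega (θ : G → ℂ) (regElt M p θ) = (p : ℂ) * ((k : ℂ) * v⁻¹) := by
        push_cast at hb'
        rw [← mul_assoc, hb']; field_simp
      rw [e]
      exact memLocalIdeal_mul_right ((natCast_memLocalIdeal_iff hM p).2 dvd_rfl)
        (mul_mem (intCast_mem _ k) hv')
    have hval := congrFun heq₂
    have hrow₂ : a₂ θ * a₂ θ + a₂ η * a₂ η = (p : ℤ) ^ blockDefect p B * a₂ θ := by
      have h3 : classInner (regPart p (θ : G → ℂ))
          ((p : ℂ) ^ blockDefect p B • regPart p (θ : G → ℂ)) =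
          ∑ χ, (a₂ χ : ℂ) * classInner (regPart p (θ : G → ℂ)) (χ : G → ℂ) := by
        have h := congrArg (fun f => classInner f (regPart p (θ : G → ℂ))) heq₂
        simp only [classInner_sum_left, classInner_smul_left] at h
        have h' := congrArg conj h
        simp only [map_sum, map_mul, map_pow, Complex.conj_natCast, map_intCast,
          classInner_conj] at h'
        rw [← classInner_conj, classInner_smul_left, map_mul, map_pow, Complex.conj_natCast,
          classInner_conj]
        exact h'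
      rw [← classInner_conj, classInner_smul_left, map_mul, map_pow, Complex.conj_natCast,
        classInner_conj, inner_regPart_self, hsupp _ (fun χ hχ => by simp [hout₂ χ hχ]), ← ha₂ θ] at h3
      have h4 : (((p : ℤ) ^ blockDefect p B * a₂ θ : ℤ) : ℂ) =
          ((a₂ θ * a₂ θ + a₂ η * a₂ η : ℤ) : ℂ) := by
        push_cast
        have e1 := ha₂ θ
        have e2 := ha₂ η
        linear_combination (p : ℂ) ^ blockDefect p B * h3 - (a₂ θ : ℂ) * e1 - (a₂ η : ℂ) * e2
      exact_mod_cast h4.symm
    refine finish (n := charDegree (θ : G → ℂ)) (m := charDegree (η : G → ℂ)) (d₀ := d₀)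
      Fact.out hd hrow₂ hnd₂ ?_ ?_ ?_
    · have h1 := hval 1
      simp only [Pi.smul_apply, Finset.sum_apply, smul_eq_mul,
        regPart, orderOf_one] at h1
      rw [if_neg (Nat.Prime.not_dvd_one Fact.out),
        hsupp (fun χ => (a₂ χ : ℂ) * (χ : G → ℂ) 1) (fun χ hχ => by simp [hout₂ χ hχ]),
        irr_one_eq θ.2, irr_one_eq η.2] at h1
      exact_mod_cast h1
    · rw [irr_one_eq θ.2, irr_one_eq η.2] at hd₀
      exact_mod_cast hd₀
    · intro h
      exact irr_one_ne_zero θ.2 (by rw [irr_one_eq θ.2, h, Nat.cast_zero])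
  · rintro ⟨rfl, hd⟩
    rw [hd] at hBF
    have hle : Nat.card B ≤ 2 := by omega
    have hpos : 0 < Nat.card B := by
      haveI : Nonempty B := ⟨⟨θ, hθ⟩⟩
      exact Nat.card_pos
    by_contra hne
    haveI : Subsingleton B := (Nat.card_eq_one_iff_unique.1 (by omega : Nat.card B = 1)).1
    rw [Finset.sum_eq_single θ (fun χ _ hχ => by
      rw [hout χ fun h => hχ (congrArg Subtype.val (Subsingleton.elim (⟨χ, h⟩ : B) ⟨θ, hθ⟩)), mul_zero])
      (by simp), hd, pow_one] at hsum
    refine hnd' ⟨1, ?_⟩
    have ha0 : a θ ≠ 0 := fun h => hnd' (h ▸ dvd_zero _)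
    rw [mul_one]
    exact mul_right_cancel₀ ha0 hsum

end CfsgLib.Blk.TwoChar
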