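import Cfsg.Agent.Blk.ZStarQ8C

/-!
Z* theorem: quaternion Sylow 2-subgroups of order 8.
-/

set_option autoImplicit false
set_option linter.style.haveILetI false
set_option linter.unusedSectionVars false

namespace CfsgLib.Blk

open Cfsg CfsgLib.Char CfsgLib.Inv Finset
open scoped ComplexConjugate

universe u

variable {G : Type u} [Group G] [Finite G]

/-- An element of even order commuting with the involution has it among its powers. -/
theorem mem_zpowers_of_even {z : G} (huniq : ∀ t : G, orderOf t = 2 → Commute t z → t = z)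
    {h : G} (hc : Commute h z) (h2 : 2 ∣ orderOf h) : z ∈ Subgroup.zpowers h := by
  obtain ⟨c, hcc⟩ := h2
  have hc0 : c ≠ 0 := fun h0 => (orderOf_pos h).ne' (by rw [hcc, h0, mul_zero])
  have ho : orderOf (h ^ c) = 2 := by
    rw [orderOf_pow_of_dvd hc0 (by rw [hcc]; exact dvd_mul_left c 2), hcc,
      Nat.mul_div_cancel _ (Nat.pos_of_ne_zero hc0)]
  have h' := huniq (h ^ c) ho (hc.pow_left c)
  exact h' ▸ pow_mem (Subgroup.mem_zpowers h) c

/-- The case `|P| = 8` of the Z* theorem. -/
theorem false_of_quaternion_eight {z : G} (hz : orderOf z = 2)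
    (hodd : ∀ g : G, Odd (orderOf (g * z * g⁻¹ * z)))
    (hgen : ∀ K : Subgroup G, K.Normal → (∀ g : G, g * z * g⁻¹ * z ∈ K) → K = ⊤)
    (huniq : ∀ t : G, orderOf t = 2 → Commute t z → t = z) (hperf : commutator G = ⊤)
    (P : Sylow 2 G) (hzP : z ∈ P) (hPz : ∀ x ∈ P, Commute x z) {y : G} (hyP : y ∈ P)
    (hy : y * y = z)
    (hA : Nat.card ↥((P : Subgroup G) ⊓ Subgroup.centralizer ({y} : Set G)) = 4)
    (hcard : Nat.card (P : Subgroup G) = 8)
    (hinv : ∀ x ∈ (P : Subgroup G), ¬ Commute x y → x * y * x⁻¹ = y⁻¹)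
    (hex : ∃ x ∈ (P : Subgroup G), ¬ Commute x y) : False := by
  classical
  haveI : Fact (Nat.Prime 2) := ⟨Nat.prime_two⟩
  haveI := Fintype.ofFinite G
  have hz1 := invol_ne_one hz
  have hz2 := invol_mul_self hz
  have hy4 : orderOf y = 4 := orderOf_eq_prime_pow (p := 2) (n := 1)
    (by simpa [pow_two, hy] using hz1)
    (by rw [show 2 ^ (1 + 1) = 2 * 2 from rfl, pow_mul, pow_two y, hy, pow_two, hz2])
  have hyC : y ∈ Subgroup.centralizer ({y} : Set G) :=
    Subgroup.mem_centralizer_singleton_iff.2 rfl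
  -- elements of `P`
  have hAeq : Subgroup.zpowers y = (P : Subgroup G) ⊓ Subgroup.centralizer ({y} : Set G) :=
    Subgroup.eq_of_le_of_card_ge (Subgroup.zpowers_le.2 ⟨hyP, hyC⟩)
      (by rw [hA, Nat.card_zpowers, hy4])
  have hcomm4 : ∀ x ∈ P, Commute x y → x = 1 ∨ x = z ∨ x = y ∨ x = y⁻¹ := by
    intro x hx hc
    have hxy : x ∈ Subgroup.zpowers y :=
      hAeq ▸ Subgroup.mem_inf.2 ⟨hx, Subgroup.mem_centralizer_singleton_iff.2 hc⟩
    obtain ⟨i, rfl⟩ := Subgroup.mem_zpowers_iff.1 hxy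
    rw [← zpow_mod_orderOf, hy4]
    have : i % ((4 : ℕ) : ℤ) = 0 ∨ i % ((4 : ℕ) : ℤ) = 1 ∨ i % ((4 : ℕ) : ℤ) = 2 ∨
        i % ((4 : ℕ) : ℤ) = 3 := by omega
    rcases this with h | h | h | h <;> rw [h]
    · simp
    · simp
    · right; left; rw [zpow_two, hy]
    · right; right; right
      refine eq_inv_of_mul_eq_one_left ?_
      rw [← zpow_add_one, show (3 : ℤ) + 1 = 2 * 2 by norm_num, zpow_mul, zpow_two, zpow_two, hy, hz2]
  have hyinv : y⁻¹ * y⁻¹ = z := by rw [← mul_inv_rev, hy, invol_inv hz]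
  have hsq : ∀ x ∈ P, x = 1 ∨ x = z ∨ x * x = z := by
    intro x hx
    by_cases hc : Commute x y
    · rcases hcomm4 x hx hc with h | h | h | h
      exacts [Or.inl h, Or.inr (Or.inl h), Or.inr (Or.inr (h ▸ hy)), Or.inr (Or.inr (h ▸ hyinv))]
    · have hxx : Commute (x * x) y := by
        refine mul_inv_eq_iff_eq_mul.1 ?_
        calc x * x * y * (x * x)⁻¹ = x * (x * y * x⁻¹) * x⁻¹ := by group
          _ = x * y⁻¹ * x⁻¹ := by rw [hinv x hx hc]
          _ = (x * y * x⁻¹)⁻¹ := by group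
          _ = y := by rw [hinv x hx hc, inv_inv]
      rcases hcomm4 _ (mul_mem hx hx) hxx with h | h | h | h
      · by_cases hx1 : x = 1
        · exact Or.inl hx1
        · exact Or.inr (Or.inl (huniq x (invol_iff.2 ⟨hx1, h⟩) (hPz x hx)))
      · exact Or.inr (Or.inr h)
      · exact absurd (h ▸ ((Commute.refl x).mul_right (Commute.refl x))) hc
      · have h' : Commute x y⁻¹ := h ▸ ((Commute.refl x).mul_right (Commute.refl x))
        exact absurd (Commute.inv_right_iff.1 h') hc
  have hconjinv : ∀ x ∈ P, IsConj x x⁻¹ := by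
    intro x hx
    by_cases hc : Commute x y
    · obtain ⟨x₀, hx₀, hx₀y⟩ := hex
      rcases hcomm4 x hx hc with rfl | rfl | rfl | rfl
      · simp
      · rw [invol_inv hz]
      · exact isConj_iff.2 ⟨x₀, hinv x₀ hx₀ hx₀y⟩
      · exact isConj_iff.2 ⟨x₀, by rw [← conj_inv, hinv x₀ hx₀ hx₀y]⟩
    · refine isConj_iff.2 ⟨y, ?_⟩
      have h1 : x⁻¹ * y * x = y⁻¹ := by
        have := hinv x⁻¹ (inv_mem hx) fun h => hc (Commute.inv_left_iff.1 h)
        rwa [inv_inv] at this
      have hxx : x * x = z := by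
        rcases hsq x hx with h | h | h
        · exact absurd (h ▸ Commute.one_left y) hc
        · exact absurd (h ▸ (hy ▸ (Commute.refl y).mul_left (Commute.refl y) : Commute z y)) hc
        · exact h
      calc y * x * y⁻¹ = x * (x⁻¹ * y * x) * y⁻¹ := by group
        _ = x * z := by rw [h1, mul_assoc, hyinv]
        _ = x⁻¹ := by
          refine eq_inv_of_mul_eq_one_left ?_
          rw [mul_assoc, ← (hPz x hx).eq, ← mul_assoc, hxx, hz2]
  have hallconj := isConj_of_q8 P hperf hz hzP hcard hsq hconjinv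
  have hexp : ∀ w : G, (∃ k : ℕ, orderOf w = 2 ^ k) → orderOf w ∣ 4 := by
    rintro w ⟨k, hk⟩
    obtain ⟨Q, hQ⟩ := (IsPGroup.of_card (p := 2) (n := k)
      (by rw [Nat.card_zpowers, hk]) : IsPGroup 2 (Subgroup.zpowers w)).exists_le_sylow
    obtain ⟨t, rfl⟩ := MulAction.exists_smul_eq G P Q
    have h2 := hQ (Subgroup.mem_zpowers w)
    change w ∈ (P : Subgroup G).map (MulAut.conj t).toMonoidHom at h2
    obtain ⟨p, hp, rfl⟩ := Subgroup.mem_map.1 h2
    refine orderOf_dvd_of_pow_eq_one ?_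
    rw [MulEquiv.coe_toMonoidHom, ← map_pow]
    have : p ^ 4 = 1 := by
      rw [show 4 = 2 * 2 from rfl, pow_mul, pow_two p]
      rcases hsq p hp with h | h | h
      · simp [h]
      · rw [h, hz2, one_pow]
      · rw [h, pow_two, hz2]
    rw [this, map_one]
  -- the centralizer
  set C := Subgroup.centralizer ({z} : Set G) with hC
  have hmemC : ∀ g : G, g ∈ C ↔ Commute g z := fun g => Subgroup.mem_centralizer_singleton_iff
  have hPC : (P : Subgroup G) ≤ C := fun x hx => (hmemC x).2 (hPz x hx)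
  set PC : Sylow 2 C := P.subtype hPC with hPC'
  let zc : C := ⟨z, (hmemC z).2 (Commute.refl z)⟩
  let yc : C := ⟨y, hPC hyP⟩
  have D : Q8Data PC zc yc := by
    refine ⟨?_, ?_, ?_, Subtype.ext hy, hyP, ?_, ?_, ?_⟩
    · rw [← Subgroup.orderOf_coe]; exact hz
    · exact fun g => Subtype.ext ((hmemC g).1 g.2).symm.eq
    · exact fun t ht => Subtype.ext (huniq t (by rw [Subgroup.orderOf_coe]; exact ht) ((hmemC t).1 t.2))
    · rw [hPC', Sylow.coe_subtype, Nat.card_congr (Subgroup.subgroupOfEquivOfLe hPC).toEquiv, hcard]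
    · intro w hw
      have hww : (w : G) * w = z := congrArg Subtype.val hw
      have hw4 : orderOf (w : G) = 4 := orderOf_eq_prime_pow (p := 2) (n := 1)
        (by simpa [pow_two, hww] using hz1)
        (by rw [show 2 ^ (1 + 1) = 2 * 2 from rfl, pow_mul, pow_two (w : G), hww, pow_two, hz2])
      obtain ⟨Q, hQ⟩ := (IsPGroup.of_card (p := 2) (n := 2)
        (by rw [Nat.card_zpowers, hw4]; rfl) : IsPGroup 2 (Subgroup.zpowers (w : G))).exists_le_sylow
      obtain ⟨t, rfl⟩ := MulAction.exists_smul_eq G P Q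
      have h2 := hQ (Subgroup.mem_zpowers (w : G))
      change (w : G) ∈ (P : Subgroup G).map (MulAut.conj t).toMonoidHom at h2
      obtain ⟨p, hp, hpw⟩ := Subgroup.mem_map.1 h2
      have hp4 : orderOf p = 4 := by
        rw [← hw4, ← hpw]; exact (MulEquiv.orderOf_eq (MulAut.conj t) p).symm
      have hpp : p * p = z := by
        rcases hsq p hp with h | h | h
        · rw [h, orderOf_one] at hp4; omega
        · rw [h, hz] at hp4; omega
        · exact h
      obtain ⟨c, hc⟩ := isConj_iff.1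
        ((hallconj y hyP p hp hy hpp).trans (isConj_iff.2 ⟨t, hpw⟩))
      have hcC : c ∈ C := by
        rw [hmemC]
        refine mul_inv_eq_iff_eq_mul.1 ?_
        calc c * z * c⁻¹ = (c * y * c⁻¹) * (c * y * c⁻¹) := by rw [← hy]; group
          _ = z := by rw [hc, hww]
      exact isConj_iff.2 ⟨⟨c, hcC⟩, Subtype.ext hc⟩
    · obtain ⟨x₀, hx₀, hx₀y⟩ := hex
      exact ⟨⟨x₀, hPC hx₀⟩, hx₀, Subtype.ext (hinv x₀ hx₀ hx₀y)⟩
  obtain ⟨M, hM⟩ := exists_isPModular Nat.prime_two
  haveI := CfsgLib.Blk.IsPModular.isPrime hM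
  haveI : Fintype C := Fintype.ofFinite _
  have hpowz : ∀ h : C, 2 ∣ orderOf h → z ∈ Subgroup.zpowers (h : G) := fun h h2 =>
    mem_zpowers_of_even huniq ((hmemC h).1 h.2) (by rwa [Subgroup.orderOf_coe])
  have hsupp : ∀ k h, q8Alpha yc k h ≠ 0 → 2 ∣ orderOf h := fun k h hh => by
    by_contra h2; exact hh (D.alpha_odd k h2)
  have hti : ∀ h : C, 2 ∣ orderOf h → ∀ g : G, g⁻¹ * (h : G) * g ∈ C → g ∈ C := by
    intro h h2 g hg
    obtain ⟨i, hi⟩ := Subgroup.mem_zpowers_iff.1 (hpowz h h2)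
    have hm : g⁻¹ * z * g ∈ C := by
      have : g⁻¹ * z * g = (g⁻¹ * (h : G) * g) ^ i := by
        rw [← hi]; simpa using (conj_zpow (a := g⁻¹) (b := (h : G)) (i := i)).symm
      rw [this]; exact zpow_mem hg i
    have hgz := huniq _ (by simpa using invol_conj hz g⁻¹) ((hmemC _).1 hm)
    rw [hmemC]
    calc g * z = g * (g⁻¹ * z * g) := by rw [hgz]
      _ = z * g := by group
  set U : IrrCharacter C → G → ℂ := fun k => indFun C (q8Alpha yc k) with hU
  have hUval : ∀ k h, q8Alpha yc k h ≠ 0 ∨ 2 ∣ orderOf h → U k (h : G) = q8Alpha yc k h := by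
    intro k h hh
    have h2 : 2 ∣ orderOf h := hh.elim (hsupp k h) id
    exact indFun_eq_of_ti C (D.classFun_alpha k) fun g hm _ => hti h h2 g hm
  have hUodd : ∀ k g, Odd (orderOf g) → U k g = 0 := fun k g hg => indFun_eq_zero C fun h hc => by
    refine D.alpha_odd k fun h2 => ?_
    obtain ⟨c, hc⟩ := isConj_iff.1 hc
    have he : orderOf (h : G) = orderOf g := by
      rw [← hc]; exact MulEquiv.orderOf_eq (MulAut.conj c) g
    rw [← Subgroup.orderOf_coe, he] at h2
    exact Nat.not_even_iff_odd.2 hg (even_iff_two_dvd.2 h2)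
  -- the index set
  set K := (Finset.univ.filter (q8V M yc)).erase (⟨_, isIrr_one⟩ : IrrCharacter C) with hK
  have hKmem : ∀ k ∈ K, q8V M yc k ∧ (k : C → ℂ) ≠ fun _ => 1 := fun k hk =>
    ⟨(Finset.mem_filter.1 (Finset.mem_erase.1 hk).2).2,
      fun he => (Finset.mem_erase.1 hk).1 (Subtype.ext he)⟩
  have hKcard : K.card = 3 := by
    rw [hK, Finset.card_erase_of_mem (Finset.mem_filter.2 ⟨Finset.mem_univ _, D.one_inV⟩),
      D.card_V hM]
  have hVins : Finset.univ.filter (q8V M yc) = insert (⟨_, isIrr_one⟩ : IrrCharacter C) K := by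
    rw [hK, Finset.insert_erase (Finset.mem_filter.2 ⟨Finset.mem_univ _, D.one_inV⟩)]
  -- the characters of `G`
  obtain ⟨hval, hcard4, -⟩ := principal_four_values hM hz huniq hexp hy (hconjinv y hyP)
  set V := Finset.univ.filter fun χ : IrrCharacter G =>
    χ ∈ principalBlock M G ∧ (χ : G → ℂ) y ≠ 0 with hV
  have hone : (⟨_, isIrr_one⟩ : IrrCharacter G) ∈ V :=
    Finset.mem_filter.2 ⟨Finset.mem_univ _, one_mem_principalBlock, one_ne_zero⟩
  have hUorth : ∀ k ∈ K, ∀ χ : IrrCharacter G, χ ∉ principalBlock M G →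
      classInner (U k) (χ : G → ℂ) = 0 := by
    intro k hk χ hχ
    simp only [hU]
    rw [frobenius C _ (classFun_of_irr χ.2)]
    set res : C → ℂ := fun h => (χ : G → ℂ) h with hres
    have hcf : IsClassFunction C res := fun a b => classFun_of_irr χ.2 a b
    set m : IrrCharacter C → ℂ := fun ξ => classInner res (ξ : C → ℂ) with hm
    set R : C → ℂ := ∑ ξ : IrrCharacter C, (if ξ ∈ principalBlock M C then 0 else m ξ) • (ξ : C → ℂ)
      with hR
    have hresR : ∀ h : C, 2 ∣ orderOf h → res h = R h := by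
      intro h h2
      have hC' : ∀ x, IsPPart 2 (h : G) x → Subgroup.centralizer ({x} : Set G) ≤ C := by
        intro x hx g hg
        obtain ⟨v, hxv, hcom, ⟨j, hj⟩, hv⟩ := hx
        rw [hmemC]
        have hx2 : 2 ∣ orderOf x := by
          rcases j with _ | j
          · exfalso
            have hx1 : orderOf x = 1 := by simpa using hj
            rw [orderOf_eq_one_iff.1 hx1, one_mul] at hxv
            rw [hxv, Subgroup.orderOf_coe] at hv; exact hv h2
          · exact hj ▸ dvd_pow_self 2 (Nat.succ_ne_zero j)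
        have hxz : Commute x z := by
          have hhx : x ∈ Subgroup.zpowers (h : G) :=
            isPPart_mem_zpowers Nat.prime_two ⟨v, hxv, hcom, ⟨j, hj⟩, hv⟩
          obtain ⟨i, rfl⟩ := Subgroup.mem_zpowers_iff.1 hhx
          exact ((hmemC h).1 h.2).zpow_left i
        obtain ⟨i, hi⟩ := Subgroup.mem_zpowers_iff.1 (mem_zpowers_of_even huniq hxz hx2)
        rw [← hi]
        exact (show Commute g x from Subgroup.mem_centralizer_singleton_iff.1 hg).zpow_right i
      obtain ⟨x, hx⟩ := exists_isPPart Nat.prime_two (h : G)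
      have h0 := principal_restrict_sum C hM (z := z) ⟨1, hz⟩ hC hx (hC' x hx) χ
      rw [if_neg hχ] at h0
      have hdec := congrFun (classFun_eq_sum hcf) h
      simp only [Finset.sum_apply, Pi.smul_apply, smul_eq_mul] at hdec
      have hsplit : ∀ ξ : IrrCharacter C, classInner res (ξ : C → ℂ) * (ξ : C → ℂ) h =
          (if ξ ∈ principalBlock M C then m ξ * (ξ : C → ℂ) h else 0) +
          (if ξ ∈ principalBlock M C then 0 else m ξ) * (ξ : C → ℂ) h := fun ξ => by
        split_ifs <;> simp [hm]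
      rw [Finset.sum_congr rfl fun ξ _ => hsplit ξ, Finset.sum_add_distrib] at hdec
      have h0' : ∑ ξ : IrrCharacter C,
          (if ξ ∈ principalBlock M C then m ξ * (ξ : C → ℂ) h else 0) = 0 := h0
      rw [h0', zero_add] at hdec
      rw [hdec, hR, Finset.sum_apply]
      rfl
    have he : classInner (q8Alpha yc k) res = classInner (q8Alpha yc k) R := by
      rw [classInner_def, classInner_def]
      congr 1
      refine Finset.sum_congr rfl fun h _ => ?_
      by_cases h0 : q8Alpha yc k h = 0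
      · simp [h0]
      · rw [hresR h (hsupp k h h0)]
    rw [he, hR, classInner_sum_right]
    refine Finset.sum_eq_zero fun ξ _ => ?_
    rw [classInner_smul_right]
    split_ifs with hξ
    · simp
    · rw [D.inner_alpha_notMem hM (hKmem k hk).1 hξ, mul_zero]
  have hUU : ∀ k ∈ K, ∀ l ∈ K, classInner (U k) (U l) = if k = l then 3 else 1 := by
    intro k hk l hl
    rw [← D.inner_alpha hM (hKmem k hk).1 (hKmem l hl).1 (hKmem k hk).2 (hKmem l hl).2]
    exact classInner_indFun_ti C (D.classFun_alpha l)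
      fun h hh g hm _ => hti h (hsupp k h hh) g hm
  have hU1 : ∀ k ∈ K, classInner (U k) (fun _ => 1) = 1 := by
    intro k hk
    simp only [hU]
    rw [frobenius C _ (classFun_of_irr (isIrr_one (G := G)))]
    exact D.inner_alpha_one hM (hKmem k hk).1 (hKmem k hk).2
  have hUz : ∀ k ∈ K, U k z = 2 * (1 + (k : C → ℂ) yc * (k : C → ℂ) 1) := by
    intro k hk
    have h1 : ¬ 2 ∣ orderOf (1 : C) := by simp
    rw [show z = ((zc * 1 : C) : G) by simp [zc], hUval k _ (Or.inr (D.reg_translate h1).1),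
      D.alpha_z hM (hKmem k hk).1 h1]
    rfl
  have hUy : ∀ k ∈ K, U k y = 2 := by
    intro k hk
    have h4 : 4 ∣ orderOf yc := dvd_of_eq D.y_order.symm
    rw [show y = ((yc : C) : G) from rfl, hUval k _ (Or.inr ((Dvd.intro 2 rfl : 2 ∣ 4).trans h4)),
      D.alpha_four k h4]
  set T : IrrCharacter C → G → ℂ := fun k => U k - fun _ => 1 with hT
  have hTT : ∀ k ∈ K, ∀ l ∈ K, classInner (T k) (T l) = if k = l then 2 else 0 := by
    intro k hk l hl
    simp only [hT]
    rw [classInner_sub_left, classInner_sub_right, classInner_sub_right, hUU k hk l hl, hU1 k hk,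
      classInner_one_one, ← classInner_conj (U l), hU1 l hl, map_one]
    split_ifs <;> norm_num
  have hdecomp : ∀ k ∈ K, ∃ A F : IrrCharacter G, ∃ a c : ℤ,
      A ∈ V ∧ (A : G → ℂ) ≠ (fun _ => 1) ∧ (a : ℂ) = (A : G → ℂ) y ∧
      F ∈ principalBlock M G ∧ (F : G → ℂ) y = 0 ∧ (F : G → ℂ) ≠ (fun _ => 1) ∧ a ^ 2 = 1 ∧
      c ^ 2 = 1 ∧ classInner (T k) (A : G → ℂ) = a ∧ classInner (T k) (F : G → ℂ) = c ∧
      ∀ g, U k g = 1 + (a : ℂ) * (A : G → ℂ) g + (c : ℂ) * (F : G → ℂ) g := by
    intro k hk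
    have hgen' : IsGeneralizedCharacter G (T k) :=
      gen_sub (gen_indFun C (D.gen_alpha hM (hKmem k hk).1)) (gen_of_char isCharacter_one)
    obtain ⟨χ, ψ, a, c, hne, ha, hc, hχ, hψ, hiχ, hiψ, he⟩ := exists_of_norm_two hgen'
      (by rw [hTT k hk k hk, if_pos rfl])
      (by simp only [hT]; rw [classInner_sub_left, hU1 k hk, classInner_one_one, sub_self])
    have hB : ∀ (η : IrrCharacter G) (d : ℤ), (η : G → ℂ) ≠ (fun _ => 1) → d ^ 2 = 1 →
        classInner (T k) (η : G → ℂ) = d → η ∈ principalBlock M G := by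
      intro η d hη hd hi
      by_contra hn
      simp only [hT] at hi
      rw [classInner_sub_left, hUorth k hk η hn, irr_inner_ne isIrr_one η.2 (Ne.symm hη), sub_self,
        eq_comm, Int.cast_eq_zero] at hi
      simp [hi] at hd
    have hχB := hB χ a hχ ha hiχ
    have hψB := hB ψ c hψ hc hiψ
    have hye : (a : ℂ) * (χ : G → ℂ) y + (c : ℂ) * (ψ : G → ℂ) y = 1 := by
      have h := he y
      simp only [hT, Pi.sub_apply, hUy k hk] at h
      linear_combination -h
    have he' : ∀ g, U k g = 1 + (a : ℂ) * (χ : G → ℂ) g + (c : ℂ) * (ψ : G → ℂ) g := fun g => by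
      have h := he g
      simp only [hT, Pi.sub_apply] at h
      linear_combination h
    have haC : (a : ℂ) * a = 1 := by rw [← sq]; exact_mod_cast ha
    have hcC : (c : ℂ) * c = 1 := by rw [← sq]; exact_mod_cast hc
    by_cases hψy : (ψ : G → ℂ) y = 0
    · rw [hψy, mul_zero, add_zero] at hye
      refine ⟨χ, ψ, a, c, ?_, hχ, ?_, hψB, hψy, hψ, ha, hc, hiχ, hiψ, he'⟩
      · exact Finset.mem_filter.2 ⟨Finset.mem_univ _, hχB, fun h0 => by simp [h0] at hye⟩
      · linear_combination (-(a : ℂ)) * hye + (χ : G → ℂ) y * haC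
    · by_cases hχy : (χ : G → ℂ) y = 0
      · rw [hχy, mul_zero, zero_add] at hye
        refine ⟨ψ, χ, c, a, ?_, hψ, ?_, hχB, hχy, hχ, hc, ha, hiψ, hiχ,
          fun g => by rw [he' g]; ring⟩
        · exact Finset.mem_filter.2 ⟨Finset.mem_univ _, hψB, hψy⟩
        · linear_combination (-(c : ℂ)) * hye + (ψ : G → ℂ) y * hcC
      · exfalso
        rcases sq_eq_one_iff.1 ha with ha' | ha' <;> rcases sq_eq_one_iff.1 hc with hc' | hc' <;>
          rcases hval χ hχB hχy with h1 | h1 <;> rcases hval ψ hψB hψy with h2 | h2 <;>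
          norm_num [ha', hc', h1, h2] at hye
  haveI : Nonempty (IrrCharacter G) := ⟨⟨_, isIrr_one⟩⟩
  choose! A F a c hAV hA1 haA hFB hFy hF1 ha hc hiA hiF he using hdecomp
  have hconjT : ∀ l k, k ∈ K → l ∈ K →
      classInner (T k) (T l) = (a k : ℂ) * conj (classInner (T l) (A k : G → ℂ)) +
        (c k : ℂ) * conj (classInner (T l) (F k : G → ℂ)) := by
    intro l k hk hl
    have e : T k = (a k : ℂ) • (A k : G → ℂ) + (c k : ℂ) • (F k : G → ℂ) := by
      funext g
      simp only [hT, Pi.sub_apply, Pi.add_apply, Pi.smul_apply, smul_eq_mul, he k hk g]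
      ring
    conv_lhs => rw [e]
    rw [classInner_add_left, classInner_smul_left, classInner_smul_left, classInner_conj,
      classInner_conj]
  have hTexp : ∀ l ∈ K, T l = (a l : ℂ) • (A l : G → ℂ) + (c l : ℂ) • (F l : G → ℂ) := by
    intro l hl
    funext g
    simp only [hT, Pi.sub_apply, Pi.add_apply, Pi.smul_apply, smul_eq_mul, he l hl g]
    ring
  have hAF : ∀ k ∈ K, ∀ l ∈ K, A k ≠ F l := fun k hk l hl h => by
    have h' := (Finset.mem_filter.1 (hAV k hk)).2.2
    rw [h, hFy l hl] at h'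
    exact h' rfl
  -- the main lemma: distinct indices give distinct characters
  have hdist : ∀ k ∈ K, ∀ l ∈ K, k ≠ l → A k ≠ A l ∧ F k ≠ F l := by
    intro k hk l hl hkl
    have h := hconjT l k hk hl
    rw [hTT k hk l hl, if_neg hkl, hTexp l hl, classInner_add_left, classInner_smul_left,
      classInner_smul_left, classInner_add_left, classInner_smul_left, classInner_smul_left,
      irrChar_inner, irrChar_inner, irrChar_inner, irrChar_inner] at h
    rw [if_neg (show ¬ F l = A k from fun e => hAF k hk l hl e.symm),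
      if_neg (show ¬ A l = F k from hAF l hl k hk)] at h
    have haa : A k = A l → (a k : ℂ) * a l = 1 := fun e => by
      rw [haA k hk, haA l hl, e]
      rcases hval (A l) (Finset.mem_filter.1 (hAV l hl)).2.1 (Finset.mem_filter.1 (hAV l hl)).2.2
        with h1 | h1 <;> rw [h1] <;> norm_num
    have hcc : (c k : ℂ) * c l ≠ 0 := by
      refine mul_ne_zero ?_ ?_ <;> rw [Int.cast_ne_zero] <;> intro h0
      · simpa [h0] using hc k hk
      · simpa [h0] using hc l hl
    by_cases hAe : A k = A l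
    · exfalso
      rw [if_pos hAe.symm] at h
      by_cases hFe : F k = F l
      · rw [if_pos hFe.symm] at h
        simp only [mul_one, mul_zero, add_zero, zero_add, map_intCast] at h
        rw [haa hAe] at h
        -- degree one
        have hcl : (c k : ℂ) = -(c l : ℂ) := by
          have h2 : (c l : ℂ) * c l = 1 := by rw [← sq]; exact_mod_cast hc l hl
          linear_combination (-(c l : ℂ)) * h - (c k : ℂ) * h2
        have haa' : (a k : ℂ) = a l := by rw [haA k hk, haA l hl, hAe]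
        have e1 := he k hk 1
        have e2 := he l hl 1
        rw [hUodd k 1 (by simp), hAe, hFe, haa', hcl] at e1
        rw [hUodd l 1 (by simp)] at e2
        have hdeg : (a l : ℂ) * (A l : G → ℂ) 1 = -1 := by linear_combination -(e1 + e2) / 2
        obtain ⟨d, hd⟩ : ∃ d : ℕ, (A l : G → ℂ) 1 = d := ⟨_, irr_one_eq (A l).2⟩
        have hd1 : d = 1 := by
          rw [hd] at hdeg
          have h' : a l * d = -1 := by exact_mod_cast hdeg
          rcases sq_eq_one_iff.1 (ha l hl) with h2 | h2 <;> rw [h2] at h' <;> omega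
        rw [hd1, Nat.cast_one] at hd
        obtain ⟨μ, hμ⟩ := exists_hom_of_degree_one (isCharacter_of_isIrr (A l).2) hd
        refine hA1 l hl (eq_one_of_sq_eq hgen (A l).2 ?_)
        rw [hd, one_pow, hμ]
        show (μ z : ℂ) ^ 2 = 1
        rw [← Units.val_pow_eq_pow_val, ← map_pow, pow_two, hz2, map_one, Units.val_one]
      · rw [if_neg (Ne.symm hFe)] at h
        simp only [mul_one, mul_zero, add_zero, zero_add, map_intCast, map_zero] at h
        rw [haa hAe] at h
        exact one_ne_zero h.symm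
    · refine ⟨hAe, fun hFe => ?_⟩
      rw [if_neg (Ne.symm hAe), if_pos hFe.symm] at h
      simp only [mul_one, mul_zero, add_zero, zero_add, map_intCast, map_zero] at h
      exact hcc h.symm
  -- the image of `K`
  have hinjA : Set.InjOn A K := fun k hk l hl e => by
    by_contra hne; exact (hdist k hk l hl hne).1 e
  have hinjF : Set.InjOn F K := fun k hk l hl e => by
    by_contra hne; exact (hdist k hk l hl hne).2 e
  have himg : K.image A = V.erase (⟨_, isIrr_one⟩ : IrrCharacter G) := by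
    refine Finset.eq_of_subset_of_card_le (fun χ hχ => ?_) ?_
    · obtain ⟨k, hk, rfl⟩ := Finset.mem_image.1 hχ
      exact Finset.mem_erase.2 ⟨fun e => hA1 k hk (congrArg Subtype.val e), hAV k hk⟩
    · rw [Finset.card_image_of_injOn hinjA, hKcard, Finset.card_erase_of_mem hone, hV, hcard4]
  have hsumA : ∀ g : G, (¬ 4 ∣ orderOf g ∧ ∃ x, IsPPart 2 g x ∧ ¬ IsConj x y) →
      ∑ k ∈ K, (a k : ℂ) * (A k : G → ℂ) g = -1 := by
    rintro g ⟨-, x, hx, hxy⟩
    have h := block_orth hM (isPBlock_principalBlock (G := G)) hx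
      (isPPart_self (g := y) ⟨2, hy4⟩ Nat.prime_two) hxy
    rw [finsum_mem_eq_sum_ite] at h
    have h' : ∑ χ ∈ V, (χ : G → ℂ) y * (χ : G → ℂ) g = 0 := by
      rw [hV, Finset.sum_filter]
      refine Eq.trans (Finset.sum_congr rfl fun χ _ => ?_) h
      by_cases hχ : χ ∈ principalBlock M G
      swap
      · rw [if_neg hχ, if_neg fun hh => hχ hh.1]
      rw [if_pos hχ]
      by_cases h0 : (χ : G → ℂ) y = 0
      · simp [h0]
      · rw [if_pos ⟨hχ, h0⟩]
        rcases hval χ hχ h0 with h1 | h1 <;> rw [h1] <;> simp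
    rw [← Finset.add_sum_erase V _ hone, ← himg, Finset.sum_image hinjA] at h'
    rw [Finset.sum_congr rfl (g := fun k => (A k : G → ℂ) y * (A k : G → ℂ) g) fun k hk => by
      rw [haA k hk]]
    simp only [one_mul] at h'
    linear_combination h'
  have hS1 : ∑ k ∈ K, (a k : ℂ) * (A k : G → ℂ) z = -1 := by
    refine hsumA z ⟨by rw [hz]; norm_num, z, isPPart_self ⟨1, hz⟩ Nat.prime_two, fun h => ?_⟩
    obtain ⟨t, ht⟩ := isConj_iff.1 h
    have := invol_conj hz t
    rw [ht, hy4] at this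
    omega
  -- integers
  have hint : ∀ χ : IrrCharacter G, ∃ n : ℤ, (χ : G → ℂ) z = n := fun χ =>
    char_apply_int_of_sq (isCharacter_of_isIrr χ.2) hz2
  choose n hn using hint
  have hh : ∀ k ∈ K, ∃ m : ℤ, (k : C → ℂ) yc * (k : C → ℂ) 1 = m := by
    intro k hk
    obtain ⟨d, hd⟩ : ∃ d : ℕ, (k : C → ℂ) 1 = d := ⟨_, irr_one_eq k.2⟩
    rcases mul_self_eq_one_iff.1 (D.v_sq hM (hKmem k hk).1).1 with h | h
    · exact ⟨d, by rw [h, hd]; simp⟩
    · exact ⟨-(d : ℤ), by rw [h, hd]; simp⟩
  choose! H hH using hh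
  set e : IrrCharacter C → ℤ := fun k => a k * n (A k) - H k with hedef
  have hFz : ∀ k ∈ K, c k * n (F k) = 1 + H k - e k := by
    intro k hk
    have h := he k hk z
    rw [hUz k hk, hH k hk, hn, hn] at h
    have h' : 2 * (1 + H k) = 1 + a k * n (A k) + c k * n (F k) := by exact_mod_cast h
    simp only [hedef]; linarith
  have hsumH : ∑ k ∈ K, H k = -1 := by
    have h := D.column_relation hM (g := (1 : C)) (by simp)
    rw [hVins, Finset.sum_insert (by rw [hK]; simp)] at h
    rw [Finset.sum_congr rfl fun k hk => hH k hk] at h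
    simp only [mul_one] at h
    have h' : ((1 + ∑ k ∈ K, H k : ℤ) : ℂ) = 0 := by push_cast; exact h
    have h'' : 1 + ∑ k ∈ K, H k = 0 := by exact_mod_cast h'
    linarith
  have hsume : ∑ k ∈ K, e k = 0 := by
    simp only [hedef, Finset.sum_sub_distrib, hsumH]
    have h' : ((∑ k ∈ K, a k * n (A k) : ℤ) : ℂ) = -1 := by
      rw [← hS1]; push_cast; exact Finset.sum_congr rfl fun k _ => by rw [hn]
    have h'' : ∑ k ∈ K, a k * n (A k) = -1 := by exact_mod_cast h'
    linarith
  -- the column sum at `z`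
  have hTz : ∑ χ : IrrCharacter G, (if χ ∈ principalBlock M G then n χ ^ 2 else 0) =
      2 * (1 + ∑ k ∈ K, H k ^ 2) := by
    have h := principal_transfer hM (z := z) ⟨1, hz⟩ C hC 1 (by simp)
    simp only [OneMemClass.coe_one, mul_one] at h
    rw [Finset.sum_congr rfl (g := fun ξ : IrrCharacter C => if ξ ∈ principalBlock M C then
      (ξ : C → ℂ) 1 ^ 2 else 0) (fun ξ _ => by rw [irr_one_eq ξ.2, Complex.conj_natCast, sq]),
      D.deg_sq hM, hVins, Finset.sum_insert (by rw [hK]; simp)] at h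
    have h2 : ∑ k ∈ K, (k : C → ℂ) 1 ^ 2 = ((∑ k ∈ K, H k ^ 2 : ℤ) : ℂ) := by
      push_cast
      refine Finset.sum_congr rfl fun k hk => ?_
      rw [← hH k hk, mul_pow, sq ((k : C → ℂ) yc), (D.v_sq hM (hKmem k hk).1).1, one_mul]
    rw [h2] at h
    have h' : ((∑ χ : IrrCharacter G, (if χ ∈ principalBlock M G then n χ ^ 2 else 0) : ℤ) : ℂ) =
        ((2 * (1 + ∑ k ∈ K, H k ^ 2) : ℤ) : ℂ) := by
      rw [Int.cast_sum]
      refine Eq.trans (Finset.sum_congr rfl fun χ _ => ?_) (h.trans ?_)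
      · split_ifs with hχ
        · rw [hn, map_intCast, Int.cast_pow, sq]
        · simp
      · push_cast; ring
    exact_mod_cast h'
  have hdisj : Disjoint (insert (⟨_, isIrr_one⟩ : IrrCharacter G) (K.image A)) (K.image F) := by
    rw [Finset.disjoint_left]
    intro χ h1 h2
    obtain ⟨l, hl, rfl⟩ := Finset.mem_image.1 h2
    rcases Finset.mem_insert.1 h1 with h | h
    · exact hF1 l hl (congrArg Subtype.val h)
    · obtain ⟨k, hk, hkl⟩ := Finset.mem_image.1 h
      exact hAF k hk l hl hkl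
  have hle : 1 + ∑ k ∈ K, (n (A k) ^ 2 + n (F k) ^ 2) ≤
      ∑ χ : IrrCharacter G, (if χ ∈ principalBlock M G then n χ ^ 2 else 0) := by
    set S := insert (⟨_, isIrr_one⟩ : IrrCharacter G) (K.image A) ∪ K.image F
    have hS : ∀ χ ∈ S, χ ∈ principalBlock M G := by
      intro χ hχ
      rcases Finset.mem_union.1 hχ with h | h
      · rcases Finset.mem_insert.1 h with h | h
        · rw [h]; exact one_mem_principalBlock
        · obtain ⟨k, hk, rfl⟩ := Finset.mem_image.1 h
          exact (Finset.mem_filter.1 (hAV k hk)).2.1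
      · obtain ⟨k, hk, rfl⟩ := Finset.mem_image.1 h
        exact hFB k hk
    refine le_trans (le_of_eq ?_) (Finset.sum_le_sum_of_subset_of_nonneg (Finset.subset_univ S)
      fun χ _ _ => by split_ifs <;> positivity)
    rw [Finset.sum_congr rfl fun χ hχ => if_pos (hS χ hχ), Finset.sum_union hdisj,
      Finset.sum_insert, Finset.sum_image hinjA, Finset.sum_image hinjF, Finset.sum_add_distrib,
      ← add_assoc]
    · have h1 : n (⟨_, isIrr_one⟩ : IrrCharacter G) = 1 := by
        have h := hn (⟨_, isIrr_one⟩ : IrrCharacter G)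
        have h' : ((n (⟨_, isIrr_one⟩ : IrrCharacter G) : ℤ) : ℂ) = 1 := h.symm
        exact_mod_cast h'
      rw [h1, one_pow]
    · rw [himg]; simp
  have hpoly : ∀ k ∈ K, n (A k) ^ 2 + n (F k) ^ 2 =
      2 * H k ^ 2 + 2 * e k ^ 2 + 2 * H k - 2 * e k + 1 := by
    intro k hk
    have h1 : n (A k) ^ 2 = (a k * n (A k)) ^ 2 := by rw [mul_pow, ha k hk, one_mul]
    have h2 : n (F k) ^ 2 = (c k * n (F k)) ^ 2 := by rw [mul_pow, hc k hk, one_mul]
    rw [h1, h2, hFz k hk, show a k * n (A k) = H k + e k by simp [hedef]]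
    ring
  rw [Finset.sum_congr rfl hpoly, hTz] at hle
  simp only [Finset.sum_add_distrib, Finset.sum_sub_distrib, ← Finset.mul_sum, hsumH, hsume,
    Finset.sum_const, hKcard, nsmul_one] at hle
  have he0 : ∑ k ∈ K, e k ^ 2 = 0 := by
    have h0 : 0 ≤ ∑ k ∈ K, e k ^ 2 := Finset.sum_nonneg fun k _ => sq_nonneg _
    push_cast at hle
    linarith
  obtain ⟨k, hk⟩ : K.Nonempty := Finset.card_pos.1 (by rw [hKcard]; norm_num)
  have hek : e k = 0 := by
    simpa using (Finset.sum_eq_zero_iff_of_nonneg fun j _ => sq_nonneg (e j)).1 he0 k hk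
  refine false_of_norm_three hodd hgen (U k) (hUodd k) (A k) (F k) (a k) (c k)
    (by exact_mod_cast ha k hk) (by exact_mod_cast hc k hk) (he k hk) (hA1 k hk) ?_
  rw [hn, hn]
  have h1 := hFz k hk
  have h2 : a k * n (A k) = H k := by simp only [hedef] at hek; linarith
  rw [hek, sub_zero] at h1
  rw [← Int.cast_mul, ← Int.cast_mul, h1, h2]
  push_cast
  ring

end CfsgLib.Blk
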