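import Cfsg.Agent.Blk.ZStarQuat
import Cfsg.Agent.Blk.ZStarQ8
import Cfsg.Agent.Inv.CyclicSylow
import Cfsg.Agent.Fus.CoreBasic
import Cfsg.Agent.Solv.PComplement

/-!
Glauberman's Z* theorem.
-/

set_option autoImplicit false
set_option linter.style.haveILetI false
set_option linter.unusedSectionVars false

namespace CfsgLib.Blk

open Cfsg CfsgLib.Char CfsgLib.Inv Finset
open scoped ComplexConjugate

universe u

/-- The Z* theorem below a given order. -/
def ZStarBelow (n : ℕ) : Prop :=
  ∀ (H : Type u) [Group H] [Finite H], Nat.card H < n → ∀ z : H, orderOf z = 2 →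
    Cfsg.IsIsolated z → ∃ N : Subgroup H, N.Normal ∧ Odd (Nat.card N) ∧
      ∀ g : H, g * z * g⁻¹ * z ∈ N

variable {G : Type u} [Group G] [Finite G]

theorem isolated_quotient {z : G} (hz : orderOf z = 2) (hiso : Cfsg.IsIsolated z) (K : Subgroup G)
    [K.Normal] : Cfsg.IsIsolated (z : G ⧸ K) := by
  intro q hq
  obtain ⟨g, rfl⟩ := QuotientGroup.mk_surjective q
  have hd := isolated_odd hz hiso g
  set v := g * z * g⁻¹ with hv
  have hvq : (g : G ⧸ K) * (z : G ⧸ K) * (g : G ⧸ K)⁻¹ = (v : G ⧸ K) := by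
    rw [hv, QuotientGroup.mk_mul, QuotientGroup.mk_mul, QuotientGroup.mk_inv]
  rw [hvq] at hq ⊢
  have hv2 : orderOf v = 2 := invol_conj hz g
  have hzz : (z : G ⧸ K) * z = 1 := by rw [← QuotientGroup.mk_mul, invol_mul_self hz]; rfl
  have hvv : (v : G ⧸ K) * v = 1 := by rw [← QuotientGroup.mk_mul, invol_mul_self hv2]; rfl
  have h2 : ((z * v : G) : G ⧸ K) ^ 2 = 1 := by
    rw [QuotientGroup.mk_mul, pow_two, hq.symm.mul_mul_mul_comm, hzz, hvv, one_mul]
  have ho : orderOf ((z * v : G) : G ⧸ K) ∣ orderOf (z * v) :=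
    orderOf_map_dvd (QuotientGroup.mk' K) _
  have h1 : ((z * v : G) : G ⧸ K) = 1 := by
    rw [← orderOf_eq_one_iff]
    exact Nat.eq_one_of_dvd_coprimes (Nat.coprime_two_right.2 (hd.of_dvd_nat ho)) dvd_rfl
      (orderOf_dvd_of_pow_eq_one h2)
  rw [QuotientGroup.mk_mul] at h1
  calc (v : G ⧸ K) = (z : G ⧸ K) * z * v := by rw [hzz, one_mul]
    _ = z := by rw [mul_assoc, h1, mul_one]

theorem isolated_subgroup {z : G} (hiso : Cfsg.IsIsolated z) (H : Subgroup G) (hzH : z ∈ H) :
    Cfsg.IsIsolated (⟨z, hzH⟩ : H) := fun g hg =>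
  Subtype.ext (hiso g (congrArg Subtype.val hg))

theorem normal_map_core (K : Subgroup G) [K.Normal] :
    ((Cfsg.pPrimeCore 2 ↥K).map K.subtype).Normal := by
  refine ⟨?_⟩
  rintro _ ⟨x, hx, rfl⟩ g
  exact ⟨MulAut.conjNormal g x, CfsgLib.Fus.map_pPrimeCore_mulEquiv 2 (MulAut.conjNormal g)
    ⟨x, hx, rfl⟩, rfl⟩

/-- One step of the induction, the core step: an involution commuting with `z`. -/
theorem char_dichotomy (IH : ZStarBelow.{u} (Nat.card G)) {z : G} (hz : orderOf z = 2)
    (hiso : Cfsg.IsIsolated z)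
    (hcen : ∀ c : G, orderOf c = 2 → ∃ g, ¬ Commute g c) {M : Ideal AlgInt} [M.IsPrime]
    (hM : IsPModular 2 M) {t : G} (ht : orderOf t = 2) (htz : Commute t z) (hne : t ≠ z)
    (χ : IrrCharacter G) (hχ : χ ∈ principalBlock M G) :
    (χ : G → ℂ) z * (χ : G → ℂ) t = (χ : G → ℂ) 1 * (χ : G → ℂ) (z * t) := by
  classical
  haveI : Fact (Nat.Prime 2) := ⟨Nat.prime_two⟩
  haveI := Fintype.ofFinite G
  have key : ∀ s : G, IsConj z s → (χ : G → ℂ) (s * t) = (χ : G → ℂ) (z * t) := by
    intro s hs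
    obtain ⟨g, rfl⟩ := isConj_iff.1 hs
    obtain ⟨s, hsdef⟩ : ∃ s, s = g * z * g⁻¹ := ⟨_, rfl⟩
    rw [← hsdef]
    have hs2 : orderOf s = 2 := hsdef ▸ invol_conj hz g
    have hsiso : Cfsg.IsIsolated s := hsdef ▸ isolated_conj hiso g
    set a := s * t with ha
    -- `a ^ 2` has odd order
    have hsq : Odd (orderOf (a ^ 2)) := by
      have h := isolated_odd hs2 hsiso t
      rwa [invol_inv ht, ← mul_assoc, ← mul_assoc, mul_assoc (s * t), ← pow_two] at h
    have hsas : s * a * s⁻¹ = a⁻¹ := by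
      rw [invol_inv hs2, ha, mul_inv_rev, invol_inv ht, invol_inv hs2, ← mul_assoc, invol_mul_self hs2,
        one_mul]
    have hsk : ∀ k : ℕ, a ^ k * s * (a ^ k)⁻¹ = a ^ (2 * k) * s := by
      intro k
      have h1 : s * a ^ k * s⁻¹ = (a ^ k)⁻¹ := by rw [← conj_pow, hsas, inv_pow]
      rw [mul_assoc, ← h1, ← mul_assoc s, ← mul_assoc s, invol_mul_self hs2, one_mul,
        invol_inv hs2, ← mul_assoc, ← pow_add, two_mul]
    have heven : ¬ Odd (orderOf a) := by
      intro ho
      obtain ⟨j, hj⟩ := ho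
      have hc : a ^ j * s * (a ^ j)⁻¹ = t := by
        rw [hsk, show a ^ (2 * j) = a⁻¹ from eq_inv_of_mul_eq_one_left (by
          rw [← pow_succ, ← hj, pow_orderOf_eq_one]), ha, mul_inv_rev, invol_inv ht, invol_inv hs2,
          mul_assoc, invol_mul_self hs2, mul_one]
      have : (a ^ j * g) * z * (a ^ j * g)⁻¹ = t := by rw [← hc, hsdef]; group
      have h' := hiso (a ^ j * g) (by rw [this]; exact htz.symm)
      exact hne (this.symm.trans h')
    set m := orderOf (a ^ 2) with hm
    obtain ⟨j, hj⟩ := hsq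
    set y0 := a ^ m with hy0
    have hy0ne : y0 ≠ 1 := fun h =>
      heven ((show Odd m from ⟨j, hj⟩).of_dvd_nat (orderOf_dvd_of_pow_eq_one h))
    have hy0sq : y0 * y0 = 1 := by
      rw [hy0, ← pow_two, ← pow_mul, mul_comm, pow_mul, hm, pow_orderOf_eq_one]
    have hy02 : orderOf y0 = 2 := invol_iff.2 ⟨hy0ne, hy0sq⟩
    have hy0inv : y0⁻¹ = y0 := invol_inv hy02
    have hsy : Commute s y0 := by
      refine mul_inv_eq_iff_eq_mul.1 ?_
      rw [hy0, ← conj_pow, hsas, inv_pow]
      exact hy0inv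
    have hay : Commute a y0 := (Commute.refl a).pow_right m
    have hty : Commute t y0 := by
      have : t = s * a := by rw [ha, ← mul_assoc, invol_mul_self hs2, one_mul]
      rw [this]; exact hsy.mul_left hay
    set s0 := a ^ j * s * (a ^ j)⁻¹ with hs0
    have hs0y : s0 = y0 * t := by
      rw [hs0, hsk, hy0, hj, pow_succ, mul_assoc (a ^ (2 * j)), ha, mul_assoc s t t,
        invol_mul_self ht, mul_one]
    have hys : y0 = s0 * t := by rw [hs0y, mul_assoc, invol_mul_self ht, mul_one]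
    -- `y0` is conjugate to `z * t`
    have hs0t : s0 ∈ Subgroup.centralizer ({t} : Set G) := by
      rw [Subgroup.mem_centralizer_singleton_iff, hs0y]
      exact (hty.symm.mul_left (Commute.refl t)).eq
    have hs0g : s0 = (a ^ j * g) * z * (a ^ j * g)⁻¹ := by rw [hs0, hsdef]; group
    obtain ⟨c, hc, hce⟩ := isolated_fusion hz hiso (H := Subgroup.centralizer ({t} : Set G))
      (Subgroup.mem_centralizer_singleton_iff.2 htz.symm.eq) (g := a ^ j * g) (hs0g ▸ hs0t)
    rw [← hs0g] at hce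
    have hyc : y0 = c * (z * t) * c⁻¹ := by
      rw [hys, ← hce]
      have hct : c * t * c⁻¹ = t := by
        rw [Subgroup.mem_centralizer_singleton_iff.1 hc, mul_inv_cancel_right]
      calc c * z * c⁻¹ * t = c * z * c⁻¹ * (c * t * c⁻¹) := by rw [hct]
        _ = _ := by group
    -- the odd part
    set v := a ^ (m + 1) with hv
    have hyv : y0 * v = a := by
      rw [hy0, hv, ← pow_add, show m + (m + 1) = 2 * m + 1 by ring, pow_succ, pow_mul, hm,
        pow_orderOf_eq_one, one_mul]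
    have hvodd : Odd (orderOf v) := by
      rw [hv, show m + 1 = 2 * (j + 1) by omega, pow_mul]
      exact (show Odd m from ⟨j, hj⟩).of_dvd_nat (orderOf_pow_dvd _)
    set K := Subgroup.centralizer ({y0} : Set G) with hK
    have hmemK : ∀ x : G, x ∈ K ↔ Commute x y0 := fun x => Subgroup.mem_centralizer_singleton_iff
    have hKcard : Nat.card K < Nat.card G := by
      refine lt_of_le_of_ne (Subgroup.card_le_card_group K) fun he => ?_
      obtain ⟨x, hx⟩ := hcen y0 hy02
      exact hx ((hmemK x).1 ((Subgroup.eq_top_of_card_eq K he).symm ▸ Subgroup.mem_top x))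
    have hs0K : s0 ∈ K := (hmemK _).2 (hs0y ▸ (Commute.refl y0).mul_left hty)
    have hvK : v ∈ K := (hmemK _).2 (hay.pow_left _)
    have hs02 : orderOf s0 = 2 := hs0g ▸ invol_conj hz _
    have hs0iso : Cfsg.IsIsolated s0 := hs0g ▸ isolated_conj hiso _
    obtain ⟨N, hN, hNodd, hNmem⟩ := IH ↥K hKcard ⟨s0, hs0K⟩
      (by rw [← Subgroup.orderOf_coe]; exact hs02) (isolated_subgroup hs0iso K hs0K)
    have hinv : s0 * v * s0⁻¹ = v⁻¹ := by
      rw [hv, ← conj_pow, ← inv_pow]
      congr 1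
      rw [hs0, hsk]
      calc a ^ (2 * j) * s * a * (a ^ (2 * j) * s)⁻¹ = a ^ (2 * j) * (s * a * s⁻¹) * (a ^ (2 * j))⁻¹ := by
            group
        _ = a⁻¹ := by
            rw [hsas, (((Commute.refl a).inv_right).pow_left (2 * j)).eq, mul_inv_cancel_right]
    have hvN : (⟨v, hvK⟩ : K) ∈ N := by
      have h1 := hNmem (⟨v, hvK⟩ : K)
      have h2 : (⟨v, hvK⟩ : K) * ⟨s0, hs0K⟩ * (⟨v, hvK⟩ : K)⁻¹ * ⟨s0, hs0K⟩ = ⟨v, hvK⟩ ^ 2 := by
        refine Subtype.ext ?_
        simp only [Subgroup.coe_mul, Subgroup.coe_inv, SubmonoidClass.coe_pow]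
        have : s0 * v⁻¹ * s0 = v := by
          have := congrArg (·⁻¹) hinv
          simp only [mul_inv_rev, inv_inv] at this
          rw [invol_inv hs02, ← mul_assoc] at this
          exact this
        rw [mul_assoc v, mul_assoc v, this, pow_two]
      rw [h2] at h1
      obtain ⟨r, hr⟩ := hvodd
      have : (⟨v, hvK⟩ : K) = ((⟨v, hvK⟩ : K) ^ 2) ^ (r + 1) := by
        refine Subtype.ext ?_
        simp only [SubmonoidClass.coe_pow]
        rw [← pow_mul, show 2 * (r + 1) = (2 * r + 1) + 1 by ring, pow_succ, ← hr,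
          pow_orderOf_eq_one, one_mul]
      rw [this]; exact pow_mem h1 _
    have h := principal_apply_mul_eq hM (u := y0) ⟨1, hy02⟩ N
      (fun h2 => Nat.not_even_iff_odd.2 hNodd (even_iff_two_dvd.2 h2)) hvN hχ
    change (χ : G → ℂ) a = _
    rw [← hyv]
    exact h.trans (by rw [hyc]; exact classFun_of_irr χ.2 _ _)
  have h := sum_class_translate χ.2 z t
  rw [Finset.sum_congr rfl (g := fun s => (if IsConj z s then (1 : ℂ) else 0) * (χ : G → ℂ) (z * t))
    fun s _ => by
      split_ifs with hs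
      · rw [key s hs, one_mul]
      · rw [zero_mul], ← Finset.sum_mul, Finset.sum_boole,
    card_filter_isConj] at h
  have hI : ((Subgroup.centralizer ({z} : Set G)).index : ℂ) ≠ 0 := by
    exact_mod_cast Subgroup.index_ne_zero_of_finite
  have h1 := irr_one_ne_zero χ.2
  field_simp at h
  linear_combination -h

/-- The Z* theorem for isolated involutions. -/
theorem zstar_isolated : ∀ (n : ℕ) (G : Type u) [Group G] [Finite G], Nat.card G = n →
    ∀ z : G, orderOf z = 2 → Cfsg.IsIsolated z →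
      ∃ N : Subgroup G, N.Normal ∧ Odd (Nat.card N) ∧ ∀ g : G, g * z * g⁻¹ * z ∈ N := by
  intro n
  induction n using Nat.strong_induction_on with
  | _ n ih =>
  intro G _ _ hn z hz hiso
  classical
  have IH : ZStarBelow.{u} (Nat.card G) := fun H _ _ hlt z hz hiso =>
    ih (Nat.card H) (hn ▸ hlt) H rfl z hz hiso
  haveI : Fact (Nat.Prime 2) := ⟨Nat.prime_two⟩
  haveI := Fintype.ofFinite G
  have hz1 := invol_ne_one hz
  have hz2 := invol_mul_self hz
  -- a nontrivial odd normal subgroup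
  by_cases hO : ∃ N : Subgroup G, N.Normal ∧ Odd (Nat.card N) ∧ N ≠ ⊥
  · obtain ⟨N, hN, hNodd, hNne⟩ := hO
    have hzN : z ∉ N := fun h => by
      have h2 := Subgroup.orderOf_dvd_natCard N h
      rw [hz] at h2
      exact Nat.not_even_iff_odd.2 hNodd (even_iff_two_dvd.2 h2)
    have hlt : Nat.card (G ⧸ N) < Nat.card G := by
      rw [Subgroup.card_eq_card_quotient_mul_card_subgroup N]
      exact lt_mul_of_one_lt_right Nat.card_pos ((Subgroup.one_lt_card_iff_ne_bot N).2 hNne)
    have hzq : orderOf (z : G ⧸ N) = 2 := invol_iff.2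
      ⟨fun h => hzN ((QuotientGroup.eq_one_iff z).1 h),
        by rw [← QuotientGroup.mk_mul, hz2]; rfl⟩
    obtain ⟨K, hK, hKodd, hKmem⟩ := IH _ hlt _ hzq (isolated_quotient hz hiso N)
    refine ⟨K.comap (QuotientGroup.mk' N), hK.comap _, ?_, fun g => ?_⟩
    · have h := (K.comap (QuotientGroup.mk' N)).card_mul_index
      rw [Subgroup.index_comap_of_surjective _ (QuotientGroup.mk'_surjective N),
        Subgroup.card_eq_card_quotient_mul_card_subgroup N, ← K.card_mul_index,
        mul_right_comm, mul_left_inj' Subgroup.index_ne_zero_of_finite] at h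
      rw [h]; exact hKodd.mul hNodd
    · rw [Subgroup.mem_comap, QuotientGroup.mk'_apply]
      simp only [QuotientGroup.mk_mul, QuotientGroup.mk_inv]
      exact hKmem _
  push Not at hO
  refine ⟨⊥, inferInstance, by simp, fun g₀ => ?_⟩
  rw [Subgroup.mem_bot]
  by_contra hg₀
  have hnc : ¬ ∀ g : G, g * z * g⁻¹ = z := fun h => hg₀ (by rw [h g₀, hz2])
  -- no proper normal subgroup contains `z`
  have hnoz : ∀ K : Subgroup G, K.Normal → z ∈ K → K = ⊤ := by
    intro K hK hzK
    by_contra hne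
    have hlt : Nat.card K < Nat.card G :=
      lt_of_le_of_ne (Subgroup.card_le_card_group K) fun he => hne (Subgroup.eq_top_of_card_eq K he)
    obtain ⟨N, hN, hNodd, hNmem⟩ := IH ↥K hlt ⟨z, hzK⟩ (by rw [← Subgroup.orderOf_coe]; exact hz)
      (isolated_subgroup hiso K hzK)
    haveI := normal_map_core K
    have hb := hO ((Cfsg.pPrimeCore 2 ↥K).map K.subtype) inferInstance (by
      rw [Subgroup.card_map_of_injective K.subtype_injective]
      exact Nat.coprime_two_right.1 (CfsgLib.Fus.coprime_card_pPrimeCore 2))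
    have hcomm : ∀ k ∈ K, k * z * k⁻¹ = z := by
      intro k hk
      have h1 : (⟨k, hk⟩ : K) * ⟨z, hzK⟩ * (⟨k, hk⟩ : K)⁻¹ * ⟨z, hzK⟩ ∈ Cfsg.pPrimeCore 2 ↥K :=
        CfsgLib.Fus.le_pPrimeCore hN (Nat.coprime_two_right.2 hNodd) (hNmem _)
      have h2 := Subgroup.mem_map_of_mem K.subtype h1
      rw [hb, Subgroup.mem_bot] at h2
      simp only [map_mul, map_inv, Subgroup.coe_subtype] at h2
      exact (eq_inv_of_mul_eq_one_left h2).trans (invol_inv hz)
    refine hnc fun g => hiso g ?_
    have h := hcomm _ (hK.conj_mem z hzK g)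
    exact (mul_inv_eq_iff_eq_mul.1 h).symm
  -- no central involution
  have hcen : ∀ c : G, orderOf c = 2 → ∃ g, ¬ Commute g c := by
    intro c hc
    by_contra hcon
    push Not at hcon
    have hcz : c ≠ z := fun e => hnc fun g => by
      rw [(e ▸ hcon g : Commute g z).eq, mul_inv_cancel_right]
    haveI hCn : (Subgroup.zpowers c).Normal := ⟨fun x hx g => by
      obtain ⟨i, rfl⟩ := Subgroup.mem_zpowers_iff.1 hx
      rw [((hcon g).zpow_right i).eq, mul_inv_cancel_right]; exact hx⟩
    have hCmem : ∀ x, x ∈ Subgroup.zpowers c → x = 1 ∨ x = c := by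
      intro x hx
      obtain ⟨i, rfl⟩ := Subgroup.mem_zpowers_iff.1 hx
      rw [← zpow_mod_orderOf, hc]
      rcases Int.emod_two_eq_zero_or_one i with h | h <;> rw [Nat.cast_ofNat, h] <;> simp
    have hzq : orderOf (z : G ⧸ Subgroup.zpowers c) = 2 := invol_iff.2
      ⟨fun h => (hCmem z ((QuotientGroup.eq_one_iff z).1 h)).elim hz1 fun e => hcz e.symm,
        by rw [← QuotientGroup.mk_mul, hz2]; rfl⟩
    have hlt : Nat.card (G ⧸ Subgroup.zpowers c) < Nat.card G := by
      rw [Subgroup.card_eq_card_quotient_mul_card_subgroup (Subgroup.zpowers c)]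
      exact lt_mul_of_one_lt_right Nat.card_pos (by rw [Nat.card_zpowers, hc]; norm_num)
    obtain ⟨K, hK, hKodd, hKmem⟩ := IH _ hlt _ hzq (isolated_quotient hz hiso _)
    set K' := K.comap (QuotientGroup.mk' (Subgroup.zpowers c)) with hK'
    haveI : K'.Normal := hK.comap _
    have hK'card : Nat.card K' = Nat.card K * 2 := by
      have h := K'.card_mul_index
      rw [hK', Subgroup.index_comap_of_surjective _ (QuotientGroup.mk'_surjective _),
        Subgroup.card_eq_card_quotient_mul_card_subgroup (Subgroup.zpowers c),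
        ← K.card_mul_index, Nat.card_zpowers, hc, mul_right_comm,
        mul_left_inj' Subgroup.index_ne_zero_of_finite] at h
      exact h
    obtain ⟨T, -⟩ := (IsPGroup.of_bot : IsPGroup 2 (⊥ : Subgroup K')).exists_le_sylow
    have hTcard : Nat.card (T : Subgroup K') = 2 := by
      rw [T.card_eq_multiplicity, hK'card, Nat.factorization_mul Nat.card_pos.ne' two_ne_zero,
        Finsupp.add_apply, Nat.factorization_eq_zero_of_not_dvd
          (fun h => Nat.not_even_iff_odd.2 hKodd (even_iff_two_dvd.2 h)),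
        Nat.prime_two.factorization_self]
      rfl
    haveI : IsCyclic (T : Subgroup K') := isCyclic_of_prime_card hTcard
    obtain ⟨N, hN, hN2, hNidx, -⟩ := exists_complement_of_cyclic_sylow T inferInstance
      (by rw [hK'card]; exact ⟨Nat.card K, by ring⟩)
    haveI := normal_map_core K'
    have hb := hO ((Cfsg.pPrimeCore 2 ↥K').map K'.subtype) inferInstance (by
      rw [Subgroup.card_map_of_injective K'.subtype_injective]
      exact Nat.coprime_two_right.1 (CfsgLib.Fus.coprime_card_pPrimeCore 2))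
    have hNbot : N = ⊥ := by
      rw [eq_bot_iff]
      intro x hx
      have h2 := Subgroup.mem_map_of_mem K'.subtype (CfsgLib.Fus.le_pPrimeCore hN
        (Nat.coprime_two_right.2 (Nat.not_even_iff_odd.1 fun h => hN2 (even_iff_two_dvd.1 h))) hx)
      rw [hb, Subgroup.mem_bot] at h2
      exact Subgroup.mem_bot.2 (K'.subtype_injective (h2.trans (map_one _).symm))
    rw [hNbot, Subgroup.index_bot, hTcard] at hNidx
    refine hnc fun g => ?_
    have hmem : g * z * g⁻¹ * z ∈ K' := by
      rw [hK', Subgroup.mem_comap, QuotientGroup.mk'_apply]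
      simp only [QuotientGroup.mk_mul, QuotientGroup.mk_inv]
      exact hKmem _
    have ho2 := Subgroup.orderOf_dvd_natCard K' hmem
    rw [hNidx] at ho2
    have h1 : g * z * g⁻¹ * z = 1 := by
      rw [← orderOf_eq_one_iff]
      exact Nat.eq_one_of_dvd_coprimes
        (Nat.coprime_two_right.2 (isolated_odd' hz hiso g)) dvd_rfl ho2
    exact (eq_inv_of_mul_eq_one_left h1).trans (invol_inv hz)
  -- a Sylow subgroup
  obtain ⟨P, hP⟩ := (IsPGroup.of_card (p := 2) (n := 1) (by rw [Nat.card_zpowers, hz, pow_one]) :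
    IsPGroup 2 (Subgroup.zpowers z)).exists_le_sylow
  have hzP : z ∈ P := hP (Subgroup.mem_zpowers z)
  have hPz : ∀ x ∈ P, Commute x z := by
    intro x hx
    have hd := isolated_odd hz hiso x
    obtain ⟨k, hk⟩ := IsPGroup.iff_orderOf.1 P.isPGroup'
      ⟨z * (x * z * x⁻¹), mul_mem hzP (mul_mem (mul_mem hx hzP) (inv_mem hx))⟩
    rw [Subgroup.orderOf_mk] at hk
    have hk0 : k = 0 := by
      by_contra hk0
      rw [hk] at hd
      exact Nat.not_odd_iff_even.2 ((even_two).pow_of_ne_zero hk0) hd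
    rw [hk0, pow_zero, orderOf_eq_one_iff] at hk
    exact mul_inv_eq_iff_eq_mul.1 ((eq_inv_of_mul_eq_one_right hk).trans (invol_inv hz))
  -- the normal closure of the products
  set L := Subgroup.normalClosure (Set.range fun g : G => g * z * g⁻¹ * z) with hLdef
  have hLmem : ∀ g : G, g * z * g⁻¹ * z ∈ L := fun g => Subgroup.subset_normalClosure ⟨g, rfl⟩
  obtain ⟨M, hM⟩ := exists_isPModular Nat.prime_two
  haveI := CfsgLib.Blk.IsPModular.isPrime hM
  have hnoL : ∀ t : G, orderOf t = 2 → Commute t z → t ≠ z → t ∉ L := by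
    intro t ht htz hne htL
    have hy : orderOf (z * t) = 2 := by
      refine invol_iff.2 ⟨fun h => hne ((eq_inv_of_mul_eq_one_right h).trans (invol_inv hz)), ?_⟩
      rw [htz.mul_mul_mul_comm, hz2, invol_mul_self ht, one_mul]
    have hyne : z * t ≠ z := fun h => invol_ne_one ht (mul_eq_left.1 h)
    have hyz : Commute (z * t) z := (Commute.refl z).mul_left htz
    have hpos : ∀ χ : IrrCharacter G, χ ∈ principalBlock M G → (χ : G → ℂ) t ≠ 0 →
        (χ : G → ℂ) t = (χ : G → ℂ) 1 := by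
      intro χ hχ h0
      have h1 := char_dichotomy IH hz hiso hcen hM ht htz hne χ hχ
      have h2 := char_dichotomy IH hz hiso hcen hM hy hyz hyne χ hχ
      rw [← mul_assoc z z t, hz2, one_mul] at h2
      have hsq : (χ : G → ℂ) z ^ 2 = (χ : G → ℂ) 1 ^ 2 := by
        refine mul_right_cancel₀ h0 ?_
        linear_combination (χ : G → ℂ) z * h1 + (χ : G → ℂ) 1 * h2
      obtain ⟨K, hKn, hK, -⟩ := exists_kernel (isCharacter_of_isIrr χ.2)
      refine (hK t).1 ?_
      have hle : L ≤ K := Subgroup.normalClosure_le_normal (by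
        rintro _ ⟨g, rfl⟩; exact (hK _).2 (apply_conj_mul_eq χ.2 hsq g))
      exact hle htL
    have h := block_orth hM (isPBlock_principalBlock (G := G))
      (isPPart_one_of_regular (p := 2) (g := (1 : G)) (by simp))
      (isPPart_self (g := t) ⟨1, ht⟩ Nat.prime_two)
      (fun hc => invol_ne_one ht (isConj_one_right.1 hc))
    rw [finsum_mem_eq_sum_ite] at h
    have hre := congrArg Complex.re h
    rw [Complex.re_sum, Complex.zero_re] at hre
    have hnn : ∀ χ : IrrCharacter G, 0 ≤ (if χ ∈ principalBlock M G then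
        (χ : G → ℂ) 1 * conj ((χ : G → ℂ) t) else 0).re := by
      intro χ
      split_ifs with hχ
      · by_cases h0 : (χ : G → ℂ) t = 0
        · simp [h0]
        · rw [hpos χ hχ h0, irr_one_eq χ.2, Complex.conj_natCast, ← Nat.cast_mul, Complex.natCast_re]
          positivity
      · simp
    have h1 := (Finset.sum_eq_zero_iff_of_nonneg fun χ _ => hnn χ).1 hre ⟨_, isIrr_one⟩ (Finset.mem_univ _)
    rw [if_pos one_mem_principalBlock] at h1
    simp at h1
  -- `L = ⊤`
  have hLtop : L = ⊤ := by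
    by_contra hne
    have hzL : z ∉ L := fun h => hne (hnoz L Subgroup.normalClosure_normal h)
    haveI : L.Normal := Subgroup.normalClosure_normal
    by_cases hint : (P : Subgroup G) ⊓ L = ⊥
    · have h2 := CfsgLib.Solv.not_dvd_card_of_inf_sylow_eq_bot P hint
      have hb := hO L inferInstance (Nat.not_even_iff_odd.1 fun h => h2 (even_iff_two_dvd.1 h))
      have := hLmem g₀
      rw [hb, Subgroup.mem_bot] at this
      exact hg₀ this
    · obtain ⟨x, hx, hx1⟩ := (Subgroup.bot_or_exists_ne_one _).resolve_left hint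
      obtain ⟨k, hk⟩ := IsPGroup.iff_orderOf.1 P.isPGroup' ⟨x, hx.1⟩
      rw [Subgroup.orderOf_mk] at hk
      rcases k with _ | k
      · exact hx1 (orderOf_eq_one_iff.1 (by simpa using hk))
      have ho : orderOf (x ^ 2 ^ k) = 2 := by
        rw [orderOf_pow_of_dvd (by positivity) (hk ▸ pow_dvd_pow 2 (Nat.le_succ k)), hk, pow_succ,
          Nat.mul_div_cancel_left _ (Nat.two_pow_pos k)]
      exact hnoL _ ho ((hPz x hx.1).pow_left _)
        (fun e => hzL (e ▸ pow_mem hx.2 _)) (pow_mem hx.2 _)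
  have huniq : ∀ t : G, orderOf t = 2 → Commute t z → t = z := fun t ht htz => by
    by_contra hne; exact hnoL t ht htz hne (hLtop ▸ Subgroup.mem_top t)
  have hgen : ∀ K : Subgroup G, K.Normal → (∀ g : G, g * z * g⁻¹ * z ∈ K) → K = ⊤ :=
    fun K hK hmem => top_le_iff.1 (hLtop ▸ Subgroup.normalClosure_le_normal (by
      rintro _ ⟨g, rfl⟩; exact hmem g))
  have hsimple : ∀ K : Subgroup G, K.Normal → K = ⊥ ∨ K = ⊤ := by
    intro K hK
    by_cases hzK : z ∈ K
    · exact Or.inr (hnoz K hK hzK)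
    left
    refine hO K hK (Nat.not_even_iff_odd.1 fun h => ?_)
    haveI := hK
    have hint : (P : Subgroup G) ⊓ K ≠ ⊥ := fun hint =>
      CfsgLib.Solv.not_dvd_card_of_inf_sylow_eq_bot P hint (even_iff_two_dvd.1 h)
    obtain ⟨x, hx, hx1⟩ := (Subgroup.bot_or_exists_ne_one _).resolve_left hint
    obtain ⟨k, hk⟩ := IsPGroup.iff_orderOf.1 P.isPGroup' ⟨x, hx.1⟩
    rw [Subgroup.orderOf_mk] at hk
    rcases k with _ | k
    · exact hx1 (orderOf_eq_one_iff.1 (by simpa using hk))
    have ho : orderOf (x ^ 2 ^ k) = 2 := by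
      rw [orderOf_pow_of_dvd (by positivity) (hk ▸ pow_dvd_pow 2 (Nat.le_succ k)), hk, pow_succ,
        Nat.mul_div_cancel_left _ (Nat.two_pow_pos k)]
    exact hzK (huniq _ ho ((hPz x hx.1).pow_left _) ▸ pow_mem hx.2 _)
  have hnab : ¬ ∀ a b : G, a * b = b * a := fun h => hnc fun g => by rw [h g z, mul_inv_cancel_right]
  have hperf : commutator G = ⊤ := by
    refine (hsimple _ inferInstance).resolve_left fun h => hnab fun a b => ?_
    have := Subgroup.commutator_mem_commutator (Subgroup.mem_top a) (Subgroup.mem_top b)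
    rw [← commutator_def, h, Subgroup.mem_bot, commutatorElement_eq_one_iff_mul_comm] at this
    exact this
  have hnc' : ¬ IsCyclic (P : Subgroup G) := by
    intro hc
    obtain ⟨H, hH⟩ := exists_index_two_of_cyclic_sylow
      (even_iff_two_dvd.2 (hz ▸ orderOf_dvd_natCard z)) P hc
    haveI := Subgroup.normal_of_index_eq_two hH
    rcases hsimple H inferInstance with h | h
    · rw [h, Subgroup.index_bot] at hH
      haveI : IsCyclic G := isCyclic_of_prime_card hH
      haveI := IsCyclic.isMulCommutative (α := G)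
      exact hnab fun a b => (IsMulCommutative.is_comm (M := G)).comm a b
    · rw [h, Subgroup.index_top] at hH; omega
  have hPuniq : ∀ x ∈ (P : Subgroup G), x * x = 1 → x = 1 ∨ x = z := by
    intro x hx h2
    by_cases hx1 : x = 1
    · exact Or.inl hx1
    · exact Or.inr (huniq x (invol_iff.2 ⟨hx1, h2⟩) (hPz x hx))
  obtain ⟨u, huP, huu, hcyc, hcard, hinv, hex⟩ :=
    exists_quaternion_data P.isPGroup' hz hzP hPuniq hnc'
  obtain ⟨r, hr⟩ := IsPGroup.iff_card.1
    (P.isPGroup'.to_le (inf_le_left : (P : Subgroup G) ⊓ Subgroup.centralizer ({u} : Set G) ≤ P))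
  have hu4 : orderOf u = 4 := orderOf_eq_prime_pow (p := 2) (n := 1)
    (by simpa [pow_two, huu] using hz1)
    (by rw [show 2 ^ (1 + 1) = 2 * 2 from rfl, pow_mul, pow_two u, huu, pow_two, hz2])
  have hdvd : 4 ∣ 2 ^ r := hr ▸ hu4 ▸ Subgroup.orderOf_dvd_natCard _
    (Subgroup.mem_inf.2 ⟨huP, Subgroup.mem_centralizer_singleton_iff.2 rfl⟩)
  have hr2 : 2 ≤ r := (Nat.pow_dvd_pow_iff_le_right one_lt_two).1 (show 2 ^ 2 ∣ 2 ^ r from hdvd)
  rcases Nat.eq_or_lt_of_le hr2 with h2 | h2
  · subst h2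
    exact false_of_quaternion_eight hz (isolated_odd' hz hiso) hgen huniq hperf P hzP hPz huP huu
      (by rw [hr]; rfl) (by rw [← hcard, hr]; rfl) hinv hex
  · exact false_of_quaternion_big hz (isolated_odd' hz hiso) hgen huniq P hzP hnc' hPuniq huP huu
      hcyc hcard hinv hex ⟨r - 3, by rw [hr]; congr 1; omega⟩

/-- Glauberman's Z* theorem. -/
theorem zstar {G : Type u} [Group G] [Finite G] (P : Sylow 2 G) {u : G} (hu : orderOf u = 2)
    (huP : u ∈ P) (hiso : ∀ g : G, g * u * g⁻¹ ∈ P → g * u * g⁻¹ = u) :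
    ∃ N : Subgroup G, N.Normal ∧ Odd (Nat.card N) ∧ ∀ g : G, u * g * u⁻¹ * g⁻¹ ∈ N := by
  obtain ⟨N, hN, hodd, hmem⟩ :=
    zstar_isolated _ G rfl u hu (isolated_of_sylow P hu huP hiso)
  refine ⟨N, hN, hodd, fun g => ?_⟩
  have h := hN.conj_mem _ (hmem g) u
  have e : u * (g * u * g⁻¹ * u) * u⁻¹ = u * g * u⁻¹ * g⁻¹ := by
    rw [invol_inv hu]
    calc u * (g * u * g⁻¹ * u) * u = u * g * u * g⁻¹ * (u * u) := by group
      _ = _ := by rw [invol_mul_self hu, mul_one]
  rwa [e] at h

end CfsgLib.Blk
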