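import Cfsg.Agent.Blk.ZStarBasic
import Cfsg.Agent.Blk.ZStarGroup
import Cfsg.Agent.Blk.RegInd
import Mathlib.RingTheory.IntegralDomain
import Mathlib.RingTheory.RootsOfUnity.Complex
import Mathlib.GroupTheory.Complement

/-!
Z* theorem: the case of generalised quaternion Sylow 2-subgroups of order at least 16.
-/

set_option autoImplicit false
set_option linter.style.haveILetI false
set_option linter.unusedSectionVars false

namespace CfsgLib.Blk

open Cfsg CfsgLib.Char CfsgLib.Inv Finset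
open scoped ComplexConjugate

universe u

section group

variable {P : Type u} [Group P] [Fintype P]

theorem sum_linear_eq_zero (A : Subgroup P) [Fintype A] (f : A →* ℂˣ) {a : A} (ha : f a ≠ 1) :
    ∑ x : A, ((f x : ℂˣ) : ℂ) = 0 :=
  sum_hom_units_eq_zero ((Units.coeHom ℂ).comp f) fun h => ha (Units.ext (DFunLike.congr_fun h a))

/-- Generalised character of a quaternion group of norm three. -/
theorem exists_quaternion_theta (A : Subgroup P) (hidx : A.index = 2) (hcyc : IsCyclic A)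
    (hA : ∃ m : ℕ, Nat.card A = 2 ^ (m + 3)) {z u : P} (hz : z ≠ 1) (huA : u ∈ A) (huu : u * u = z)
    (hz2 : z * z = 1) (huniq : ∀ x : P, x * x = 1 → x = 1 ∨ x = z)
    (hinv : ∀ x, x ∉ A → x * u * x⁻¹ = u⁻¹) :
    ∃ θ : P → ℂ, IsGeneralizedCharacter P θ ∧ classInner θ θ = 3 ∧
      classInner θ (fun _ => 1) = 1 ∧ ∀ x, θ x ≠ 0 → x ∈ A ∧ u ∈ Subgroup.zpowers x := by
  classical
  obtain ⟨m, hm⟩ := hA
  haveI : A.Normal := Subgroup.normal_of_index_eq_two hidx
  haveI : Fintype A := Fintype.ofFinite _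
  obtain ⟨h, hgen⟩ := hcyc.exists_generator
  have hh : orderOf h = 2 ^ (m + 3) := by rw [orderOf_eq_card_of_forall_mem_zpowers hgen, hm]
  set N : ℤ := (2 : ℤ) ^ (m + 2) with hN
  have hord : ∀ t : ℤ, h ^ t = 1 ↔ 2 * N ∣ t := fun t => by
    rw [← orderOf_dvd_iff_zpow_eq_one, hh, hN, ← pow_succ']
    norm_num
  have hζ := Complex.isPrimitiveRoot_exp (2 ^ (m + 2)) (pow_ne_zero _ two_ne_zero)
  set ζ := Complex.exp (2 * Real.pi * Complex.I / ((2 ^ (m + 2) : ℕ) : ℂ)) with hζdef
  set ω : ℂˣ := (hζ.isUnit (pow_ne_zero _ two_ne_zero)).unit with hω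
  have hωo : orderOf ω = 2 ^ (m + 2) := by
    rw [← orderOf_units, hω, IsUnit.unit_spec, ← hζ.eq_orderOf]
  have hωord : ∀ t : ℤ, ω ^ t = 1 ↔ N ∣ t := fun t => by
    rw [← orderOf_dvd_iff_zpow_eq_one, hωo, hN]; norm_num
  let lam : A →* ℂˣ := monoidHomOfForallMemZpowers hgen (g' := ω)
    (by rw [hωo, hh]; exact pow_dvd_pow 2 (by omega))
  have hlam : ∀ t : ℤ, lam (h ^ t) = ω ^ t := fun t => by
    rw [map_zpow, monoidHomOfForallMemZpowers_apply_gen]
  have hpow : ∀ a : A, ∃ t : ℤ, h ^ t = a := fun a => Subgroup.mem_zpowers_iff.1 (hgen a)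
  -- `u` as a power of `h`
  obtain ⟨l, hl⟩ := hpow ⟨u, huA⟩
  have hl4 : 2 * N ∣ 4 * l := (hord _).1 (by
    rw [mul_comm, zpow_mul, hl]
    refine Subtype.ext ?_
    simp only [SubgroupClass.coe_zpow, OneMemClass.coe_one]
    rw [show (4 : ℤ) = 2 * 2 by norm_num, zpow_mul, zpow_two, zpow_two, huu, hz2])
  have hl2 : ¬ 2 * N ∣ 2 * l := fun hd => hz (by
    have := congrArg Subtype.val ((hord _).2 hd)
    rw [two_mul, zpow_add, hl] at this
    rwa [Subgroup.coe_mul, huu] at this)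
  obtain ⟨c, hc⟩ := hl4
  have hco : Odd c := by
    rcases Int.even_or_odd c with ⟨d, rfl⟩ | h'
    · exact absurd ⟨d, by linarith⟩ hl2
    · exact h'
  -- the action of an outside element
  have hout : ∀ x, x ∉ A → ∀ a : A, ∀ ha : x⁻¹ * (a : P) * x ∈ A, lam ⟨_, ha⟩ = (lam a)⁻¹ := by
    intro x hx a ha
    obtain ⟨e, he⟩ := hpow ⟨x * (h : P) * x⁻¹, (inferInstance : A.Normal).conj_mem _ h.2 x⟩
    have he' : (h : P) ^ e = x * h * x⁻¹ := by simpa using congrArg Subtype.val he
    have hxx : x * x ∈ A := (Subgroup.mul_mem_iff_of_index_two hidx).2 Iff.rfl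
    obtain ⟨s, hs⟩ := hpow ⟨x * x, hxx⟩
    have hs' : (h : P) ^ s = x * x := by simpa using congrArg Subtype.val hs
    have hsq : 2 * N ∣ e * e - 1 := by
      refine (hord _).1 (Subtype.ext ?_)
      rw [SubgroupClass.coe_zpow, OneMemClass.coe_one, zpow_sub, zpow_one, mul_inv_eq_one,
        zpow_mul, he', conj_zpow, he']
      calc x * (x * (h : P) * x⁻¹) * x⁻¹ = (x * x) * h * (x * x)⁻¹ := by group
        _ = h := by rw [← hs', ((Commute.refl (h : P)).zpow_left s).eq, mul_inv_cancel_right]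
    have hle : 2 * N ∣ l * (e + 1) := by
      refine (hord _).1 (Subtype.ext ?_)
      have hl' : (h : P) ^ l = u := by simpa using congrArg Subtype.val hl
      rw [SubgroupClass.coe_zpow, OneMemClass.coe_one, mul_add, mul_one, zpow_add, mul_comm l e,
        zpow_mul, he', conj_zpow, hl', hinv x hx, inv_mul_cancel]
    have he4 : (4 : ℤ) ∣ e + 1 := by
      obtain ⟨q, hq⟩ := hle
      have h0 : c * (e + 1) = 4 * q := by
        refine mul_left_cancel₀ (show 2 * N ≠ 0 by positivity) ?_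
        linear_combination 4 * hq - (e + 1) * hc
      obtain ⟨r, rfl⟩ := hco
      have h2' : IsCoprime (2 : ℤ) (2 * r + 1) := ⟨-r, 1, by ring⟩
      have h4' : IsCoprime ((2 : ℤ) ^ 2) (2 * r + 1) := h2'.pow_left
      exact (by simpa using h4' : IsCoprime (4 : ℤ) (2 * r + 1)).dvd_of_dvd_mul_left ⟨q, h0⟩
    obtain ⟨f, hf⟩ := he4
    have hdvd : N ∣ e + 1 := by
      obtain ⟨q, hq⟩ := hsq
      have h0 : (2 * f - 1) * (e + 1) = q * N := by
        have : 2 * ((2 * f - 1) * (e + 1)) = 2 * (q * N) := by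
          linear_combination hq - (e + 1) * hf
        linarith
      have hcop : IsCoprime N (2 * f - 1) := IsCoprime.pow_left ⟨f, -1, by ring⟩
      exact hcop.dvd_of_dvd_mul_left ⟨q, by rw [h0]; ring⟩
    obtain ⟨t, rfl⟩ := hpow a
    have key : (⟨x⁻¹ * ((h ^ t : A) : P) * x, ha⟩ : A) = h ^ (e * t) := by
      refine Subtype.ext ?_
      simp only [SubgroupClass.coe_zpow]
      rw [zpow_mul, he', conj_zpow]
      calc x⁻¹ * (h : P) ^ t * x = x⁻¹ * ((x * x) * (h : P) ^ t * (x * x)⁻¹) * x := by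
            rw [← hs', ← zpow_add, ← zpow_neg, ← zpow_add, show s + t + -s = t by ring]
        _ = x * (h : P) ^ t * x⁻¹ := by group
    rw [key, hlam, hlam, ← zpow_neg, ← mul_inv_eq_one, ← zpow_neg, ← zpow_add, hωord]
    obtain ⟨w, hw⟩ := hdvd
    exact ⟨w * t, by linear_combination t * hw⟩
  -- the linear character with kernel `A`
  let η : P →* ℂˣ :=
    { toFun := fun x => if x ∈ A then 1 else -1
      map_one' := if_pos A.one_mem
      map_mul' := fun x y => by
        by_cases hx : x ∈ A <;> by_cases hy : y ∈ A <;>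
          simp [hx, hy, Subgroup.mul_mem_iff_of_index_two hidx] }
  set μ : A → ℂ := fun a => (lam a : ℂ) with hμ
  set θ : P → ℂ := fun x => 1 + (η x : ℂ) - indFun A μ x with hθ
  have hθgen : IsGeneralizedCharacter P θ :=
    gen_sub (gen_add (gen_of_char isCharacter_one) (gen_of_char (isCharacter_linear η)))
      (gen_of_char (isCharacter_indFun A (isCharacter_linear lam)))
  have hθout : ∀ x, x ∉ A → θ x = 0 := by
    intro x hx
    have h0 : indFun A μ x = 0 := indFun_eq_zero A fun k hk => by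
      obtain ⟨g, hg⟩ := isConj_iff.1 hk.symm
      exact absurd (hg ▸ (inferInstance : A.Normal).conj_mem _ k.2 g) hx
    simp [hθ, h0, η, hx]
  have hcard : Nat.card P = 2 * Nat.card A := by rw [← hidx, mul_comm, Subgroup.card_mul_index]
  have hA0 : (Nat.card A : ℂ) ≠ 0 := natCard_ne_zero A
  have hθin : ∀ a : A, θ a = 2 - ((lam a : ℂ) + ((lam a)⁻¹ : ℂˣ)) := by
    intro a
    have h0 : indFun A μ (a : P) = (lam a : ℂ) + ((lam a)⁻¹ : ℂˣ) := by
      rw [indFun_apply]
      have e : ∀ x : P, extendByZero A μ (x⁻¹ * (a : P) * x) =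
          if x ∈ A then (lam a : ℂ) else (((lam a)⁻¹ : ℂˣ) : ℂ) := by
        intro x
        have hm : x⁻¹ * (a : P) * x ∈ A := by
          simpa using (inferInstance : A.Normal).conj_mem _ a.2 x⁻¹
        rw [extendByZero_mem' A _ hm]
        split_ifs with hx
        · haveI : IsMulCommutative A := IsCyclic.isMulCommutative
          have : (⟨x⁻¹ * (a : P) * x, hm⟩ : A) = (⟨x, hx⟩ : A)⁻¹ * a * ⟨x, hx⟩ := Subtype.ext rfl
          rw [hμ]
          show ((lam ⟨_, hm⟩ : ℂˣ) : ℂ) = _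
          rw [this, map_mul, map_mul, map_inv, inv_mul_cancel_comm]
        · rw [← hout x hx a hm]
      have h1 : ∑ x : P, (if x ∈ A then (1 : ℂ) else 0) = Nat.card A := by
        rw [Finset.sum_boole, Nat.card_eq_fintype_card, Fintype.card_subtype]
      rw [Finset.sum_congr rfl fun x _ => e x,
        Finset.sum_congr rfl (g := fun x => (((lam a)⁻¹ : ℂˣ) : ℂ) + (if x ∈ A then (1 : ℂ) else 0) *
          ((lam a : ℂ) - (((lam a)⁻¹ : ℂˣ) : ℂ))) fun x _ => by split_ifs <;> ring,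
        Finset.sum_add_distrib, Finset.sum_const, Finset.card_univ, ← Finset.sum_mul, h1,
        nsmul_eq_mul, Fintype.card_eq_nat_card, hcard]
      push_cast
      field_simp
      ring
    simp only [hθ, h0, η, a.2, MonoidHom.coe_mk, OneHom.coe_mk, if_true, Units.val_one]
    ring
  -- sums over `A`
  have hnt : ∀ k : ℤ, ¬ N ∣ k → ∑ a : A, ((lam a ^ k : ℂˣ) : ℂ) = 0 := fun k hk =>
    sum_linear_eq_zero A ((zpowGroupHom k).comp lam) (a := h) (by
      simpa [hωord] using fun h' => hk ((hωord k).1 (by rwa [← zpow_one h, hlam, zpow_one] at h')))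
  have hNdvd : ∀ k : ℤ, k ≠ 0 → -2 ≤ k → k ≤ 2 → ¬ N ∣ k := fun k hk h1 h2 hd => by
    have h4 : (4 : ℤ) ∣ N := ⟨(2 : ℤ) ^ m, by rw [hN]; ring⟩
    obtain ⟨q, hq⟩ := h4.trans hd
    omega
  have hsplit : ∀ F : P → ℂ, (∀ x, x ∉ A → F x = 0) → ∑ x : P, F x = ∑ a : A, F a :=
    fun F hF => sum_subgroup A F hF
  refine ⟨θ, hθgen, ?_, ?_, ?_⟩
  · rw [classInner_def, hsplit _ (fun x hx => by rw [hθout x hx, zero_mul]), hcard]
    have e : ∀ a : A, θ a * conj (θ a) =
        6 - 4 * ((lam a ^ (1 : ℤ) : ℂˣ) : ℂ) - 4 * ((lam a ^ (-1 : ℤ) : ℂˣ) : ℂ) +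
          ((lam a ^ (2 : ℤ) : ℂˣ) : ℂ) + ((lam a ^ (-2 : ℤ) : ℂˣ) : ℂ) := by
      intro a
      have hr : (lam a : ℂ) ≠ 0 := (lam a).ne_zero
      have hc' : conj ((lam a : ℂ)) = ((lam a : ℂ))⁻¹ :=
        conj_root (orderOf_pos a).ne' (linear_root lam a)
      rw [hθin]
      simp only [map_sub, map_add, map_ofNat, Units.val_inv_eq_inv_val, map_inv₀, hc', inv_inv,
        zpow_one, zpow_neg, zpow_two, Units.val_mul, mul_inv]
      field_simp
      ring
    simp only [e, Finset.sum_add_distrib, Finset.sum_sub_distrib, ← Finset.mul_sum,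
      hnt 1 (hNdvd 1 (by norm_num) (by norm_num) (by norm_num)),
      hnt (-1) (hNdvd (-1) (by norm_num) (by norm_num) (by norm_num)),
      hnt 2 (hNdvd 2 (by norm_num) (by norm_num) (by norm_num)),
      hnt (-2) (hNdvd (-2) (by norm_num) (by norm_num) (by norm_num)), Finset.sum_const,
      Finset.card_univ, nsmul_eq_mul, Fintype.card_eq_nat_card]
    push_cast
    field_simp
    ring
  · rw [classInner_def, hsplit _ (fun x hx => by rw [hθout x hx, zero_mul]), hcard]
    have e : ∀ a : A, θ a * conj ((fun _ : P => (1 : ℂ)) (a : P)) =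
        2 - ((lam a ^ (1 : ℤ) : ℂˣ) : ℂ) - ((lam a ^ (-1 : ℤ) : ℂˣ) : ℂ) := by
      intro a
      rw [hθin, map_one, mul_one, zpow_one, zpow_neg, zpow_one]
      ring
    simp only [e, Finset.sum_sub_distrib, hnt 1 (hNdvd 1 (by norm_num) (by norm_num) (by norm_num)),
      hnt (-1) (hNdvd (-1) (by norm_num) (by norm_num) (by norm_num)), Finset.sum_const,
      Finset.card_univ, nsmul_eq_mul, Fintype.card_eq_nat_card]
    push_cast
    field_simp
    ring
  · intro x hx
    have hxA : x ∈ A := by by_contra h'; exact hx (hθout x h')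
    refine ⟨hxA, ?_⟩
    have hxo : ∃ k : ℕ, orderOf x = 2 ^ k := by
      obtain ⟨k, -, hk⟩ := (Nat.dvd_prime_pow Nat.prime_two).1 (hm ▸ A.orderOf_dvd_natCard hxA)
      exact ⟨k, hk⟩
    have hzA : z ∈ A := huu ▸ mul_mem huA huA
    have hθ1 : θ 1 = 0 := by
      have h0 := hθin 1
      rw [map_one] at h0
      simpa [OneMemClass.coe_one] using h0.trans (by norm_num)
    have hθz : θ z = 0 := by
      have h1 : lam ⟨z, hzA⟩ = 1 := by
        have : (⟨z, hzA⟩ : A) = h ^ (l + l) := by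
          rw [zpow_add, hl]; exact Subtype.ext huu.symm
        rw [this, hlam, hωord]
        exact ⟨c, by linarith⟩
      have h0 := hθin ⟨z, hzA⟩
      rw [h1] at h0
      simpa using h0.trans (by norm_num)
    obtain ⟨k, hk⟩ := hxo
    rcases k with _ | _ | k
    · have hk1 : orderOf x = 1 := by simpa using hk
      rw [orderOf_eq_one_iff.1 hk1] at hx
      exact absurd hθ1 hx
    · rcases huniq x (by rw [← pow_two, ← pow_one 2, ← hk, pow_orderOf_eq_one]) with h' | h'
      · exact absurd (h' ▸ hθ1) hx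
      · exact absurd (h' ▸ hθz) hx
    · set w := x ^ 2 ^ k with hw
      have hw4 : orderOf w = 4 := by
        rw [hw, orderOf_pow, hk, Nat.gcd_eq_right (pow_dvd_pow 2 (by omega)),
          Nat.pow_div (by omega) two_pos, show k + 1 + 1 - k = 2 by omega]
        rfl
      have hwA : w ∈ A := pow_mem hxA _
      have hww : w * w = z := by
        refine (huniq _ ?_).resolve_left fun h' => ?_
        · have := pow_orderOf_eq_one w
          rw [hw4] at this
          calc w * w * (w * w) = w ^ 4 := by simp [pow_succ, mul_assoc]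
            _ = 1 := this
        · have := orderOf_dvd_of_pow_eq_one (n := 2) (by rw [pow_two, h'] : w ^ 2 = 1)
          rw [hw4] at this
          omega
      haveI : IsMulCommutative A := IsCyclic.isMulCommutative
      have hcomm : Commute w u := congrArg Subtype.val ((IsMulCommutative.is_comm (M := A)).comm ⟨w, hwA⟩ ⟨u, huA⟩)
      have hwu : (w * u⁻¹) * (w * u⁻¹) = 1 := by
        calc (w * u⁻¹) * (w * u⁻¹) = (w * w) * (u * u)⁻¹ := by
              rw [hcomm.inv_right.symm.mul_mul_mul_comm, mul_inv_rev]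
          _ = 1 := by rw [hww, huu, mul_inv_cancel]
      have hwmem : w ∈ Subgroup.zpowers x := pow_mem (Subgroup.mem_zpowers x) _
      rcases huniq _ hwu with h' | h'
      · rw [mul_inv_eq_one] at h'; exact h' ▸ hwmem
      · have : u = w⁻¹ := by
          rw [mul_inv_eq_iff_eq_mul, ← huu] at h'
          refine eq_inv_of_mul_eq_one_left ?_
          rw [h', ← mul_assoc, ← mul_assoc, mul_assoc (u * u), huu, hz2]
        rw [this]; exact inv_mem hwmem

end group

variable {G : Type u} [Group G] [Finite G]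

theorem mem_normalizer_zpowers {u g : G} (h : g * u * g⁻¹ = u ∨ g * u * g⁻¹ = u⁻¹) :
    g ∈ Subgroup.normalizer ((Subgroup.zpowers u : Subgroup G) : Set G) := by
  have hmem : ∀ i : ℤ, g * u ^ i * g⁻¹ ∈ Subgroup.zpowers u ∧ g⁻¹ * u ^ i * g ∈ Subgroup.zpowers u := by
    intro i
    rcases h with h | h
    · have e : g * u ^ i * g⁻¹ = u ^ i := by rw [← conj_zpow, h]
      refine ⟨by rw [e]; exact Subgroup.zpow_mem_zpowers u i, ?_⟩
      have e2 : g⁻¹ * (g * u ^ i * g⁻¹) * g = u ^ i := by group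
      rw [e] at e2
      rw [e2]
      exact Subgroup.zpow_mem_zpowers u i
    · have e : ∀ j : ℤ, g * u ^ j * g⁻¹ = u ^ (-j) := fun j => by
        rw [← conj_zpow, h, inv_zpow, zpow_neg]
      refine ⟨by rw [e]; exact Subgroup.zpow_mem_zpowers u _, ?_⟩
      have e' := e (-i)
      rw [neg_neg] at e'
      have e2 : g⁻¹ * (g * u ^ (-i) * g⁻¹) * g = u ^ (-i) := by group
      rw [e'] at e2
      rw [e2]
      exact Subgroup.zpow_mem_zpowers u _
  rw [Subgroup.mem_normalizer_iff]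
  intro y
  constructor
  · rintro ⟨i, rfl⟩; exact (hmem i).1
  · rintro ⟨i, hi⟩
    have hi' : u ^ i = g * y * g⁻¹ := hi
    have h2 := (hmem i).2
    rw [hi'] at h2
    simpa [mul_assoc] using h2

/-- The case `|P| ≥ 16` of the Z* theorem. -/
theorem false_of_quaternion_big {z : G} (hz : orderOf z = 2)
    (hodd : ∀ g : G, Odd (orderOf (g * z * g⁻¹ * z)))
    (hgen : ∀ K : Subgroup G, K.Normal → (∀ g : G, g * z * g⁻¹ * z ∈ K) → K = ⊤)
    (huniq : ∀ t : G, orderOf t = 2 → Commute t z → t = z)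
    (P : Sylow 2 G) (hzP : z ∈ P) (hnc : ¬ IsCyclic (P : Subgroup G))
    (hPuniq : ∀ x ∈ (P : Subgroup G), x * x = 1 → x = 1 ∨ x = z) {u : G} (huP : u ∈ P)
    (huu : u * u = z)
    (hcyc : IsCyclic ↥((P : Subgroup G) ⊓ Subgroup.centralizer ({u} : Set G)))
    (hcard : 2 * Nat.card ↥((P : Subgroup G) ⊓ Subgroup.centralizer ({u} : Set G)) =
      Nat.card (P : Subgroup G))
    (hinv : ∀ x ∈ (P : Subgroup G), ¬ Commute x u → x * u * x⁻¹ = u⁻¹)
    (hex : ∃ x ∈ (P : Subgroup G), ¬ Commute x u)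
    (hbig : ∃ m : ℕ, Nat.card ↥((P : Subgroup G) ⊓ Subgroup.centralizer ({u} : Set G)) =
      2 ^ (m + 3)) : False := by
  classical
  haveI : Fact (Nat.Prime 2) := ⟨Nat.prime_two⟩
  haveI := Fintype.ofFinite G
  have hz1 := invol_ne_one hz
  have hz2 := invol_mul_self hz
  set C := Subgroup.centralizer ({u} : Set G) with hC
  set A := (P : Subgroup G) ⊓ C with hA
  have hmemC : ∀ g : G, g ∈ C ↔ Commute g u := fun g => Subgroup.mem_centralizer_singleton_iff
  have hCz : ∀ g ∈ C, Commute g z := fun g hg => huu ▸ ((hmemC g).1 hg).mul_right ((hmemC g).1 hg)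
  have huC : u ∈ C := (hmemC u).2 (Commute.refl u)
  have hu4 : orderOf u = 4 := orderOf_eq_prime_pow (p := 2) (n := 1)
    (by simpa [pow_two, huu] using hz1)
    (by rw [show 2 ^ (1 + 1) = 2 * 2 from rfl, pow_mul, pow_two u, huu, pow_two, hz2])
  -- `A` is a Sylow subgroup of `C`
  have hAp : IsPGroup 2 A := P.isPGroup'.to_le inf_le_left
  obtain ⟨R, hR⟩ := (hAp.to_le le_rfl |>.of_equiv
    (Subgroup.subgroupOfEquivOfLe (show A ≤ C from inf_le_right)).symm).exists_le_sylow
  set R' := (R : Subgroup C).map C.subtype with hR'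
  have hR'C : R' ≤ C := Subgroup.map_subtype_le _
  have hAR : A ≤ R' := fun a ha => ⟨⟨a, ha.2⟩, hR (show (⟨a, ha.2⟩ : C) ∈ A.subgroupOf C from ha), rfl⟩
  have hR'p : IsPGroup 2 R' := R.isPGroup'.map _
  have hR'cyc : IsCyclic R' := isCyclic_of_central_four hz1 hz2 huu R' hR'p
    (hAR ⟨huP, huC⟩) (fun x hx h2 => by
      by_cases hx1 : x = 1
      · exact Or.inl hx1
      · exact Or.inr (huniq x (invol_iff.2 ⟨hx1, h2⟩) (hCz x (hR'C hx))))
    fun x hx => (hmemC x).1 (hR'C hx)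
  have hR'eq : R' = A := by
    refine (Subgroup.eq_of_le_of_card_ge hAR ?_).symm
    by_contra hlt
    rw [not_le] at hlt
    obtain ⟨r, hr⟩ := IsPGroup.iff_card.1 hR'p
    obtain ⟨a, ha⟩ := IsPGroup.iff_card.1 hAp
    have hPc := P.card_eq_multiplicity
    have hr1 : r ≤ (Nat.card G).factorization 2 := by
      refine (Nat.prime_two.pow_dvd_iff_le_factorization Nat.card_pos.ne').1 ?_
      rw [← hr]; exact Subgroup.card_subgroup_dvd_card R'
    rw [ha] at hcard
    rw [← hcard, ← pow_succ'] at hPc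
    have hPc' := Nat.pow_right_injective le_rfl hPc
    rw [hr, ha] at hlt
    have hlt' := (Nat.pow_lt_pow_iff_right one_lt_two).1 hlt
    have hrc : Nat.card R' = 2 ^ (Nat.card G).factorization 2 := by rw [hr]; congr 1; omega
    haveI := hR'cyc
    have e : ↥(P : Subgroup G) ≃* ↥R' := Sylow.equiv P (Sylow.ofCard R' hrc)
    exact hnc (isCyclic_of_surjective e.symm.toMonoidHom e.symm.surjective)
  -- the normal complement of `A` in `C`
  have hRcyc : IsCyclic (R : Subgroup C) :=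
    haveI := hR'cyc
    isCyclic_of_surjective ((R : Subgroup C).equivMapOfInjective _ C.subtype_injective).symm.toMonoidHom
      (MulEquiv.surjective _)
  obtain ⟨O, hOn, hO, hOidx, hOc⟩ := exists_complement_of_cyclic_sylow R hRcyc (by
    rw [even_iff_two_dvd]
    refine (hu4 ▸ Dvd.intro 2 rfl : 2 ∣ orderOf u).trans ?_
    rw [← Subgroup.orderOf_mk u huC]
    exact orderOf_dvd_natCard _)
  have hOreg : ∀ g : C, ¬ 2 ∣ orderOf g ↔ g ∈ O := by
    refine regular_iff_mem_complement O hO ?_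
    obtain ⟨r, hr⟩ := IsPGroup.iff_card.1 R.isPGroup'
    exact ⟨r, hOidx.trans hr⟩
  have hCdec : ∀ g ∈ C, ∃ o ∈ C, ∃ a ∈ A, ¬ 2 ∣ orderOf o ∧ o * a = g := by
    intro g hg
    obtain ⟨⟨o, a⟩, hoa⟩ := hOc.2 ⟨g, hg⟩
    refine ⟨((o : C) : G), (o : C).2, ((a : C) : G), hR'eq ▸ ⟨(a : C), a.2, rfl⟩, ?_, congrArg Subtype.val hoa⟩
    rw [Subgroup.orderOf_coe]
    exact (hOreg _).2 o.2
  -- the normaliser
  set N := Subgroup.normalizer ((Subgroup.zpowers u : Subgroup G) : Set G) with hN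
  have hcases : ∀ w ∈ Subgroup.zpowers u, w * w = z → w = u ∨ w = u⁻¹ := by
    intro w hw hww
    obtain ⟨i, rfl⟩ := Subgroup.mem_zpowers_iff.1 hw
    rw [← zpow_add, ← huu, ← zpow_two, ← mul_inv_eq_one, ← zpow_neg, ← zpow_add,
      ← orderOf_dvd_iff_zpow_eq_one, hu4] at hww
    rw [← zpow_mod_orderOf, hu4]
    have : i % ((4 : ℕ) : ℤ) = 1 ∨ i % ((4 : ℕ) : ℤ) = 3 := by omega
    rcases this with h' | h' <;> rw [h']
    · exact Or.inl (zpow_one u)
    · refine Or.inr (eq_inv_of_mul_eq_one_left ?_)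
      rw [← zpow_add_one, show (3 : ℤ) + 1 = 2 * 2 by norm_num, zpow_mul, zpow_two, zpow_two, huu, hz2]
  have hNz : ∀ n ∈ N, n * u * n⁻¹ = u ∨ n * u * n⁻¹ = u⁻¹ := by
    intro n hn
    have hw := (Subgroup.mem_normalizer_iff.1 hn u).1 (Subgroup.mem_zpowers u)
    refine hcases _ hw ?_
    obtain ⟨i, hi⟩ := Subgroup.mem_zpowers_iff.1 hw
    have hw2 : orderOf (n * u * n⁻¹ * (n * u * n⁻¹)) = 2 := by
      rw [show n * u * n⁻¹ * (n * u * n⁻¹) = n * (u * u) * n⁻¹ by group, huu]
      exact invol_conj hz n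
    refine huniq _ hw2 ?_
    rw [← hi, ← zpow_add]
    exact (Commute.zpow_left (huu ▸ (Commute.refl u).mul_right (Commute.refl u)) _)
  have hCN : C ≤ N := fun g hg =>
    mem_normalizer_zpowers (Or.inl (by rw [((hmemC g).1 hg).eq, mul_inv_cancel_right]))
  have hPN : (P : Subgroup G) ≤ N := by
    intro x hx
    refine mem_normalizer_zpowers ?_
    by_cases h : Commute x u
    · exact Or.inl (by rw [h.eq, mul_inv_cancel_right])
    · exact Or.inr (hinv x hx h)
  -- the complement in `N`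
  set O' := (O.map C.subtype).subgroupOf N with hO'
  have hO'mem : ∀ n : N, n ∈ O' ↔ (n : G) ∈ C ∧ ¬ 2 ∣ orderOf (n : G) := by
    intro n
    rw [hO', Subgroup.mem_subgroupOf]
    constructor
    · rintro ⟨o, ho, he⟩
      rw [← he]
      exact ⟨o.2, by rw [C.subtype_apply, Subgroup.orderOf_coe]; exact (hOreg o).2 ho⟩
    · rintro ⟨hn, ho⟩
      exact ⟨⟨n, hn⟩, (hOreg _).1 (by rwa [← Subgroup.orderOf_coe]), rfl⟩
  have hNconjC : ∀ n ∈ N, ∀ c ∈ C, n * c * n⁻¹ ∈ C := by
    intro n hn c hc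
    rw [hmemC]
    have hc' : Commute (n * c * n⁻¹) (n * u * n⁻¹) := ((hmemC c).1 hc).map (MulAut.conj n).toMonoidHom
    rcases hNz n hn with h | h <;> rw [h] at hc'
    · exact hc'
    · exact Commute.inv_right_iff.1 hc'
  haveI hO'n : O'.Normal := ⟨fun o ho n => by
    rw [hO'mem] at ho ⊢
    refine ⟨hNconjC n n.2 o ho.1, ?_⟩
    have : orderOf ((n * o * n⁻¹ : N) : G) = orderOf (o : G) :=
      MulEquiv.orderOf_eq (MulAut.conj (n : G)) (o : G)
    rw [this]; exact ho.2⟩
  set P' := (P : Subgroup G).subgroupOf N with hP'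
  have hcomp : P'.IsComplement' O' := by
    refine Subgroup.isComplement'_of_disjoint_and_mul_eq_univ ?_ ?_
    · rw [Subgroup.disjoint_def]
      intro x hx hx'
      obtain ⟨-, ho⟩ := (hO'mem x).1 hx'
      obtain ⟨k, hk⟩ := IsPGroup.iff_orderOf.1 P.isPGroup' ⟨(x : G), hx⟩
      have hk' : orderOf ((x : N) : G) = 2 ^ k := (orderOf_injective (P : Subgroup G).subtype Subtype.coe_injective _).trans hk
      rcases k with _ | k
      · exact Subtype.ext (orderOf_eq_one_iff.1 (by simpa using hk'))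
      · exact absurd (hk' ▸ dvd_pow_self 2 (Nat.succ_ne_zero k)) ho
    · refine Set.eq_univ_of_forall fun n => ?_
      obtain ⟨x₀, hx₀, hx₀u⟩ := hex
      have hexx : ∃ x ∈ (P : Subgroup G), (n : G) * x ∈ C := by
        rcases hNz n n.2 with h | h
        · exact ⟨1, one_mem _, by rw [mul_one, hmemC]; exact mul_inv_eq_iff_eq_mul.1 h⟩
        · refine ⟨x₀, hx₀, ?_⟩
          rw [hmemC]
          refine mul_inv_eq_iff_eq_mul.1 ?_
          calc (n : G) * x₀ * u * ((n : G) * x₀)⁻¹ = n * (x₀ * u * x₀⁻¹) * (n : G)⁻¹ := by group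
            _ = ((n : G) * u * (n : G)⁻¹)⁻¹ := by rw [hinv _ hx₀ hx₀u]; group
            _ = u := by rw [h, inv_inv]
      obtain ⟨x, hx, hxC⟩ := hexx
      obtain ⟨o, ho, a, ha, ho', hoa⟩ := hCdec _ hxC
      have hp : a * x⁻¹ ∈ (P : Subgroup G) := mul_mem ha.1 (inv_mem hx)
      let pp : N := ⟨a * x⁻¹, hPN hp⟩
      let oo : N := ⟨o, hCN ho⟩
      refine Set.mem_mul.2 ⟨pp, hp, pp⁻¹ * oo * pp,
        by simpa using hO'n.conj_mem oo ((hO'mem oo).2 ⟨ho, ho'⟩) pp⁻¹, Subtype.ext ?_⟩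
      simp only [Subgroup.coe_mul, Subgroup.coe_inv, pp, oo]
      calc a * x⁻¹ * ((a * x⁻¹)⁻¹ * o * (a * x⁻¹)) = (o * a) * x⁻¹ := by group
        _ = _ := by rw [hoa, mul_inv_cancel_right]
  set π : N →* P' := (hcomp.QuotientMulEquiv).toMonoidHom.comp (QuotientGroup.mk' O') with hπ
  have hπs : Function.Surjective π :=
    hcomp.QuotientMulEquiv.surjective.comp (QuotientGroup.mk'_surjective O')
  have hπo : ∀ n : N, ∃ o ∈ O', n = (π n : N) * o := by
    intro n
    have h1 : ((π n : N) : N ⧸ O') = (n : N ⧸ O') := hcomp.QuotientMulEquiv.symm_apply_apply _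
    exact ⟨(π n : N)⁻¹ * n, QuotientGroup.eq.1 h1, (mul_inv_cancel_left _ _).symm⟩
  -- θ on `P'`
  haveI : Fintype N := Fintype.ofFinite _
  haveI : Fintype P' := Fintype.ofFinite _
  set A' := ((A.subgroupOf N).subgroupOf P') with hA'
  have hAN : A ≤ N := inf_le_left.trans hPN
  have hAP' : A.subgroupOf N ≤ P' := fun x hx => hx.1
  have eA : A' ≃* A := (Subgroup.subgroupOfEquivOfLe hAP').trans (Subgroup.subgroupOfEquivOfLe hAN)
  have eP : P' ≃* (P : Subgroup G) := Subgroup.subgroupOfEquivOfLe hPN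
  have hA'mem : ∀ x : P', x ∈ A' ↔ ((x : N) : G) ∈ A := fun x => Iff.rfl
  have hA'idx : A'.index = 2 := by
    have h := A'.card_mul_index
    rw [Nat.card_congr eA.toEquiv, Nat.card_congr eP.toEquiv, ← hcard, mul_comm 2] at h
    exact Nat.eq_of_mul_eq_mul_left Nat.card_pos h
  have huN : u ∈ N := hCN huC
  have huP' : (⟨u, huN⟩ : N) ∈ P' := huP
  obtain ⟨θ, hθ, hθn, hθ1, hθs⟩ := exists_quaternion_theta A' hA'idx
    (haveI := hcyc; isCyclic_of_surjective eA.symm.toMonoidHom eA.symm.surjective)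
    (hbig.imp fun m hm => (Nat.card_congr eA.toEquiv).trans hm)
    (z := ⟨⟨z, hPN hzP⟩, hzP⟩) (u := ⟨⟨u, huN⟩, huP'⟩)
    (fun h => hz1 (congrArg (fun x : P' => ((x : N) : G)) h))
    ((hA'mem _).2 ⟨huP, huC⟩)
    (Subtype.ext (Subtype.ext huu)) (Subtype.ext (Subtype.ext hz2))
    (fun x hx => (hPuniq _ x.2 (congrArg (fun x : P' => ((x : N) : G)) hx)).imp
      (fun h => Subtype.ext (Subtype.ext h)) fun h => Subtype.ext (Subtype.ext h))
    (fun x hx => Subtype.ext (Subtype.ext (hinv _ x.2 fun h => hx ((hA'mem x).2 ⟨x.2, (hmemC _).2 h⟩))))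
  -- inflation
  set α : N → ℂ := θ ∘ π with hα
  have hαgen : IsGeneralizedCharacter N α := by
    obtain ⟨φ, ψ, hφ, hψ, he⟩ := hθ
    exact ⟨φ ∘ π, ψ ∘ π, isCharacter_comp π hφ, isCharacter_comp π hψ, by rw [hα, he]; rfl⟩
  have hαcf : IsClassFunction N α := classFun_of_gen hαgen
  -- the support
  have hsupp : ∀ n : N, α n ≠ 0 → (n : G) ∈ C ∧ u ∈ Subgroup.zpowers (n : G) := by
    intro n hn
    obtain ⟨hxA, hxu⟩ := hθs (π n) hn
    obtain ⟨o, ho, hno⟩ := hπo n
    obtain ⟨hoC, hoo⟩ := (hO'mem o).1 ho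
    have hnC : (n : G) ∈ C := by
      rw [hno]; exact mul_mem ((hA'mem _).1 hxA).2 hoC
    refine ⟨hnC, ?_⟩
    obtain ⟨i, hi⟩ := Subgroup.mem_zpowers_iff.1 hxu
    set w : G := (n : G) ^ i with hw
    have hwN : π (n ^ i) = ⟨⟨u, huN⟩, huP'⟩ := by rw [map_zpow]; exact hi
    obtain ⟨o', ho', hno'⟩ := hπo (n ^ i)
    obtain ⟨ho'C, ho'o⟩ := (hO'mem o').1 ho'
    rw [hwN] at hno'
    have hwe : w = u * (o' : G) := by
      have := congrArg (fun x : N => (x : G)) hno'
      simpa using this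
    have hmo : Odd (orderOf (o' : G)) := Nat.not_even_iff_odd.1 fun h => ho'o (even_iff_two_dvd.1 h)
    have hwm : w ^ orderOf (o' : G) = u ^ orderOf (o' : G) := by
      rw [hwe, ((hmemC _).1 ho'C).symm.mul_pow, pow_orderOf_eq_one, mul_one]
    have hmem : u ^ orderOf (o' : G) ∈ Subgroup.zpowers (n : G) :=
      hwm ▸ pow_mem (Subgroup.zpow_mem_zpowers _ i) _
    obtain ⟨r, hr⟩ := hmo
    have : u = (u ^ orderOf (o' : G)) ^ (orderOf (o' : G)) := by
      rw [← pow_mul, ← pow_mod_orderOf, hu4, hr,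
        show (2 * r + 1) * (2 * r + 1) = 4 * (r * r + r) + 1 by ring, Nat.mul_add_mod]
      exact (pow_one u).symm
    rw [this]; exact pow_mem hmem _
  have hti : ∀ h : N, α h ≠ 0 → ∀ g : G, ∀ hm : g⁻¹ * (h : G) * g ∈ N, α ⟨_, hm⟩ ≠ 0 → g ∈ N := by
    intro h hh g hm hm'
    obtain ⟨-, hu1⟩ := hsupp h hh
    obtain ⟨hmC, -⟩ := hsupp _ hm'
    obtain ⟨i, hi⟩ := Subgroup.mem_zpowers_iff.1 hu1
    set w := g⁻¹ * u * g with hw
    have hwC : w ∈ C := by
      have : w = (g⁻¹ * (h : G) * g) ^ i := by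
        rw [hw, ← hi]; simpa using (conj_zpow (a := g⁻¹) (b := (h : G)) (i := i)).symm
      rw [this]; exact zpow_mem hmC i
    have hwwz : w * w = z := by
      have hwi : orderOf (w * w) = 2 := by
        rw [show w * w = g⁻¹ * (u * u) * g by rw [hw]; group, huu]
        simpa using invol_conj hz g⁻¹
      exact huniq _ hwi (hCz _ (mul_mem hwC hwC))
    have hwu : w = u ∨ w = u⁻¹ := by
      have hc' : Commute w u := (hmemC w).1 hwC
      have h1 : (w * u⁻¹) * (w * u⁻¹) = 1 := by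
        rw [hc'.inv_right.symm.mul_mul_mul_comm, ← mul_inv_rev, hwwz, huu, mul_inv_cancel]
      by_cases h2 : w * u⁻¹ = 1
      · exact Or.inl (mul_inv_eq_one.1 h2)
      · have h3 := huniq _ (invol_iff.2 ⟨h2, h1⟩)
          (Commute.mul_left (hCz w hwC) (hCz u huC).inv_left)
        refine Or.inr (eq_inv_of_mul_eq_one_left ?_)
        rw [mul_inv_eq_iff_eq_mul] at h3
        rw [h3, mul_assoc, huu, hz2]
    refine mem_normalizer_zpowers ?_
    have e : g * w * g⁻¹ = u := by rw [hw]; group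
    rcases hwu with h' | h' <;> rw [h'] at e
    · exact Or.inl e
    · right
      rw [← inv_inj, inv_inv, conj_inv]
      exact e
  -- the induced character
  set U : G → ℂ := indFun N α with hU
  have hUgen : IsGeneralizedCharacter G U := gen_indFun N hαgen
  have hUU : classInner U U = 3 := by
    rw [hU, classInner_indFun_ti N hαcf hti, hα, classInner_comp π hπs θ θ]
    rw [classInner_congr_inst]
    exact hθn
  have hU1 : classInner U (fun _ => 1) = 1 := by
    rw [hU, frobenius N α (classFun_of_irr (isIrr_one (G := G))), hα,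
      show (fun _ : N => (1 : ℂ)) = (fun _ : P' => (1 : ℂ)) ∘ π from rfl, classInner_comp π hπs]
    rw [classInner_congr_inst]
    exact hθ1
  have hU0 : ∀ g : G, ¬ 4 ∣ orderOf g → U g = 0 := fun g hg => indFun_eq_zero N fun k hk => by
    by_contra h0
    obtain ⟨c, hc⟩ := isConj_iff.1 hk
    refine hg ?_
    rw [← MulEquiv.orderOf_eq (MulAut.conj c) g, MulAut.conj_apply, hc, ← hu4]
    exact orderOf_dvd_of_mem_zpowers (hsupp k h0).2
  set T : G → ℂ := U - fun _ => 1 with hT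
  have hTgen : IsGeneralizedCharacter G T := gen_sub hUgen (gen_of_char isCharacter_one)
  have h1U : classInner (fun _ => 1) U = 1 := by rw [← classInner_conj, hU1, map_one]
  obtain ⟨χ, ψ, a, c, -, ha, hc, hχ, -, -, -, he⟩ := exists_of_norm_two hTgen
    (by rw [hT, classInner_sub_left, classInner_sub_right, classInner_sub_right, hUU, hU1, h1U,
      classInner_one_one]; norm_num)
    (by rw [hT, classInner_sub_left, hU1, classInner_one_one, sub_self])
  have he' : ∀ g, U g = 1 + (a : ℂ) * (χ : G → ℂ) g + (c : ℂ) * (ψ : G → ℂ) g := fun g => by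
    have := he g
    simp only [hT, Pi.sub_apply] at this
    linear_combination this
  refine false_of_norm_three hodd hgen U (fun g hg => hU0 g fun h4 => ?_) χ ψ a c
    (by exact_mod_cast ha) (by exact_mod_cast hc) he' hχ ?_
  · exact Nat.not_even_iff_odd.2 hg (even_iff_two_dvd.2 ((Dvd.intro 2 rfl : 2 ∣ 4).trans h4))
  · have h := he' z
    rw [hU0 z (by rw [hz]; norm_num)] at h
    have h' : (c : ℂ) * (ψ : G → ℂ) z = -(1 + (a : ℂ) * (χ : G → ℂ) z) := by linear_combination -h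
    rw [h', neg_sq]

end CfsgLib.Blk
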